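import Cfsg.Agent.Lib.Helper28.S1689.Seeds1

set_option autoImplicit false
set_option maxRecDepth 100000
set_option linter.all false

namespace Cfsg.Agent.Helper28.S1689

open Cfsg.Agent.Helper28
open Cfsg.Spor.Fi23 (Gen)

noncomputable section

section
variable (IH : ∀ y q, lvl y q < 47 → EntryOK rels S fwd inv o plet idx y q)
include IH

theorem s0_f3309 : ed sl_et sq168 = sq116 :=
  real_edge rels S fwd inv o lvl plet idx 47 IH Gen.e sp168 sp116 rfl rfl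
theorem s0_f3310 : ed sl_dt sq116 = sq81 :=
  real_edge rels S fwd inv o lvl plet idx 47 IH Gen.d sp116 sp81 rfl rfl
theorem s0_f3311 : ed sl_ct sq81 = sq81 :=
  real_edge rels S fwd inv o lvl plet idx 47 IH Gen.c sp81 sp81 rfl rfl
theorem s0_f3312 : ed sl_bt sq81 = sq59 :=
  real_edge rels S fwd inv o lvl plet idx 47 IH Gen.b sp81 sp59 rfl rfl
theorem s0_f3314 : ed sl_bt sq21 = sq21 :=
  real_edge rels S fwd inv o lvl plet idx 47 IH Gen.b sp21 sp21 rfl rfl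
theorem s0_f3452 : ed sl_dt sq28 = sq28 :=
  real_edge rels S fwd inv o lvl plet idx 47 IH Gen.d sp28 sp28 rfl rfl
theorem s0_f3454 : ed sl_ct sq21 = sq21 :=
  real_edge rels S fwd inv o lvl plet idx 47 IH Gen.c sp21 sp21 rfl rfl
theorem s0_f3457 : ed sl_it sq30 = sq20 :=
  real_edge rels S fwd inv o lvl plet idx 47 IH Gen.i sp30 sp20 rfl rfl
theorem s0_f3462 : ed sl_dt sq43 = sq43 :=
  real_edge rels S fwd inv o lvl plet idx 47 IH Gen.d sp43 sp43 rfl rfl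
theorem s0_f3467 : ed sl_dt sq85 = sq85 :=
  real_edge rels S fwd inv o lvl plet idx 47 IH Gen.d sp85 sp85 rfl rfl
theorem s0_f3483 : ed sl_ct sq2253 = sq3048 :=
  real_edge rels S fwd inv o lvl plet idx 47 IH Gen.c sp2253 sp3048 rfl rfl
theorem s0_f3484 : ed sl_dt sq3048 = sq4029 :=
  real_edge rels S fwd inv o lvl plet idx 47 IH Gen.d sp3048 sp4029 rfl rfl
theorem s0_f3487 : ed sl_dt sq252 = sq252 :=
  real_edge rels S fwd inv o lvl plet idx 47 IH Gen.d sp252 sp252 rfl rfl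
theorem s0_f3488 : ed sl_ct sq354 = sq252 :=
  real_edge rels S fwd inv o lvl plet idx 47 IH Gen.c sp354 sp252 rfl rfl
theorem s0_f3490 : ed sl_dt sq514 = sq354 :=
  real_edge rels S fwd inv o lvl plet idx 47 IH Gen.d sp514 sp354 rfl rfl
theorem s0_f3491 : ed sl_et sq514 = sq514 :=
  real_edge rels S fwd inv o lvl plet idx 47 IH Gen.e sp514 sp514 rfl rfl
theorem s0_f3492 : ed sl_ft sq357 = sq514 :=
  real_edge rels S fwd inv o lvl plet idx 47 IH Gen.f sp357 sp514 rfl rfl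
theorem s0_f3516 : ed sl_it sq4029 = s0_v240 :=
  rfl
theorem s0_f3516r : ed sl_if s0_v240 = sq4029 :=
  edge_flip (s0_f3516 IH)
theorem s0_f3525 : ed sl_if sq4029 = s0_v240 :=
  gap_rel s0_rot9 (path_edge (s0_f3516r IH) (path_nil s0_v240))
theorem s0_f3526 : ed sl_bt sq4029 = sq5070 :=
  real_edge rels S fwd inv o lvl plet idx 47 IH Gen.b sp4029 sp5070 rfl rfl
theorem s0_f3528 : ed sl_dt sq4029 = sq3048 :=
  real_edge rels S fwd inv o lvl plet idx 47 IH Gen.d sp4029 sp3048 rfl rfl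
theorem s0_f3529 : ed sl_et sq4029 = sq5162 :=
  real_edge rels S fwd inv o lvl plet idx 47 IH Gen.e sp4029 sp5162 rfl rfl
theorem s0_f3530 : ed sl_ht sq4029 = sq4763 :=
  real_edge rels S fwd inv o lvl plet idx 47 IH Gen.h sp4029 sp4763 rfl rfl
theorem s0_f3531 : ed sl_it sq4763 = sq6041 :=
  real_edge rels S fwd inv o lvl plet idx 47 IH Gen.i sp4763 sp6041 rfl rfl
theorem s0_f3532 : ed sl_ft sq4029 = sq3049 :=
  real_edge rels S fwd inv o lvl plet idx 47 IH Gen.f sp4029 sp3049 rfl rfl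
theorem s0_f3547 : ed sl_ht s0_v240 = s0_v241 :=
  rfl
theorem s0_f3547r : ed sl_hf s0_v241 = s0_v240 :=
  edge_flip (s0_f3547 IH)
theorem s0_f3548 : ed sl_hf s0_v240 = s0_v241 :=
  gap_rel s0_rot13 (path_edge (s0_f3547r IH) (path_nil s0_v241))
theorem s0_f3610 : ed sl_ht sq2795 = sq2058 :=
  real_edge rels S fwd inv o lvl plet idx 47 IH Gen.h sp2795 sp2058 rfl rfl
theorem s0_f3626 : ed sl_dt sq1104 = sq1494 :=
  real_edge rels S fwd inv o lvl plet idx 47 IH Gen.d sp1104 sp1494 rfl rfl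
theorem s0_f3684 : ed sl_dt sq11922 = sq10398 :=
  real_edge rels S fwd inv o lvl plet idx 47 IH Gen.d sp11922 sp10398 rfl rfl
theorem s0_f3790 : ed sl_dt sq75 = sq51 :=
  real_edge rels S fwd inv o lvl plet idx 47 IH Gen.d sp75 sp51 rfl rfl
theorem s0_f3803 : ed sl_ct sq344 = s0_v254 :=
  rfl
theorem s0_f3804 : ed sl_ct sq238 = sq238 :=
  real_edge rels S fwd inv o lvl plet idx 47 IH Gen.c sp238 sp238 rfl rfl
theorem s0_f3803r : ed sl_cf s0_v254 = sq344 :=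
  edge_flip (s0_f3803 IH)
theorem s0_f3805 : ed sl_cf sq344 = s0_v254 :=
  gap_rel s0_rot0 (path_edge (s0_f3803r IH) (path_nil s0_v254))
theorem s0_f1476r : ed sl_if sq344 = sq344 :=
  edge_flip (s0_f1476 IH)
theorem s0_f3809 : ed sl_if s0_v254 = s0_v254 :=
  gap_rel s0_rot40 (path_edge (s0_f3805 IH) (path_edge (s0_f1476r IH) (path_edge (s0_f3803r IH) (path_nil s0_v254))))
theorem s0_f3805r : ed sl_ct s0_v254 = sq344 :=
  edge_flip (s0_f3805 IH)
theorem s0_f3840 : ed sl_bt s0_v254 = s0_v254 :=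
  gap_rel s0_rot71 (path_edge (s0_f3803 IH) (path_edge (s0_f2296 IH) (path_edge (s0_f3804 IH) (path_edge (s0_f2256 IH) (path_edge (s0_f3805r IH) (path_nil s0_v254))))))
theorem s0_f4064 : ed sl_dt sq59 = sq84 :=
  real_edge rels S fwd inv o lvl plet idx 47 IH Gen.d sp59 sp84 rfl rfl
theorem s0_f4065 : ed sl_ct sq84 = sq84 :=
  real_edge rels S fwd inv o lvl plet idx 47 IH Gen.c sp84 sp84 rfl rfl
theorem s0_f4068 : ed sl_ht sq116 = sq170 :=
  real_edge rels S fwd inv o lvl plet idx 47 IH Gen.h sp116 sp170 rfl rfl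
theorem s0_f4069 : ed sl_ft sq170 = sq117 :=
  real_edge rels S fwd inv o lvl plet idx 47 IH Gen.f sp170 sp117 rfl rfl
theorem s0_f4070 : ed sl_et sq117 = sq117 :=
  real_edge rels S fwd inv o lvl plet idx 47 IH Gen.e sp117 sp117 rfl rfl
theorem s0_f4071 : ed sl_dt sq117 = sq117 :=
  real_edge rels S fwd inv o lvl plet idx 47 IH Gen.d sp117 sp117 rfl rfl
theorem s0_f4078 : ed sl_dt sq239 = sq346 :=
  real_edge rels S fwd inv o lvl plet idx 47 IH Gen.d sp239 sp346 rfl rfl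
theorem s0_f4083 : ed sl_ft sq346 = sq346 :=
  real_edge rels S fwd inv o lvl plet idx 47 IH Gen.f sp346 sp346 rfl rfl
theorem s0_f4084 : ed sl_et sq346 = sq346 :=
  real_edge rels S fwd inv o lvl plet idx 47 IH Gen.e sp346 sp346 rfl rfl
theorem s0_f4085 : ed sl_dt sq346 = sq239 :=
  real_edge rels S fwd inv o lvl plet idx 47 IH Gen.d sp346 sp239 rfl rfl
theorem s0_f4086 : ed sl_ct sq239 = sq168 :=
  real_edge rels S fwd inv o lvl plet idx 47 IH Gen.c sp239 sp168 rfl rfl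
theorem s0_f4087 : ed sl_bt sq168 = sq123 :=
  real_edge rels S fwd inv o lvl plet idx 47 IH Gen.b sp168 sp123 rfl rfl
theorem s0_f4096 : ed sl_ht sq125 = sq84 :=
  real_edge rels S fwd inv o lvl plet idx 47 IH Gen.h sp125 sp84 rfl rfl
theorem s0_f4099 : ed sl_dt sq58 = sq40 :=
  real_edge rels S fwd inv o lvl plet idx 47 IH Gen.d sp58 sp40 rfl rfl
theorem s0_f4102 : ed sl_bt sq46 = sq46 :=
  real_edge rels S fwd inv o lvl plet idx 47 IH Gen.b sp46 sp46 rfl rfl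
theorem s0_f4105 : ed sl_ft sq59 = sq40 :=
  real_edge rels S fwd inv o lvl plet idx 47 IH Gen.f sp59 sp40 rfl rfl
theorem s0_f4106 : ed sl_et sq40 = sq28 :=
  real_edge rels S fwd inv o lvl plet idx 47 IH Gen.e sp40 sp28 rfl rfl
theorem s0_f4108 : ed sl_ht sq41 = sq61 :=
  real_edge rels S fwd inv o lvl plet idx 47 IH Gen.h sp41 sp61 rfl rfl
theorem s0_f4111 : ed sl_dt sq89 = sq132 :=
  real_edge rels S fwd inv o lvl plet idx 47 IH Gen.d sp89 sp132 rfl rfl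
theorem s0_f4112 : ed sl_ct sq132 = sq193 :=
  real_edge rels S fwd inv o lvl plet idx 47 IH Gen.c sp132 sp193 rfl rfl
theorem s0_f4120 : ed sl_et sq43 = sq30 :=
  real_edge rels S fwd inv o lvl plet idx 47 IH Gen.e sp43 sp30 rfl rfl
theorem s0_f4121 : ed sl_ft sq63 = sq43 :=
  real_edge rels S fwd inv o lvl plet idx 47 IH Gen.f sp63 sp43 rfl rfl
theorem s0_f4122 : ed sl_ht sq93 = sq63 :=
  real_edge rels S fwd inv o lvl plet idx 47 IH Gen.h sp93 sp63 rfl rfl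
theorem s0_f4217 : ed sl_ht sq1152 = sq1152 :=
  real_edge rels S fwd inv o lvl plet idx 47 IH Gen.h sp1152 sp1152 rfl rfl
theorem s0_f4220 : ed sl_ct sq397 = sq576 :=
  real_edge rels S fwd inv o lvl plet idx 47 IH Gen.c sp397 sp576 rfl rfl
theorem s0_f4221 : ed sl_dt sq269 = sq397 :=
  real_edge rels S fwd inv o lvl plet idx 47 IH Gen.d sp269 sp397 rfl rfl
theorem s0_f4222 : ed sl_et sq187 = sq269 :=
  real_edge rels S fwd inv o lvl plet idx 47 IH Gen.e sp187 sp269 rfl rfl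
theorem s0_f4223 : ed sl_ft sq128 = sq187 :=
  real_edge rels S fwd inv o lvl plet idx 47 IH Gen.f sp128 sp187 rfl rfl
theorem s0_f4232 : ed sl_ct sq83 = sq83 :=
  real_edge rels S fwd inv o lvl plet idx 47 IH Gen.c sp83 sp83 rfl rfl
theorem s0_f4233 : ed sl_dt sq122 = sq83 :=
  real_edge rels S fwd inv o lvl plet idx 47 IH Gen.d sp122 sp83 rfl rfl
theorem s0_f4240 : ed sl_dt sq285 = sq195 :=
  real_edge rels S fwd inv o lvl plet idx 47 IH Gen.d sp285 sp195 rfl rfl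
theorem s0_f4284 : ed sl_bt sq3692 = sq4770 :=
  real_edge rels S fwd inv o lvl plet idx 47 IH Gen.b sp3692 sp4770 rfl rfl
theorem s0_f4302 : ed sl_ft sq2250 = sq3048 :=
  real_edge rels S fwd inv o lvl plet idx 47 IH Gen.f sp2250 sp3048 rfl rfl
theorem s0_f4321 : ed sl_bt sq2250 = sq2974 :=
  real_edge rels S fwd inv o lvl plet idx 47 IH Gen.b sp2250 sp2974 rfl rfl
theorem s0_f4338 : ed sl_ht sq284 = sq408 :=
  real_edge rels S fwd inv o lvl plet idx 47 IH Gen.h sp284 sp408 rfl rfl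
theorem s0_f4385 : ed sl_bt sq2974 = sq2250 :=
  real_edge rels S fwd inv o lvl plet idx 47 IH Gen.b sp2974 sp2250 rfl rfl
theorem s0_f4416 : ed sl_bt sq3048 = sq3939 :=
  real_edge rels S fwd inv o lvl plet idx 47 IH Gen.b sp3048 sp3939 rfl rfl
theorem s0_f4429 : ed sl_dt sq1194 = sq1639 :=
  real_edge rels S fwd inv o lvl plet idx 47 IH Gen.d sp1194 sp1639 rfl rfl
theorem s0_f4430 : ed sl_et sq848 = sq1194 :=
  real_edge rels S fwd inv o lvl plet idx 47 IH Gen.e sp848 sp1194 rfl rfl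
theorem s0_f4431 : ed sl_ft sq593 = sq848 :=
  real_edge rels S fwd inv o lvl plet idx 47 IH Gen.f sp593 sp848 rfl rfl
theorem s0_f4473 : ed sl_bt sq1554 = sq1554 :=
  real_edge rels S fwd inv o lvl plet idx 47 IH Gen.b sp1554 sp1554 rfl rfl
theorem s0_f4497 : ed sl_ft sq193 = sq281 :=
  real_edge rels S fwd inv o lvl plet idx 47 IH Gen.f sp193 sp281 rfl rfl
theorem s0_f4498 : ed sl_et sq281 = sq414 :=
  real_edge rels S fwd inv o lvl plet idx 47 IH Gen.e sp281 sp414 rfl rfl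
theorem s0_f4499 : ed sl_dt sq414 = sq603 :=
  real_edge rels S fwd inv o lvl plet idx 47 IH Gen.d sp414 sp603 rfl rfl
theorem s0_f4501 : ed sl_bt sq603 = sq860 :=
  real_edge rels S fwd inv o lvl plet idx 47 IH Gen.b sp603 sp860 rfl rfl
theorem s0_f4515 : ed sl_ht sq1469 = sq2011 :=
  real_edge rels S fwd inv o lvl plet idx 47 IH Gen.h sp1469 sp2011 rfl rfl
theorem s0_f4516 : ed sl_ft sq2011 = sq2727 :=
  real_edge rels S fwd inv o lvl plet idx 47 IH Gen.f sp2011 sp2727 rfl rfl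
theorem s0_f4517 : ed sl_et sq2727 = sq3606 :=
  real_edge rels S fwd inv o lvl plet idx 47 IH Gen.e sp2727 sp3606 rfl rfl
theorem s0_f4518 : ed sl_dt sq3606 = sq4651 :=
  real_edge rels S fwd inv o lvl plet idx 47 IH Gen.d sp3606 sp4651 rfl rfl
theorem s0_f4596 : ed sl_dt sq2573 = sq3344 :=
  real_edge rels S fwd inv o lvl plet idx 47 IH Gen.d sp2573 sp3344 rfl rfl
theorem s0_f4700 : ed sl_dt sq258 = sq176 :=
  real_edge rels S fwd inv o lvl plet idx 47 IH Gen.d sp258 sp176 rfl rfl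
theorem s0_f4888 : ed sl_dt sq156 = sq219 :=
  real_edge rels S fwd inv o lvl plet idx 47 IH Gen.d sp156 sp219 rfl rfl
theorem s0_f4900 : ed sl_dt sq281 = sq198 :=
  real_edge rels S fwd inv o lvl plet idx 47 IH Gen.d sp281 sp198 rfl rfl
theorem s0_f4901 : ed sl_ct sq198 = sq136 :=
  real_edge rels S fwd inv o lvl plet idx 47 IH Gen.c sp198 sp136 rfl rfl
theorem s0_f4904 : ed sl_ft sq108 = sq75 :=
  real_edge rels S fwd inv o lvl plet idx 47 IH Gen.f sp108 sp75 rfl rfl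
theorem s0_f4905 : ed sl_et sq75 = sq75 :=
  real_edge rels S fwd inv o lvl plet idx 47 IH Gen.e sp75 sp75 rfl rfl
theorem s0_f4915 : ed sl_ht sq171 = sq253 :=
  real_edge rels S fwd inv o lvl plet idx 47 IH Gen.h sp171 sp253 rfl rfl
theorem s0_f4969 : ed sl_it sq43 = sq29 :=
  real_edge rels S fwd inv o lvl plet idx 47 IH Gen.i sp43 sp29 rfl rfl
theorem s0_f4976 : ed sl_dt sq137 = sq193 :=
  real_edge rels S fwd inv o lvl plet idx 47 IH Gen.d sp137 sp193 rfl rfl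
theorem s0_f4982 : ed sl_dt sq586 = sq837 :=
  real_edge rels S fwd inv o lvl plet idx 47 IH Gen.d sp586 sp837 rfl rfl
theorem s0_f5049 : ed sl_dt sq5609 = sq4448 :=
  real_edge rels S fwd inv o lvl plet idx 47 IH Gen.d sp5609 sp4448 rfl rfl
theorem s0_f5055 : ed sl_dt sq7308 = sq5864 :=
  real_edge rels S fwd inv o lvl plet idx 47 IH Gen.d sp7308 sp5864 rfl rfl
theorem s0_f5089 : ed sl_dt sq188 = sq276 :=
  real_edge rels S fwd inv o lvl plet idx 47 IH Gen.d sp188 sp276 rfl rfl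
theorem s0_f5394 : ed sl_ct s0_v159 = s0_v358 :=
  rfl
theorem s0_f5394r : ed sl_cf s0_v358 = s0_v159 :=
  edge_flip (s0_f5394 IH)
theorem s0_f5395 : ed sl_cf s0_v159 = s0_v358 :=
  gap_rel s0_rot0 (path_edge (s0_f5394r IH) (path_nil s0_v358))
theorem s0_f5396 : ed sl_ef s0_v358 = s0_v358 :=
  gap_rel s0_rot8 (path_edge (s0_f5395 IH) (path_edge (s0_f2294r IH) (path_edge (s0_f5394r IH) (path_nil s0_v358))))
theorem s0_f2259r : ed sl_hf s0_v159 = sq344 :=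
  edge_flip (s0_f2259 IH)
theorem s0_f5397 : ed sl_hf s0_v254 = s0_v358 :=
  gap_rel s0_rot39 (path_edge (s0_f3805 IH) (path_edge (s0_f2259r IH) (path_edge (s0_f5394r IH) (path_nil s0_v358))))
theorem s0_f5400 : ed sl_if s0_v156 = s0_v358 :=
  gap_rel s0_rot40 (path_edge (s0_f2246r IH) (path_eq (s0_f2328 IH).symm (path_edge (s0_f2252r IH) (path_edge (s0_f5394r IH) (path_nil s0_v358)))))
theorem s0_f5396r : ed sl_et s0_v358 = s0_v358 :=
  edge_flip (s0_f5396 IH)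
theorem s0_f5400r : ed sl_it s0_v358 = s0_v156 :=
  edge_flip (s0_f5400 IH)
theorem s0_f5401 : ed sl_it s0_v156 = s0_v358 :=
  gap_rel s0_rot72 (path_edge (s0_f2336r IH) (path_edge (s0_f5400r IH) (path_edge (s0_f5396r IH) (path_nil s0_v358))))
theorem s0_f5397r : ed sl_ht s0_v358 = s0_v254 :=
  edge_flip (s0_f5397 IH)
theorem s0_f3809r : ed sl_it s0_v254 = s0_v254 :=
  edge_flip (s0_f3809 IH)
theorem s0_f5402 : ed sl_ht s0_v254 = s0_v358 :=
  gap_rel s0_rot45 (path_edge (s0_f3809r IH) (path_edge (s0_f5397r IH) (path_edge (s0_f5401 IH) (path_edge (s0_f2334r IH) (path_edge (s0_f5400r IH) (path_nil s0_v358))))))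
theorem s0_f5402r : ed sl_hf s0_v358 = s0_v254 :=
  edge_flip (s0_f5402 IH)
theorem s0_f3840r : ed sl_bf s0_v254 = s0_v254 :=
  edge_flip (s0_f3840 IH)
theorem s0_f5403 : ed sl_bf s0_v358 = s0_v358 :=
  gap_rel s0_rot73 (path_edge (s0_f5397 IH) (path_edge (s0_f3840r IH) (path_edge (s0_f5402r IH) (path_nil s0_v358))))
theorem s0_f5403r : ed sl_bt s0_v358 = s0_v358 :=
  edge_flip (s0_f5403 IH)
theorem s0_f5404 : s0_v155 = s0_v156 :=
  (loop_rel s0_rot74 (path_edge (s0_f2244r IH) (path_edge (s0_f5400r IH) (path_edge (s0_f5403r IH) (path_edge (s0_f5401 IH) (path_nil s0_v156)))))).symm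
theorem s0_f5405 : ed sl_bf s0_v154 = s0_v154 :=
  gap_rel s0_rot75 (path_edge (s0_f2240r IH) (path_edge (s0_f2243r IH) (path_eq (s0_f5404 IH) (path_edge (s0_f2241 IH) (path_nil s0_v154)))))
theorem s0_f5406 : ed sl_cf s0_v154 = s0_v154 :=
  gap_rel s0_rot3 (path_edge (s0_f2240r IH) (path_eq (s0_f5404 IH).symm (path_edge (s0_f2246r IH) (path_edge (s0_f2249r IH) (path_eq (s0_f2328 IH) (path_edge (s0_f2247 IH) (path_eq (s0_f5404 IH) (path_edge (s0_f2241 IH) (path_nil s0_v154)))))))))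
theorem s0_f5406r : ed sl_ct s0_v154 = s0_v154 :=
  edge_flip (s0_f5406 IH)
theorem s0_f2238r : ed sl_et s0_v154 = s0_v153 :=
  edge_flip (s0_f2238 IH)
theorem s0_f5407 : ed sl_ct s0_v153 = s0_v153 :=
  gap_rel s0_rot76 (path_edge (s0_f2238r IH) (path_edge (s0_f5406r IH) (path_edge (s0_f2237 IH) (path_nil s0_v153))))
theorem s0_f5405r : ed sl_bt s0_v154 = s0_v154 :=
  edge_flip (s0_f5405 IH)
theorem s0_f5413 : ed sl_bt s0_v153 = s0_v153 :=
  gap_rel s0_rot77 (path_edge (s0_f2238r IH) (path_edge (s0_f5405r IH) (path_edge (s0_f2237 IH) (path_nil s0_v153))))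
theorem s0_f5421 : ed sl_dt s0_v358 = s0_v359 :=
  rfl
theorem s0_f5421r : ed sl_df s0_v359 = s0_v358 :=
  edge_flip (s0_f5421 IH)
theorem s0_f5401r : ed sl_if s0_v358 = s0_v156 :=
  edge_flip (s0_f5401 IH)
theorem s0_f5426 : ed sl_if s0_v154 = s0_v359 :=
  gap_rel s0_rot33 (path_edge (s0_f2240r IH) (path_eq (s0_f5404 IH).symm (path_edge (s0_f5401r IH) (path_edge (s0_f5421r IH) (path_nil s0_v359)))))
theorem s0_f5438 : ed sl_ht s0_v154 = s0_v360 :=
  rfl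
theorem s0_f5438r : ed sl_hf s0_v360 = s0_v154 :=
  edge_flip (s0_f5438 IH)
theorem s0_f5439 : ed sl_hf s0_v154 = s0_v360 :=
  gap_rel s0_rot13 (path_edge (s0_f5438r IH) (path_nil s0_v360))
theorem s0_f2332r : ed sl_ff s0_v154 = s0_v154 :=
  edge_flip (s0_f2332 IH)
theorem s0_f5440 : ed sl_ff s0_v360 = s0_v360 :=
  gap_rel s0_rot14 (path_edge (s0_f5439 IH) (path_edge (s0_f2332r IH) (path_edge (s0_f5438r IH) (path_nil s0_v360))))
theorem s0_f5441 : ed sl_jf s0_v360 = s0_v360 :=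
  gap_rel s0_rot15 (path_edge (s0_f5439 IH) (path_edge (s0_f2239 IH) (path_edge (s0_f5438r IH) (path_nil s0_v360))))
theorem s0_f5439r : ed sl_ht s0_v360 = s0_v154 :=
  edge_flip (s0_f5439 IH)
theorem s0_f5444 : ed sl_dt s0_v360 = s0_v360 :=
  gap_rel s0_rot41 (path_edge (s0_f5438 IH) (path_edge (s0_f2241r IH) (path_edge (s0_f2335 IH) (path_edge (s0_f2240 IH) (path_edge (s0_f5439r IH) (path_nil s0_v360))))))
theorem s0_f5445 : ed sl_et s0_v360 = s0_v361 :=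
  rfl
theorem s0_f5445r : ed sl_ef s0_v361 = s0_v360 :=
  edge_flip (s0_f5445 IH)
theorem s0_f5446 : ed sl_ef s0_v360 = s0_v361 :=
  gap_rel s0_rot17 (path_edge (s0_f5445r IH) (path_nil s0_v361))
theorem s0_f5447 : ed sl_hf s0_v153 = s0_v361 :=
  gap_rel s0_rot34 (path_edge (s0_f2237r IH) (path_edge (s0_f5438r IH) (path_edge (s0_f5445r IH) (path_nil s0_v361))))
theorem s0_f5448 : ed sl_jf s0_v361 = s0_v361 :=
  gap_rel s0_rot18 (path_edge (s0_f5446 IH) (path_edge (s0_f5441 IH) (path_edge (s0_f5445r IH) (path_nil s0_v361))))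
theorem s0_f5448r : ed sl_jt s0_v361 = s0_v361 :=
  edge_flip (s0_f5448 IH)
theorem s0_f5447r : ed sl_ht s0_v361 = s0_v153 :=
  edge_flip (s0_f5447 IH)
theorem s0_f2236r : ed sl_jt s0_v153 = s0_v153 :=
  edge_flip (s0_f2236 IH)
theorem s0_f5449 : ed sl_ht s0_v153 = s0_v361 :=
  gap_rel s0_rot78 (path_edge (s0_f2236r IH) (path_edge (s0_f5447r IH) (path_edge (s0_f5448r IH) (path_nil s0_v361))))
theorem s0_f5449r : ed sl_hf s0_v361 = s0_v153 :=
  edge_flip (s0_f5449 IH)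
theorem s0_f5413r : ed sl_bf s0_v153 = s0_v153 :=
  edge_flip (s0_f5413 IH)
theorem s0_f5450 : ed sl_bf s0_v361 = s0_v361 :=
  gap_rel s0_rot73 (path_edge (s0_f5447 IH) (path_edge (s0_f5413r IH) (path_edge (s0_f5449r IH) (path_nil s0_v361))))
theorem s0_f5407r : ed sl_cf s0_v153 = s0_v153 :=
  edge_flip (s0_f5407 IH)
theorem s0_f5451 : ed sl_cf s0_v361 = s0_v361 :=
  gap_rel s0_rot30 (path_edge (s0_f5447 IH) (path_edge (s0_f5407r IH) (path_edge (s0_f5449r IH) (path_nil s0_v361))))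
theorem s0_f5454 : ed sl_dt s0_v361 = s0_v362 :=
  rfl
theorem s0_f5454r : ed sl_df s0_v362 = s0_v361 :=
  edge_flip (s0_f5454 IH)
theorem s0_f5455 : ed sl_df s0_v361 = s0_v362 :=
  gap_rel s0_rot4 (path_edge (s0_f5454r IH) (path_nil s0_v362))
theorem s0_f5457 : ed sl_hf s0_v362 = s0_v362 :=
  gap_rel s0_rot32 (path_edge (s0_f5455 IH) (path_edge (s0_f5447 IH) (path_edge (s0_f2338 IH) (path_edge (s0_f5449r IH) (path_edge (s0_f5454r IH) (path_nil s0_v362))))))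
theorem s0_f5455r : ed sl_dt s0_v362 = s0_v361 :=
  edge_flip (s0_f5455 IH)
theorem s0_f5450r : ed sl_bt s0_v361 = s0_v361 :=
  edge_flip (s0_f5450 IH)
theorem s0_f5459 : ed sl_bt s0_v362 = s0_v362 :=
  gap_rel s0_rot79 (path_edge (s0_f5454 IH) (path_edge (s0_f5450r IH) (path_edge (s0_f5455r IH) (path_nil s0_v362))))
theorem s0_f5460 : ed sl_ct s0_v362 = s0_v363 :=
  rfl
theorem s0_f5460r : ed sl_cf s0_v363 = s0_v362 :=
  edge_flip (s0_f5460 IH)
theorem s0_f5461 : ed sl_cf s0_v362 = s0_v363 :=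
  gap_rel s0_rot0 (path_edge (s0_f5460r IH) (path_nil s0_v363))
theorem s0_f5462 : ed sl_df s0_v363 = s0_v363 :=
  gap_rel s0_rot80 (path_edge (s0_f5461 IH) (path_edge (s0_f5455 IH) (path_edge (s0_f5451 IH) (path_edge (s0_f5454r IH) (path_edge (s0_f5460r IH) (path_nil s0_v363))))))
theorem s0_f5464 : ed sl_hf s0_v363 = s0_v363 :=
  gap_rel s0_rot39 (path_edge (s0_f5461 IH) (path_edge (s0_f5457 IH) (path_edge (s0_f5460r IH) (path_nil s0_v363))))
theorem s0_f5466 : ed sl_it s0_v363 = s0_v364 :=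
  rfl
theorem s0_f5466r : ed sl_if s0_v364 = s0_v363 :=
  edge_flip (s0_f5466 IH)
theorem s0_f5467 : ed sl_if s0_v363 = s0_v364 :=
  gap_rel s0_rot9 (path_edge (s0_f5466r IH) (path_nil s0_v364))
theorem s0_f5471 : ed sl_ht s0_v364 = s0_v365 :=
  rfl
theorem s0_f5471r : ed sl_hf s0_v365 = s0_v364 :=
  edge_flip (s0_f5471 IH)
theorem s0_f5472 : ed sl_hf s0_v364 = s0_v365 :=
  gap_rel s0_rot13 (path_edge (s0_f5471r IH) (path_nil s0_v365))
theorem s0_f5473 : ed sl_if s0_v365 = s0_v365 :=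
  gap_rel s0_rot31 (path_edge (s0_f5472 IH) (path_edge (s0_f5467 IH) (path_edge (s0_f5464 IH) (path_edge (s0_f5466r IH) (path_edge (s0_f5471r IH) (path_nil s0_v365))))))
theorem s0_f5476 : ed sl_dt s0_v365 = s0_v366 :=
  rfl
theorem s0_f5476r : ed sl_df s0_v366 = s0_v365 :=
  edge_flip (s0_f5476 IH)
theorem s0_f5477 : ed sl_df s0_v365 = s0_v366 :=
  gap_rel s0_rot4 (path_edge (s0_f5476r IH) (path_nil s0_v366))
theorem s0_f5480 : ed sl_if s0_v366 = s0_v366 :=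
  gap_rel s0_rot33 (path_edge (s0_f5477 IH) (path_edge (s0_f5473 IH) (path_edge (s0_f5476r IH) (path_nil s0_v366))))
theorem s0_f5481 : ed sl_ft s0_v366 = s0_v367 :=
  rfl
theorem s0_f5481r : ed sl_ff s0_v367 = s0_v366 :=
  edge_flip (s0_f5481 IH)
theorem s0_f5482 : ed sl_ff s0_v366 = s0_v367 :=
  gap_rel s0_rot22 (path_edge (s0_f5481r IH) (path_nil s0_v367))
theorem s0_f5484 : ed sl_if s0_v367 = s0_v367 :=
  gap_rel s0_rot81 (path_edge (s0_f5482 IH) (path_edge (s0_f5480 IH) (path_edge (s0_f5481r IH) (path_nil s0_v367))))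
theorem s0_f5486 : ed sl_et s0_v367 = s0_v368 :=
  rfl
theorem s0_f5486r : ed sl_ef s0_v368 = s0_v367 :=
  edge_flip (s0_f5486 IH)
theorem s0_f5487 : ed sl_ef s0_v367 = s0_v368 :=
  gap_rel s0_rot17 (path_edge (s0_f5486r IH) (path_nil s0_v368))
theorem s0_f5490 : ed sl_if s0_v368 = s0_v368 :=
  gap_rel s0_rot35 (path_edge (s0_f5487 IH) (path_edge (s0_f5484 IH) (path_edge (s0_f5486r IH) (path_nil s0_v368))))
theorem s0_f5491 : ed sl_dt s0_v368 = s0_v369 :=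
  rfl
theorem s0_f5491r : ed sl_df s0_v369 = s0_v368 :=
  edge_flip (s0_f5491 IH)
theorem s0_f5492 : ed sl_df s0_v368 = s0_v369 :=
  gap_rel s0_rot4 (path_edge (s0_f5491r IH) (path_nil s0_v369))
theorem s0_f5494 : ed sl_if s0_v369 = s0_v369 :=
  gap_rel s0_rot33 (path_edge (s0_f5492 IH) (path_edge (s0_f5490 IH) (path_edge (s0_f5491r IH) (path_nil s0_v369))))
theorem s0_f5495 : ed sl_bt s0_v369 = s0_v370 :=
  rfl
theorem s0_f5495r : ed sl_bf s0_v370 = s0_v369 :=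
  edge_flip (s0_f5495 IH)
theorem s0_f5496 : ed sl_bf s0_v369 = s0_v370 :=
  gap_rel s0_rot20 (path_edge (s0_f5495r IH) (path_nil s0_v370))
theorem s0_f5498 : ed sl_if s0_v370 = s0_v370 :=
  gap_rel s0_rot38 (path_edge (s0_f5496 IH) (path_edge (s0_f5494 IH) (path_edge (s0_f5495r IH) (path_nil s0_v370))))
theorem s0_f5499 : ed sl_ct s0_v370 = s0_v371 :=
  rfl
theorem s0_f5499r : ed sl_cf s0_v371 = s0_v370 :=
  edge_flip (s0_f5499 IH)
theorem s0_f5500 : ed sl_cf s0_v370 = s0_v371 :=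
  gap_rel s0_rot0 (path_edge (s0_f5499r IH) (path_nil s0_v371))
theorem s0_f5502 : ed sl_if s0_v371 = s0_v371 :=
  gap_rel s0_rot40 (path_edge (s0_f5500 IH) (path_edge (s0_f5498 IH) (path_edge (s0_f5499r IH) (path_nil s0_v371))))
theorem s0_f5503 : ed sl_dt s0_v371 = s0_v372 :=
  rfl
theorem s0_f5503r : ed sl_df s0_v372 = s0_v371 :=
  edge_flip (s0_f5503 IH)
theorem s0_f5504 : ed sl_df s0_v371 = s0_v372 :=
  gap_rel s0_rot4 (path_edge (s0_f5503r IH) (path_nil s0_v372))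
theorem s0_f5506 : ed sl_if s0_v372 = s0_v372 :=
  gap_rel s0_rot33 (path_edge (s0_f5504 IH) (path_edge (s0_f5502 IH) (path_edge (s0_f5503r IH) (path_nil s0_v372))))
theorem s0_f5507 : ed sl_ht s0_v372 = s0_v373 :=
  rfl
theorem s0_f5510 : ed sl_dt s0_v373 = s0_v374 :=
  rfl
theorem s0_f5513 : ed sl_ft s0_v374 = s0_v375 :=
  rfl
theorem s0_f5516 : ed sl_et s0_v375 = s0_v376 :=
  rfl
theorem s0_f5519 : ed sl_dt s0_v376 = s0_v377 :=
  rfl
theorem s0_f5522 : ed sl_bt s0_v377 = s0_v378 :=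
  rfl
theorem s0_f5525 : ed sl_ct s0_v378 = s0_v379 :=
  rfl
theorem s0_f5528 : ed sl_dt s0_v379 = s0_v380 :=
  rfl
theorem s0_f5531 : ed sl_it s0_v380 = s0_v381 :=
  rfl
theorem s0_f5534 : ed sl_ht s0_v381 = s0_v382 :=
  rfl
theorem s0_f5537 : ed sl_dt s0_v382 = s0_v383 :=
  rfl
theorem s0_f5540 : ed sl_ft s0_v383 = s0_v384 :=
  rfl
theorem s0_f5543 : ed sl_et s0_v384 = s0_v385 :=
  rfl
theorem s0_f5546 : ed sl_dt s0_v385 = s0_v386 :=
  rfl
theorem s0_f5549 : ed sl_bt s0_v386 = s0_v387 :=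
  rfl
theorem s0_f5552 : ed sl_ct s0_v387 = s0_v388 :=
  rfl
theorem s0_f5555 : ed sl_dt s0_v388 = s0_v389 :=
  rfl
theorem s0_f5558 : ed sl_it s0_v389 = s0_v390 :=
  rfl
theorem s0_f5561 : ed sl_ht s0_v390 = s0_v391 :=
  rfl
theorem s0_f5564 : ed sl_dt s0_v391 = s0_v392 :=
  rfl
theorem s0_f5564r : ed sl_df s0_v392 = s0_v391 :=
  edge_flip (s0_f5564 IH)
theorem s0_f5565 : ed sl_df s0_v391 = s0_v392 :=
  gap_rel s0_rot4 (path_edge (s0_f5564r IH) (path_nil s0_v392))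
theorem s0_f5567 : ed sl_ft s0_v392 = s0_v393 :=
  rfl
theorem s0_f5567r : ed sl_ff s0_v393 = s0_v392 :=
  edge_flip (s0_f5567 IH)
theorem s0_f5568 : ed sl_ff s0_v392 = s0_v393 :=
  gap_rel s0_rot22 (path_edge (s0_f5567r IH) (path_nil s0_v393))
theorem s0_f5561r : ed sl_hf s0_v391 = s0_v390 :=
  edge_flip (s0_f5561 IH)
theorem s0_f5558r : ed sl_if s0_v390 = s0_v389 :=
  edge_flip (s0_f5558 IH)
theorem s0_f5555r : ed sl_df s0_v389 = s0_v388 :=
  edge_flip (s0_f5555 IH)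
theorem s0_f5552r : ed sl_cf s0_v388 = s0_v387 :=
  edge_flip (s0_f5552 IH)
theorem s0_f5549r : ed sl_bf s0_v387 = s0_v386 :=
  edge_flip (s0_f5549 IH)
theorem s0_f5546r : ed sl_df s0_v386 = s0_v385 :=
  edge_flip (s0_f5546 IH)
theorem s0_f5543r : ed sl_ef s0_v385 = s0_v384 :=
  edge_flip (s0_f5543 IH)
theorem s0_f5540r : ed sl_ff s0_v384 = s0_v383 :=
  edge_flip (s0_f5540 IH)
theorem s0_f5537r : ed sl_df s0_v383 = s0_v382 :=
  edge_flip (s0_f5537 IH)
theorem s0_f5534r : ed sl_hf s0_v382 = s0_v381 :=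
  edge_flip (s0_f5534 IH)
theorem s0_f5531r : ed sl_if s0_v381 = s0_v380 :=
  edge_flip (s0_f5531 IH)
theorem s0_f5528r : ed sl_df s0_v380 = s0_v379 :=
  edge_flip (s0_f5528 IH)
theorem s0_f5525r : ed sl_cf s0_v379 = s0_v378 :=
  edge_flip (s0_f5525 IH)
theorem s0_f5522r : ed sl_bf s0_v378 = s0_v377 :=
  edge_flip (s0_f5522 IH)
theorem s0_f5519r : ed sl_df s0_v377 = s0_v376 :=
  edge_flip (s0_f5519 IH)
theorem s0_f5516r : ed sl_ef s0_v376 = s0_v375 :=
  edge_flip (s0_f5516 IH)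
theorem s0_f5513r : ed sl_ff s0_v375 = s0_v374 :=
  edge_flip (s0_f5513 IH)
theorem s0_f5510r : ed sl_df s0_v374 = s0_v373 :=
  edge_flip (s0_f5510 IH)
theorem s0_f5507r : ed sl_hf s0_v373 = s0_v372 :=
  edge_flip (s0_f5507 IH)
theorem s0_f5459r : ed sl_bf s0_v362 = s0_v362 :=
  edge_flip (s0_f5459 IH)
theorem s0_f5444r : ed sl_df s0_v360 = s0_v360 :=
  edge_flip (s0_f5444 IH)
theorem s0_f2291r : ed sl_df sq345 = sq345 :=
  edge_flip (s0_f2291 IH)
theorem s0_f2293r : ed sl_ef sq345 = sq345 :=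
  edge_flip (s0_f2293 IH)
theorem s0_f2297r : ed sl_ff sq345 = sq345 :=
  edge_flip (s0_f2297 IH)
theorem s0_f2257r : ed sl_hf sq345 = sq238 :=
  edge_flip (s0_f2257 IH)
theorem s0_f2344r : ed sl_if sq238 = sq238 :=
  edge_flip (s0_f2344 IH)
theorem s0_f2345r : ed sl_df sq238 = sq163 :=
  edge_flip (s0_f2345 IH)
theorem s0_f2346r : ed sl_cf sq163 = sq113 :=
  edge_flip (s0_f2346 IH)
theorem s0_f2347r : ed sl_bf sq113 = sq157 :=
  edge_flip (s0_f2347 IH)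
theorem s0_f2348r : ed sl_df sq157 = sq157 :=
  edge_flip (s0_f2348 IH)
theorem s0_f2349r : ed sl_ef sq157 = sq108 :=
  edge_flip (s0_f2349 IH)
theorem s0_f2350r : ed sl_ff sq108 = sq75 :=
  edge_flip (s0_f2350 IH)
theorem s0_f325r : ed sl_df sq75 = sq51 :=
  edge_flip (s0_f325 IH)
theorem s0_f2351r : ed sl_hf sq51 = sq34 :=
  edge_flip (s0_f2351 IH)
theorem s0_f2352r : ed sl_if sq34 = sq23 :=
  edge_flip (s0_f2352 IH)
theorem s0_f1594r : ed sl_df sq23 = sq23 :=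
  edge_flip (s0_f1594 IH)
theorem s0_f980r : ed sl_cf sq23 = sq31 :=
  edge_flip (s0_f980 IH)
theorem s0_f2353r : ed sl_bf sq31 = sq31 :=
  edge_flip (s0_f2353 IH)
theorem s0_f979r : ed sl_df sq31 = sq45 :=
  edge_flip (s0_f979 IH)
theorem s0_f978r : ed sl_ef sq45 = sq45 :=
  edge_flip (s0_f978 IH)
theorem s0_f977r : ed sl_ff sq45 = sq65 :=
  edge_flip (s0_f977 IH)
theorem s0_f2355r : ed sl_hf sq46 = sq46 :=
  edge_flip (s0_f2355 IH)
theorem s0_f2356r : ed sl_if sq46 = sq69 :=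
  edge_flip (s0_f2356 IH)
theorem s0_f2357r : ed sl_cf sq98 = sq98 :=
  edge_flip (s0_f2357 IH)
theorem s0_f2358r : ed sl_bf sq98 = sq98 :=
  edge_flip (s0_f2358 IH)
theorem s0_f2359r : ed sl_df sq98 = sq69 :=
  edge_flip (s0_f2359 IH)
theorem s0_f2360r : ed sl_ef sq69 = sq69 :=
  edge_flip (s0_f2360 IH)
theorem s0_f2361r : ed sl_ff sq69 = sq47 :=
  edge_flip (s0_f2361 IH)
theorem s0_f2362r : ed sl_df sq47 = sq67 :=
  edge_flip (s0_f2362 IH)
theorem s0_f2363r : ed sl_hf sq67 = sq100 :=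
  edge_flip (s0_f2363 IH)
theorem s0_f2364r : ed sl_if sq100 = sq146 :=
  edge_flip (s0_f2364 IH)
theorem s0_f1526r : ed sl_df sq146 = sq214 :=
  edge_flip (s0_f1526 IH)
theorem s0_f2365r : ed sl_cf sq214 = sq312 :=
  edge_flip (s0_f2365 IH)
theorem s0_f2366r : ed sl_bf sq312 = sq458 :=
  edge_flip (s0_f2366 IH)
theorem s0_f2367r : ed sl_df sq458 = sq458 :=
  edge_flip (s0_f2367 IH)
theorem s0_f2368r : ed sl_ef sq458 = sq663 :=
  edge_flip (s0_f2368 IH)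
theorem s0_f2369r : ed sl_ff sq663 = sq945 :=
  edge_flip (s0_f2369 IH)
theorem s0_f1624r : ed sl_df sq945 = sq1321 :=
  edge_flip (s0_f1624 IH)
theorem s0_f2370r : ed sl_hf sq1321 = sq1823 :=
  edge_flip (s0_f2370 IH)
theorem s0_f2371r : ed sl_if sq1823 = sq1823 :=
  edge_flip (s0_f2371 IH)
theorem s0_f2372r : ed sl_df sq1823 = sq1823 :=
  edge_flip (s0_f2372 IH)
theorem s0_f2373r : ed sl_cf sq1823 = sq2471 :=
  edge_flip (s0_f2373 IH)
theorem s0_f2374r : ed sl_bf sq2471 = sq2471 :=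
  edge_flip (s0_f2374 IH)
theorem s0_f1178r : ed sl_df sq2471 = sq3286 :=
  edge_flip (s0_f1178 IH)
theorem s0_f5570 : ed sl_ef sq3286 = s0_v393 :=
  gap_rel s0_rot82 (path_edge (s0_f1178r IH) (path_edge (s0_f2374r IH) (path_edge (s0_f2373r IH) (path_edge (s0_f2372r IH) (path_edge (s0_f2371r IH) (path_edge (s0_f2370r IH) (path_edge (s0_f1624r IH) (path_edge (s0_f2369r IH) (path_edge (s0_f2368r IH) (path_edge (s0_f2367r IH) (path_edge (s0_f2366r IH) (path_edge (s0_f2365r IH) (path_edge (s0_f1526r IH) (path_edge (s0_f2364r IH) (path_edge (s0_f2363r IH) (path_edge (s0_f2362r IH) (path_edge (s0_f2361r IH) (path_edge (s0_f2360r IH) (path_edge (s0_f2359r IH) (path_edge (s0_f2358r IH) (path_edge (s0_f2357r IH) (path_edge (s0_f476r IH) (path_edge (s0_f2356r IH) (path_edge (s0_f2355r IH) (path_edge (s0_f2354r IH) (path_edge (s0_f977r IH) (path_edge (s0_f978r IH) (path_edge (s0_f979r IH) (path_edge (s0_f2353r IH)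 (path_edge (s0_f980r IH) (path_edge (s0_f1594r IH) (path_edge (s0_f2352r IH) (path_edge (s0_f2351r IH) (path_edge (s0_f325r IH) (path_edge (s0_f2350r IH) (path_edge (s0_f2349r IH) (path_edge (s0_f2348r IH) (path_edge (s0_f2347r IH) (path_edge (s0_f2346r IH) (path_edge (s0_f2345r IH) (path_edge (s0_f2344r IH) (path_edge (s0_f2257r IH) (path_edge (s0_f2291r IH) (path_edge (s0_f2297r IH) (path_edge (s0_f2293r IH) (path_edge (s0_f2291r IH) (path_edge (s0_f2258r IH) (path_edge (s0_f5394r IH) (path_edge (s0_f5421r IH) (path_edge (s0_f5426 IH) (path_edge (s0_f5438r IH) (path_edge (s0_f5444r IH) (path_edge (s0_f5440 IH) (path_edge (s0_f5445r IH) (path_edge (s0_f5454r IH) (path_edge (s0_f5459r IH) (path_edge (s0_f5460r IH) (path_edge (s0_f5462 IH) (path_edge (s0_f5466r IH) (path_edge (s0_f5471r IH) (path_edge (s0_f5476r IH) (path_edge (s0_f5481r IH) (path_edge (s0_f5486r IH) (path_edge (s0_f5491r IH) (path_edge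 (s0_f5495r IH) (path_edge (s0_f5499r IH) (path_edge (s0_f5503r IH) (path_edge (s0_f5506 IH) (path_edge (s0_f5507r IH) (path_edge (s0_f5510r IH) (path_edge (s0_f5513r IH) (path_edge (s0_f5516r IH) (path_edge (s0_f5519r IH) (path_edge (s0_f5522r IH) (path_edge (s0_f5525r IH) (path_edge (s0_f5528r IH) (path_edge (s0_f5531r IH) (path_edge (s0_f5534r IH) (path_edge (s0_f5537r IH) (path_edge (s0_f5540r IH) (path_edge (s0_f5543r IH) (path_edge (s0_f5546r IH) (path_edge (s0_f5549r IH) (path_edge (s0_f5552r IH) (path_edge (s0_f5555r IH) (path_edge (s0_f5558r IH) (path_edge (s0_f5561r IH) (path_edge (s0_f5564r IH) (path_edge (s0_f5567r IH) (path_nil s0_v393))))))))))))))))))))))))))))))))))))))))))))))))))))))))))))))))))))))))))))))))))))))))))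
theorem s0_f5586 : ed sl_bt sq3286 = sq3286 :=
  real_edge rels S fwd inv o lvl plet idx 47 IH Gen.b sp3286 sp3286 rfl rfl
theorem s0_f5587 : ed sl_ct sq3286 = sq3286 :=
  real_edge rels S fwd inv o lvl plet idx 47 IH Gen.c sp3286 sp3286 rfl rfl
theorem s0_f5570r : ed sl_et s0_v393 = sq3286 :=
  edge_flip (s0_f5570 IH)
theorem s0_f5589 : ed sl_et sq3286 = s0_v393 :=
  gap_rel s0_rot83 (path_edge (s0_f5570r IH) (path_nil s0_v393))
theorem s0_f5594 : ed sl_it s0_v393 = s0_v393 :=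
  gap_rel s0_rot72 (path_edge (s0_f5589 IH) (path_edge (s0_f1180 IH) (path_edge (s0_f5570r IH) (path_nil s0_v393))))
theorem s0_f5594r : ed sl_if s0_v393 = s0_v393 :=
  edge_flip (s0_f5594 IH)
theorem s0_f5595 : ed sl_if s0_v392 = s0_v392 :=
  gap_rel s0_rot81 (path_edge (s0_f5567r IH) (path_edge (s0_f5594r IH) (path_edge (s0_f5568 IH) (path_nil s0_v392))))
theorem s0_f5595r : ed sl_it s0_v392 = s0_v392 :=
  edge_flip (s0_f5595 IH)
theorem s0_f5565r : ed sl_dt s0_v392 = s0_v391 :=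
  edge_flip (s0_f5565 IH)
theorem s0_f5596 : ed sl_it s0_v391 = s0_v391 :=
  gap_rel s0_rot70 (path_edge (s0_f5565r IH) (path_edge (s0_f5595r IH) (path_edge (s0_f5564 IH) (path_nil s0_v391))))
theorem s0_f5589r : ed sl_ef s0_v393 = sq3286 :=
  edge_flip (s0_f5589 IH)
theorem s0_f5586r : ed sl_bf sq3286 = sq3286 :=
  edge_flip (s0_f5586 IH)
theorem s0_f5603 : ed sl_bf s0_v393 = s0_v393 :=
  gap_rel s0_rot84 (path_edge (s0_f5570 IH) (path_edge (s0_f5586r IH) (path_edge (s0_f5589r IH) (path_nil s0_v393))))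
theorem s0_f5587r : ed sl_cf sq3286 = sq3286 :=
  edge_flip (s0_f5587 IH)
theorem s0_f5604 : ed sl_cf s0_v393 = s0_v393 :=
  gap_rel s0_rot85 (path_edge (s0_f5570 IH) (path_edge (s0_f5587r IH) (path_edge (s0_f5589r IH) (path_nil s0_v393))))
theorem s0_f5606 : ed sl_ft sq2472 = sq3286 :=
  real_edge rels S fwd inv o lvl plet idx 47 IH Gen.f sp2472 sp3286 rfl rfl
theorem s0_f5608 : ed sl_ht sq1320 = sq1820 :=
  real_edge rels S fwd inv o lvl plet idx 47 IH Gen.h sp1320 sp1820 rfl rfl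
theorem s0_f5609 : ed sl_it sq952 = sq1320 :=
  real_edge rels S fwd inv o lvl plet idx 47 IH Gen.i sp952 sp1320 rfl rfl
theorem s0_f5610 : ed sl_ct sq668 = sq952 :=
  real_edge rels S fwd inv o lvl plet idx 47 IH Gen.c sp668 sp952 rfl rfl
theorem s0_f5611 : ed sl_bt sq463 = sq668 :=
  real_edge rels S fwd inv o lvl plet idx 47 IH Gen.b sp463 sp668 rfl rfl
theorem s0_f5612 : ed sl_et sq215 = sq315 :=
  real_edge rels S fwd inv o lvl plet idx 47 IH Gen.e sp215 sp315 rfl rfl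
theorem s0_f5613 : ed sl_ft sq310 = sq215 :=
  real_edge rels S fwd inv o lvl plet idx 47 IH Gen.f sp310 sp215 rfl rfl
theorem s0_f5614 : ed sl_ht sq219 = sq310 :=
  real_edge rels S fwd inv o lvl plet idx 47 IH Gen.h sp219 sp310 rfl rfl
theorem s0_f5615 : ed sl_it sq219 = sq219 :=
  real_edge rels S fwd inv o lvl plet idx 47 IH Gen.i sp219 sp219 rfl rfl
theorem s0_f5616 : ed sl_ct sq108 = sq156 :=
  real_edge rels S fwd inv o lvl plet idx 47 IH Gen.c sp108 sp156 rfl rfl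
theorem s0_f5617 : ed sl_et sq54 = sq54 :=
  real_edge rels S fwd inv o lvl plet idx 47 IH Gen.e sp54 sp54 rfl rfl
theorem s0_f5618 : ed sl_ft sq38 = sq54 :=
  real_edge rels S fwd inv o lvl plet idx 47 IH Gen.f sp38 sp54 rfl rfl
theorem s0_f5619 : ed sl_ht sq55 = sq55 :=
  real_edge rels S fwd inv o lvl plet idx 47 IH Gen.h sp55 sp55 rfl rfl
theorem s0_f5620 : ed sl_it sq55 = sq55 :=
  real_edge rels S fwd inv o lvl plet idx 47 IH Gen.i sp55 sp55 rfl rfl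
theorem s0_f5621 : ed sl_bt sq51 = sq38 :=
  real_edge rels S fwd inv o lvl plet idx 47 IH Gen.b sp51 sp38 rfl rfl
theorem s0_f5622 : ed sl_ht sq50 = sq74 :=
  real_edge rels S fwd inv o lvl plet idx 47 IH Gen.h sp50 sp74 rfl rfl
theorem s0_f5623 : ed sl_it sq33 = sq50 :=
  real_edge rels S fwd inv o lvl plet idx 47 IH Gen.i sp33 sp50 rfl rfl
theorem s0_f5624 : ed sl_dt sq95 = sq95 :=
  real_edge rels S fwd inv o lvl plet idx 47 IH Gen.d sp95 sp95 rfl rfl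
theorem s0_f5625 : ed sl_it sq206 = sq139 :=
  real_edge rels S fwd inv o lvl plet idx 47 IH Gen.i sp206 sp139 rfl rfl
theorem s0_f5603r : ed sl_bt s0_v393 = s0_v393 :=
  edge_flip (s0_f5603 IH)
theorem s0_f5568r : ed sl_ft s0_v393 = s0_v392 :=
  edge_flip (s0_f5568 IH)
theorem s0_f5628 : ed sl_bt s0_v392 = s0_v392 :=
  gap_rel s0_rot62 (path_edge (s0_f5568r IH) (path_edge (s0_f5603r IH) (path_edge (s0_f5567 IH) (path_nil s0_v392))))
theorem s0_f5628r : ed sl_bf s0_v392 = s0_v392 :=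
  edge_flip (s0_f5628 IH)
theorem s0_f5629 : ed sl_bf s0_v391 = s0_v391 :=
  gap_rel s0_rot75 (path_edge (s0_f5564r IH) (path_edge (s0_f5628r IH) (path_edge (s0_f5565 IH) (path_nil s0_v391))))
theorem s0_f5830 : ed sl_dt s0_v226 = s0_v419 :=
  rfl
theorem s0_f5830r : ed sl_df s0_v419 = s0_v226 :=
  edge_flip (s0_f5830 IH)
theorem s0_f5831 : ed sl_bf s0_v224 = s0_v419 :=
  gap_rel s0_rot75 (path_edge (s0_f3162r IH) (path_edge (s0_f3165r IH) (path_edge (s0_f5830r IH) (path_nil s0_v419))))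
theorem s0_f3170r : ed sl_cf s0_v226 = sq640 :=
  edge_flip (s0_f3170 IH)
theorem s0_f677r : ed sl_df sq640 = sq444 :=
  edge_flip (s0_f677 IH)
theorem s0_f5832 : ed sl_cf s0_v120 = s0_v419 :=
  gap_rel s0_rot3 (path_edge (s0_f2115 IH) (path_edge (s0_f1995 IH) (path_edge (s0_f677r IH) (path_edge (s0_f3170r IH) (path_edge (s0_f5830r IH) (path_nil s0_v419))))))
theorem s0_f5833 : ed sl_df s0_v226 = s0_v419 :=
  gap_rel s0_rot4 (path_edge (s0_f5830r IH) (path_nil s0_v419))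
theorem s0_f5837 : ed sl_if s0_v419 = s0_v419 :=
  gap_rel s0_rot33 (path_edge (s0_f5833 IH) (path_edge (s0_f3177r IH) (path_edge (s0_f5830r IH) (path_nil s0_v419))))
theorem s0_f5837r : ed sl_it s0_v419 = s0_v419 :=
  edge_flip (s0_f5837 IH)
theorem s0_f5832r : ed sl_ct s0_v419 = s0_v120 :=
  edge_flip (s0_f5832 IH)
theorem s0_f2119r : ed sl_it s0_v120 = s0_v120 :=
  edge_flip (s0_f2119 IH)
theorem s0_f5839 : ed sl_ct s0_v120 = s0_v419 :=
  gap_rel s0_rot86 (path_edge (s0_f2119r IH) (path_edge (s0_f5832r IH) (path_edge (s0_f5837r IH) (path_nil s0_v419))))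
theorem s0_f5840 : ed sl_et s0_v419 = s0_v420 :=
  rfl
theorem s0_f5840r : ed sl_ef s0_v420 = s0_v419 :=
  edge_flip (s0_f5840 IH)
theorem s0_f5839r : ed sl_cf s0_v419 = s0_v120 :=
  edge_flip (s0_f5839 IH)
theorem s0_f5842 : ed sl_cf s0_v121 = s0_v420 :=
  gap_rel s0_rot85 (path_edge (s0_f2121 IH) (path_edge (s0_f5839r IH) (path_edge (s0_f5840r IH) (path_nil s0_v420))))
theorem s0_f5843 : ed sl_ef s0_v419 = s0_v420 :=
  gap_rel s0_rot17 (path_edge (s0_f5840r IH) (path_nil s0_v420))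
theorem s0_f5846 : ed sl_if s0_v420 = s0_v420 :=
  gap_rel s0_rot35 (path_edge (s0_f5843 IH) (path_edge (s0_f5837 IH) (path_edge (s0_f5840r IH) (path_nil s0_v420))))
theorem s0_f5846r : ed sl_it s0_v420 = s0_v420 :=
  edge_flip (s0_f5846 IH)
theorem s0_f5842r : ed sl_ct s0_v420 = s0_v121 :=
  edge_flip (s0_f5842 IH)
theorem s0_f2124r : ed sl_it s0_v121 = s0_v121 :=
  edge_flip (s0_f2124 IH)
theorem s0_f5848 : ed sl_ct s0_v121 = s0_v420 :=
  gap_rel s0_rot86 (path_edge (s0_f2124r IH) (path_edge (s0_f5842r IH) (path_edge (s0_f5846r IH) (path_nil s0_v420))))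
theorem s0_f5849 : ed sl_dt s0_v420 = s0_v421 :=
  rfl
theorem s0_f5849r : ed sl_df s0_v421 = s0_v420 :=
  edge_flip (s0_f5849 IH)
theorem s0_f5850 : ed sl_df s0_v420 = s0_v421 :=
  gap_rel s0_rot4 (path_edge (s0_f5849r IH) (path_nil s0_v421))
theorem s0_f5852 : ed sl_if s0_v421 = s0_v421 :=
  gap_rel s0_rot33 (path_edge (s0_f5850 IH) (path_edge (s0_f5846 IH) (path_edge (s0_f5849r IH) (path_nil s0_v421))))
theorem s0_f5850r : ed sl_dt s0_v421 = s0_v420 :=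
  edge_flip (s0_f5850 IH)
theorem s0_f5853 : ed sl_ct s0_v421 = s0_v421 :=
  gap_rel s0_rot87 (path_edge (s0_f5849 IH) (path_edge (s0_f5848 IH) (path_edge (s0_f2125 IH) (path_edge (s0_f5842r IH) (path_edge (s0_f5850r IH) (path_nil s0_v421))))))
theorem s0_f6133 : ed sl_dt sq1211 = sq1529 :=
  real_edge rels S fwd inv o lvl plet idx 47 IH Gen.d sp1211 sp1529 rfl rfl
theorem s0_f6137 : ed sl_ht sq784 = sq1104 :=
  real_edge rels S fwd inv o lvl plet idx 47 IH Gen.h sp784 sp1104 rfl rfl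
theorem s0_f6150 : ed sl_at sq9349 = sq7616 :=
  real_edge rels S fwd inv o lvl plet idx 47 IH Gen.a sp9349 sp7616 rfl rfl
theorem s0_f6162 : ed sl_ft sq1687 = sq1213 :=
  real_edge rels S fwd inv o lvl plet idx 47 IH Gen.f sp1687 sp1213 rfl rfl
theorem s0_f6205 : ed sl_ct sq860 = sq1211 :=
  real_edge rels S fwd inv o lvl plet idx 47 IH Gen.c sp860 sp1211 rfl rfl
theorem s0_f6323 : ed sl_ft sq2856 = sq3791 :=
  real_edge rels S fwd inv o lvl plet idx 47 IH Gen.f sp2856 sp3791 rfl rfl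
theorem s0_f6324 : ed sl_et sq3791 = sq4911 :=
  real_edge rels S fwd inv o lvl plet idx 47 IH Gen.e sp3791 sp4911 rfl rfl
theorem s0_f6325 : ed sl_dt sq4911 = sq6229 :=
  real_edge rels S fwd inv o lvl plet idx 47 IH Gen.d sp4911 sp6229 rfl rfl
theorem s0_f6326 : ed sl_ct sq6229 = sq7774 :=
  real_edge rels S fwd inv o lvl plet idx 47 IH Gen.c sp6229 sp7774 rfl rfl
theorem s0_f6340 : ed sl_dt sq2250 = sq3049 :=
  real_edge rels S fwd inv o lvl plet idx 47 IH Gen.d sp2250 sp3049 rfl rfl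
theorem s0_f6341 : ed sl_et sq2250 = sq2250 :=
  real_edge rels S fwd inv o lvl plet idx 47 IH Gen.e sp2250 sp2250 rfl rfl
theorem s0_f6359 : ed sl_dt sq2974 = sq3940 :=
  real_edge rels S fwd inv o lvl plet idx 47 IH Gen.d sp2974 sp3940 rfl rfl
theorem s0_f6385 : ed sl_bt sq6619 = sq8043 :=
  real_edge rels S fwd inv o lvl plet idx 47 IH Gen.b sp6619 sp8043 rfl rfl
theorem s0_f6470 : ed sl_dt sq2011 = sq2011 :=
  real_edge rels S fwd inv o lvl plet idx 47 IH Gen.d sp2011 sp2011 rfl rfl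
theorem s0_f6509 : ed sl_ft sq3598 = sq2721 :=
  real_edge rels S fwd inv o lvl plet idx 47 IH Gen.f sp3598 sp2721 rfl rfl
theorem s0_f6514 : ed sl_ht sq1909 = sq2573 :=
  real_edge rels S fwd inv o lvl plet idx 47 IH Gen.h sp1909 sp2573 rfl rfl
theorem s0_f6585 : ed sl_dt sq1212 = sq861 :=
  real_edge rels S fwd inv o lvl plet idx 47 IH Gen.d sp1212 sp861 rfl rfl
theorem s0_f6588 : ed sl_ht sq1213 = sq860 :=
  real_edge rels S fwd inv o lvl plet idx 47 IH Gen.h sp1213 sp860 rfl rfl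
theorem s0_f6724 : ed sl_ft sq3940 = sq5070 :=
  real_edge rels S fwd inv o lvl plet idx 47 IH Gen.f sp3940 sp5070 rfl rfl
theorem s0_f6725 : ed sl_et sq5070 = sq6372 :=
  real_edge rels S fwd inv o lvl plet idx 47 IH Gen.e sp5070 sp6372 rfl rfl
theorem s0_f6726 : ed sl_dt sq6372 = sq7876 :=
  real_edge rels S fwd inv o lvl plet idx 47 IH Gen.d sp6372 sp7876 rfl rfl
theorem s0_f6966 : ed sl_dt sq93 = sq136 :=
  real_edge rels S fwd inv o lvl plet idx 47 IH Gen.d sp93 sp136 rfl rfl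
theorem s0_f7007 : ed sl_it sq28 = sq41 :=
  real_edge rels S fwd inv o lvl plet idx 47 IH Gen.i sp28 sp41 rfl rfl
theorem s0_f7010 : ed sl_it sq57 = sq39 :=
  real_edge rels S fwd inv o lvl plet idx 47 IH Gen.i sp57 sp39 rfl rfl
theorem s0_f7020 : ed sl_dt sq61 = sq90 :=
  real_edge rels S fwd inv o lvl plet idx 47 IH Gen.d sp61 sp90 rfl rfl
theorem s0_f7021 : ed sl_ft sq90 = sq90 :=
  real_edge rels S fwd inv o lvl plet idx 47 IH Gen.f sp90 sp90 rfl rfl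
theorem s0_f7022 : ed sl_et sq90 = sq133 :=
  real_edge rels S fwd inv o lvl plet idx 47 IH Gen.e sp90 sp133 rfl rfl
theorem s0_f7023 : ed sl_dt sq133 = sq194 :=
  real_edge rels S fwd inv o lvl plet idx 47 IH Gen.d sp133 sp194 rfl rfl
theorem s0_f7024 : ed sl_bt sq194 = sq260 :=
  real_edge rels S fwd inv o lvl plet idx 47 IH Gen.b sp194 sp260 rfl rfl
theorem s0_f7025 : ed sl_ct sq260 = sq381 :=
  real_edge rels S fwd inv o lvl plet idx 47 IH Gen.c sp260 sp381 rfl rfl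
theorem s0_f7026 : ed sl_dt sq381 = sq553 :=
  real_edge rels S fwd inv o lvl plet idx 47 IH Gen.d sp381 sp553 rfl rfl
theorem s0_f7027 : ed sl_it sq553 = sq553 :=
  real_edge rels S fwd inv o lvl plet idx 47 IH Gen.i sp553 sp553 rfl rfl
theorem s0_f7028 : ed sl_ht sq553 = sq791 :=
  real_edge rels S fwd inv o lvl plet idx 47 IH Gen.h sp553 sp791 rfl rfl
theorem s0_f7029 : ed sl_dt sq791 = sq1089 :=
  real_edge rels S fwd inv o lvl plet idx 47 IH Gen.d sp791 sp1089 rfl rfl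
theorem s0_f7030 : ed sl_ft sq1089 = sq1512 :=
  real_edge rels S fwd inv o lvl plet idx 47 IH Gen.f sp1089 sp1512 rfl rfl
theorem s0_f7031 : ed sl_et sq1512 = sq2075 :=
  real_edge rels S fwd inv o lvl plet idx 47 IH Gen.e sp1512 sp2075 rfl rfl
theorem s0_f7032 : ed sl_dt sq2075 = sq2815 :=
  real_edge rels S fwd inv o lvl plet idx 47 IH Gen.d sp2075 sp2815 rfl rfl
theorem s0_f7033 : ed sl_bt sq2815 = sq3726 :=
  real_edge rels S fwd inv o lvl plet idx 47 IH Gen.b sp2815 sp3726 rfl rfl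
theorem s0_f7034 : ed sl_ct sq3726 = sq4820 :=
  real_edge rels S fwd inv o lvl plet idx 47 IH Gen.c sp3726 sp4820 rfl rfl
theorem s0_f7035 : ed sl_dt sq4820 = sq6103 :=
  real_edge rels S fwd inv o lvl plet idx 47 IH Gen.d sp4820 sp6103 rfl rfl
theorem s0_f7036 : ed sl_it sq93 = sq93 :=
  real_edge rels S fwd inv o lvl plet idx 47 IH Gen.i sp93 sp93 rfl rfl
theorem s0_f7037 : ed sl_bt sq290 = sq198 :=
  real_edge rels S fwd inv o lvl plet idx 47 IH Gen.b sp290 sp198 rfl rfl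
theorem s0_f7038 : ed sl_dt sq413 = sq290 :=
  real_edge rels S fwd inv o lvl plet idx 47 IH Gen.d sp413 sp290 rfl rfl
theorem s0_f7039 : ed sl_et sq602 = sq413 :=
  real_edge rels S fwd inv o lvl plet idx 47 IH Gen.e sp602 sp413 rfl rfl
theorem s0_f7040 : ed sl_ft sq861 = sq602 :=
  real_edge rels S fwd inv o lvl plet idx 47 IH Gen.f sp861 sp602 rfl rfl
theorem s0_f7041 : ed sl_ht sq1687 = sq1212 :=
  real_edge rels S fwd inv o lvl plet idx 47 IH Gen.h sp1687 sp1212 rfl rfl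
theorem s0_f7042 : ed sl_it sq6103 = s0_v502 :=
  rfl
theorem s0_f7052 : ed sl_jt sq6103 = sq6103 :=
  real_edge rels S fwd inv o lvl plet idx 47 IH Gen.j sp6103 sp6103 rfl rfl
theorem s0_f7042r : ed sl_if s0_v502 = sq6103 :=
  edge_flip (s0_f7042 IH)
theorem s0_f7053 : ed sl_if sq6103 = s0_v502 :=
  gap_rel s0_rot9 (path_edge (s0_f7042r IH) (path_nil s0_v502))
theorem s0_f7053r : ed sl_it s0_v502 = sq6103 :=
  edge_flip (s0_f7053 IH)
theorem s0_f7064 : ed sl_jt s0_v502 = s0_v502 :=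
  gap_rel s0_rot12 (path_edge (s0_f7042 IH) (path_edge (s0_f7052 IH) (path_edge (s0_f7053r IH) (path_nil s0_v502))))
theorem s0_f7079 : ed sl_dt sq1110 = sq1508 :=
  real_edge rels S fwd inv o lvl plet idx 47 IH Gen.d sp1110 sp1508 rfl rfl
theorem s0_f7167 : ed sl_dt sq6049 = sq7544 :=
  real_edge rels S fwd inv o lvl plet idx 47 IH Gen.d sp6049 sp7544 rfl rfl
theorem s0_f7176 : ed sl_ht s0_v502 = s0_v503 :=
  rfl
theorem s0_f7176r : ed sl_hf s0_v503 = s0_v502 :=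
  edge_flip (s0_f7176 IH)
theorem s0_f7177 : ed sl_hf s0_v502 = s0_v503 :=
  gap_rel s0_rot13 (path_edge (s0_f7176r IH) (path_nil s0_v503))
theorem s0_f7064r : ed sl_jf s0_v502 = s0_v502 :=
  edge_flip (s0_f7064 IH)
theorem s0_f7178 : ed sl_jf s0_v503 = s0_v503 :=
  gap_rel s0_rot15 (path_edge (s0_f7177 IH) (path_edge (s0_f7064r IH) (path_edge (s0_f7176r IH) (path_nil s0_v503))))
theorem s0_f7180 : ed sl_dt s0_v503 = s0_v504 :=
  rfl
theorem s0_f7180r : ed sl_df s0_v504 = s0_v503 :=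
  edge_flip (s0_f7180 IH)
theorem s0_f7181 : ed sl_df s0_v503 = s0_v504 :=
  gap_rel s0_rot4 (path_edge (s0_f7180r IH) (path_nil s0_v504))
theorem s0_f7183 : ed sl_jf s0_v504 = s0_v504 :=
  gap_rel s0_rot6 (path_edge (s0_f7181 IH) (path_edge (s0_f7178 IH) (path_edge (s0_f7180r IH) (path_nil s0_v504))))
theorem s0_f7222 : ed sl_ft s0_v504 = s0_v505 :=
  rfl
theorem s0_f7222r : ed sl_ff s0_v505 = s0_v504 :=
  edge_flip (s0_f7222 IH)
theorem s0_f7224 : ed sl_ff s0_v504 = s0_v505 :=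
  gap_rel s0_rot22 (path_edge (s0_f7222r IH) (path_nil s0_v505))
theorem s0_f7225 : ed sl_jf s0_v505 = s0_v505 :=
  gap_rel s0_rot23 (path_edge (s0_f7224 IH) (path_edge (s0_f7183 IH) (path_edge (s0_f7222r IH) (path_nil s0_v505))))
theorem s0_f7248 : ed sl_et s0_v505 = s0_v506 :=
  rfl
theorem s0_f7248r : ed sl_ef s0_v506 = s0_v505 :=
  edge_flip (s0_f7248 IH)
theorem s0_f7249 : ed sl_ef s0_v505 = s0_v506 :=
  gap_rel s0_rot17 (path_edge (s0_f7248r IH) (path_nil s0_v506))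
theorem s0_f7251 : ed sl_jf s0_v506 = s0_v506 :=
  gap_rel s0_rot18 (path_edge (s0_f7249 IH) (path_edge (s0_f7225 IH) (path_edge (s0_f7248r IH) (path_nil s0_v506))))
theorem s0_f7261 : ed sl_dt s0_v506 = s0_v507 :=
  rfl
theorem s0_f7261r : ed sl_df s0_v507 = s0_v506 :=
  edge_flip (s0_f7261 IH)
theorem s0_f7262 : ed sl_df s0_v506 = s0_v507 :=
  gap_rel s0_rot4 (path_edge (s0_f7261r IH) (path_nil s0_v507))
theorem s0_f7264 : ed sl_jf s0_v507 = s0_v507 :=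
  gap_rel s0_rot6 (path_edge (s0_f7262 IH) (path_edge (s0_f7251 IH) (path_edge (s0_f7261r IH) (path_nil s0_v507))))
theorem s0_f7265 : ed sl_bt s0_v507 = s0_v508 :=
  rfl
theorem s0_f7265r : ed sl_bf s0_v508 = s0_v507 :=
  edge_flip (s0_f7265 IH)
theorem s0_f7266 : ed sl_bf s0_v507 = s0_v508 :=
  gap_rel s0_rot20 (path_edge (s0_f7265r IH) (path_nil s0_v508))
theorem s0_f7268 : ed sl_jf s0_v508 = s0_v508 :=
  gap_rel s0_rot21 (path_edge (s0_f7266 IH) (path_edge (s0_f7264 IH) (path_edge (s0_f7265r IH) (path_nil s0_v508))))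
theorem s0_f7269 : ed sl_ct s0_v508 = s0_v509 :=
  rfl
theorem s0_f7269r : ed sl_cf s0_v509 = s0_v508 :=
  edge_flip (s0_f7269 IH)
theorem s0_f7270 : ed sl_cf s0_v508 = s0_v509 :=
  gap_rel s0_rot0 (path_edge (s0_f7269r IH) (path_nil s0_v509))
theorem s0_f7272 : ed sl_jf s0_v509 = s0_v509 :=
  gap_rel s0_rot2 (path_edge (s0_f7270 IH) (path_edge (s0_f7268 IH) (path_edge (s0_f7269r IH) (path_nil s0_v509))))
theorem s0_f7273 : ed sl_dt s0_v509 = s0_v510 :=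
  rfl
theorem s0_f7273r : ed sl_df s0_v510 = s0_v509 :=
  edge_flip (s0_f7273 IH)
theorem s0_f7274 : ed sl_df s0_v509 = s0_v510 :=
  gap_rel s0_rot4 (path_edge (s0_f7273r IH) (path_nil s0_v510))
theorem s0_f7275 : ed sl_jf s0_v510 = s0_v510 :=
  gap_rel s0_rot6 (path_edge (s0_f7274 IH) (path_edge (s0_f7272 IH) (path_edge (s0_f7273r IH) (path_nil s0_v510))))
theorem s0_f7276 : ed sl_it s0_v510 = s0_v511 :=
  rfl
theorem s0_f7276r : ed sl_if s0_v511 = s0_v510 :=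
  edge_flip (s0_f7276 IH)
theorem s0_f7277 : ed sl_if s0_v510 = s0_v511 :=
  gap_rel s0_rot9 (path_edge (s0_f7276r IH) (path_nil s0_v511))
theorem s0_f7277r : ed sl_it s0_v511 = s0_v510 :=
  edge_flip (s0_f7277 IH)
theorem s0_f7275r : ed sl_jt s0_v510 = s0_v510 :=
  edge_flip (s0_f7275 IH)
theorem s0_f7278 : ed sl_jt s0_v511 = s0_v511 :=
  gap_rel s0_rot12 (path_edge (s0_f7276 IH) (path_edge (s0_f7275r IH) (path_edge (s0_f7277r IH) (path_nil s0_v511))))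
theorem s0_f7279 : ed sl_ht s0_v511 = s0_v512 :=
  rfl
theorem s0_f7279r : ed sl_hf s0_v512 = s0_v511 :=
  edge_flip (s0_f7279 IH)
theorem s0_f7280 : ed sl_hf s0_v511 = s0_v512 :=
  gap_rel s0_rot13 (path_edge (s0_f7279r IH) (path_nil s0_v512))
theorem s0_f7278r : ed sl_jf s0_v511 = s0_v511 :=
  edge_flip (s0_f7278 IH)
theorem s0_f7281 : ed sl_jf s0_v512 = s0_v512 :=
  gap_rel s0_rot15 (path_edge (s0_f7280 IH) (path_edge (s0_f7278r IH) (path_edge (s0_f7279r IH) (path_nil s0_v512))))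
theorem s0_f7282 : ed sl_dt s0_v512 = s0_v513 :=
  rfl
theorem s0_f7282r : ed sl_df s0_v513 = s0_v512 :=
  edge_flip (s0_f7282 IH)
theorem s0_f7283 : ed sl_df s0_v512 = s0_v513 :=
  gap_rel s0_rot4 (path_edge (s0_f7282r IH) (path_nil s0_v513))
theorem s0_f7284 : ed sl_jf s0_v513 = s0_v513 :=
  gap_rel s0_rot6 (path_edge (s0_f7283 IH) (path_edge (s0_f7281 IH) (path_edge (s0_f7282r IH) (path_nil s0_v513))))
theorem s0_f7285 : ed sl_ft s0_v513 = s0_v514 :=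
  rfl
theorem s0_f7285r : ed sl_ff s0_v514 = s0_v513 :=
  edge_flip (s0_f7285 IH)
theorem s0_f7286 : ed sl_ff s0_v513 = s0_v514 :=
  gap_rel s0_rot22 (path_edge (s0_f7285r IH) (path_nil s0_v514))
theorem s0_f7287 : ed sl_jf s0_v514 = s0_v514 :=
  gap_rel s0_rot23 (path_edge (s0_f7286 IH) (path_edge (s0_f7284 IH) (path_edge (s0_f7285r IH) (path_nil s0_v514))))
theorem s0_f7288 : ed sl_et s0_v514 = s0_v515 :=
  rfl
theorem s0_f7288r : ed sl_ef s0_v515 = s0_v514 :=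
  edge_flip (s0_f7288 IH)
theorem s0_f7289 : ed sl_ef s0_v514 = s0_v515 :=
  gap_rel s0_rot17 (path_edge (s0_f7288r IH) (path_nil s0_v515))
theorem s0_f7290 : ed sl_jf s0_v515 = s0_v515 :=
  gap_rel s0_rot18 (path_edge (s0_f7289 IH) (path_edge (s0_f7287 IH) (path_edge (s0_f7288r IH) (path_nil s0_v515))))
theorem s0_f7291 : ed sl_dt s0_v515 = s0_v516 :=
  rfl
theorem s0_f7291r : ed sl_df s0_v516 = s0_v515 :=
  edge_flip (s0_f7291 IH)
theorem s0_f7292 : ed sl_df s0_v515 = s0_v516 :=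
  gap_rel s0_rot4 (path_edge (s0_f7291r IH) (path_nil s0_v516))
theorem s0_f7293 : ed sl_jf s0_v516 = s0_v516 :=
  gap_rel s0_rot6 (path_edge (s0_f7292 IH) (path_edge (s0_f7290 IH) (path_edge (s0_f7291r IH) (path_nil s0_v516))))
theorem s0_f7294 : ed sl_bt s0_v516 = s0_v517 :=
  rfl
theorem s0_f7294r : ed sl_bf s0_v517 = s0_v516 :=
  edge_flip (s0_f7294 IH)
theorem s0_f7295 : ed sl_bf s0_v516 = s0_v517 :=
  gap_rel s0_rot20 (path_edge (s0_f7294r IH) (path_nil s0_v517))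
theorem s0_f7296 : ed sl_jf s0_v517 = s0_v517 :=
  gap_rel s0_rot21 (path_edge (s0_f7295 IH) (path_edge (s0_f7293 IH) (path_edge (s0_f7294r IH) (path_nil s0_v517))))
theorem s0_f7297 : ed sl_ct s0_v517 = s0_v518 :=
  rfl
theorem s0_f7297r : ed sl_cf s0_v518 = s0_v517 :=
  edge_flip (s0_f7297 IH)
theorem s0_f7298 : ed sl_cf s0_v517 = s0_v518 :=
  gap_rel s0_rot0 (path_edge (s0_f7297r IH) (path_nil s0_v518))
theorem s0_f7299 : ed sl_jf s0_v518 = s0_v518 :=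
  gap_rel s0_rot2 (path_edge (s0_f7298 IH) (path_edge (s0_f7296 IH) (path_edge (s0_f7297r IH) (path_nil s0_v518))))
theorem s0_f7300 : ed sl_dt s0_v518 = s0_v519 :=
  rfl
theorem s0_f7300r : ed sl_df s0_v519 = s0_v518 :=
  edge_flip (s0_f7300 IH)
theorem s0_f7301 : ed sl_df s0_v518 = s0_v519 :=
  gap_rel s0_rot4 (path_edge (s0_f7300r IH) (path_nil s0_v519))
theorem s0_f7302 : ed sl_jf s0_v519 = s0_v519 :=
  gap_rel s0_rot6 (path_edge (s0_f7301 IH) (path_edge (s0_f7299 IH) (path_edge (s0_f7300r IH) (path_nil s0_v519))))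
theorem s0_f7303 : ed sl_it s0_v519 = s0_v520 :=
  rfl
theorem s0_f7303r : ed sl_if s0_v520 = s0_v519 :=
  edge_flip (s0_f7303 IH)
theorem s0_f7304 : ed sl_if s0_v519 = s0_v520 :=
  gap_rel s0_rot9 (path_edge (s0_f7303r IH) (path_nil s0_v520))
theorem s0_f7304r : ed sl_it s0_v520 = s0_v519 :=
  edge_flip (s0_f7304 IH)
theorem s0_f7302r : ed sl_jt s0_v519 = s0_v519 :=
  edge_flip (s0_f7302 IH)
theorem s0_f7305 : ed sl_jt s0_v520 = s0_v520 :=
  gap_rel s0_rot12 (path_edge (s0_f7303 IH) (path_edge (s0_f7302r IH) (path_edge (s0_f7304r IH) (path_nil s0_v520))))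
theorem s0_f7306 : ed sl_ht s0_v520 = s0_v521 :=
  rfl
theorem s0_f7306r : ed sl_hf s0_v521 = s0_v520 :=
  edge_flip (s0_f7306 IH)
theorem s0_f7307 : ed sl_hf s0_v520 = s0_v521 :=
  gap_rel s0_rot13 (path_edge (s0_f7306r IH) (path_nil s0_v521))
theorem s0_f7305r : ed sl_jf s0_v520 = s0_v520 :=
  edge_flip (s0_f7305 IH)
theorem s0_f7308 : ed sl_jf s0_v521 = s0_v521 :=
  gap_rel s0_rot15 (path_edge (s0_f7307 IH) (path_edge (s0_f7305r IH) (path_edge (s0_f7306r IH) (path_nil s0_v521))))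
theorem s0_f7309 : ed sl_dt s0_v521 = s0_v522 :=
  rfl
theorem s0_f7309r : ed sl_df s0_v522 = s0_v521 :=
  edge_flip (s0_f7309 IH)
theorem s0_f7310 : ed sl_df s0_v521 = s0_v522 :=
  gap_rel s0_rot4 (path_edge (s0_f7309r IH) (path_nil s0_v522))
theorem s0_f7311 : ed sl_jf s0_v522 = s0_v522 :=
  gap_rel s0_rot6 (path_edge (s0_f7310 IH) (path_edge (s0_f7308 IH) (path_edge (s0_f7309r IH) (path_nil s0_v522))))
theorem s0_f7312 : ed sl_ft s0_v522 = s0_v523 :=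
  rfl
theorem s0_f7312r : ed sl_ff s0_v523 = s0_v522 :=
  edge_flip (s0_f7312 IH)
theorem s0_f7313 : ed sl_ff s0_v522 = s0_v523 :=
  gap_rel s0_rot22 (path_edge (s0_f7312r IH) (path_nil s0_v523))
theorem s0_f7314 : ed sl_jf s0_v523 = s0_v523 :=
  gap_rel s0_rot23 (path_edge (s0_f7313 IH) (path_edge (s0_f7311 IH) (path_edge (s0_f7312r IH) (path_nil s0_v523))))
theorem s0_f7315 : ed sl_et s0_v523 = s0_v524 :=
  rfl
theorem s0_f7315r : ed sl_ef s0_v524 = s0_v523 :=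
  edge_flip (s0_f7315 IH)
theorem s0_f7316 : ed sl_ef s0_v523 = s0_v524 :=
  gap_rel s0_rot17 (path_edge (s0_f7315r IH) (path_nil s0_v524))
theorem s0_f7317 : ed sl_jf s0_v524 = s0_v524 :=
  gap_rel s0_rot18 (path_edge (s0_f7316 IH) (path_edge (s0_f7314 IH) (path_edge (s0_f7315r IH) (path_nil s0_v524))))
theorem s0_f7318 : ed sl_dt s0_v524 = s0_v525 :=
  rfl
theorem s0_f7318r : ed sl_df s0_v525 = s0_v524 :=
  edge_flip (s0_f7318 IH)
theorem s0_f7319 : ed sl_df s0_v524 = s0_v525 :=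
  gap_rel s0_rot4 (path_edge (s0_f7318r IH) (path_nil s0_v525))
theorem s0_f7320 : ed sl_jf s0_v525 = s0_v525 :=
  gap_rel s0_rot6 (path_edge (s0_f7319 IH) (path_edge (s0_f7317 IH) (path_edge (s0_f7318r IH) (path_nil s0_v525))))
theorem s0_f7321 : ed sl_bt s0_v525 = s0_v526 :=
  rfl
theorem s0_f7321r : ed sl_bf s0_v526 = s0_v525 :=
  edge_flip (s0_f7321 IH)
theorem s0_f7322 : ed sl_bf s0_v525 = s0_v526 :=
  gap_rel s0_rot20 (path_edge (s0_f7321r IH) (path_nil s0_v526))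
theorem s0_f7323 : ed sl_jf s0_v526 = s0_v526 :=
  gap_rel s0_rot21 (path_edge (s0_f7322 IH) (path_edge (s0_f7320 IH) (path_edge (s0_f7321r IH) (path_nil s0_v526))))
theorem s0_f7324 : ed sl_ct s0_v526 = s0_v527 :=
  rfl
theorem s0_f7324r : ed sl_cf s0_v527 = s0_v526 :=
  edge_flip (s0_f7324 IH)
theorem s0_f7325 : ed sl_cf s0_v526 = s0_v527 :=
  gap_rel s0_rot0 (path_edge (s0_f7324r IH) (path_nil s0_v527))
theorem s0_f7326 : ed sl_jf s0_v527 = s0_v527 :=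
  gap_rel s0_rot2 (path_edge (s0_f7325 IH) (path_edge (s0_f7323 IH) (path_edge (s0_f7324r IH) (path_nil s0_v527))))
theorem s0_f7327 : ed sl_dt s0_v527 = s0_v528 :=
  rfl
theorem s0_f7327r : ed sl_df s0_v528 = s0_v527 :=
  edge_flip (s0_f7327 IH)
theorem s0_f7328 : ed sl_df s0_v527 = s0_v528 :=
  gap_rel s0_rot4 (path_edge (s0_f7327r IH) (path_nil s0_v528))
theorem s0_f7329 : ed sl_jf s0_v528 = s0_v528 :=
  gap_rel s0_rot6 (path_edge (s0_f7328 IH) (path_edge (s0_f7326 IH) (path_edge (s0_f7327r IH) (path_nil s0_v528))))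
theorem s0_f7330 : ed sl_it s0_v528 = s0_v529 :=
  rfl
theorem s0_f7330r : ed sl_if s0_v529 = s0_v528 :=
  edge_flip (s0_f7330 IH)
theorem s0_f7331 : ed sl_if s0_v528 = s0_v529 :=
  gap_rel s0_rot9 (path_edge (s0_f7330r IH) (path_nil s0_v529))
theorem s0_f7331r : ed sl_it s0_v529 = s0_v528 :=
  edge_flip (s0_f7331 IH)
theorem s0_f7329r : ed sl_jt s0_v528 = s0_v528 :=
  edge_flip (s0_f7329 IH)
theorem s0_f7332 : ed sl_jt s0_v529 = s0_v529 :=
  gap_rel s0_rot12 (path_edge (s0_f7330 IH) (path_edge (s0_f7329r IH) (path_edge (s0_f7331r IH) (path_nil s0_v529))))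
theorem s0_f7333 : ed sl_ht s0_v529 = s0_v530 :=
  rfl
theorem s0_f7333r : ed sl_hf s0_v530 = s0_v529 :=
  edge_flip (s0_f7333 IH)
theorem s0_f7334 : ed sl_hf s0_v529 = s0_v530 :=
  gap_rel s0_rot13 (path_edge (s0_f7333r IH) (path_nil s0_v530))
theorem s0_f7332r : ed sl_jf s0_v529 = s0_v529 :=
  edge_flip (s0_f7332 IH)
theorem s0_f7335 : ed sl_jf s0_v530 = s0_v530 :=
  gap_rel s0_rot15 (path_edge (s0_f7334 IH) (path_edge (s0_f7332r IH) (path_edge (s0_f7333r IH) (path_nil s0_v530))))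
theorem s0_f7336 : ed sl_dt s0_v530 = s0_v531 :=
  rfl
theorem s0_f7336r : ed sl_df s0_v531 = s0_v530 :=
  edge_flip (s0_f7336 IH)
theorem s0_f7337 : ed sl_df s0_v530 = s0_v531 :=
  gap_rel s0_rot4 (path_edge (s0_f7336r IH) (path_nil s0_v531))
theorem s0_f7338 : ed sl_jf s0_v531 = s0_v531 :=
  gap_rel s0_rot6 (path_edge (s0_f7337 IH) (path_edge (s0_f7335 IH) (path_edge (s0_f7336r IH) (path_nil s0_v531))))
theorem s0_f7339 : ed sl_ft s0_v531 = s0_v532 :=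
  rfl
theorem s0_f7339r : ed sl_ff s0_v532 = s0_v531 :=
  edge_flip (s0_f7339 IH)
theorem s0_f7340 : ed sl_ff s0_v531 = s0_v532 :=
  gap_rel s0_rot22 (path_edge (s0_f7339r IH) (path_nil s0_v532))
theorem s0_f7341 : ed sl_jf s0_v532 = s0_v532 :=
  gap_rel s0_rot23 (path_edge (s0_f7340 IH) (path_edge (s0_f7338 IH) (path_edge (s0_f7339r IH) (path_nil s0_v532))))
theorem s0_f7342 : ed sl_et s0_v532 = s0_v533 :=
  rfl
theorem s0_f7342r : ed sl_ef s0_v533 = s0_v532 :=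
  edge_flip (s0_f7342 IH)
theorem s0_f7343 : ed sl_ef s0_v532 = s0_v533 :=
  gap_rel s0_rot17 (path_edge (s0_f7342r IH) (path_nil s0_v533))
theorem s0_f7344 : ed sl_jf s0_v533 = s0_v533 :=
  gap_rel s0_rot18 (path_edge (s0_f7343 IH) (path_edge (s0_f7341 IH) (path_edge (s0_f7342r IH) (path_nil s0_v533))))
theorem s0_f7345 : ed sl_dt s0_v533 = s0_v534 :=
  rfl
theorem s0_f7345r : ed sl_df s0_v534 = s0_v533 :=
  edge_flip (s0_f7345 IH)
theorem s0_f7346 : ed sl_df s0_v533 = s0_v534 :=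
  gap_rel s0_rot4 (path_edge (s0_f7345r IH) (path_nil s0_v534))
theorem s0_f7347 : ed sl_jf s0_v534 = s0_v534 :=
  gap_rel s0_rot6 (path_edge (s0_f7346 IH) (path_edge (s0_f7344 IH) (path_edge (s0_f7345r IH) (path_nil s0_v534))))
theorem s0_f7348 : ed sl_bt s0_v534 = s0_v535 :=
  rfl
theorem s0_f7348r : ed sl_bf s0_v535 = s0_v534 :=
  edge_flip (s0_f7348 IH)
theorem s0_f7349 : ed sl_bf s0_v534 = s0_v535 :=
  gap_rel s0_rot20 (path_edge (s0_f7348r IH) (path_nil s0_v535))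
theorem s0_f7350 : ed sl_jf s0_v535 = s0_v535 :=
  gap_rel s0_rot21 (path_edge (s0_f7349 IH) (path_edge (s0_f7347 IH) (path_edge (s0_f7348r IH) (path_nil s0_v535))))
theorem s0_f7351 : ed sl_ct s0_v535 = s0_v536 :=
  rfl
theorem s0_f7351r : ed sl_cf s0_v536 = s0_v535 :=
  edge_flip (s0_f7351 IH)
theorem s0_f7352 : ed sl_cf s0_v535 = s0_v536 :=
  gap_rel s0_rot0 (path_edge (s0_f7351r IH) (path_nil s0_v536))
theorem s0_f7353 : ed sl_jf s0_v536 = s0_v536 :=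
  gap_rel s0_rot2 (path_edge (s0_f7352 IH) (path_edge (s0_f7350 IH) (path_edge (s0_f7351r IH) (path_nil s0_v536))))
theorem s0_f7354 : ed sl_dt s0_v536 = s0_v537 :=
  rfl
theorem s0_f7354r : ed sl_df s0_v537 = s0_v536 :=
  edge_flip (s0_f7354 IH)
theorem s0_f7355 : ed sl_df s0_v536 = s0_v537 :=
  gap_rel s0_rot4 (path_edge (s0_f7354r IH) (path_nil s0_v537))
theorem s0_f7356 : ed sl_jf s0_v537 = s0_v537 :=
  gap_rel s0_rot6 (path_edge (s0_f7355 IH) (path_edge (s0_f7353 IH) (path_edge (s0_f7354r IH) (path_nil s0_v537))))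
theorem s0_f7357 : ed sl_it s0_v537 = s0_v538 :=
  rfl
theorem s0_f7357r : ed sl_if s0_v538 = s0_v537 :=
  edge_flip (s0_f7357 IH)
theorem s0_f7358 : ed sl_if s0_v537 = s0_v538 :=
  gap_rel s0_rot9 (path_edge (s0_f7357r IH) (path_nil s0_v538))
theorem s0_f7358r : ed sl_it s0_v538 = s0_v537 :=
  edge_flip (s0_f7358 IH)
theorem s0_f7356r : ed sl_jt s0_v537 = s0_v537 :=
  edge_flip (s0_f7356 IH)
theorem s0_f7359 : ed sl_jt s0_v538 = s0_v538 :=
  gap_rel s0_rot12 (path_edge (s0_f7357 IH) (path_edge (s0_f7356r IH) (path_edge (s0_f7358r IH) (path_nil s0_v538))))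
theorem s0_f7360 : ed sl_ht s0_v538 = s0_v539 :=
  rfl
theorem s0_f7360r : ed sl_hf s0_v539 = s0_v538 :=
  edge_flip (s0_f7360 IH)
theorem s0_f7361 : ed sl_hf s0_v538 = s0_v539 :=
  gap_rel s0_rot13 (path_edge (s0_f7360r IH) (path_nil s0_v539))
theorem s0_f7359r : ed sl_jf s0_v538 = s0_v538 :=
  edge_flip (s0_f7359 IH)
theorem s0_f7362 : ed sl_jf s0_v539 = s0_v539 :=
  gap_rel s0_rot15 (path_edge (s0_f7361 IH) (path_edge (s0_f7359r IH) (path_edge (s0_f7360r IH) (path_nil s0_v539))))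
theorem s0_f7363 : ed sl_dt s0_v539 = s0_v540 :=
  rfl
theorem s0_f7363r : ed sl_df s0_v540 = s0_v539 :=
  edge_flip (s0_f7363 IH)
theorem s0_f7364 : ed sl_df s0_v539 = s0_v540 :=
  gap_rel s0_rot4 (path_edge (s0_f7363r IH) (path_nil s0_v540))
theorem s0_f7365 : ed sl_jf s0_v540 = s0_v540 :=
  gap_rel s0_rot6 (path_edge (s0_f7364 IH) (path_edge (s0_f7362 IH) (path_edge (s0_f7363r IH) (path_nil s0_v540))))
theorem s0_f7366 : ed sl_ft s0_v540 = s0_v541 :=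
  rfl
theorem s0_f7366r : ed sl_ff s0_v541 = s0_v540 :=
  edge_flip (s0_f7366 IH)
theorem s0_f7367 : ed sl_ff s0_v540 = s0_v541 :=
  gap_rel s0_rot22 (path_edge (s0_f7366r IH) (path_nil s0_v541))
theorem s0_f7368 : ed sl_jf s0_v541 = s0_v541 :=
  gap_rel s0_rot23 (path_edge (s0_f7367 IH) (path_edge (s0_f7365 IH) (path_edge (s0_f7366r IH) (path_nil s0_v541))))
theorem s0_f7369 : ed sl_et s0_v541 = s0_v542 :=
  rfl
theorem s0_f7369r : ed sl_ef s0_v542 = s0_v541 :=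
  edge_flip (s0_f7369 IH)
theorem s0_f7370 : ed sl_ef s0_v541 = s0_v542 :=
  gap_rel s0_rot17 (path_edge (s0_f7369r IH) (path_nil s0_v542))
theorem s0_f7371 : ed sl_jf s0_v542 = s0_v542 :=
  gap_rel s0_rot18 (path_edge (s0_f7370 IH) (path_edge (s0_f7368 IH) (path_edge (s0_f7369r IH) (path_nil s0_v542))))
theorem s0_f7372 : ed sl_dt s0_v542 = s0_v543 :=
  rfl
theorem s0_f7372r : ed sl_df s0_v543 = s0_v542 :=
  edge_flip (s0_f7372 IH)
theorem s0_f7373 : ed sl_df s0_v542 = s0_v543 :=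
  gap_rel s0_rot4 (path_edge (s0_f7372r IH) (path_nil s0_v543))
theorem s0_f7374 : ed sl_jf s0_v543 = s0_v543 :=
  gap_rel s0_rot6 (path_edge (s0_f7373 IH) (path_edge (s0_f7371 IH) (path_edge (s0_f7372r IH) (path_nil s0_v543))))
theorem s0_f7375 : ed sl_bt s0_v543 = s0_v544 :=
  rfl
theorem s0_f7375r : ed sl_bf s0_v544 = s0_v543 :=
  edge_flip (s0_f7375 IH)
theorem s0_f7376 : ed sl_bf s0_v543 = s0_v544 :=
  gap_rel s0_rot20 (path_edge (s0_f7375r IH) (path_nil s0_v544))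
theorem s0_f7377 : ed sl_jf s0_v544 = s0_v544 :=
  gap_rel s0_rot21 (path_edge (s0_f7376 IH) (path_edge (s0_f7374 IH) (path_edge (s0_f7375r IH) (path_nil s0_v544))))
theorem s0_f7378 : ed sl_ct s0_v544 = s0_v545 :=
  rfl
theorem s0_f7378r : ed sl_cf s0_v545 = s0_v544 :=
  edge_flip (s0_f7378 IH)
theorem s0_f7379 : ed sl_cf s0_v544 = s0_v545 :=
  gap_rel s0_rot0 (path_edge (s0_f7378r IH) (path_nil s0_v545))
theorem s0_f7380 : ed sl_jf s0_v545 = s0_v545 :=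
  gap_rel s0_rot2 (path_edge (s0_f7379 IH) (path_edge (s0_f7377 IH) (path_edge (s0_f7378r IH) (path_nil s0_v545))))
theorem s0_f7381 : ed sl_dt s0_v545 = s0_v546 :=
  rfl
theorem s0_f7381r : ed sl_df s0_v546 = s0_v545 :=
  edge_flip (s0_f7381 IH)
theorem s0_f7382 : ed sl_df s0_v545 = s0_v546 :=
  gap_rel s0_rot4 (path_edge (s0_f7381r IH) (path_nil s0_v546))
theorem s0_f7383 : ed sl_jf s0_v546 = s0_v546 :=
  gap_rel s0_rot6 (path_edge (s0_f7382 IH) (path_edge (s0_f7380 IH) (path_edge (s0_f7381r IH) (path_nil s0_v546))))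
theorem s0_f7035r : ed sl_df sq6103 = sq4820 :=
  edge_flip (s0_f7035 IH)
theorem s0_f7034r : ed sl_cf sq4820 = sq3726 :=
  edge_flip (s0_f7034 IH)
theorem s0_f7033r : ed sl_bf sq3726 = sq2815 :=
  edge_flip (s0_f7033 IH)
theorem s0_f7032r : ed sl_df sq2815 = sq2075 :=
  edge_flip (s0_f7032 IH)
theorem s0_f7031r : ed sl_ef sq2075 = sq1512 :=
  edge_flip (s0_f7031 IH)
theorem s0_f7030r : ed sl_ff sq1512 = sq1089 :=
  edge_flip (s0_f7030 IH)
theorem s0_f7029r : ed sl_df sq1089 = sq791 :=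
  edge_flip (s0_f7029 IH)
theorem s0_f7028r : ed sl_hf sq791 = sq553 :=
  edge_flip (s0_f7028 IH)
theorem s0_f7027r : ed sl_if sq553 = sq553 :=
  edge_flip (s0_f7027 IH)
theorem s0_f7026r : ed sl_df sq553 = sq381 :=
  edge_flip (s0_f7026 IH)
theorem s0_f7025r : ed sl_cf sq381 = sq260 :=
  edge_flip (s0_f7025 IH)
theorem s0_f7024r : ed sl_bf sq260 = sq194 :=
  edge_flip (s0_f7024 IH)
theorem s0_f7023r : ed sl_df sq194 = sq133 :=
  edge_flip (s0_f7023 IH)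
theorem s0_f7022r : ed sl_ef sq133 = sq90 :=
  edge_flip (s0_f7022 IH)
theorem s0_f7021r : ed sl_ff sq90 = sq90 :=
  edge_flip (s0_f7021 IH)
theorem s0_f7020r : ed sl_df sq90 = sq61 :=
  edge_flip (s0_f7020 IH)
theorem s0_f4108r : ed sl_hf sq61 = sq41 :=
  edge_flip (s0_f4108 IH)
theorem s0_f7007r : ed sl_if sq41 = sq28 :=
  edge_flip (s0_f7007 IH)
theorem s0_f3452r : ed sl_df sq28 = sq28 :=
  edge_flip (s0_f3452 IH)
theorem s0_f400r : ed sl_cf sq28 = sq20 :=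
  edge_flip (s0_f400 IH)
theorem s0_f3266r : ed sl_bf sq20 = sq20 :=
  edge_flip (s0_f3266 IH)
theorem s0_f398r : ed sl_ef sq15 = sq15 :=
  edge_flip (s0_f398 IH)
theorem s0_f397r : ed sl_ff sq15 = sq15 :=
  edge_flip (s0_f397 IH)
theorem s0_f993r : ed sl_df sq15 = sq20 :=
  edge_flip (s0_f993 IH)
theorem s0_f948r : ed sl_hf sq20 = sq20 :=
  edge_flip (s0_f948 IH)
theorem s0_f3457r : ed sl_if sq20 = sq30 :=
  edge_flip (s0_f3457 IH)
theorem s0_f2380r : ed sl_df sq30 = sq21 :=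
  edge_flip (s0_f2380 IH)
theorem s0_f3454r : ed sl_cf sq21 = sq21 :=
  edge_flip (s0_f3454 IH)
theorem s0_f3314r : ed sl_bf sq21 = sq21 :=
  edge_flip (s0_f3314 IH)
theorem s0_f4120r : ed sl_ef sq30 = sq43 :=
  edge_flip (s0_f4120 IH)
theorem s0_f4121r : ed sl_ff sq43 = sq63 :=
  edge_flip (s0_f4121 IH)
theorem s0_f2567r : ed sl_df sq63 = sq63 :=
  edge_flip (s0_f2567 IH)
theorem s0_f4122r : ed sl_hf sq63 = sq93 :=
  edge_flip (s0_f4122 IH)
theorem s0_f7036r : ed sl_if sq93 = sq93 :=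
  edge_flip (s0_f7036 IH)
theorem s0_f2306r : ed sl_df sq93 = sq136 :=
  edge_flip (s0_f2306 IH)
theorem s0_f4901r : ed sl_cf sq136 = sq198 :=
  edge_flip (s0_f4901 IH)
theorem s0_f7037r : ed sl_bf sq198 = sq290 :=
  edge_flip (s0_f7037 IH)
theorem s0_f7038r : ed sl_df sq290 = sq413 :=
  edge_flip (s0_f7038 IH)
theorem s0_f7039r : ed sl_ef sq413 = sq602 :=
  edge_flip (s0_f7039 IH)
theorem s0_f7040r : ed sl_ff sq602 = sq861 :=
  edge_flip (s0_f7040 IH)
theorem s0_f6585r : ed sl_df sq861 = sq1212 :=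
  edge_flip (s0_f6585 IH)
theorem s0_f7041r : ed sl_hf sq1212 = sq1687 :=
  edge_flip (s0_f7041 IH)
theorem s0_f7384 : ed sl_if sq1687 = s0_v546 :=
  gap_rel s0_rot88 (path_edge (s0_f7041r IH) (path_edge (s0_f6585r IH) (path_edge (s0_f7040r IH) (path_edge (s0_f7039r IH) (path_edge (s0_f7038r IH) (path_edge (s0_f7037r IH) (path_edge (s0_f4901r IH) (path_edge (s0_f2306r IH) (path_edge (s0_f7036r IH) (path_edge (s0_f4122r IH) (path_edge (s0_f2567r IH) (path_edge (s0_f4121r IH) (path_edge (s0_f4120r IH) (path_edge (s0_f2650r IH) (path_edge (s0_f3314r IH) (path_edge (s0_f3454r IH) (path_edge (s0_f2380r IH) (path_edge (s0_f3457r IH) (path_edge (s0_f948r IH) (path_edge (s0_f993r IH) (path_edge (s0_f397r IH) (path_edge (s0_f398r IH) (path_edge (s0_f399r IH) (path_edge (s0_f3266r IH) (path_edge (s0_f400r IH) (path_edge (s0_f3452r IH) (path_edge (s0_f7007r IH) (path_edge (s0_f4108r IH) (path_edge (s0_f7020r IH) (path_edge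 (s0_f7021r IH) (path_edge (s0_f7022r IH) (path_edge (s0_f7023r IH) (path_edge (s0_f7024r IH) (path_edge (s0_f7025r IH) (path_edge (s0_f7026r IH) (path_edge (s0_f7027r IH) (path_edge (s0_f7028r IH) (path_edge (s0_f7029r IH) (path_edge (s0_f7030r IH) (path_edge (s0_f7031r IH) (path_edge (s0_f7032r IH) (path_edge (s0_f7033r IH) (path_edge (s0_f7034r IH) (path_edge (s0_f7035r IH) (path_edge (s0_f7042r IH) (path_edge (s0_f7176r IH) (path_edge (s0_f7180r IH) (path_edge (s0_f7222r IH) (path_edge (s0_f7248r IH) (path_edge (s0_f7261r IH) (path_edge (s0_f7265r IH) (path_edge (s0_f7269r IH) (path_edge (s0_f7273r IH) (path_edge (s0_f7276r IH) (path_edge (s0_f7279r IH) (path_edge (s0_f7282r IH) (path_edge (s0_f7285r IH) (path_edge (s0_f7288r IH) (path_edge (s0_f7291r IH) (path_edge (s0_f7294r IH) (path_edge (s0_f7297r IH) (path_edge (s0_f7300r IH) (path_edge (s0_f7303r IH) (path_edge (s0_f7306r IH) (path_edge (s0_f7309r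 IH) (path_edge (s0_f7312r IH) (path_edge (s0_f7315r IH) (path_edge (s0_f7318r IH) (path_edge (s0_f7321r IH) (path_edge (s0_f7324r IH) (path_edge (s0_f7327r IH) (path_edge (s0_f7330r IH) (path_edge (s0_f7333r IH) (path_edge (s0_f7336r IH) (path_edge (s0_f7339r IH) (path_edge (s0_f7342r IH) (path_edge (s0_f7345r IH) (path_edge (s0_f7348r IH) (path_edge (s0_f7351r IH) (path_edge (s0_f7354r IH) (path_edge (s0_f7357r IH) (path_edge (s0_f7360r IH) (path_edge (s0_f7363r IH) (path_edge (s0_f7366r IH) (path_edge (s0_f7369r IH) (path_edge (s0_f7372r IH) (path_edge (s0_f7375r IH) (path_edge (s0_f7378r IH) (path_edge (s0_f7381r IH) (path_nil s0_v546))))))))))))))))))))))))))))))))))))))))))))))))))))))))))))))))))))))))))))))))))))))))))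
theorem s0_f7393 : ed sl_jt sq1687 = sq1687 :=
  real_edge rels S fwd inv o lvl plet idx 47 IH Gen.j sp1687 sp1687 rfl rfl
theorem s0_f7383r : ed sl_jt s0_v546 = s0_v546 :=
  edge_flip (s0_f7383 IH)
theorem s0_f7384r : ed sl_it s0_v546 = sq1687 :=
  edge_flip (s0_f7384 IH)
theorem s0_f7394 : ed sl_it sq1687 = s0_v546 :=
  gap_rel s0_rot89 (path_edge (s0_f7393 IH) (path_edge (s0_f7384r IH) (path_edge (s0_f7383r IH) (path_nil s0_v546))))
theorem s0_f7397 : ed sl_dt sq2253 = sq1687 :=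
  real_edge rels S fwd inv o lvl plet idx 47 IH Gen.d sp2253 sp1687 rfl rfl
theorem s0_f7394r : ed sl_if s0_v546 = sq1687 :=
  edge_flip (s0_f7394 IH)
theorem s0_f7397r : ed sl_df sq1687 = sq2253 :=
  edge_flip (s0_f7397 IH)
theorem s0_f7398 : ed sl_if sq2253 = s0_v545 :=
  gap_rel s0_rot33 (path_edge (s0_f7397r IH) (path_edge (s0_f7394r IH) (path_edge (s0_f7382 IH) (path_nil s0_v545))))
theorem s0_f7398r : ed sl_it s0_v545 = sq2253 :=
  edge_flip (s0_f7398 IH)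
theorem s0_f7410 : ed sl_it sq3048 = s0_v544 :=
  gap_rel s0_rot66 (path_edge (s0_f3483 IH) (path_edge (s0_f7398r IH) (path_edge (s0_f7378 IH) (path_nil s0_v544))))
theorem s0_f7412 : ed sl_ht sq2253 = sq1636 :=
  real_edge rels S fwd inv o lvl plet idx 47 IH Gen.h sp2253 sp1636 rfl rfl
theorem s0_f7413 : ed sl_it sq1636 = sq2238 :=
  real_edge rels S fwd inv o lvl plet idx 47 IH Gen.i sp1636 sp2238 rfl rfl
theorem s0_f7414 : ed sl_ht sq2238 = sq3035 :=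
  real_edge rels S fwd inv o lvl plet idx 47 IH Gen.h sp2238 sp3035 rfl rfl
theorem s0_f7426 : ed sl_dt sq186 = sq186 :=
  real_edge rels S fwd inv o lvl plet idx 47 IH Gen.d sp186 sp186 rfl rfl
theorem s0_f7429 : ed sl_dt sq127 = sq127 :=
  real_edge rels S fwd inv o lvl plet idx 47 IH Gen.d sp127 sp127 rfl rfl
theorem s0_f7433 : ed sl_dt sq243 = sq166 :=
  real_edge rels S fwd inv o lvl plet idx 47 IH Gen.d sp243 sp166 rfl rfl
theorem s0_f7410r : ed sl_if s0_v544 = sq3048 :=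
  edge_flip (s0_f7410 IH)
theorem s0_f3528r : ed sl_df sq3048 = sq4029 :=
  edge_flip (s0_f3528 IH)
theorem s0_f7443 : ed sl_df s0_v240 = s0_v544 :=
  gap_rel s0_rot51 (path_edge (s0_f3525 IH) (path_edge (s0_f3528r IH) (path_edge (s0_f7410r IH) (path_nil s0_v544))))
theorem s0_f7448 : ed sl_jt sq3048 = sq3048 :=
  real_edge rels S fwd inv o lvl plet idx 47 IH Gen.j sp3048 sp3048 rfl rfl
theorem s0_f7448r : ed sl_jf sq3048 = sq3048 :=
  edge_flip (s0_f7448 IH)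
theorem s0_f7449 : ed sl_if sq3048 = s0_v544 :=
  gap_rel s0_rot90 (path_edge (s0_f7448r IH) (path_edge (s0_f7410r IH) (path_edge (s0_f7377 IH) (path_nil s0_v544))))
theorem s0_f7449r : ed sl_it s0_v544 = sq3048 :=
  edge_flip (s0_f7449 IH)
theorem s0_f7471 : ed sl_it sq3939 = s0_v543 :=
  gap_rel s0_rot28 (path_edge (s0_f4416 IH) (path_edge (s0_f7449r IH) (path_edge (s0_f7375 IH) (path_nil s0_v543))))
theorem s0_f7472 : ed sl_dt s0_v240 = s0_v544 :=
  gap_rel s0_rot91 (path_edge (s0_f3516 IH) (path_edge (s0_f3484 IH) (path_edge (s0_f7449r IH) (path_nil s0_v544))))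
theorem s0_f7490 : ed sl_dt sq3450 = sq2642 :=
  real_edge rels S fwd inv o lvl plet idx 47 IH Gen.d sp3450 sp2642 rfl rfl
theorem s0_f7472r : ed sl_df s0_v544 = s0_v240 :=
  edge_flip (s0_f7472 IH)
theorem s0_f7500 : ed sl_bf s0_v240 = s0_v542 :=
  gap_rel s0_rot75 (path_edge (s0_f7472r IH) (path_edge (s0_f7376 IH) (path_edge (s0_f7373 IH) (path_nil s0_v542))))
theorem s0_f7500r : ed sl_bt s0_v542 = s0_v240 :=
  edge_flip (s0_f7500 IH)
theorem s0_f7501 : ed sl_bt s0_v240 = s0_v542 :=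
  gap_rel s0_rot25 (path_edge (s0_f7500r IH) (path_nil s0_v542))
theorem s0_f3525r : ed sl_it s0_v240 = sq4029 :=
  edge_flip (s0_f3525 IH)
theorem s0_f7502 : ed sl_it sq5070 = s0_v542 :=
  gap_rel s0_rot28 (path_edge (s0_f3526 IH) (path_edge (s0_f3525r IH) (path_edge (s0_f7500r IH) (path_nil s0_v542))))
theorem s0_f7503 : ed sl_ct sq5070 = sq5070 :=
  real_edge rels S fwd inv o lvl plet idx 47 IH Gen.c sp5070 sp5070 rfl rfl
theorem s0_f7508 : ed sl_jt sq5070 = sq5070 :=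
  real_edge rels S fwd inv o lvl plet idx 47 IH Gen.j sp5070 sp5070 rfl rfl
theorem s0_f7502r : ed sl_if s0_v542 = sq5070 :=
  edge_flip (s0_f7502 IH)
theorem s0_f7508r : ed sl_jf sq5070 = sq5070 :=
  edge_flip (s0_f7508 IH)
theorem s0_f7509 : ed sl_if sq5070 = s0_v542 :=
  gap_rel s0_rot90 (path_edge (s0_f7508r IH) (path_edge (s0_f7502r IH) (path_edge (s0_f7371 IH) (path_nil s0_v542))))
theorem s0_f7510 : ed sl_ct sq2977 = sq3939 :=
  real_edge rels S fwd inv o lvl plet idx 47 IH Gen.c sp2977 sp3939 rfl rfl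
theorem s0_f7509r : ed sl_it s0_v542 = sq5070 :=
  edge_flip (s0_f7509 IH)
theorem s0_f7520 : ed sl_ct s0_v542 = s0_v542 :=
  gap_rel s0_rot86 (path_edge (s0_f7502 IH) (path_edge (s0_f7503 IH) (path_edge (s0_f7509r IH) (path_nil s0_v542))))
theorem s0_f7578 : ed sl_dt sq4462 = sq4462 :=
  real_edge rels S fwd inv o lvl plet idx 47 IH Gen.d sp4462 sp4462 rfl rfl
theorem s0_f7579 : ed sl_it sq4462 = sq4462 :=
  real_edge rels S fwd inv o lvl plet idx 47 IH Gen.i sp4462 sp4462 rfl rfl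
theorem s0_f7600 : ed sl_it sq3945 = sq2977 :=
  real_edge rels S fwd inv o lvl plet idx 47 IH Gen.i sp3945 sp2977 rfl rfl
theorem s0_f7471r : ed sl_if s0_v543 = sq3939 :=
  edge_flip (s0_f7471 IH)
theorem s0_f7510r : ed sl_cf sq3939 = sq2977 :=
  edge_flip (s0_f7510 IH)
theorem s0_f7600r : ed sl_if sq2977 = sq3945 :=
  edge_flip (s0_f7600 IH)
theorem s0_f7601 : ed sl_cf sq3945 = s0_v543 :=
  gap_rel s0_rot92 (path_edge (s0_f7600r IH) (path_edge (s0_f7510r IH) (path_edge (s0_f7471r IH) (path_nil s0_v543))))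
theorem s0_f7604 : ed sl_ft sq2974 = sq3939 :=
  real_edge rels S fwd inv o lvl plet idx 47 IH Gen.f sp2974 sp3939 rfl rfl
theorem s0_f7617 : ed sl_bt sq3945 = sq2984 :=
  real_edge rels S fwd inv o lvl plet idx 47 IH Gen.b sp3945 sp2984 rfl rfl
theorem s0_f7601r : ed sl_ct s0_v543 = sq3945 :=
  edge_flip (s0_f7601 IH)
theorem s0_f7619 : ed sl_ct sq3945 = s0_v543 :=
  gap_rel s0_rot64 (path_edge (s0_f7601r IH) (path_nil s0_v543))
theorem s0_f7620 : ed sl_dt sq3945 = sq3945 :=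
  real_edge rels S fwd inv o lvl plet idx 47 IH Gen.d sp3945 sp3945 rfl rfl
theorem s0_f7625 : ed sl_ht sq2977 = sq2197 :=
  real_edge rels S fwd inv o lvl plet idx 47 IH Gen.h sp2977 sp2197 rfl rfl
theorem s0_f7626 : ed sl_dt sq2197 = sq1601 :=
  real_edge rels S fwd inv o lvl plet idx 47 IH Gen.d sp2197 sp1601 rfl rfl
theorem s0_f7627 : ed sl_ft sq1601 = sq1153 :=
  real_edge rels S fwd inv o lvl plet idx 47 IH Gen.f sp1601 sp1153 rfl rfl

end

end

end Cfsg.Agent.Helper28.S1689
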