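import Cfsg.Agent.Lib.Helper28.S1689.Seeds2

set_option autoImplicit false
set_option maxRecDepth 100000
set_option linter.all false

namespace Cfsg.Agent.Helper28.S1689

open Cfsg.Agent.Helper28
open Cfsg.Spor.Fi23 (Gen)

noncomputable section

section
variable (IH : ∀ y q, lvl y q < 47 → EntryOK rels S fwd inv o plet idx y q)
include IH

theorem s0_f7628 : ed sl_et sq1153 = sq821 :=
  real_edge rels S fwd inv o lvl plet idx 47 IH Gen.e sp1153 sp821 rfl rfl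
theorem s0_f7629 : ed sl_dt sq821 = sq821 :=
  real_edge rels S fwd inv o lvl plet idx 47 IH Gen.d sp821 sp821 rfl rfl
theorem s0_f7630 : ed sl_bt sq821 = sq576 :=
  real_edge rels S fwd inv o lvl plet idx 47 IH Gen.b sp821 sp576 rfl rfl
theorem s0_f7631 : ed sl_ct sq576 = sq397 :=
  real_edge rels S fwd inv o lvl plet idx 47 IH Gen.c sp576 sp397 rfl rfl
theorem s0_f7632 : ed sl_dt sq397 = sq269 :=
  real_edge rels S fwd inv o lvl plet idx 47 IH Gen.d sp397 sp269 rfl rfl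
theorem s0_f7633 : ed sl_it sq269 = sq396 :=
  real_edge rels S fwd inv o lvl plet idx 47 IH Gen.i sp269 sp396 rfl rfl
theorem s0_f7634 : ed sl_ht sq396 = sq268 :=
  real_edge rels S fwd inv o lvl plet idx 47 IH Gen.h sp396 sp268 rfl rfl
theorem s0_f7635 : ed sl_ct sq365 = sq507 :=
  real_edge rels S fwd inv o lvl plet idx 47 IH Gen.c sp365 sp507 rfl rfl
theorem s0_f7636 : ed sl_dt sq507 = sq507 :=
  real_edge rels S fwd inv o lvl plet idx 47 IH Gen.d sp507 sp507 rfl rfl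
theorem s0_f7637 : ed sl_it sq507 = sq348 :=
  real_edge rels S fwd inv o lvl plet idx 47 IH Gen.i sp507 sp348 rfl rfl
theorem s0_f7638 : ed sl_ht sq348 = sq239 :=
  real_edge rels S fwd inv o lvl plet idx 47 IH Gen.h sp348 sp239 rfl rfl
theorem s0_f7639 : ed sl_bt sq239 = sq239 :=
  real_edge rels S fwd inv o lvl plet idx 47 IH Gen.b sp239 sp239 rfl rfl
theorem s0_f7640 : ed sl_dt sq168 = sq168 :=
  real_edge rels S fwd inv o lvl plet idx 47 IH Gen.d sp168 sp168 rfl rfl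
theorem s0_f7641 : ed sl_it sq168 = sq248 :=
  real_edge rels S fwd inv o lvl plet idx 47 IH Gen.i sp168 sp248 rfl rfl
theorem s0_f7642 : ed sl_ht sq248 = sq366 :=
  real_edge rels S fwd inv o lvl plet idx 47 IH Gen.h sp248 sp366 rfl rfl
theorem s0_f7643 : ed sl_dt sq366 = sq532 :=
  real_edge rels S fwd inv o lvl plet idx 47 IH Gen.d sp366 sp532 rfl rfl
theorem s0_f7644 : ed sl_ft sq532 = sq532 :=
  real_edge rels S fwd inv o lvl plet idx 47 IH Gen.f sp532 sp532 rfl rfl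
theorem s0_f7645 : ed sl_et sq532 = sq758 :=
  real_edge rels S fwd inv o lvl plet idx 47 IH Gen.e sp532 sp758 rfl rfl
theorem s0_f7646 : ed sl_dt sq758 = sq539 :=
  real_edge rels S fwd inv o lvl plet idx 47 IH Gen.d sp758 sp539 rfl rfl
theorem s0_f7647 : ed sl_bt sq539 = sq404 :=
  real_edge rels S fwd inv o lvl plet idx 47 IH Gen.b sp539 sp404 rfl rfl
theorem s0_f7648 : ed sl_ct sq404 = sq586 :=
  real_edge rels S fwd inv o lvl plet idx 47 IH Gen.c sp404 sp586 rfl rfl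
theorem s0_f7649 : ed sl_it sq837 = sq1172 :=
  real_edge rels S fwd inv o lvl plet idx 47 IH Gen.i sp837 sp1172 rfl rfl
theorem s0_f7650 : ed sl_dt sq1630 = sq1630 :=
  real_edge rels S fwd inv o lvl plet idx 47 IH Gen.d sp1630 sp1630 rfl rfl
theorem s0_f7651 : ed sl_bt sq4016 = sq5141 :=
  real_edge rels S fwd inv o lvl plet idx 47 IH Gen.b sp4016 sp5141 rfl rfl
theorem s0_f7652 : ed sl_ct sq5141 = sq6421 :=
  real_edge rels S fwd inv o lvl plet idx 47 IH Gen.c sp5141 sp6421 rfl rfl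
theorem s0_f7653 : ed sl_dt sq6421 = sq7914 :=
  real_edge rels S fwd inv o lvl plet idx 47 IH Gen.d sp6421 sp7914 rfl rfl
theorem s0_f7660 : ed sl_it sq2977 = sq3945 :=
  real_edge rels S fwd inv o lvl plet idx 47 IH Gen.i sp2977 sp3945 rfl rfl
theorem s0_f7663 : ed sl_et sq3950 = sq2984 :=
  real_edge rels S fwd inv o lvl plet idx 47 IH Gen.e sp3950 sp2984 rfl rfl
theorem s0_f7679 : ed sl_dt sq576 = sq576 :=
  real_edge rels S fwd inv o lvl plet idx 47 IH Gen.d sp576 sp576 rfl rfl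
theorem s0_f7691 : ed sl_dt sq549 = sq784 :=
  real_edge rels S fwd inv o lvl plet idx 47 IH Gen.d sp549 sp784 rfl rfl
theorem s0_f7753 : ed sl_et sq3472 = sq4462 :=
  real_edge rels S fwd inv o lvl plet idx 47 IH Gen.e sp3472 sp4462 rfl rfl
theorem s0_f7756 : ed sl_ht sq3035 = sq2238 :=
  real_edge rels S fwd inv o lvl plet idx 47 IH Gen.h sp3035 sp2238 rfl rfl
theorem s0_f7793 : ed sl_dt sq80 = sq56 :=
  real_edge rels S fwd inv o lvl plet idx 47 IH Gen.d sp80 sp56 rfl rfl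
theorem s0_f7798 : ed sl_dt sq242 = sq242 :=
  real_edge rels S fwd inv o lvl plet idx 47 IH Gen.d sp242 sp242 rfl rfl
theorem s0_f7824 : ed sl_it sq3049 = s0_v547 :=
  rfl
theorem s0_f7824r : ed sl_if s0_v547 = sq3049 :=
  edge_flip (s0_f7824 IH)
theorem s0_f3532r : ed sl_ff sq3049 = sq4029 :=
  edge_flip (s0_f3532 IH)
theorem s0_f7826 : ed sl_ff s0_v240 = s0_v547 :=
  gap_rel s0_rot52 (path_edge (s0_f3525 IH) (path_edge (s0_f3532r IH) (path_edge (s0_f7824r IH) (path_nil s0_v547))))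
theorem s0_f7983 : ed sl_ct sq85 = sq85 :=
  real_edge rels S fwd inv o lvl plet idx 47 IH Gen.c sp85 sp85 rfl rfl
theorem s0_f7986 : ed sl_ht sq117 = sq80 :=
  real_edge rels S fwd inv o lvl plet idx 47 IH Gen.h sp117 sp80 rfl rfl
theorem s0_f7987 : ed sl_ft sq80 = sq116 :=
  real_edge rels S fwd inv o lvl plet idx 47 IH Gen.f sp80 sp116 rfl rfl
theorem s0_f7988 : ed sl_et sq116 = sq168 :=
  real_edge rels S fwd inv o lvl plet idx 47 IH Gen.e sp116 sp168 rfl rfl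
theorem s0_f7998 : ed sl_ht sq353 = sq353 :=
  real_edge rels S fwd inv o lvl plet idx 47 IH Gen.h sp353 sp353 rfl rfl
theorem s0_f8009 : ed sl_bt sq117 = sq85 :=
  real_edge rels S fwd inv o lvl plet idx 47 IH Gen.b sp117 sp85 rfl rfl
theorem s0_f8076 : ed sl_dt sq1303 = sq1798 :=
  real_edge rels S fwd inv o lvl plet idx 47 IH Gen.d sp1303 sp1798 rfl rfl
theorem s0_f8133 : ed sl_ht sq2196 = sq2974 :=
  real_edge rels S fwd inv o lvl plet idx 47 IH Gen.h sp2196 sp2974 rfl rfl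
theorem s0_f8288 : ed sl_dt s0_v393 = s0_v602 :=
  rfl
theorem s0_f8288r : ed sl_df s0_v602 = s0_v393 :=
  edge_flip (s0_f8288 IH)
theorem s0_f8289 : ed sl_df s0_v393 = s0_v602 :=
  gap_rel s0_rot4 (path_edge (s0_f8288r IH) (path_nil s0_v602))
theorem s0_f8290 : ed sl_ff s0_v391 = s0_v602 :=
  gap_rel s0_rot5 (path_edge (s0_f5564r IH) (path_edge (s0_f5567r IH) (path_edge (s0_f8288r IH) (path_nil s0_v602))))
theorem s0_f8292 : ed sl_if s0_v602 = s0_v602 :=
  gap_rel s0_rot33 (path_edge (s0_f8289 IH) (path_edge (s0_f5594r IH) (path_edge (s0_f8288r IH) (path_nil s0_v602))))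
theorem s0_f8292r : ed sl_it s0_v602 = s0_v602 :=
  edge_flip (s0_f8292 IH)
theorem s0_f8290r : ed sl_ft s0_v602 = s0_v391 :=
  edge_flip (s0_f8290 IH)
theorem s0_f8293 : ed sl_ft s0_v391 = s0_v602 :=
  gap_rel s0_rot11 (path_edge (s0_f5596 IH) (path_edge (s0_f8290r IH) (path_edge (s0_f8292r IH) (path_nil s0_v602))))
theorem s0_f8293r : ed sl_ff s0_v602 = s0_v391 :=
  edge_flip (s0_f8293 IH)
theorem s0_f8294 : ed sl_bf s0_v602 = s0_v602 :=
  gap_rel s0_rot93 (path_edge (s0_f8290 IH) (path_edge (s0_f5629 IH) (path_edge (s0_f8293r IH) (path_nil s0_v602))))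
theorem s0_f8295 : ed sl_ct s0_v602 = s0_v603 :=
  rfl
theorem s0_f8295r : ed sl_cf s0_v603 = s0_v602 :=
  edge_flip (s0_f8295 IH)
theorem s0_f8296 : ed sl_cf s0_v602 = s0_v603 :=
  gap_rel s0_rot0 (path_edge (s0_f8295r IH) (path_nil s0_v603))
theorem s0_f8297 : ed sl_df s0_v603 = s0_v603 :=
  gap_rel s0_rot80 (path_edge (s0_f8296 IH) (path_edge (s0_f8289 IH) (path_edge (s0_f5604 IH) (path_edge (s0_f8288r IH) (path_edge (s0_f8295r IH) (path_nil s0_v603))))))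
theorem s0_f8299 : ed sl_if s0_v603 = s0_v603 :=
  gap_rel s0_rot40 (path_edge (s0_f8296 IH) (path_edge (s0_f8292 IH) (path_edge (s0_f8295r IH) (path_nil s0_v603))))
theorem s0_f8300 : ed sl_ht s0_v603 = s0_v604 :=
  rfl
theorem s0_f8303 : ed sl_dt s0_v604 = s0_v605 :=
  rfl
theorem s0_f8307 : ed sl_ft s0_v605 = s0_v606 :=
  rfl
theorem s0_f8311 : ed sl_et s0_v606 = s0_v607 :=
  rfl
theorem s0_f8315 : ed sl_dt s0_v607 = s0_v608 :=
  rfl
theorem s0_f8318 : ed sl_bt s0_v608 = s0_v609 :=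
  rfl
theorem s0_f8321 : ed sl_ct s0_v609 = s0_v610 :=
  rfl
theorem s0_f8324 : ed sl_dt s0_v610 = s0_v611 :=
  rfl
theorem s0_f8327 : ed sl_it s0_v611 = s0_v612 :=
  rfl
theorem s0_f8330 : ed sl_ht s0_v612 = s0_v613 :=
  rfl
theorem s0_f8333 : ed sl_dt s0_v613 = s0_v614 :=
  rfl
theorem s0_f8336 : ed sl_ft s0_v614 = s0_v615 :=
  rfl
theorem s0_f8339 : ed sl_et s0_v615 = s0_v616 :=
  rfl
theorem s0_f8342 : ed sl_dt s0_v616 = s0_v617 :=
  rfl
theorem s0_f8345 : ed sl_bt s0_v617 = s0_v618 :=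
  rfl
theorem s0_f8348 : ed sl_ct s0_v618 = s0_v619 :=
  rfl
theorem s0_f8351 : ed sl_dt s0_v619 = s0_v620 :=
  rfl
theorem s0_f8354 : ed sl_it s0_v620 = s0_v621 :=
  rfl
theorem s0_f8357 : ed sl_ht s0_v621 = s0_v622 :=
  rfl
theorem s0_f8360 : ed sl_dt s0_v622 = s0_v623 :=
  rfl
theorem s0_f8363 : ed sl_ft s0_v623 = s0_v624 :=
  rfl
theorem s0_f8366 : ed sl_et s0_v624 = s0_v625 :=
  rfl
theorem s0_f8369 : ed sl_dt s0_v625 = s0_v626 :=
  rfl
theorem s0_f8372 : ed sl_bt s0_v626 = s0_v627 :=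
  rfl
theorem s0_f8375 : ed sl_ct s0_v627 = s0_v628 :=
  rfl
theorem s0_f8378 : ed sl_dt s0_v628 = s0_v629 :=
  rfl
theorem s0_f8381 : ed sl_it s0_v629 = s0_v630 :=
  rfl
theorem s0_f8384 : ed sl_ht s0_v630 = s0_v631 :=
  rfl
theorem s0_f8387 : ed sl_dt s0_v631 = s0_v632 :=
  rfl
theorem s0_f8390 : ed sl_ft s0_v632 = s0_v633 :=
  rfl
theorem s0_f8393 : ed sl_et s0_v633 = s0_v634 :=
  rfl
theorem s0_f8396 : ed sl_dt s0_v634 = s0_v635 :=
  rfl
theorem s0_f8396r : ed sl_df s0_v635 = s0_v634 :=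
  edge_flip (s0_f8396 IH)
theorem s0_f8397 : ed sl_df s0_v634 = s0_v635 :=
  gap_rel s0_rot4 (path_edge (s0_f8396r IH) (path_nil s0_v635))
theorem s0_f8399 : ed sl_bt s0_v635 = s0_v636 :=
  rfl
theorem s0_f8399r : ed sl_bf s0_v636 = s0_v635 :=
  edge_flip (s0_f8399 IH)
theorem s0_f8400 : ed sl_bf s0_v635 = s0_v636 :=
  gap_rel s0_rot20 (path_edge (s0_f8399r IH) (path_nil s0_v636))
theorem s0_f8402 : ed sl_ct s0_v636 = s0_v637 :=
  rfl
theorem s0_f8402r : ed sl_cf s0_v637 = s0_v636 :=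
  edge_flip (s0_f8402 IH)
theorem s0_f8403 : ed sl_cf s0_v636 = s0_v637 :=
  gap_rel s0_rot0 (path_edge (s0_f8402r IH) (path_nil s0_v637))
theorem s0_f8405 : ed sl_dt s0_v637 = s0_v638 :=
  rfl
theorem s0_f8405r : ed sl_df s0_v638 = s0_v637 :=
  edge_flip (s0_f8405 IH)
theorem s0_f8406 : ed sl_df s0_v637 = s0_v638 :=
  gap_rel s0_rot4 (path_edge (s0_f8405r IH) (path_nil s0_v638))
theorem s0_f8408 : ed sl_it s0_v638 = s0_v639 :=
  rfl
theorem s0_f8411 : ed sl_ht s0_v639 = s0_v640 :=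
  rfl
theorem s0_f8411r : ed sl_hf s0_v640 = s0_v639 :=
  edge_flip (s0_f8411 IH)
theorem s0_f8412 : ed sl_hf s0_v639 = s0_v640 :=
  gap_rel s0_rot13 (path_edge (s0_f8411r IH) (path_nil s0_v640))
theorem s0_f8414 : ed sl_dt s0_v640 = s0_v641 :=
  rfl
theorem s0_f8414r : ed sl_df s0_v641 = s0_v640 :=
  edge_flip (s0_f8414 IH)
theorem s0_f8415 : ed sl_df s0_v640 = s0_v641 :=
  gap_rel s0_rot4 (path_edge (s0_f8414r IH) (path_nil s0_v641))
theorem s0_f8417 : ed sl_ft s0_v641 = s0_v642 :=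
  rfl
theorem s0_f8417r : ed sl_ff s0_v642 = s0_v641 :=
  edge_flip (s0_f8417 IH)
theorem s0_f8418 : ed sl_ff s0_v641 = s0_v642 :=
  gap_rel s0_rot22 (path_edge (s0_f8417r IH) (path_nil s0_v642))
theorem s0_f8420 : ed sl_et s0_v642 = s0_v643 :=
  rfl
theorem s0_f8420r : ed sl_ef s0_v643 = s0_v642 :=
  edge_flip (s0_f8420 IH)
theorem s0_f8421 : ed sl_ef s0_v642 = s0_v643 :=
  gap_rel s0_rot17 (path_edge (s0_f8420r IH) (path_nil s0_v643))
theorem s0_f8423 : ed sl_dt s0_v643 = s0_v644 :=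
  rfl
theorem s0_f8423r : ed sl_df s0_v644 = s0_v643 :=
  edge_flip (s0_f8423 IH)
theorem s0_f8424 : ed sl_df s0_v643 = s0_v644 :=
  gap_rel s0_rot4 (path_edge (s0_f8423r IH) (path_nil s0_v644))
theorem s0_f8408r : ed sl_if s0_v639 = s0_v638 :=
  edge_flip (s0_f8408 IH)
theorem s0_f8393r : ed sl_ef s0_v634 = s0_v633 :=
  edge_flip (s0_f8393 IH)
theorem s0_f8390r : ed sl_ff s0_v633 = s0_v632 :=
  edge_flip (s0_f8390 IH)
theorem s0_f8387r : ed sl_df s0_v632 = s0_v631 :=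
  edge_flip (s0_f8387 IH)
theorem s0_f8384r : ed sl_hf s0_v631 = s0_v630 :=
  edge_flip (s0_f8384 IH)
theorem s0_f8381r : ed sl_if s0_v630 = s0_v629 :=
  edge_flip (s0_f8381 IH)
theorem s0_f8378r : ed sl_df s0_v629 = s0_v628 :=
  edge_flip (s0_f8378 IH)
theorem s0_f8375r : ed sl_cf s0_v628 = s0_v627 :=
  edge_flip (s0_f8375 IH)
theorem s0_f8372r : ed sl_bf s0_v627 = s0_v626 :=
  edge_flip (s0_f8372 IH)
theorem s0_f8369r : ed sl_df s0_v626 = s0_v625 :=
  edge_flip (s0_f8369 IH)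
theorem s0_f8366r : ed sl_ef s0_v625 = s0_v624 :=
  edge_flip (s0_f8366 IH)
theorem s0_f8363r : ed sl_ff s0_v624 = s0_v623 :=
  edge_flip (s0_f8363 IH)
theorem s0_f8360r : ed sl_df s0_v623 = s0_v622 :=
  edge_flip (s0_f8360 IH)
theorem s0_f8357r : ed sl_hf s0_v622 = s0_v621 :=
  edge_flip (s0_f8357 IH)
theorem s0_f8354r : ed sl_if s0_v621 = s0_v620 :=
  edge_flip (s0_f8354 IH)
theorem s0_f8351r : ed sl_df s0_v620 = s0_v619 :=
  edge_flip (s0_f8351 IH)
theorem s0_f8348r : ed sl_cf s0_v619 = s0_v618 :=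
  edge_flip (s0_f8348 IH)
theorem s0_f8345r : ed sl_bf s0_v618 = s0_v617 :=
  edge_flip (s0_f8345 IH)
theorem s0_f8342r : ed sl_df s0_v617 = s0_v616 :=
  edge_flip (s0_f8342 IH)
theorem s0_f8339r : ed sl_ef s0_v616 = s0_v615 :=
  edge_flip (s0_f8339 IH)
theorem s0_f8336r : ed sl_ff s0_v615 = s0_v614 :=
  edge_flip (s0_f8336 IH)
theorem s0_f8333r : ed sl_df s0_v614 = s0_v613 :=
  edge_flip (s0_f8333 IH)
theorem s0_f8330r : ed sl_hf s0_v613 = s0_v612 :=
  edge_flip (s0_f8330 IH)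
theorem s0_f8327r : ed sl_if s0_v612 = s0_v611 :=
  edge_flip (s0_f8327 IH)
theorem s0_f8324r : ed sl_df s0_v611 = s0_v610 :=
  edge_flip (s0_f8324 IH)
theorem s0_f8321r : ed sl_cf s0_v610 = s0_v609 :=
  edge_flip (s0_f8321 IH)
theorem s0_f8318r : ed sl_bf s0_v609 = s0_v608 :=
  edge_flip (s0_f8318 IH)
theorem s0_f8315r : ed sl_df s0_v608 = s0_v607 :=
  edge_flip (s0_f8315 IH)
theorem s0_f8311r : ed sl_ef s0_v607 = s0_v606 :=
  edge_flip (s0_f8311 IH)
theorem s0_f8307r : ed sl_ff s0_v606 = s0_v605 :=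
  edge_flip (s0_f8307 IH)
theorem s0_f8303r : ed sl_df s0_v605 = s0_v604 :=
  edge_flip (s0_f8303 IH)
theorem s0_f8300r : ed sl_hf s0_v604 = s0_v603 :=
  edge_flip (s0_f8300 IH)
theorem s0_f5606r : ed sl_ff sq3286 = sq2472 :=
  edge_flip (s0_f5606 IH)
theorem s0_f1175r : ed sl_df sq2472 = sq1820 :=
  edge_flip (s0_f1175 IH)
theorem s0_f5608r : ed sl_hf sq1820 = sq1320 :=
  edge_flip (s0_f5608 IH)
theorem s0_f5609r : ed sl_if sq1320 = sq952 :=
  edge_flip (s0_f5609 IH)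
theorem s0_f1111r : ed sl_df sq952 = sq952 :=
  edge_flip (s0_f1111 IH)
theorem s0_f5610r : ed sl_cf sq952 = sq668 :=
  edge_flip (s0_f5610 IH)
theorem s0_f5611r : ed sl_bf sq668 = sq463 :=
  edge_flip (s0_f5611 IH)
theorem s0_f5612r : ed sl_ef sq315 = sq215 :=
  edge_flip (s0_f5612 IH)
theorem s0_f5613r : ed sl_ff sq215 = sq310 :=
  edge_flip (s0_f5613 IH)
theorem s0_f1123r : ed sl_df sq310 = sq310 :=
  edge_flip (s0_f1123 IH)
theorem s0_f5614r : ed sl_hf sq310 = sq219 :=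
  edge_flip (s0_f5614 IH)
theorem s0_f5615r : ed sl_if sq219 = sq219 :=
  edge_flip (s0_f5615 IH)
theorem s0_f4888r : ed sl_df sq219 = sq156 :=
  edge_flip (s0_f4888 IH)
theorem s0_f5616r : ed sl_cf sq156 = sq108 :=
  edge_flip (s0_f5616 IH)
theorem s0_f247r : ed sl_bf sq108 = sq78 :=
  edge_flip (s0_f247 IH)
theorem s0_f3222r : ed sl_df sq78 = sq54 :=
  edge_flip (s0_f3222 IH)
theorem s0_f5617r : ed sl_ef sq54 = sq54 :=
  edge_flip (s0_f5617 IH)
theorem s0_f5618r : ed sl_ff sq54 = sq38 :=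
  edge_flip (s0_f5618 IH)
theorem s0_f2574r : ed sl_df sq38 = sq55 :=
  edge_flip (s0_f2574 IH)
theorem s0_f5619r : ed sl_hf sq55 = sq55 :=
  edge_flip (s0_f5619 IH)
theorem s0_f5620r : ed sl_if sq55 = sq55 :=
  edge_flip (s0_f5620 IH)
theorem s0_f455r : ed sl_df sq55 = sq38 :=
  edge_flip (s0_f455 IH)
theorem s0_f2573r : ed sl_cf sq38 = sq38 :=
  edge_flip (s0_f2573 IH)
theorem s0_f5621r : ed sl_bf sq38 = sq51 :=
  edge_flip (s0_f5621 IH)
theorem s0_f3790r : ed sl_df sq51 = sq75 :=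
  edge_flip (s0_f3790 IH)
theorem s0_f4905r : ed sl_ef sq75 = sq75 :=
  edge_flip (s0_f4905 IH)
theorem s0_f4904r : ed sl_ff sq75 = sq108 :=
  edge_flip (s0_f4904 IH)
theorem s0_f1395r : ed sl_df sq108 = sq74 :=
  edge_flip (s0_f1395 IH)
theorem s0_f5622r : ed sl_hf sq74 = sq50 :=
  edge_flip (s0_f5622 IH)
theorem s0_f5623r : ed sl_if sq50 = sq33 :=
  edge_flip (s0_f5623 IH)
theorem s0_f421r : ed sl_cf sq33 = sq46 :=
  edge_flip (s0_f421 IH)
theorem s0_f4102r : ed sl_bf sq46 = sq46 :=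
  edge_flip (s0_f4102 IH)
theorem s0_f419r : ed sl_ef sq65 = sq95 :=
  edge_flip (s0_f419 IH)
theorem s0_f418r : ed sl_ff sq95 = sq95 :=
  edge_flip (s0_f418 IH)
theorem s0_f5624r : ed sl_df sq95 = sq95 :=
  edge_flip (s0_f5624 IH)
theorem s0_f417r : ed sl_hf sq95 = sq139 :=
  edge_flip (s0_f417 IH)
theorem s0_f5625r : ed sl_if sq139 = sq206 :=
  edge_flip (s0_f5625 IH)
theorem s0_f2034r : ed sl_cf sq302 = sq443 :=
  edge_flip (s0_f2034 IH)
theorem s0_f8426 : ed sl_bf sq443 = s0_v644 :=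
  gap_rel s0_rot24 (path_edge (s0_f2034r IH) (path_edge (s0_f3016r IH) (path_edge (s0_f5625r IH) (path_edge (s0_f417r IH) (path_edge (s0_f5624r IH) (path_edge (s0_f418r IH) (path_edge (s0_f419r IH) (path_edge (s0_f420r IH) (path_edge (s0_f4102r IH) (path_edge (s0_f421r IH) (path_edge (s0_f1022r IH) (path_edge (s0_f5623r IH) (path_edge (s0_f5622r IH) (path_edge (s0_f1395r IH) (path_edge (s0_f4904r IH) (path_edge (s0_f4905r IH) (path_edge (s0_f3790r IH) (path_edge (s0_f5621r IH) (path_edge (s0_f2573r IH) (path_edge (s0_f455r IH) (path_edge (s0_f5620r IH) (path_edge (s0_f5619r IH) (path_edge (s0_f2574r IH) (path_edge (s0_f5618r IH) (path_edge (s0_f5617r IH) (path_edge (s0_f3222r IH) (path_edge (s0_f247r IH) (path_edge (s0_f5616r IH) (path_edge (s0_f4888r IH) (path_edge (s0_f5615r IH) (path_edge (s0_f5614r IH) (path_edge (s0_f1123r IH) (path_edge (s0_f5613r IH) (path_edge (s0_f5612r IH) (path_edge (s0_f1018r IH) (path_edge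 (s0_f5611r IH) (path_edge (s0_f5610r IH) (path_edge (s0_f1111r IH) (path_edge (s0_f5609r IH) (path_edge (s0_f5608r IH) (path_edge (s0_f1175r IH) (path_edge (s0_f5606r IH) (path_edge (s0_f5589r IH) (path_edge (s0_f8288r IH) (path_edge (s0_f8294 IH) (path_edge (s0_f8295r IH) (path_edge (s0_f8297 IH) (path_edge (s0_f8299 IH) (path_edge (s0_f8300r IH) (path_edge (s0_f8303r IH) (path_edge (s0_f8307r IH) (path_edge (s0_f8311r IH) (path_edge (s0_f8315r IH) (path_edge (s0_f8318r IH) (path_edge (s0_f8321r IH) (path_edge (s0_f8324r IH) (path_edge (s0_f8327r IH) (path_edge (s0_f8330r IH) (path_edge (s0_f8333r IH) (path_edge (s0_f8336r IH) (path_edge (s0_f8339r IH) (path_edge (s0_f8342r IH) (path_edge (s0_f8345r IH) (path_edge (s0_f8348r IH) (path_edge (s0_f8351r IH) (path_edge (s0_f8354r IH) (path_edge (s0_f8357r IH) (path_edge (s0_f8360r IH) (path_edge (s0_f8363r IH) (path_edge (s0_f8366r IH) (path_edge (s0_f8369r IH) (path_edge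 (s0_f8372r IH) (path_edge (s0_f8375r IH) (path_edge (s0_f8378r IH) (path_edge (s0_f8381r IH) (path_edge (s0_f8384r IH) (path_edge (s0_f8387r IH) (path_edge (s0_f8390r IH) (path_edge (s0_f8393r IH) (path_edge (s0_f8396r IH) (path_edge (s0_f8399r IH) (path_edge (s0_f8402r IH) (path_edge (s0_f8405r IH) (path_edge (s0_f8408r IH) (path_edge (s0_f8411r IH) (path_edge (s0_f8414r IH) (path_edge (s0_f8417r IH) (path_edge (s0_f8420r IH) (path_edge (s0_f8423r IH) (path_nil s0_v644))))))))))))))))))))))))))))))))))))))))))))))))))))))))))))))))))))))))))))))))))))))))))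
theorem s0_f8426r : ed sl_bt s0_v644 = sq443 :=
  edge_flip (s0_f8426 IH)
theorem s0_f8427 : ed sl_bt sq443 = s0_v644 :=
  gap_rel s0_rot25 (path_edge (s0_f8426r IH) (path_nil s0_v644))
theorem s0_f8428 : ed sl_ct s0_v644 = s0_v644 :=
  gap_rel s0_rot26 (path_edge (s0_f8427 IH) (path_edge (s0_f1993 IH) (path_edge (s0_f2060 IH) (path_edge (s0_f2034 IH) (path_edge (s0_f8426r IH) (path_nil s0_v644))))))
theorem s0_f8429 : ed sl_et s0_v644 = s0_v644 :=
  gap_rel s0_rot49 (path_edge (s0_f8427 IH) (path_edge (s0_f1997 IH) (path_edge (s0_f8426r IH) (path_nil s0_v644))))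
theorem s0_f8430 : ed sl_ft s0_v644 = s0_v644 :=
  gap_rel s0_rot27 (path_edge (s0_f8427 IH) (path_edge (s0_f2002 IH) (path_edge (s0_f8426r IH) (path_nil s0_v644))))
theorem s0_f8431 : ed sl_bt sq301 = sq442 :=
  real_edge rels S fwd inv o lvl plet idx 47 IH Gen.b sp301 sp442 rfl rfl
theorem s0_f8432 : ed sl_it sq442 = s0_v644 :=
  gap_rel s0_rot28 (path_edge (s0_f8431 IH) (path_edge (s0_f2000 IH) (path_edge (s0_f8426r IH) (path_nil s0_v644))))
theorem s0_f8424r : ed sl_dt s0_v644 = s0_v643 :=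
  edge_flip (s0_f8424 IH)
theorem s0_f8433 : s0_v643 = s0_v644 :=
  (loop_rel s0_rot29 (path_edge (s0_f8424r IH) (path_edge (s0_f8427 IH) (path_edge (s0_f1996 IH) (path_edge (s0_f8426r IH) (path_nil s0_v644)))))).symm
theorem s0_f8421r : ed sl_et s0_v643 = s0_v642 :=
  edge_flip (s0_f8421 IH)
theorem s0_f8434 : s0_v644 = s0_v642 :=
  edge_fun (edge_congr (s0_f8429 IH) (s0_f8433 IH).symm) (s0_f8421r IH)
theorem s0_f8418r : ed sl_ft s0_v642 = s0_v641 :=
  edge_flip (s0_f8418 IH)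
theorem s0_f8435 : s0_v644 = s0_v641 :=
  edge_fun (edge_congr (s0_f8430 IH) (s0_f8434 IH)) (s0_f8418r IH)
theorem s0_f8415r : ed sl_dt s0_v641 = s0_v640 :=
  edge_flip (s0_f8415 IH)
theorem s0_f8436 : s0_v644 = s0_v640 :=
  edge_fun (edge_congr (s0_f8423 IH) ((s0_f8433 IH).trans (s0_f8435 IH))) (s0_f8415r IH)
theorem s0_f8437 : ed sl_at sq442 = sq442 :=
  real_edge rels S fwd inv o lvl plet idx 47 IH Gen.a sp442 sp442 rfl rfl
theorem s0_f8438 : ed sl_ct sq442 = sq442 :=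
  real_edge rels S fwd inv o lvl plet idx 47 IH Gen.c sp442 sp442 rfl rfl
theorem s0_f8428r : ed sl_cf s0_v644 = s0_v644 :=
  edge_flip (s0_f8428 IH)
theorem s0_f8432r : ed sl_if s0_v644 = sq442 :=
  edge_flip (s0_f8432 IH)
theorem s0_f8438r : ed sl_cf sq442 = sq442 :=
  edge_flip (s0_f8438 IH)
theorem s0_f8439 : ed sl_if sq442 = s0_v644 :=
  gap_rel s0_rot40 (path_edge (s0_f8438r IH) (path_edge (s0_f8432r IH) (path_eq (s0_f8436 IH).symm (path_eq (s0_f8436 IH) (path_edge (s0_f8428r IH) (path_nil s0_v644))))))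
theorem s0_f8442 : ed sl_ht sq442 = sq442 :=
  real_edge rels S fwd inv o lvl plet idx 47 IH Gen.h sp442 sp442 rfl rfl
theorem s0_f8446 : ed sl_dt sq206 = sq302 :=
  real_edge rels S fwd inv o lvl plet idx 47 IH Gen.d sp206 sp302 rfl rfl
theorem s0_f8447 : ed sl_et sq144 = sq206 :=
  real_edge rels S fwd inv o lvl plet idx 47 IH Gen.e sp144 sp206 rfl rfl
theorem s0_f8448 : ed sl_ft sq99 = sq144 :=
  real_edge rels S fwd inv o lvl plet idx 47 IH Gen.f sp99 sp144 rfl rfl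
theorem s0_f8449 : ed sl_dt sq99 = sq99 :=
  real_edge rels S fwd inv o lvl plet idx 47 IH Gen.d sp99 sp99 rfl rfl
theorem s0_f8450 : ed sl_ht sq146 = sq99 :=
  real_edge rels S fwd inv o lvl plet idx 47 IH Gen.h sp146 sp99 rfl rfl
theorem s0_f8442r : ed sl_hf sq442 = sq442 :=
  edge_flip (s0_f8442 IH)
theorem s0_f8457 : s0_v638 = s0_v639 :=
  (loop_rel s0_rot31 (path_edge (s0_f8408r IH) (path_edge (s0_f8411r IH) (path_eq (s0_f8436 IH) (path_edge (s0_f8439 IH) (path_edge (s0_f8442r IH) (path_edge (s0_f8432r IH) (path_eq (s0_f8436 IH).symm (path_edge (s0_f8412 IH) (path_nil s0_v639)))))))))).symm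
theorem s0_f8427r : ed sl_bf s0_v644 = sq443 :=
  edge_flip (s0_f8427 IH)
theorem s0_f8466 : ed sl_bf s0_v119 = s0_v638 :=
  gap_rel s0_rot73 (path_edge (s0_f1998 IH) (path_edge (s0_f8427r IH) (path_eq (s0_f8436 IH).symm (path_edge (s0_f8412 IH) (path_eq (s0_f8457 IH) (path_nil s0_v638))))))
theorem s0_f8469 : ed sl_ef s0_v639 = s0_v638 :=
  gap_rel s0_rot94 (path_edge (s0_f8411r IH) (path_eq (s0_f8436 IH) (path_eq (s0_f8433 IH) (path_edge (s0_f8421 IH) (path_eq (s0_f8434 IH) (path_eq (s0_f8436 IH).symm (path_edge (s0_f8412 IH) (path_eq (s0_f8457 IH) (path_nil s0_v638)))))))))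
theorem s0_f8470 : ed sl_ff s0_v639 = s0_v638 :=
  gap_rel s0_rot14 (path_edge (s0_f8411r IH) (path_eq (s0_f8436 IH) (path_eq (s0_f8434 IH).symm (path_edge (s0_f8418 IH) (path_eq (s0_f8435 IH) (path_eq (s0_f8436 IH).symm (path_edge (s0_f8412 IH) (path_eq (s0_f8457 IH) (path_nil s0_v638)))))))))
theorem s0_f8470r : ed sl_ft s0_v638 = s0_v639 :=
  edge_flip (s0_f8470 IH)
theorem s0_f8466r : ed sl_bt s0_v638 = s0_v119 :=
  edge_flip (s0_f8466 IH)
theorem s0_f2003r : ed sl_ft s0_v119 = s0_v119 :=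
  edge_flip (s0_f2003 IH)
theorem s0_f8471 : ed sl_bt s0_v119 = s0_v638 :=
  gap_rel s0_rot62 (path_edge (s0_f2003r IH) (path_edge (s0_f8466r IH) (path_eq (s0_f8457 IH).symm (path_edge (s0_f8470r IH) (path_nil s0_v638)))))
theorem s0_f8406r : ed sl_dt s0_v638 = s0_v637 :=
  edge_flip (s0_f8406 IH)
theorem s0_f8472 : ed sl_ft s0_v637 = s0_v637 :=
  gap_rel s0_rot55 (path_edge (s0_f8406r IH) (path_eq (s0_f8457 IH).symm (path_edge (s0_f8470r IH) (path_edge (s0_f8405 IH) (path_nil s0_v637)))))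
theorem s0_f8472r : ed sl_ff s0_v637 = s0_v637 :=
  edge_flip (s0_f8472 IH)
theorem s0_f8473 : ed sl_ff s0_v636 = s0_v636 :=
  gap_rel s0_rot1 (path_edge (s0_f8402r IH) (path_edge (s0_f8472r IH) (path_edge (s0_f8403 IH) (path_nil s0_v636))))
theorem s0_f8473r : ed sl_ft s0_v636 = s0_v636 :=
  edge_flip (s0_f8473 IH)
theorem s0_f8400r : ed sl_bt s0_v636 = s0_v635 :=
  edge_flip (s0_f8400 IH)
theorem s0_f8474 : ed sl_ft s0_v635 = s0_v635 :=
  gap_rel s0_rot27 (path_edge (s0_f8400r IH) (path_edge (s0_f8473r IH) (path_edge (s0_f8399 IH) (path_nil s0_v635))))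
theorem s0_f8474r : ed sl_ff s0_v635 = s0_v635 :=
  edge_flip (s0_f8474 IH)
theorem s0_f8475 : ed sl_ff s0_v634 = s0_v634 :=
  gap_rel s0_rot5 (path_edge (s0_f8396r IH) (path_edge (s0_f8474r IH) (path_edge (s0_f8397 IH) (path_nil s0_v634))))
theorem s0_f8471r : ed sl_bf s0_v638 = s0_v119 :=
  edge_flip (s0_f8471 IH)
theorem s0_f8477 : ed sl_bf s0_v120 = s0_v637 :=
  gap_rel s0_rot75 (path_edge (s0_f2115 IH) (path_edge (s0_f8471r IH) (path_edge (s0_f8406 IH) (path_nil s0_v637))))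
theorem s0_f8477r : ed sl_bt s0_v637 = s0_v120 :=
  edge_flip (s0_f8477 IH)
theorem s0_f5831r : ed sl_bt s0_v419 = s0_v224 :=
  edge_flip (s0_f5831 IH)
theorem s0_f8479 : ed sl_ct s0_v224 = s0_v635 :=
  gap_rel s0_rot26 (path_edge (s0_f5831r IH) (path_edge (s0_f5839 IH) (path_edge (s0_f8477r IH) (path_edge (s0_f8402 IH) (path_edge (s0_f8399 IH) (path_nil s0_v635))))))
theorem s0_f8480 : ed sl_et s0_v122 = s0_v637 :=
  gap_rel s0_rot49 (path_edge (s0_f2126 IH) (path_edge (s0_f2120 IH) (path_edge (s0_f8477r IH) (path_nil s0_v637))))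
theorem s0_f8480r : ed sl_ef s0_v637 = s0_v122 :=
  edge_flip (s0_f8480 IH)
theorem s0_f8481 : ed sl_ef s0_v123 = s0_v636 :=
  gap_rel s0_rot8 (path_edge (s0_f2133 IH) (path_edge (s0_f8480r IH) (path_edge (s0_f8403 IH) (path_nil s0_v636))))
theorem s0_f8482 : ed sl_ef s0_v122 = s0_v637 :=
  gap_rel s0_rot95 (path_edge (s0_f2128 IH) (path_edge (s0_f8480r IH) (path_edge (s0_f8405r IH) (path_edge (s0_f8469 IH) (path_eq (s0_f8457 IH) (path_edge (s0_f8406 IH) (path_nil s0_v637)))))))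
theorem s0_f8482r : ed sl_et s0_v637 = s0_v122 :=
  edge_flip (s0_f8482 IH)
theorem s0_f8483 : ed sl_et s0_v123 = s0_v636 :=
  gap_rel s0_rot96 (path_edge (s0_f2132 IH) (path_edge (s0_f8482r IH) (path_edge (s0_f8402 IH) (path_nil s0_v636))))
theorem s0_f8483r : ed sl_ef s0_v636 = s0_v123 :=
  edge_flip (s0_f8483 IH)
theorem s0_f8484 : ed sl_hf s0_v636 = s0_v636 :=
  gap_rel s0_rot34 (path_edge (s0_f8481 IH) (path_edge (s0_f2134 IH) (path_edge (s0_f8483r IH) (path_nil s0_v636))))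
theorem s0_f8484r : ed sl_ht s0_v636 = s0_v636 :=
  edge_flip (s0_f8484 IH)
theorem s0_f8485 : ed sl_ht s0_v635 = s0_v635 :=
  gap_rel s0_rot56 (path_edge (s0_f8400r IH) (path_edge (s0_f8484r IH) (path_edge (s0_f8399 IH) (path_nil s0_v635))))
theorem s0_f8485r : ed sl_hf s0_v635 = s0_v635 :=
  edge_flip (s0_f8485 IH)
theorem s0_f8479r : ed sl_cf s0_v635 = s0_v224 :=
  edge_flip (s0_f8479 IH)
theorem s0_f3198r : ed sl_hf s0_v224 = s0_v224 :=
  edge_flip (s0_f3198 IH)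
theorem s0_f8486 : ed sl_cf s0_v224 = s0_v635 :=
  gap_rel s0_rot30 (path_edge (s0_f3198r IH) (path_edge (s0_f8479r IH) (path_edge (s0_f8485r IH) (path_nil s0_v635))))
theorem s0_f8486r : ed sl_ct s0_v635 = s0_v224 :=
  edge_flip (s0_f8486 IH)
theorem s0_f8397r : ed sl_dt s0_v635 = s0_v634 :=
  edge_flip (s0_f8397 IH)
theorem s0_f8487 : s0_v634 = s0_v635 :=
  (loop_rel s0_rot97 (path_edge (s0_f8397r IH) (path_edge (s0_f8479 IH) (path_edge (s0_f3163r IH) (path_edge (s0_f3197 IH) (path_edge (s0_f3162 IH) (path_edge (s0_f8486r IH) (path_nil s0_v635)))))))).symm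
theorem s0_f8439r : ed sl_it s0_v644 = sq442 :=
  edge_flip (s0_f8439 IH)
theorem s0_f8511 : ed sl_at s0_v644 = s0_v640 :=
  gap_rel s0_rot98 (path_edge (s0_f8432 IH) (path_edge (s0_f8437 IH) (path_edge (s0_f8439r IH) (path_eq (s0_f8436 IH).symm (path_nil s0_v640)))))
theorem s0_f8522 : ed sl_at sq188 = sq146 :=
  real_edge rels S fwd inv o lvl plet idx 47 IH Gen.a sp188 sp146 rfl rfl
theorem s0_f8523 : ed sl_bt sq254 = sq188 :=
  real_edge rels S fwd inv o lvl plet idx 47 IH Gen.b sp254 sp188 rfl rfl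
theorem s0_f8524 : ed sl_ct sq358 = sq254 :=
  real_edge rels S fwd inv o lvl plet idx 47 IH Gen.c sp358 sp254 rfl rfl
theorem s0_f8525 : ed sl_dt sq519 = sq358 :=
  real_edge rels S fwd inv o lvl plet idx 47 IH Gen.d sp519 sp358 rfl rfl
theorem s0_f8526 : ed sl_et sq739 = sq519 :=
  real_edge rels S fwd inv o lvl plet idx 47 IH Gen.e sp739 sp519 rfl rfl
theorem s0_f8527 : ed sl_ft sq1036 = sq739 :=
  real_edge rels S fwd inv o lvl plet idx 47 IH Gen.f sp1036 sp739 rfl rfl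
theorem s0_f8528 : ed sl_ht sq1427 = sq1036 :=
  real_edge rels S fwd inv o lvl plet idx 47 IH Gen.h sp1427 sp1036 rfl rfl
theorem s0_f8529 : ed sl_at sq1427 = sq1427 :=
  real_edge rels S fwd inv o lvl plet idx 47 IH Gen.a sp1427 sp1427 rfl rfl
theorem s0_f8530 : ed sl_bt sq1427 = sq1427 :=
  real_edge rels S fwd inv o lvl plet idx 47 IH Gen.b sp1427 sp1427 rfl rfl
theorem s0_f8531 : ed sl_ct sq1949 = sq1427 :=
  real_edge rels S fwd inv o lvl plet idx 47 IH Gen.c sp1949 sp1427 rfl rfl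
theorem s0_f8532 : ed sl_dt sq2632 = sq1949 :=
  real_edge rels S fwd inv o lvl plet idx 47 IH Gen.d sp2632 sp1949 rfl rfl
theorem s0_f8533 : ed sl_et sq3478 = sq2632 :=
  real_edge rels S fwd inv o lvl plet idx 47 IH Gen.e sp3478 sp2632 rfl rfl
theorem s0_f8534 : ed sl_ft sq3478 = sq3478 :=
  real_edge rels S fwd inv o lvl plet idx 47 IH Gen.f sp3478 sp3478 rfl rfl
theorem s0_f8535 : ed sl_ht sq4470 = sq3478 :=
  real_edge rels S fwd inv o lvl plet idx 47 IH Gen.h sp4470 sp3478 rfl rfl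
theorem s0_f8536 : ed sl_at sq4470 = sq4470 :=
  real_edge rels S fwd inv o lvl plet idx 47 IH Gen.a sp4470 sp4470 rfl rfl
theorem s0_f8546 : ed sl_ct sq60 = sq43 :=
  real_edge rels S fwd inv o lvl plet idx 47 IH Gen.c sp60 sp43 rfl rfl
theorem s0_f8570 : ed sl_ht sq187 = sq126 :=
  real_edge rels S fwd inv o lvl plet idx 47 IH Gen.h sp187 sp126 rfl rfl
theorem s0_f8678 : ed sl_ht sq60 = sq89 :=
  real_edge rels S fwd inv o lvl plet idx 47 IH Gen.h sp60 sp89 rfl rfl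
theorem s0_f8681 : ed sl_dt sq131 = sq192 :=
  real_edge rels S fwd inv o lvl plet idx 47 IH Gen.d sp131 sp192 rfl rfl
theorem s0_f8682 : ed sl_ct sq192 = sq281 :=
  real_edge rels S fwd inv o lvl plet idx 47 IH Gen.c sp192 sp281 rfl rfl
theorem s0_f8697 : ed sl_dt sq90 = sq61 :=
  real_edge rels S fwd inv o lvl plet idx 47 IH Gen.d sp90 sp61 rfl rfl
theorem s0_f8698 : ed sl_et sq133 = sq90 :=
  real_edge rels S fwd inv o lvl plet idx 47 IH Gen.e sp133 sp90 rfl rfl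
theorem s0_f8699 : ed sl_ft sq195 = sq133 :=
  real_edge rels S fwd inv o lvl plet idx 47 IH Gen.f sp195 sp133 rfl rfl
theorem s0_f8700 : ed sl_ht sq195 = sq195 :=
  real_edge rels S fwd inv o lvl plet idx 47 IH Gen.h sp195 sp195 rfl rfl
theorem s0_f8815 : ed sl_dt sq189 = sq128 :=
  real_edge rels S fwd inv o lvl plet idx 47 IH Gen.d sp189 sp128 rfl rfl
theorem s0_f8907 : ed sl_bt sq2338 = sq3148 :=
  real_edge rels S fwd inv o lvl plet idx 47 IH Gen.b sp2338 sp3148 rfl rfl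
theorem s0_f9301 : ed sl_dt sq62 = sq62 :=
  real_edge rels S fwd inv o lvl plet idx 47 IH Gen.d sp62 sp62 rfl rfl
theorem s0_f9360 : ed sl_ft sq121 = sq176 :=
  real_edge rels S fwd inv o lvl plet idx 47 IH Gen.f sp121 sp176 rfl rfl
theorem s0_f9361 : ed sl_et sq176 = sq176 :=
  real_edge rels S fwd inv o lvl plet idx 47 IH Gen.e sp176 sp176 rfl rfl
theorem s0_f9362 : ed sl_dt sq176 = sq258 :=
  real_edge rels S fwd inv o lvl plet idx 47 IH Gen.d sp176 sp258 rfl rfl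
theorem s0_f9370 : ed sl_ct sq1504 = sq2063 :=
  real_edge rels S fwd inv o lvl plet idx 47 IH Gen.c sp1504 sp2063 rfl rfl
theorem s0_f9381 : ed sl_dt sq3343 = sq2540 :=
  real_edge rels S fwd inv o lvl plet idx 47 IH Gen.d sp3343 sp2540 rfl rfl
theorem s0_f9402 : ed sl_jt sq2063 = sq2063 :=
  real_edge rels S fwd inv o lvl plet idx 47 IH Gen.j sp2063 sp2063 rfl rfl
theorem s0_f9443 : ed sl_dt sq282 = sq282 :=
  real_edge rels S fwd inv o lvl plet idx 47 IH Gen.d sp282 sp282 rfl rfl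
theorem s0_f9444 : ed sl_et sq192 = sq282 :=
  real_edge rels S fwd inv o lvl plet idx 47 IH Gen.e sp192 sp282 rfl rfl
theorem s0_f9445 : ed sl_ft sq132 = sq192 :=
  real_edge rels S fwd inv o lvl plet idx 47 IH Gen.f sp132 sp192 rfl rfl
theorem s0_f9452 : ed sl_bt sq607 = sq418 :=
  real_edge rels S fwd inv o lvl plet idx 47 IH Gen.b sp607 sp418 rfl rfl
theorem s0_f9545 : ed sl_ct sq8043 = sq9756 :=
  real_edge rels S fwd inv o lvl plet idx 47 IH Gen.c sp8043 sp9756 rfl rfl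
theorem s0_f9621 : ed sl_dt sq396 = sq575 :=
  real_edge rels S fwd inv o lvl plet idx 47 IH Gen.d sp396 sp575 rfl rfl
theorem s0_f9622 : ed sl_et sq274 = sq396 :=
  real_edge rels S fwd inv o lvl plet idx 47 IH Gen.e sp274 sp396 rfl rfl
theorem s0_f9623 : ed sl_ft sq188 = sq274 :=
  real_edge rels S fwd inv o lvl plet idx 47 IH Gen.f sp188 sp274 rfl rfl
theorem s0_f9627 : ed sl_dt sq255 = sq173 :=
  real_edge rels S fwd inv o lvl plet idx 47 IH Gen.d sp255 sp173 rfl rfl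
theorem s0_f9683 : ed sl_dt sq4764 = sq6041 :=
  real_edge rels S fwd inv o lvl plet idx 47 IH Gen.d sp4764 sp6041 rfl rfl
theorem s0_f9684 : ed sl_ht sq5998 = sq4764 :=
  real_edge rels S fwd inv o lvl plet idx 47 IH Gen.h sp5998 sp4764 rfl rfl
theorem s0_f9748 : ed sl_bt sq64 = sq64 :=
  real_edge rels S fwd inv o lvl plet idx 47 IH Gen.b sp64 sp64 rfl rfl
theorem s0_f10009 : ed sl_ht sq144 = sq212 :=
  real_edge rels S fwd inv o lvl plet idx 47 IH Gen.h sp144 sp212 rfl rfl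
theorem s0_f10042 : ed sl_ht sq63 = sq93 :=
  real_edge rels S fwd inv o lvl plet idx 47 IH Gen.h sp63 sp93 rfl rfl
theorem s0_f10044 : ed sl_bt sq61 = sq83 :=
  real_edge rels S fwd inv o lvl plet idx 47 IH Gen.b sp61 sp83 rfl rfl
theorem s0_f10051 : ed sl_bt sq167 = sq167 :=
  real_edge rels S fwd inv o lvl plet idx 47 IH Gen.b sp167 sp167 rfl rfl
theorem s0_f10144 : ed sl_ft sq3344 = sq4272 :=
  real_edge rels S fwd inv o lvl plet idx 47 IH Gen.f sp3344 sp4272 rfl rfl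
theorem s0_f10145 : ed sl_et sq4272 = sq5343 :=
  real_edge rels S fwd inv o lvl plet idx 47 IH Gen.e sp4272 sp5343 rfl rfl
theorem s0_f10146 : ed sl_dt sq5343 = sq6619 :=
  real_edge rels S fwd inv o lvl plet idx 47 IH Gen.d sp5343 sp6619 rfl rfl
theorem s0_f10257 : ed sl_ct sq2790 = sq3699 :=
  real_edge rels S fwd inv o lvl plet idx 47 IH Gen.c sp2790 sp3699 rfl rfl
theorem s0_f10310 : ed sl_it sq3699 = sq2804 :=
  real_edge rels S fwd inv o lvl plet idx 47 IH Gen.i sp3699 sp2804 rfl rfl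
theorem s0_f10319 : ed sl_it sq39 = sq57 :=
  real_edge rels S fwd inv o lvl plet idx 47 IH Gen.i sp39 sp57 rfl rfl
theorem s0_f10322 : ed sl_it sq82 = sq56 :=
  real_edge rels S fwd inv o lvl plet idx 47 IH Gen.i sp82 sp56 rfl rfl
theorem s0_f10326 : ed sl_ft sq122 = sq122 :=
  real_edge rels S fwd inv o lvl plet idx 47 IH Gen.f sp122 sp122 rfl rfl
theorem s0_f10327 : ed sl_et sq122 = sq179 :=
  real_edge rels S fwd inv o lvl plet idx 47 IH Gen.e sp122 sp179 rfl rfl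
theorem s0_f10328 : ed sl_dt sq179 = sq260 :=
  real_edge rels S fwd inv o lvl plet idx 47 IH Gen.d sp179 sp260 rfl rfl
theorem s0_f10329 : ed sl_bt sq260 = sq194 :=
  real_edge rels S fwd inv o lvl plet idx 47 IH Gen.b sp260 sp194 rfl rfl
theorem s0_f10330 : ed sl_ct sq194 = sq284 :=
  real_edge rels S fwd inv o lvl plet idx 47 IH Gen.c sp194 sp284 rfl rfl
theorem s0_f10331 : ed sl_dt sq284 = sq284 :=
  real_edge rels S fwd inv o lvl plet idx 47 IH Gen.d sp284 sp284 rfl rfl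
theorem s0_f10332 : ed sl_it sq284 = sq284 :=
  real_edge rels S fwd inv o lvl plet idx 47 IH Gen.i sp284 sp284 rfl rfl
theorem s0_f10333 : ed sl_dt sq408 = sq593 :=
  real_edge rels S fwd inv o lvl plet idx 47 IH Gen.d sp408 sp593 rfl rfl
theorem s0_f10334 : ed sl_bt sq1639 = sq2251 :=
  real_edge rels S fwd inv o lvl plet idx 47 IH Gen.b sp1639 sp2251 rfl rfl
theorem s0_f10335 : ed sl_ct sq2251 = sq3046 :=
  real_edge rels S fwd inv o lvl plet idx 47 IH Gen.c sp2251 sp3046 rfl rfl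
theorem s0_f10336 : ed sl_dt sq3046 = sq4024 :=
  real_edge rels S fwd inv o lvl plet idx 47 IH Gen.d sp3046 sp4024 rfl rfl
theorem s0_f10337 : ed sl_it sq4024 = sq5133 :=
  real_edge rels S fwd inv o lvl plet idx 47 IH Gen.i sp4024 sp5133 rfl rfl
theorem s0_f10338 : ed sl_ht sq5133 = sq6414 :=
  real_edge rels S fwd inv o lvl plet idx 47 IH Gen.h sp5133 sp6414 rfl rfl
theorem s0_f10339 : ed sl_dt sq6414 = sq7911 :=
  real_edge rels S fwd inv o lvl plet idx 47 IH Gen.d sp6414 sp7911 rfl rfl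
theorem s0_f10340 : ed sl_ft sq7911 = sq7911 :=
  real_edge rels S fwd inv o lvl plet idx 47 IH Gen.f sp7911 sp7911 rfl rfl
theorem s0_f10341 : ed sl_it sq186 = sq125 :=
  real_edge rels S fwd inv o lvl plet idx 47 IH Gen.i sp186 sp125 rfl rfl
theorem s0_f10342 : ed sl_ct sq186 = sq186 :=
  real_edge rels S fwd inv o lvl plet idx 47 IH Gen.c sp186 sp186 rfl rfl
theorem s0_f10343 : ed sl_bt sq252 = sq186 :=
  real_edge rels S fwd inv o lvl plet idx 47 IH Gen.b sp252 sp186 rfl rfl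
theorem s0_f10344 : ed sl_et sq365 = sq252 :=
  real_edge rels S fwd inv o lvl plet idx 47 IH Gen.e sp365 sp252 rfl rfl
theorem s0_f10345 : ed sl_ft sq365 = sq365 :=
  real_edge rels S fwd inv o lvl plet idx 47 IH Gen.f sp365 sp365 rfl rfl
theorem s0_f10346 : ed sl_dt sq530 = sq365 :=
  real_edge rels S fwd inv o lvl plet idx 47 IH Gen.d sp530 sp365 rfl rfl
theorem s0_f10347 : ed sl_ht sq755 = sq530 :=
  real_edge rels S fwd inv o lvl plet idx 47 IH Gen.h sp755 sp530 rfl rfl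
theorem s0_f10348 : ed sl_it sq755 = sq755 :=
  real_edge rels S fwd inv o lvl plet idx 47 IH Gen.i sp755 sp755 rfl rfl
theorem s0_f10349 : ed sl_dt sq1058 = sq755 :=
  real_edge rels S fwd inv o lvl plet idx 47 IH Gen.d sp1058 sp755 rfl rfl
theorem s0_f10350 : ed sl_ct sq1462 = sq1058 :=
  real_edge rels S fwd inv o lvl plet idx 47 IH Gen.c sp1462 sp1058 rfl rfl
theorem s0_f10351 : ed sl_et sq7911 = s0_v767 :=
  rfl
theorem s0_f10353 : ed sl_et sq7484 = sq6414 :=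
  real_edge rels S fwd inv o lvl plet idx 47 IH Gen.e sp7484 sp6414 rfl rfl
theorem s0_f10354 : ed sl_dt sq9173 = sq7484 :=
  real_edge rels S fwd inv o lvl plet idx 47 IH Gen.d sp9173 sp7484 rfl rfl
theorem s0_f10355 : ed sl_et sq11139 = sq9173 :=
  real_edge rels S fwd inv o lvl plet idx 47 IH Gen.e sp11139 sp9173 rfl rfl
theorem s0_f10351r : ed sl_ef s0_v767 = sq7911 :=
  edge_flip (s0_f10351 IH)
theorem s0_f10339r : ed sl_df sq7911 = sq6414 :=
  edge_flip (s0_f10339 IH)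
theorem s0_f10353r : ed sl_ef sq6414 = sq7484 :=
  edge_flip (s0_f10353 IH)
theorem s0_f10354r : ed sl_df sq7484 = sq9173 :=
  edge_flip (s0_f10354 IH)
theorem s0_f10355r : ed sl_ef sq9173 = sq11139 :=
  edge_flip (s0_f10355 IH)
theorem s0_f10356 : ed sl_df sq11139 = s0_v767 :=
  gap_rel s0_rot57 (path_edge (s0_f10355r IH) (path_edge (s0_f10354r IH) (path_edge (s0_f10353r IH) (path_edge (s0_f10339r IH) (path_edge (s0_f10351r IH) (path_nil s0_v767))))))
theorem s0_f10389 : ed sl_dt sq1072 = sq1415 :=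
  real_edge rels S fwd inv o lvl plet idx 47 IH Gen.d sp1072 sp1415 rfl rfl
theorem s0_f10399 : ed sl_dt sq3688 = sq2862 :=
  real_edge rels S fwd inv o lvl plet idx 47 IH Gen.d sp3688 sp2862 rfl rfl
theorem s0_f10424 : ed sl_bt sq11139 = s0_v768 :=
  rfl
theorem s0_f10470 : ed sl_ct s0_v768 = s0_v769 :=
  rfl
theorem s0_f10475 : ed sl_dt s0_v769 = s0_v770 :=
  rfl
theorem s0_f10478 : ed sl_it s0_v770 = s0_v771 :=
  rfl
theorem s0_f10481 : ed sl_ht s0_v771 = s0_v772 :=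
  rfl
theorem s0_f10484 : ed sl_dt s0_v772 = s0_v773 :=
  rfl
theorem s0_f10487 : ed sl_ft s0_v773 = s0_v774 :=
  rfl
theorem s0_f10490 : ed sl_et s0_v774 = s0_v775 :=
  rfl
theorem s0_f10493 : ed sl_dt s0_v775 = s0_v776 :=
  rfl
theorem s0_f10496 : ed sl_bt s0_v776 = s0_v777 :=
  rfl
theorem s0_f10499 : ed sl_ct s0_v777 = s0_v778 :=
  rfl
theorem s0_f10502 : ed sl_dt s0_v778 = s0_v779 :=
  rfl
theorem s0_f10505 : ed sl_it s0_v779 = s0_v780 :=
  rfl
theorem s0_f10508 : ed sl_ht s0_v780 = s0_v781 :=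
  rfl
theorem s0_f10511 : ed sl_dt s0_v781 = s0_v782 :=
  rfl
theorem s0_f10514 : ed sl_ft s0_v782 = s0_v783 :=
  rfl
theorem s0_f10517 : ed sl_et s0_v783 = s0_v784 :=
  rfl
theorem s0_f10520 : ed sl_dt s0_v784 = s0_v785 :=
  rfl
theorem s0_f10523 : ed sl_bt s0_v785 = s0_v786 :=
  rfl
theorem s0_f10526 : ed sl_ct s0_v786 = s0_v787 :=
  rfl
theorem s0_f10529 : ed sl_dt s0_v787 = s0_v788 :=
  rfl
theorem s0_f10532 : ed sl_it s0_v788 = s0_v789 :=
  rfl
theorem s0_f10535 : ed sl_ht s0_v789 = s0_v790 :=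
  rfl
theorem s0_f10538 : ed sl_dt s0_v790 = s0_v791 :=
  rfl
theorem s0_f10541 : ed sl_ft s0_v791 = s0_v792 :=
  rfl
theorem s0_f10544 : ed sl_et s0_v792 = s0_v793 :=
  rfl
theorem s0_f10547 : ed sl_dt s0_v793 = s0_v794 :=
  rfl
theorem s0_f10550 : ed sl_bt s0_v794 = s0_v795 :=
  rfl
theorem s0_f10553 : ed sl_ct s0_v795 = s0_v796 :=
  rfl
theorem s0_f10556 : ed sl_dt s0_v796 = s0_v797 :=
  rfl
theorem s0_f10559 : ed sl_it s0_v797 = s0_v798 :=
  rfl
theorem s0_f10562 : ed sl_ht s0_v798 = s0_v799 :=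
  rfl
theorem s0_f10565 : ed sl_dt s0_v799 = s0_v800 :=
  rfl
theorem s0_f10568 : ed sl_ft s0_v800 = s0_v801 :=
  rfl
theorem s0_f10571 : ed sl_et s0_v801 = s0_v802 :=
  rfl
theorem s0_f10574 : ed sl_dt s0_v802 = s0_v803 :=
  rfl
theorem s0_f10577 : ed sl_bt s0_v803 = s0_v804 :=
  rfl
theorem s0_f10580 : ed sl_ct s0_v804 = s0_v805 :=
  rfl
theorem s0_f10583 : ed sl_dt s0_v805 = s0_v806 :=
  rfl
theorem s0_f10586 : ed sl_it s0_v806 = s0_v807 :=
  rfl
theorem s0_f10589 : ed sl_ht s0_v807 = s0_v808 :=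
  rfl
theorem s0_f10592 : ed sl_dt s0_v808 = s0_v809 :=
  rfl
theorem s0_f10595 : ed sl_ft s0_v809 = s0_v810 :=
  rfl
theorem s0_f10598 : ed sl_et s0_v810 = s0_v811 :=
  rfl
theorem s0_f10601 : ed sl_dt s0_v811 = s0_v812 :=
  rfl
theorem s0_f10601r : ed sl_df s0_v812 = s0_v811 :=
  edge_flip (s0_f10601 IH)
theorem s0_f10602 : ed sl_df s0_v811 = s0_v812 :=
  gap_rel s0_rot4 (path_edge (s0_f10601r IH) (path_nil s0_v812))
theorem s0_f10598r : ed sl_ef s0_v811 = s0_v810 :=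
  edge_flip (s0_f10598 IH)
theorem s0_f10595r : ed sl_ff s0_v810 = s0_v809 :=
  edge_flip (s0_f10595 IH)
theorem s0_f10592r : ed sl_df s0_v809 = s0_v808 :=
  edge_flip (s0_f10592 IH)
theorem s0_f10589r : ed sl_hf s0_v808 = s0_v807 :=
  edge_flip (s0_f10589 IH)
theorem s0_f10586r : ed sl_if s0_v807 = s0_v806 :=
  edge_flip (s0_f10586 IH)
theorem s0_f10583r : ed sl_df s0_v806 = s0_v805 :=
  edge_flip (s0_f10583 IH)
theorem s0_f10580r : ed sl_cf s0_v805 = s0_v804 :=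
  edge_flip (s0_f10580 IH)
theorem s0_f10577r : ed sl_bf s0_v804 = s0_v803 :=
  edge_flip (s0_f10577 IH)
theorem s0_f10574r : ed sl_df s0_v803 = s0_v802 :=
  edge_flip (s0_f10574 IH)
theorem s0_f10571r : ed sl_ef s0_v802 = s0_v801 :=
  edge_flip (s0_f10571 IH)
theorem s0_f10568r : ed sl_ff s0_v801 = s0_v800 :=
  edge_flip (s0_f10568 IH)
theorem s0_f10565r : ed sl_df s0_v800 = s0_v799 :=
  edge_flip (s0_f10565 IH)
theorem s0_f10562r : ed sl_hf s0_v799 = s0_v798 :=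
  edge_flip (s0_f10562 IH)
theorem s0_f10559r : ed sl_if s0_v798 = s0_v797 :=
  edge_flip (s0_f10559 IH)
theorem s0_f10556r : ed sl_df s0_v797 = s0_v796 :=
  edge_flip (s0_f10556 IH)
theorem s0_f10553r : ed sl_cf s0_v796 = s0_v795 :=
  edge_flip (s0_f10553 IH)
theorem s0_f10550r : ed sl_bf s0_v795 = s0_v794 :=
  edge_flip (s0_f10550 IH)
theorem s0_f10547r : ed sl_df s0_v794 = s0_v793 :=
  edge_flip (s0_f10547 IH)
theorem s0_f10544r : ed sl_ef s0_v793 = s0_v792 :=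
  edge_flip (s0_f10544 IH)
theorem s0_f10541r : ed sl_ff s0_v792 = s0_v791 :=
  edge_flip (s0_f10541 IH)
theorem s0_f10538r : ed sl_df s0_v791 = s0_v790 :=
  edge_flip (s0_f10538 IH)
theorem s0_f10535r : ed sl_hf s0_v790 = s0_v789 :=
  edge_flip (s0_f10535 IH)
theorem s0_f10532r : ed sl_if s0_v789 = s0_v788 :=
  edge_flip (s0_f10532 IH)
theorem s0_f10529r : ed sl_df s0_v788 = s0_v787 :=
  edge_flip (s0_f10529 IH)
theorem s0_f10526r : ed sl_cf s0_v787 = s0_v786 :=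
  edge_flip (s0_f10526 IH)
theorem s0_f10523r : ed sl_bf s0_v786 = s0_v785 :=
  edge_flip (s0_f10523 IH)
theorem s0_f10520r : ed sl_df s0_v785 = s0_v784 :=
  edge_flip (s0_f10520 IH)
theorem s0_f10517r : ed sl_ef s0_v784 = s0_v783 :=
  edge_flip (s0_f10517 IH)
theorem s0_f10514r : ed sl_ff s0_v783 = s0_v782 :=
  edge_flip (s0_f10514 IH)
theorem s0_f10511r : ed sl_df s0_v782 = s0_v781 :=
  edge_flip (s0_f10511 IH)
theorem s0_f10508r : ed sl_hf s0_v781 = s0_v780 :=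
  edge_flip (s0_f10508 IH)
theorem s0_f10505r : ed sl_if s0_v780 = s0_v779 :=
  edge_flip (s0_f10505 IH)
theorem s0_f10502r : ed sl_df s0_v779 = s0_v778 :=
  edge_flip (s0_f10502 IH)
theorem s0_f10499r : ed sl_cf s0_v778 = s0_v777 :=
  edge_flip (s0_f10499 IH)
theorem s0_f10496r : ed sl_bf s0_v777 = s0_v776 :=
  edge_flip (s0_f10496 IH)
theorem s0_f10493r : ed sl_df s0_v776 = s0_v775 :=
  edge_flip (s0_f10493 IH)
theorem s0_f10490r : ed sl_ef s0_v775 = s0_v774 :=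
  edge_flip (s0_f10490 IH)
theorem s0_f10487r : ed sl_ff s0_v774 = s0_v773 :=
  edge_flip (s0_f10487 IH)
theorem s0_f10484r : ed sl_df s0_v773 = s0_v772 :=
  edge_flip (s0_f10484 IH)
theorem s0_f10481r : ed sl_hf s0_v772 = s0_v771 :=
  edge_flip (s0_f10481 IH)
theorem s0_f10478r : ed sl_if s0_v771 = s0_v770 :=
  edge_flip (s0_f10478 IH)
theorem s0_f10475r : ed sl_df s0_v770 = s0_v769 :=
  edge_flip (s0_f10475 IH)
theorem s0_f10470r : ed sl_cf s0_v769 = s0_v768 :=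
  edge_flip (s0_f10470 IH)
theorem s0_f10424r : ed sl_bf s0_v768 = sq11139 :=
  edge_flip (s0_f10424 IH)
theorem s0_f10340r : ed sl_ff sq7911 = sq7911 :=
  edge_flip (s0_f10340 IH)
theorem s0_f10338r : ed sl_hf sq6414 = sq5133 :=
  edge_flip (s0_f10338 IH)
theorem s0_f10337r : ed sl_if sq5133 = sq4024 :=
  edge_flip (s0_f10337 IH)
theorem s0_f10336r : ed sl_df sq4024 = sq3046 :=
  edge_flip (s0_f10336 IH)
theorem s0_f10335r : ed sl_cf sq3046 = sq2251 :=
  edge_flip (s0_f10335 IH)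
theorem s0_f10334r : ed sl_bf sq2251 = sq1639 :=
  edge_flip (s0_f10334 IH)
theorem s0_f4429r : ed sl_df sq1639 = sq1194 :=
  edge_flip (s0_f4429 IH)
theorem s0_f4430r : ed sl_ef sq1194 = sq848 :=
  edge_flip (s0_f4430 IH)
theorem s0_f4431r : ed sl_ff sq848 = sq593 :=
  edge_flip (s0_f4431 IH)
theorem s0_f10333r : ed sl_df sq593 = sq408 :=
  edge_flip (s0_f10333 IH)
theorem s0_f4338r : ed sl_hf sq408 = sq284 :=
  edge_flip (s0_f4338 IH)
theorem s0_f10332r : ed sl_if sq284 = sq284 :=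
  edge_flip (s0_f10332 IH)
theorem s0_f10331r : ed sl_df sq284 = sq284 :=
  edge_flip (s0_f10331 IH)
theorem s0_f10330r : ed sl_cf sq284 = sq194 :=
  edge_flip (s0_f10330 IH)
theorem s0_f10329r : ed sl_bf sq194 = sq260 :=
  edge_flip (s0_f10329 IH)
theorem s0_f10328r : ed sl_df sq260 = sq179 :=
  edge_flip (s0_f10328 IH)
theorem s0_f10327r : ed sl_ef sq179 = sq122 :=
  edge_flip (s0_f10327 IH)
theorem s0_f10326r : ed sl_ff sq122 = sq122 :=
  edge_flip (s0_f10326 IH)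
theorem s0_f2560r : ed sl_df sq122 = sq83 :=
  edge_flip (s0_f2560 IH)
theorem s0_f2384r : ed sl_hf sq83 = sq57 :=
  edge_flip (s0_f2384 IH)
theorem s0_f10319r : ed sl_if sq57 = sq39 :=
  edge_flip (s0_f10319 IH)
theorem s0_f3284r : ed sl_df sq39 = sq39 :=
  edge_flip (s0_f3284 IH)
theorem s0_f3285r : ed sl_cf sq39 = sq39 :=
  edge_flip (s0_f3285 IH)
theorem s0_f401r : ed sl_bf sq39 = sq28 :=
  edge_flip (s0_f401 IH)
theorem s0_f4106r : ed sl_ef sq28 = sq40 :=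
  edge_flip (s0_f4106 IH)
theorem s0_f4105r : ed sl_ff sq40 = sq59 :=
  edge_flip (s0_f4105 IH)
theorem s0_f923r : ed sl_df sq59 = sq84 :=
  edge_flip (s0_f923 IH)
theorem s0_f4096r : ed sl_hf sq84 = sq125 :=
  edge_flip (s0_f4096 IH)
theorem s0_f10341r : ed sl_if sq125 = sq186 :=
  edge_flip (s0_f10341 IH)
theorem s0_f7426r : ed sl_df sq186 = sq186 :=
  edge_flip (s0_f7426 IH)
theorem s0_f10342r : ed sl_cf sq186 = sq186 :=
  edge_flip (s0_f10342 IH)
theorem s0_f10343r : ed sl_bf sq186 = sq252 :=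
  edge_flip (s0_f10343 IH)
theorem s0_f3487r : ed sl_df sq252 = sq252 :=
  edge_flip (s0_f3487 IH)
theorem s0_f10344r : ed sl_ef sq252 = sq365 :=
  edge_flip (s0_f10344 IH)
theorem s0_f10345r : ed sl_ff sq365 = sq365 :=
  edge_flip (s0_f10345 IH)
theorem s0_f10346r : ed sl_df sq365 = sq530 :=
  edge_flip (s0_f10346 IH)
theorem s0_f10347r : ed sl_hf sq530 = sq755 :=
  edge_flip (s0_f10347 IH)
theorem s0_f10348r : ed sl_if sq755 = sq755 :=
  edge_flip (s0_f10348 IH)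
theorem s0_f10349r : ed sl_df sq755 = sq1058 :=
  edge_flip (s0_f10349 IH)
theorem s0_f10350r : ed sl_cf sq1058 = sq1462 :=
  edge_flip (s0_f10350 IH)
theorem s0_f10604 : ed sl_bf sq1462 = s0_v812 :=
  gap_rel s0_rot24 (path_edge (s0_f10350r IH) (path_edge (s0_f10349r IH) (path_edge (s0_f10348r IH) (path_edge (s0_f10347r IH) (path_edge (s0_f10346r IH) (path_edge (s0_f10345r IH) (path_edge (s0_f10344r IH) (path_edge (s0_f3487r IH) (path_edge (s0_f10343r IH) (path_edge (s0_f10342r IH) (path_edge (s0_f7426r IH) (path_edge (s0_f10341r IH) (path_edge (s0_f4096r IH) (path_edge (s0_f923r IH) (path_edge (s0_f4105r IH) (path_edge (s0_f4106r IH) (path_edge (s0_f3452r IH) (path_edge (s0_f401r IH) (path_edge (s0_f3285r IH) (path_edge (s0_f3284r IH) (path_edge (s0_f10319r IH) (path_edge (s0_f2384r IH) (path_edge (s0_f2560r IH) (path_edge (s0_f10326r IH) (path_edge (s0_f10327r IH) (path_edge (s0_f10328r IH) (path_edge (s0_f10329r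 IH) (path_edge (s0_f10330r IH) (path_edge (s0_f10331r IH) (path_edge (s0_f10332r IH) (path_edge (s0_f4338r IH) (path_edge (s0_f10333r IH) (path_edge (s0_f4431r IH) (path_edge (s0_f4430r IH) (path_edge (s0_f4429r IH) (path_edge (s0_f10334r IH) (path_edge (s0_f10335r IH) (path_edge (s0_f10336r IH) (path_edge (s0_f10337r IH) (path_edge (s0_f10338r IH) (path_edge (s0_f10339r IH) (path_edge (s0_f10340r IH) (path_edge (s0_f10351r IH) (path_edge (s0_f10356 IH) (path_edge (s0_f10424r IH) (path_edge (s0_f10470r IH) (path_edge (s0_f10475r IH) (path_edge (s0_f10478r IH) (path_edge (s0_f10481r IH) (path_edge (s0_f10484r IH) (path_edge (s0_f10487r IH) (path_edge (s0_f10490r IH) (path_edge (s0_f10493r IH) (path_edge (s0_f10496r IH) (path_edge (s0_f10499r IH) (path_edge (s0_f10502r IH) (path_edge (s0_f10505r IH) (path_edge (s0_f10508r IH) (path_edge (s0_f10511r IH) (path_edge (s0_f10514r IH) (path_edge (s0_f10517r IH) (path_edge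 (s0_f10520r IH) (path_edge (s0_f10523r IH) (path_edge (s0_f10526r IH) (path_edge (s0_f10529r IH) (path_edge (s0_f10532r IH) (path_edge (s0_f10535r IH) (path_edge (s0_f10538r IH) (path_edge (s0_f10541r IH) (path_edge (s0_f10544r IH) (path_edge (s0_f10547r IH) (path_edge (s0_f10550r IH) (path_edge (s0_f10553r IH) (path_edge (s0_f10556r IH) (path_edge (s0_f10559r IH) (path_edge (s0_f10562r IH) (path_edge (s0_f10565r IH) (path_edge (s0_f10568r IH) (path_edge (s0_f10571r IH) (path_edge (s0_f10574r IH) (path_edge (s0_f10577r IH) (path_edge (s0_f10580r IH) (path_edge (s0_f10583r IH) (path_edge (s0_f10586r IH) (path_edge (s0_f10589r IH) (path_edge (s0_f10592r IH) (path_edge (s0_f10595r IH) (path_edge (s0_f10598r IH) (path_edge (s0_f10601r IH) (path_nil s0_v812))))))))))))))))))))))))))))))))))))))))))))))))))))))))))))))))))))))))))))))))))))))))))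
theorem s0_f10604r : ed sl_bt s0_v812 = sq1462 :=
  edge_flip (s0_f10604 IH)
theorem s0_f10606 : ed sl_bt sq1462 = s0_v812 :=
  gap_rel s0_rot25 (path_edge (s0_f10604r IH) (path_nil s0_v812))
theorem s0_f10608 : ed sl_dt sq1462 = sq1462 :=
  real_edge rels S fwd inv o lvl plet idx 47 IH Gen.d sp1462 sp1462 rfl rfl
theorem s0_f10610 : ed sl_ht sq1462 = sq1059 :=
  real_edge rels S fwd inv o lvl plet idx 47 IH Gen.h sp1462 sp1059 rfl rfl
theorem s0_f10611 : ed sl_bt sq1059 = sq1464 :=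
  real_edge rels S fwd inv o lvl plet idx 47 IH Gen.b sp1059 sp1464 rfl rfl
theorem s0_f10612 : ed sl_ht sq1464 = s0_v812 :=
  gap_rel s0_rot56 (path_edge (s0_f10611 IH) (path_edge (s0_f10610 IH) (path_edge (s0_f10604r IH) (path_nil s0_v812))))
theorem s0_f10617 : ed sl_it sq1462 = sq1462 :=
  real_edge rels S fwd inv o lvl plet idx 47 IH Gen.i sp1462 sp1462 rfl rfl
theorem s0_f10618 : ed sl_it s0_v812 = s0_v812 :=
  gap_rel s0_rot28 (path_edge (s0_f10606 IH) (path_edge (s0_f10617 IH) (path_edge (s0_f10604r IH) (path_nil s0_v812))))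
theorem s0_f10619 : ed sl_ft sq1059 = sq1059 :=
  real_edge rels S fwd inv o lvl plet idx 47 IH Gen.f sp1059 sp1059 rfl rfl
theorem s0_f10620 : ed sl_et sq1059 = sq1465 :=
  real_edge rels S fwd inv o lvl plet idx 47 IH Gen.e sp1059 sp1465 rfl rfl
theorem s0_f10621 : ed sl_dt sq1465 = sq2004 :=
  real_edge rels S fwd inv o lvl plet idx 47 IH Gen.d sp1465 sp2004 rfl rfl
theorem s0_f10602r : ed sl_dt s0_v812 = s0_v811 :=
  edge_flip (s0_f10602 IH)
theorem s0_f10627 : s0_v811 = s0_v812 :=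
  (loop_rel s0_rot29 (path_edge (s0_f10602r IH) (path_edge (s0_f10606 IH) (path_edge (s0_f10608 IH) (path_edge (s0_f10604r IH) (path_nil s0_v812)))))).symm
theorem s0_f10629 : ed sl_it sq1061 = sq1464 :=
  real_edge rels S fwd inv o lvl plet idx 47 IH Gen.i sp1061 sp1464 rfl rfl
theorem s0_f10630 : ed sl_ht sq1061 = sq1061 :=
  real_edge rels S fwd inv o lvl plet idx 47 IH Gen.h sp1061 sp1061 rfl rfl
theorem s0_f10631 : ed sl_it sq1464 = sq1061 :=
  real_edge rels S fwd inv o lvl plet idx 47 IH Gen.i sp1464 sp1061 rfl rfl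
theorem s0_f10618r : ed sl_if s0_v812 = s0_v812 :=
  edge_flip (s0_f10618 IH)
theorem s0_f10612r : ed sl_hf s0_v812 = sq1464 :=
  edge_flip (s0_f10612 IH)
theorem s0_f10629r : ed sl_if sq1464 = sq1061 :=
  edge_flip (s0_f10629 IH)
theorem s0_f10630r : ed sl_hf sq1061 = sq1061 :=
  edge_flip (s0_f10630 IH)
theorem s0_f10631r : ed sl_if sq1061 = sq1464 :=
  edge_flip (s0_f10631 IH)
theorem s0_f10632 : ed sl_hf sq1464 = s0_v811 :=
  gap_rel s0_rot67 (path_edge (s0_f10631r IH) (path_edge (s0_f10630r IH) (path_edge (s0_f10629r IH) (path_edge (s0_f10612r IH) (path_edge (s0_f10618r IH) (path_eq (s0_f10627 IH) (path_nil s0_v811)))))))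
theorem s0_f10653 : ed sl_ct sq2713 = sq3585 :=
  real_edge rels S fwd inv o lvl plet idx 47 IH Gen.c sp2713 sp3585 rfl rfl
theorem s0_f10680 : ed sl_dt sq6041 = sq4764 :=
  real_edge rels S fwd inv o lvl plet idx 47 IH Gen.d sp6041 sp4764 rfl rfl
theorem s0_f10737 : ed sl_ht sq1398 = sq1398 :=
  real_edge rels S fwd inv o lvl plet idx 47 IH Gen.h sp1398 sp1398 rfl rfl
theorem s0_f10740 : ed sl_dt sq1905 = sq2566 :=
  real_edge rels S fwd inv o lvl plet idx 47 IH Gen.d sp1905 sp2566 rfl rfl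
theorem s0_f10769 : ed sl_bt sq371 = sq274 :=
  real_edge rels S fwd inv o lvl plet idx 47 IH Gen.b sp371 sp274 rfl rfl
theorem s0_f10783 : ed sl_dt sq543 = sq774 :=
  real_edge rels S fwd inv o lvl plet idx 47 IH Gen.d sp543 sp774 rfl rfl
theorem s0_f10836 : ed sl_ct sq819 = sq575 :=
  real_edge rels S fwd inv o lvl plet idx 47 IH Gen.c sp819 sp575 rfl rfl
theorem s0_f10864 : ed sl_et sq2189 = sq2189 :=
  real_edge rels S fwd inv o lvl plet idx 47 IH Gen.e sp2189 sp2189 rfl rfl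
theorem s0_f10946 : ed sl_bt sq7262 = sq5998 :=
  real_edge rels S fwd inv o lvl plet idx 47 IH Gen.b sp7262 sp5998 rfl rfl
theorem s0_f10951 : ed sl_ft sq7262 = sq5833 :=
  real_edge rels S fwd inv o lvl plet idx 47 IH Gen.f sp7262 sp5833 rfl rfl
theorem s0_f10955 : ed sl_ht sq7262 = sq5864 :=
  real_edge rels S fwd inv o lvl plet idx 47 IH Gen.h sp7262 sp5864 rfl rfl
theorem s0_f10960 : ed sl_dt sq5998 = sq7494 :=
  real_edge rels S fwd inv o lvl plet idx 47 IH Gen.d sp5998 sp7494 rfl rfl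
theorem s0_f10961 : ed sl_dt sq7494 = sq5998 :=
  real_edge rels S fwd inv o lvl plet idx 47 IH Gen.d sp7494 sp5998 rfl rfl
theorem s0_f10965 : ed sl_ct sq5998 = sq4740 :=
  real_edge rels S fwd inv o lvl plet idx 47 IH Gen.c sp5998 sp4740 rfl rfl
theorem s0_f10973 : ed sl_ht sq4764 = sq5998 :=
  real_edge rels S fwd inv o lvl plet idx 47 IH Gen.h sp4764 sp5998 rfl rfl
theorem s0_f10979 : ed sl_ct sq7494 = sq7494 :=
  real_edge rels S fwd inv o lvl plet idx 47 IH Gen.c sp7494 sp7494 rfl rfl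
theorem s0_f10980 : ed sl_ft sq7494 = sq5999 :=
  real_edge rels S fwd inv o lvl plet idx 47 IH Gen.f sp7494 sp5999 rfl rfl
theorem s0_f11146 : ed sl_dt sq12995 = sq15259 :=
  real_edge rels S fwd inv o lvl plet idx 47 IH Gen.d sp12995 sp15259 rfl rfl
theorem s0_f11167 : ed sl_dt sq2102 = sq2856 :=
  real_edge rels S fwd inv o lvl plet idx 47 IH Gen.d sp2102 sp2856 rfl rfl
theorem s0_f11214 : ed sl_it sq4734 = sq5999 :=
  real_edge rels S fwd inv o lvl plet idx 47 IH Gen.i sp4734 sp5999 rfl rfl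
theorem s0_f11221 : ed sl_dt sq6974 = sq5586 :=
  real_edge rels S fwd inv o lvl plet idx 47 IH Gen.d sp6974 sp5586 rfl rfl
theorem s0_f11268 : ed sl_dt sq4740 = sq4740 :=
  real_edge rels S fwd inv o lvl plet idx 47 IH Gen.d sp4740 sp4740 rfl rfl
theorem s0_f11290 : ed sl_dt sq2795 = sq3708 :=
  real_edge rels S fwd inv o lvl plet idx 47 IH Gen.d sp2795 sp3708 rfl rfl
theorem s0_f11292 : ed sl_et sq4485 = sq5634 :=
  real_edge rels S fwd inv o lvl plet idx 47 IH Gen.e sp4485 sp5634 rfl rfl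
theorem s0_f11312 : ed sl_dt sq2808 = sq3726 :=
  real_edge rels S fwd inv o lvl plet idx 47 IH Gen.d sp2808 sp3726 rfl rfl
theorem s0_f11318 : ed sl_it sq4740 = sq3663 :=
  real_edge rels S fwd inv o lvl plet idx 47 IH Gen.i sp4740 sp3663 rfl rfl
theorem s0_f11342 : ed sl_bt sq5864 = sq4764 :=
  real_edge rels S fwd inv o lvl plet idx 47 IH Gen.b sp5864 sp4764 rfl rfl
theorem s0_f11360 : ed sl_ct sq4764 = sq3688 :=
  real_edge rels S fwd inv o lvl plet idx 47 IH Gen.c sp4764 sp3688 rfl rfl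
theorem s0_f11445 : ed sl_ht sq3663 = sq2763 :=
  real_edge rels S fwd inv o lvl plet idx 47 IH Gen.h sp3663 sp2763 rfl rfl
theorem s0_f11446 : ed sl_dt sq2763 = sq2036 :=
  real_edge rels S fwd inv o lvl plet idx 47 IH Gen.d sp2763 sp2036 rfl rfl
theorem s0_f11447 : ed sl_ft sq2036 = sq1486 :=
  real_edge rels S fwd inv o lvl plet idx 47 IH Gen.f sp2036 sp1486 rfl rfl
theorem s0_f11448 : ed sl_et sq1486 = sq1072 :=
  real_edge rels S fwd inv o lvl plet idx 47 IH Gen.e sp1486 sp1072 rfl rfl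
theorem s0_f11449 : ed sl_bt sq1415 = sq1026 :=
  real_edge rels S fwd inv o lvl plet idx 47 IH Gen.b sp1415 sp1026 rfl rfl
theorem s0_f11450 : ed sl_ct sq1026 = sq733 :=
  real_edge rels S fwd inv o lvl plet idx 47 IH Gen.c sp1026 sp733 rfl rfl
theorem s0_f11451 : ed sl_dt sq733 = sq515 :=
  real_edge rels S fwd inv o lvl plet idx 47 IH Gen.d sp733 sp515 rfl rfl
theorem s0_f11452 : ed sl_it sq515 = sq355 :=
  real_edge rels S fwd inv o lvl plet idx 47 IH Gen.i sp515 sp355 rfl rfl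
theorem s0_f11453 : ed sl_ht sq355 = sq242 :=
  real_edge rels S fwd inv o lvl plet idx 47 IH Gen.h sp355 sp242 rfl rfl
theorem s0_f11454 : ed sl_ft sq242 = sq167 :=
  real_edge rels S fwd inv o lvl plet idx 47 IH Gen.f sp242 sp167 rfl rfl
theorem s0_f11455 : ed sl_et sq167 = sq167 :=
  real_edge rels S fwd inv o lvl plet idx 47 IH Gen.e sp167 sp167 rfl rfl
theorem s0_f11456 : ed sl_dt sq167 = sq167 :=
  real_edge rels S fwd inv o lvl plet idx 47 IH Gen.d sp167 sp167 rfl rfl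
theorem s0_f11457 : ed sl_ct sq167 = sq118 :=
  real_edge rels S fwd inv o lvl plet idx 47 IH Gen.c sp167 sp118 rfl rfl
theorem s0_f11458 : ed sl_dt sq118 = sq82 :=
  real_edge rels S fwd inv o lvl plet idx 47 IH Gen.d sp118 sp82 rfl rfl
theorem s0_f11459 : ed sl_ct sq123 = sq123 :=
  real_edge rels S fwd inv o lvl plet idx 47 IH Gen.c sp123 sp123 rfl rfl
theorem s0_f11460 : ed sl_dt sq123 = sq123 :=
  real_edge rels S fwd inv o lvl plet idx 47 IH Gen.d sp123 sp123 rfl rfl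
theorem s0_f11461 : ed sl_it sq123 = sq182 :=
  real_edge rels S fwd inv o lvl plet idx 47 IH Gen.i sp123 sp182 rfl rfl
theorem s0_f11462 : ed sl_ht sq182 = sq269 :=
  real_edge rels S fwd inv o lvl plet idx 47 IH Gen.h sp182 sp269 rfl rfl
theorem s0_f11463 : ed sl_ft sq397 = sq397 :=
  real_edge rels S fwd inv o lvl plet idx 47 IH Gen.f sp397 sp397 rfl rfl
theorem s0_f11464 : ed sl_et sq397 = sq577 :=
  real_edge rels S fwd inv o lvl plet idx 47 IH Gen.e sp397 sp577 rfl rfl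
theorem s0_f11465 : ed sl_dt sq577 = sq404 :=
  real_edge rels S fwd inv o lvl plet idx 47 IH Gen.d sp577 sp404 rfl rfl
theorem s0_f11466 : ed sl_bt sq404 = sq539 :=
  real_edge rels S fwd inv o lvl plet idx 47 IH Gen.b sp404 sp539 rfl rfl
theorem s0_f11467 : ed sl_ct sq539 = sq767 :=
  real_edge rels S fwd inv o lvl plet idx 47 IH Gen.c sp539 sp767 rfl rfl
theorem s0_f11468 : ed sl_dt sq767 = sq1077 :=
  real_edge rels S fwd inv o lvl plet idx 47 IH Gen.d sp767 sp1077 rfl rfl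
theorem s0_f11469 : ed sl_it sq1077 = sq1487 :=
  real_edge rels S fwd inv o lvl plet idx 47 IH Gen.i sp1077 sp1487 rfl rfl
theorem s0_f11470 : ed sl_ht sq1487 = sq2038 :=
  real_edge rels S fwd inv o lvl plet idx 47 IH Gen.h sp1487 sp2038 rfl rfl
theorem s0_f11471 : ed sl_dt sq2038 = sq2038 :=
  real_edge rels S fwd inv o lvl plet idx 47 IH Gen.d sp2038 sp2038 rfl rfl
theorem s0_f11472 : ed sl_ft sq2038 = sq2768 :=
  real_edge rels S fwd inv o lvl plet idx 47 IH Gen.f sp2038 sp2768 rfl rfl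
theorem s0_f11473 : ed sl_et sq2768 = sq3667 :=
  real_edge rels S fwd inv o lvl plet idx 47 IH Gen.e sp2768 sp3667 rfl rfl
theorem s0_f11474 : ed sl_bt sq4744 = sq6003 :=
  real_edge rels S fwd inv o lvl plet idx 47 IH Gen.b sp4744 sp6003 rfl rfl
theorem s0_f11475 : ed sl_ct sq6003 = sq7500 :=
  real_edge rels S fwd inv o lvl plet idx 47 IH Gen.c sp6003 sp7500 rfl rfl
theorem s0_f11476 : ed sl_dt sq7500 = sq9180 :=
  real_edge rels S fwd inv o lvl plet idx 47 IH Gen.d sp7500 sp9180 rfl rfl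
theorem s0_f11477 : ed sl_it sq9180 = sq11152 :=
  real_edge rels S fwd inv o lvl plet idx 47 IH Gen.i sp9180 sp11152 rfl rfl
theorem s0_f11478 : ed sl_ht sq11152 = sq13335 :=
  real_edge rels S fwd inv o lvl plet idx 47 IH Gen.h sp11152 sp13335 rfl rfl
theorem s0_f11493 : ed sl_dt sq5864 = sq7308 :=
  real_edge rels S fwd inv o lvl plet idx 47 IH Gen.d sp5864 sp7308 rfl rfl
theorem s0_f11494 : ed sl_ft sq7308 = sq5866 :=
  real_edge rels S fwd inv o lvl plet idx 47 IH Gen.f sp7308 sp5866 rfl rfl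
theorem s0_f11511 : ed sl_it sq4619 = sq5833 :=
  real_edge rels S fwd inv o lvl plet idx 47 IH Gen.i sp4619 sp5833 rfl rfl
theorem s0_f11525 : ed sl_dt sq1118 = sq1554 :=
  real_edge rels S fwd inv o lvl plet idx 47 IH Gen.d sp1118 sp1554 rfl rfl
theorem s0_f11565 : ed sl_ht sq4642 = sq5833 :=
  real_edge rels S fwd inv o lvl plet idx 47 IH Gen.h sp4642 sp5833 rfl rfl
theorem s0_f11662 : ed sl_dt sq4345 = sq5340 :=
  real_edge rels S fwd inv o lvl plet idx 47 IH Gen.d sp4345 sp5340 rfl rfl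
theorem s0_f11670 : ed sl_dt sq1910 = sq2572 :=
  real_edge rels S fwd inv o lvl plet idx 47 IH Gen.d sp1910 sp2572 rfl rfl
theorem s0_f11889 : ed sl_dt sq19192 = sq17101 :=
  real_edge rels S fwd inv o lvl plet idx 47 IH Gen.d sp19192 sp17101 rfl rfl
theorem s0_f11890 : ed sl_et sq21057 = sq19192 :=
  real_edge rels S fwd inv o lvl plet idx 47 IH Gen.e sp21057 sp19192 rfl rfl
theorem s0_f11902 : ed sl_dt sq548 = sq548 :=
  real_edge rels S fwd inv o lvl plet idx 47 IH Gen.d sp548 sp548 rfl rfl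
theorem s0_f11905 : ed sl_dt sq552 = sq788 :=
  real_edge rels S fwd inv o lvl plet idx 47 IH Gen.d sp552 sp788 rfl rfl
theorem s0_f12042 : ed sl_bt sq820 = sq1060 :=
  real_edge rels S fwd inv o lvl plet idx 47 IH Gen.b sp820 sp1060 rfl rfl
theorem s0_f12046 : ed sl_ft sq2191 = sq1596 :=
  real_edge rels S fwd inv o lvl plet idx 47 IH Gen.f sp2191 sp1596 rfl rfl
theorem s0_f12123 : ed sl_dt sq757 = sq1016 :=
  real_edge rels S fwd inv o lvl plet idx 47 IH Gen.d sp757 sp1016 rfl rfl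
theorem s0_f12139 : ed sl_ct sq1058 = sq1462 :=
  real_edge rels S fwd inv o lvl plet idx 47 IH Gen.c sp1058 sp1462 rfl rfl
theorem s0_f12140 : ed sl_bt sq818 = sq1058 :=
  real_edge rels S fwd inv o lvl plet idx 47 IH Gen.b sp818 sp1058 rfl rfl
theorem s0_f12145 : ed sl_bt sq395 = sq530 :=
  real_edge rels S fwd inv o lvl plet idx 47 IH Gen.b sp395 sp530 rfl rfl
theorem s0_f12146 : ed sl_ct sq573 = sq395 :=
  real_edge rels S fwd inv o lvl plet idx 47 IH Gen.c sp573 sp395 rfl rfl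
theorem s0_f12147 : ed sl_dt sq573 = sq573 :=
  real_edge rels S fwd inv o lvl plet idx 47 IH Gen.d sp573 sp573 rfl rfl
theorem s0_f12148 : ed sl_et sq573 = sq573 :=
  real_edge rels S fwd inv o lvl plet idx 47 IH Gen.e sp573 sp573 rfl rfl
theorem s0_f12149 : ed sl_ft sq573 = sq573 :=
  real_edge rels S fwd inv o lvl plet idx 47 IH Gen.f sp573 sp573 rfl rfl
theorem s0_f12151 : ed sl_it sq40 = sq60 :=
  real_edge rels S fwd inv o lvl plet idx 47 IH Gen.i sp40 sp60 rfl rfl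
theorem s0_f12164 : ed sl_ct sq379 = sq549 :=
  real_edge rels S fwd inv o lvl plet idx 47 IH Gen.c sp379 sp549 rfl rfl
theorem s0_f12165 : ed sl_it sq784 = sq784 :=
  real_edge rels S fwd inv o lvl plet idx 47 IH Gen.i sp784 sp784 rfl rfl
theorem s0_f12166 : ed sl_ft sq1494 = sq2049 :=
  real_edge rels S fwd inv o lvl plet idx 47 IH Gen.f sp1494 sp2049 rfl rfl
theorem s0_f12167 : ed sl_et sq2049 = sq2783 :=
  real_edge rels S fwd inv o lvl plet idx 47 IH Gen.e sp2049 sp2783 rfl rfl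
theorem s0_f12168 : ed sl_dt sq2783 = sq3692 :=
  real_edge rels S fwd inv o lvl plet idx 47 IH Gen.d sp2783 sp3692 rfl rfl
theorem s0_f12169 : ed sl_ct sq4770 = sq6049 :=
  real_edge rels S fwd inv o lvl plet idx 47 IH Gen.c sp4770 sp6049 rfl rfl
theorem s0_f12170 : ed sl_it sq7544 = sq9259 :=
  real_edge rels S fwd inv o lvl plet idx 47 IH Gen.i sp7544 sp9259 rfl rfl
theorem s0_f12171 : ed sl_ht sq9259 = sq11262 :=
  real_edge rels S fwd inv o lvl plet idx 47 IH Gen.h sp9259 sp11262 rfl rfl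
theorem s0_f12172 : ed sl_dt sq11262 = sq13477 :=
  real_edge rels S fwd inv o lvl plet idx 47 IH Gen.d sp11262 sp13477 rfl rfl
theorem s0_f12173 : ed sl_ft sq13477 = sq14856 :=
  real_edge rels S fwd inv o lvl plet idx 47 IH Gen.f sp13477 sp14856 rfl rfl
theorem s0_f12174 : ed sl_et sq14856 = sq17103 :=
  real_edge rels S fwd inv o lvl plet idx 47 IH Gen.e sp14856 sp17103 rfl rfl
theorem s0_f12175 : ed sl_dt sq17103 = sq19194 :=
  real_edge rels S fwd inv o lvl plet idx 47 IH Gen.d sp17103 sp19194 rfl rfl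
theorem s0_f12176 : ed sl_bt sq80 = sq58 :=
  real_edge rels S fwd inv o lvl plet idx 47 IH Gen.b sp80 sp58 rfl rfl
theorem s0_f12177 : ed sl_dt sq126 = sq88 :=
  real_edge rels S fwd inv o lvl plet idx 47 IH Gen.d sp126 sp88 rfl rfl
theorem s0_f12178 : ed sl_it sq274 = sq187 :=
  real_edge rels S fwd inv o lvl plet idx 47 IH Gen.i sp274 sp187 rfl rfl
theorem s0_f12179 : ed sl_dt sq402 = sq274 :=
  real_edge rels S fwd inv o lvl plet idx 47 IH Gen.d sp402 sp274 rfl rfl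
theorem s0_f12180 : ed sl_bt sq832 = sq583 :=
  real_edge rels S fwd inv o lvl plet idx 47 IH Gen.b sp832 sp583 rfl rfl
theorem s0_f12181 : ed sl_dt sq832 = sq832 :=
  real_edge rels S fwd inv o lvl plet idx 47 IH Gen.d sp832 sp832 rfl rfl
theorem s0_f12182 : ed sl_et sq1171 = sq832 :=
  real_edge rels S fwd inv o lvl plet idx 47 IH Gen.e sp1171 sp832 rfl rfl
theorem s0_f12183 : ed sl_ft sq1628 = sq1171 :=
  real_edge rels S fwd inv o lvl plet idx 47 IH Gen.f sp1628 sp1171 rfl rfl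
theorem s0_f12184 : ed sl_dt sq2238 = sq1628 :=
  real_edge rels S fwd inv o lvl plet idx 47 IH Gen.d sp2238 sp1628 rfl rfl
theorem s0_f12185 : ed sl_bt sq19194 = s0_v813 :=
  rfl
theorem s0_f12223 : ed sl_ct s0_v813 = s0_v814 :=
  rfl
theorem s0_f12227 : ed sl_dt s0_v814 = s0_v815 :=
  rfl
theorem s0_f12230 : ed sl_it s0_v815 = s0_v816 :=
  rfl
theorem s0_f12233 : ed sl_ht s0_v816 = s0_v817 :=
  rfl
theorem s0_f12236 : ed sl_dt s0_v817 = s0_v818 :=
  rfl
theorem s0_f12239 : ed sl_ft s0_v818 = s0_v819 :=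
  rfl
theorem s0_f12242 : ed sl_et s0_v819 = s0_v820 :=
  rfl
theorem s0_f12245 : ed sl_dt s0_v820 = s0_v821 :=
  rfl
theorem s0_f12248 : ed sl_bt s0_v821 = s0_v822 :=
  rfl
theorem s0_f12251 : ed sl_ct s0_v822 = s0_v823 :=
  rfl
theorem s0_f12254 : ed sl_dt s0_v823 = s0_v824 :=
  rfl
theorem s0_f12257 : ed sl_it s0_v824 = s0_v825 :=
  rfl
theorem s0_f12260 : ed sl_ht s0_v825 = s0_v826 :=
  rfl
theorem s0_f12263 : ed sl_dt s0_v826 = s0_v827 :=
  rfl
theorem s0_f12266 : ed sl_ft s0_v827 = s0_v828 :=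
  rfl
theorem s0_f12269 : ed sl_et s0_v828 = s0_v829 :=
  rfl
theorem s0_f12272 : ed sl_dt s0_v829 = s0_v830 :=
  rfl
theorem s0_f12275 : ed sl_bt s0_v830 = s0_v831 :=
  rfl
theorem s0_f12278 : ed sl_ct s0_v831 = s0_v832 :=
  rfl
theorem s0_f12281 : ed sl_dt s0_v832 = s0_v833 :=
  rfl
theorem s0_f12284 : ed sl_it s0_v833 = s0_v834 :=
  rfl
theorem s0_f12287 : ed sl_ht s0_v834 = s0_v835 :=
  rfl
theorem s0_f12290 : ed sl_dt s0_v835 = s0_v836 :=
  rfl
theorem s0_f12293 : ed sl_ft s0_v836 = s0_v837 :=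
  rfl
theorem s0_f12296 : ed sl_et s0_v837 = s0_v838 :=
  rfl
theorem s0_f12299 : ed sl_dt s0_v838 = s0_v839 :=
  rfl
theorem s0_f12302 : ed sl_bt s0_v839 = s0_v840 :=
  rfl
theorem s0_f12305 : ed sl_ct s0_v840 = s0_v841 :=
  rfl
theorem s0_f12308 : ed sl_dt s0_v841 = s0_v842 :=
  rfl
theorem s0_f12311 : ed sl_it s0_v842 = s0_v843 :=
  rfl
theorem s0_f12314 : ed sl_ht s0_v843 = s0_v844 :=
  rfl
theorem s0_f12317 : ed sl_dt s0_v844 = s0_v845 :=
  rfl
theorem s0_f12320 : ed sl_ft s0_v845 = s0_v846 :=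
  rfl
theorem s0_f12323 : ed sl_et s0_v846 = s0_v847 :=
  rfl
theorem s0_f12323r : ed sl_ef s0_v847 = s0_v846 :=
  edge_flip (s0_f12323 IH)
theorem s0_f12324 : ed sl_ef s0_v846 = s0_v847 :=
  gap_rel s0_rot17 (path_edge (s0_f12323r IH) (path_nil s0_v847))
theorem s0_f12326 : ed sl_dt s0_v847 = s0_v848 :=
  rfl
theorem s0_f12329 : ed sl_bt s0_v848 = s0_v849 :=
  rfl
theorem s0_f12329r : ed sl_bf s0_v849 = s0_v848 :=
  edge_flip (s0_f12329 IH)
theorem s0_f12330 : ed sl_bf s0_v848 = s0_v849 :=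
  gap_rel s0_rot20 (path_edge (s0_f12329r IH) (path_nil s0_v849))
theorem s0_f12332 : ed sl_ct s0_v849 = s0_v850 :=
  rfl
theorem s0_f12335 : ed sl_dt s0_v850 = s0_v851 :=
  rfl
theorem s0_f12335r : ed sl_df s0_v851 = s0_v850 :=
  edge_flip (s0_f12335 IH)
theorem s0_f12332r : ed sl_cf s0_v850 = s0_v849 :=
  edge_flip (s0_f12332 IH)
theorem s0_f12326r : ed sl_df s0_v848 = s0_v847 :=
  edge_flip (s0_f12326 IH)
theorem s0_f12320r : ed sl_ff s0_v846 = s0_v845 :=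
  edge_flip (s0_f12320 IH)
theorem s0_f12317r : ed sl_df s0_v845 = s0_v844 :=
  edge_flip (s0_f12317 IH)
theorem s0_f12314r : ed sl_hf s0_v844 = s0_v843 :=
  edge_flip (s0_f12314 IH)
theorem s0_f12311r : ed sl_if s0_v843 = s0_v842 :=
  edge_flip (s0_f12311 IH)
theorem s0_f12308r : ed sl_df s0_v842 = s0_v841 :=
  edge_flip (s0_f12308 IH)
theorem s0_f12305r : ed sl_cf s0_v841 = s0_v840 :=
  edge_flip (s0_f12305 IH)
theorem s0_f12302r : ed sl_bf s0_v840 = s0_v839 :=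
  edge_flip (s0_f12302 IH)
theorem s0_f12299r : ed sl_df s0_v839 = s0_v838 :=
  edge_flip (s0_f12299 IH)
theorem s0_f12296r : ed sl_ef s0_v838 = s0_v837 :=
  edge_flip (s0_f12296 IH)
theorem s0_f12293r : ed sl_ff s0_v837 = s0_v836 :=
  edge_flip (s0_f12293 IH)
theorem s0_f12290r : ed sl_df s0_v836 = s0_v835 :=
  edge_flip (s0_f12290 IH)
theorem s0_f12287r : ed sl_hf s0_v835 = s0_v834 :=
  edge_flip (s0_f12287 IH)
theorem s0_f12284r : ed sl_if s0_v834 = s0_v833 :=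
  edge_flip (s0_f12284 IH)
theorem s0_f12281r : ed sl_df s0_v833 = s0_v832 :=
  edge_flip (s0_f12281 IH)
theorem s0_f12278r : ed sl_cf s0_v832 = s0_v831 :=
  edge_flip (s0_f12278 IH)
theorem s0_f12275r : ed sl_bf s0_v831 = s0_v830 :=
  edge_flip (s0_f12275 IH)
theorem s0_f12272r : ed sl_df s0_v830 = s0_v829 :=
  edge_flip (s0_f12272 IH)
theorem s0_f12269r : ed sl_ef s0_v829 = s0_v828 :=
  edge_flip (s0_f12269 IH)
theorem s0_f12266r : ed sl_ff s0_v828 = s0_v827 :=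
  edge_flip (s0_f12266 IH)
theorem s0_f12263r : ed sl_df s0_v827 = s0_v826 :=
  edge_flip (s0_f12263 IH)
theorem s0_f12260r : ed sl_hf s0_v826 = s0_v825 :=
  edge_flip (s0_f12260 IH)
theorem s0_f12257r : ed sl_if s0_v825 = s0_v824 :=
  edge_flip (s0_f12257 IH)
theorem s0_f12254r : ed sl_df s0_v824 = s0_v823 :=
  edge_flip (s0_f12254 IH)
theorem s0_f12251r : ed sl_cf s0_v823 = s0_v822 :=
  edge_flip (s0_f12251 IH)
theorem s0_f12248r : ed sl_bf s0_v822 = s0_v821 :=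
  edge_flip (s0_f12248 IH)
theorem s0_f12245r : ed sl_df s0_v821 = s0_v820 :=
  edge_flip (s0_f12245 IH)
theorem s0_f12242r : ed sl_ef s0_v820 = s0_v819 :=
  edge_flip (s0_f12242 IH)
theorem s0_f12239r : ed sl_ff s0_v819 = s0_v818 :=
  edge_flip (s0_f12239 IH)
theorem s0_f12236r : ed sl_df s0_v818 = s0_v817 :=
  edge_flip (s0_f12236 IH)
theorem s0_f12233r : ed sl_hf s0_v817 = s0_v816 :=
  edge_flip (s0_f12233 IH)
theorem s0_f12230r : ed sl_if s0_v816 = s0_v815 :=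
  edge_flip (s0_f12230 IH)
theorem s0_f12227r : ed sl_df s0_v815 = s0_v814 :=
  edge_flip (s0_f12227 IH)
theorem s0_f12223r : ed sl_cf s0_v814 = s0_v813 :=
  edge_flip (s0_f12223 IH)
theorem s0_f12185r : ed sl_bf s0_v813 = sq19194 :=
  edge_flip (s0_f12185 IH)
theorem s0_f12175r : ed sl_df sq19194 = sq17103 :=
  edge_flip (s0_f12175 IH)
theorem s0_f12174r : ed sl_ef sq17103 = sq14856 :=
  edge_flip (s0_f12174 IH)
theorem s0_f12173r : ed sl_ff sq14856 = sq13477 :=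
  edge_flip (s0_f12173 IH)
theorem s0_f12172r : ed sl_df sq13477 = sq11262 :=
  edge_flip (s0_f12172 IH)
theorem s0_f12171r : ed sl_hf sq11262 = sq9259 :=
  edge_flip (s0_f12171 IH)
theorem s0_f12170r : ed sl_if sq9259 = sq7544 :=
  edge_flip (s0_f12170 IH)
theorem s0_f7167r : ed sl_df sq7544 = sq6049 :=
  edge_flip (s0_f7167 IH)

end

end

end Cfsg.Agent.Helper28.S1689
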