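import Cfsg.Agent.Lib.Helper28.S1689.Seeds3

set_option autoImplicit false
set_option maxRecDepth 100000
set_option linter.all false

namespace Cfsg.Agent.Helper28.S1689

open Cfsg.Agent.Helper28
open Cfsg.Spor.Fi23 (Gen)

noncomputable section

section
variable (IH : ∀ y q, lvl y q < 47 → EntryOK rels S fwd inv o plet idx y q)
include IH

theorem s0_f12169r : ed sl_cf sq6049 = sq4770 :=
  edge_flip (s0_f12169 IH)
theorem s0_f4284r : ed sl_bf sq4770 = sq3692 :=
  edge_flip (s0_f4284 IH)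
theorem s0_f12168r : ed sl_df sq3692 = sq2783 :=
  edge_flip (s0_f12168 IH)
theorem s0_f12167r : ed sl_ef sq2783 = sq2049 :=
  edge_flip (s0_f12167 IH)
theorem s0_f12166r : ed sl_ff sq2049 = sq1494 :=
  edge_flip (s0_f12166 IH)
theorem s0_f3626r : ed sl_df sq1494 = sq1104 :=
  edge_flip (s0_f3626 IH)
theorem s0_f6137r : ed sl_hf sq1104 = sq784 :=
  edge_flip (s0_f6137 IH)
theorem s0_f12165r : ed sl_if sq784 = sq784 :=
  edge_flip (s0_f12165 IH)
theorem s0_f7691r : ed sl_df sq784 = sq549 :=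
  edge_flip (s0_f7691 IH)
theorem s0_f12164r : ed sl_cf sq549 = sq379 :=
  edge_flip (s0_f12164 IH)
theorem s0_f521r : ed sl_bf sq379 = sq282 :=
  edge_flip (s0_f521 IH)
theorem s0_f9443r : ed sl_df sq282 = sq282 :=
  edge_flip (s0_f9443 IH)
theorem s0_f9444r : ed sl_ef sq282 = sq192 :=
  edge_flip (s0_f9444 IH)
theorem s0_f9445r : ed sl_ff sq192 = sq132 :=
  edge_flip (s0_f9445 IH)
theorem s0_f4111r : ed sl_df sq132 = sq89 :=
  edge_flip (s0_f4111 IH)
theorem s0_f8678r : ed sl_hf sq89 = sq60 :=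
  edge_flip (s0_f8678 IH)
theorem s0_f12151r : ed sl_if sq60 = sq40 :=
  edge_flip (s0_f12151 IH)
theorem s0_f4099r : ed sl_df sq40 = sq58 :=
  edge_flip (s0_f4099 IH)
theorem s0_f903r : ed sl_cf sq58 = sq58 :=
  edge_flip (s0_f903 IH)
theorem s0_f12176r : ed sl_bf sq58 = sq80 :=
  edge_flip (s0_f12176 IH)
theorem s0_f406r : ed sl_df sq80 = sq56 :=
  edge_flip (s0_f406 IH)
theorem s0_f405r : ed sl_ef sq56 = sq39 :=
  edge_flip (s0_f405 IH)
theorem s0_f404r : ed sl_ff sq39 = sq39 :=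
  edge_flip (s0_f404 IH)
theorem s0_f403r : ed sl_hf sq39 = sq39 :=
  edge_flip (s0_f403 IH)
theorem s0_f7010r : ed sl_if sq39 = sq57 :=
  edge_flip (s0_f7010 IH)
theorem s0_f2314r : ed sl_cf sq57 = sq57 :=
  edge_flip (s0_f2314 IH)
theorem s0_f2382r : ed sl_bf sq57 = sq41 :=
  edge_flip (s0_f2382 IH)
theorem s0_f318r : ed sl_df sq41 = sq41 :=
  edge_flip (s0_f318 IH)
theorem s0_f317r : ed sl_ef sq41 = sq60 :=
  edge_flip (s0_f317 IH)
theorem s0_f316r : ed sl_ff sq60 = sq88 :=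
  edge_flip (s0_f316 IH)
theorem s0_f12177r : ed sl_df sq88 = sq126 :=
  edge_flip (s0_f12177 IH)
theorem s0_f8570r : ed sl_hf sq126 = sq187 :=
  edge_flip (s0_f8570 IH)
theorem s0_f12178r : ed sl_if sq187 = sq274 :=
  edge_flip (s0_f12178 IH)
theorem s0_f12179r : ed sl_df sq274 = sq402 :=
  edge_flip (s0_f12179 IH)
theorem s0_f1870r : ed sl_cf sq402 = sq583 :=
  edge_flip (s0_f1870 IH)
theorem s0_f12180r : ed sl_bf sq583 = sq832 :=
  edge_flip (s0_f12180 IH)
theorem s0_f12181r : ed sl_df sq832 = sq832 :=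
  edge_flip (s0_f12181 IH)
theorem s0_f12182r : ed sl_ef sq832 = sq1171 :=
  edge_flip (s0_f12182 IH)
theorem s0_f12183r : ed sl_ff sq1171 = sq1628 :=
  edge_flip (s0_f12183 IH)
theorem s0_f12184r : ed sl_df sq1628 = sq2238 :=
  edge_flip (s0_f12184 IH)
theorem s0_f7756r : ed sl_hf sq2238 = sq3035 :=
  edge_flip (s0_f7756 IH)
theorem s0_f12338 : ed sl_if sq3035 = s0_v851 :=
  gap_rel s0_rot88 (path_edge (s0_f7756r IH) (path_edge (s0_f12184r IH) (path_edge (s0_f12183r IH) (path_edge (s0_f12182r IH) (path_edge (s0_f12181r IH) (path_edge (s0_f12180r IH) (path_edge (s0_f1870r IH) (path_edge (s0_f12179r IH) (path_edge (s0_f12178r IH) (path_edge (s0_f8570r IH) (path_edge (s0_f12177r IH) (path_edge (s0_f316r IH) (path_edge (s0_f317r IH) (path_edge (s0_f318r IH) (path_edge (s0_f2382r IH) (path_edge (s0_f2314r IH) (path_edge (s0_f2313r IH) (path_edge (s0_f7010r IH) (path_edge (s0_f403r IH) (path_edge (s0_f3284r IH) (path_edge (s0_f404r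 IH) (path_edge (s0_f405r IH) (path_edge (s0_f406r IH) (path_edge (s0_f12176r IH) (path_edge (s0_f903r IH) (path_edge (s0_f4099r IH) (path_edge (s0_f12151r IH) (path_edge (s0_f8678r IH) (path_edge (s0_f4111r IH) (path_edge (s0_f9445r IH) (path_edge (s0_f9444r IH) (path_edge (s0_f9443r IH) (path_edge (s0_f521r IH) (path_edge (s0_f12164r IH) (path_edge (s0_f7691r IH) (path_edge (s0_f12165r IH) (path_edge (s0_f6137r IH) (path_edge (s0_f3626r IH) (path_edge (s0_f12166r IH) (path_edge (s0_f12167r IH) (path_edge (s0_f12168r IH) (path_edge (s0_f4284r IH) (path_edge (s0_f12169r IH) (path_edge (s0_f7167r IH) (path_edge (s0_f12170r IH) (path_edge (s0_f12171r IH) (path_edge (s0_f12172r IH) (path_edge (s0_f12173r IH) (path_edge (s0_f12174r IH) (path_edge (s0_f12175r IH) (path_edge (s0_f12185r IH) (path_edge (s0_f12223r IH) (path_edge (s0_f12227r IH) (path_edge (s0_f12230r IH) (path_edge (s0_f12233r IH) (path_edge (s0_f12236r IH) (path_edge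 (s0_f12239r IH) (path_edge (s0_f12242r IH) (path_edge (s0_f12245r IH) (path_edge (s0_f12248r IH) (path_edge (s0_f12251r IH) (path_edge (s0_f12254r IH) (path_edge (s0_f12257r IH) (path_edge (s0_f12260r IH) (path_edge (s0_f12263r IH) (path_edge (s0_f12266r IH) (path_edge (s0_f12269r IH) (path_edge (s0_f12272r IH) (path_edge (s0_f12275r IH) (path_edge (s0_f12278r IH) (path_edge (s0_f12281r IH) (path_edge (s0_f12284r IH) (path_edge (s0_f12287r IH) (path_edge (s0_f12290r IH) (path_edge (s0_f12293r IH) (path_edge (s0_f12296r IH) (path_edge (s0_f12299r IH) (path_edge (s0_f12302r IH) (path_edge (s0_f12305r IH) (path_edge (s0_f12308r IH) (path_edge (s0_f12311r IH) (path_edge (s0_f12314r IH) (path_edge (s0_f12317r IH) (path_edge (s0_f12320r IH) (path_edge (s0_f12323r IH) (path_edge (s0_f12326r IH) (path_edge (s0_f12329r IH) (path_edge (s0_f12332r IH) (path_edge (s0_f12335r IH) (path_nil s0_v851))))))))))))))))))))))))))))))))))))))))))))))))))))))))))))))))))))))))))))))))))))))))))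
theorem s0_f12342 : ed sl_dt sq3035 = sq3035 :=
  real_edge rels S fwd inv o lvl plet idx 47 IH Gen.d sp3035 sp3035 rfl rfl
theorem s0_f12338r : ed sl_it s0_v851 = sq3035 :=
  edge_flip (s0_f12338 IH)
theorem s0_f12343 : ed sl_it sq3035 = s0_v850 :=
  gap_rel s0_rot70 (path_edge (s0_f12342 IH) (path_edge (s0_f12338r IH) (path_edge (s0_f12335 IH) (path_nil s0_v850))))
theorem s0_f12343r : ed sl_if s0_v850 = sq3035 :=
  edge_flip (s0_f12343 IH)
theorem s0_f7414r : ed sl_hf sq3035 = sq2238 :=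
  edge_flip (s0_f7414 IH)
theorem s0_f7413r : ed sl_if sq2238 = sq1636 :=
  edge_flip (s0_f7413 IH)
theorem s0_f7412r : ed sl_hf sq1636 = sq2253 :=
  edge_flip (s0_f7412 IH)
theorem s0_f12355 : ed sl_hf s0_v545 = s0_v850 :=
  gap_rel s0_rot67 (path_edge (s0_f7398 IH) (path_edge (s0_f7412r IH) (path_edge (s0_f7413r IH) (path_edge (s0_f7414r IH) (path_edge (s0_f12343r IH) (path_nil s0_v850))))))
theorem s0_f12355r : ed sl_ht s0_v850 = s0_v545 :=
  edge_flip (s0_f12355 IH)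
theorem s0_f7379r : ed sl_ct s0_v545 = s0_v544 :=
  edge_flip (s0_f7379 IH)
theorem s0_f12358 : ed sl_ht s0_v544 = s0_v849 :=
  gap_rel s0_rot65 (path_edge (s0_f7379r IH) (path_edge (s0_f12355r IH) (path_edge (s0_f12332 IH) (path_nil s0_v849))))
theorem s0_f12358r : ed sl_hf s0_v849 = s0_v544 :=
  edge_flip (s0_f12358 IH)
theorem s0_f12359 : ed sl_hf s0_v543 = s0_v848 :=
  gap_rel s0_rot37 (path_edge (s0_f7375r IH) (path_edge (s0_f12358r IH) (path_edge (s0_f12330 IH) (path_nil s0_v848))))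
theorem s0_f12360 : ed sl_hf s0_v544 = s0_v849 :=
  gap_rel s0_rot13 (path_edge (s0_f12358r IH) (path_nil s0_v849))
theorem s0_f12360r : ed sl_ht s0_v849 = s0_v544 :=
  edge_flip (s0_f12360 IH)
theorem s0_f7376r : ed sl_bt s0_v544 = s0_v543 :=
  edge_flip (s0_f7376 IH)
theorem s0_f12361 : ed sl_ht s0_v543 = s0_v848 :=
  gap_rel s0_rot56 (path_edge (s0_f7376r IH) (path_edge (s0_f12360r IH) (path_edge (s0_f12329 IH) (path_nil s0_v848))))
theorem s0_f12565 : ed sl_bt sq10398 = sq8541 :=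
  real_edge rels S fwd inv o lvl plet idx 47 IH Gen.b sp10398 sp8541 rfl rfl
theorem s0_f12605 : ed sl_it sq42 = sq63 :=
  real_edge rels S fwd inv o lvl plet idx 47 IH Gen.i sp42 sp63 rfl rfl
theorem s0_f12612 : ed sl_it sq132 = sq132 :=
  real_edge rels S fwd inv o lvl plet idx 47 IH Gen.i sp132 sp132 rfl rfl
theorem s0_f12613 : ed sl_ht sq132 = sq189 :=
  real_edge rels S fwd inv o lvl plet idx 47 IH Gen.h sp132 sp189 rfl rfl
theorem s0_f12614 : ed sl_bt sq397 = sq532 :=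
  real_edge rels S fwd inv o lvl plet idx 47 IH Gen.b sp397 sp532 rfl rfl
theorem s0_f12615 : ed sl_ct sq532 = sq757 :=
  real_edge rels S fwd inv o lvl plet idx 47 IH Gen.c sp532 sp757 rfl rfl
theorem s0_f12616 : ed sl_it sq1016 = sq1398 :=
  real_edge rels S fwd inv o lvl plet idx 47 IH Gen.i sp1016 sp1398 rfl rfl
theorem s0_f12617 : ed sl_dt sq1398 = sq1059 :=
  real_edge rels S fwd inv o lvl plet idx 47 IH Gen.d sp1398 sp1059 rfl rfl
theorem s0_f12618 : ed sl_bt sq2004 = sq2713 :=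
  real_edge rels S fwd inv o lvl plet idx 47 IH Gen.b sp2004 sp2713 rfl rfl
theorem s0_f12619 : ed sl_it sq2963 = sq2196 :=
  real_edge rels S fwd inv o lvl plet idx 47 IH Gen.i sp2963 sp2196 rfl rfl
theorem s0_f12620 : ed sl_bt sq7876 = sq6432 :=
  real_edge rels S fwd inv o lvl plet idx 47 IH Gen.b sp7876 sp6432 rfl rfl
theorem s0_f12621 : ed sl_ct sq6432 = sq6432 :=
  real_edge rels S fwd inv o lvl plet idx 47 IH Gen.c sp6432 sp6432 rfl rfl
theorem s0_f12622 : ed sl_dt sq6432 = sq5162 :=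
  real_edge rels S fwd inv o lvl plet idx 47 IH Gen.d sp6432 sp5162 rfl rfl
theorem s0_f12623 : ed sl_it sq365 = sq247 :=
  real_edge rels S fwd inv o lvl plet idx 47 IH Gen.i sp365 sp247 rfl rfl
theorem s0_f12624 : ed sl_it sq128 = sq188 :=
  real_edge rels S fwd inv o lvl plet idx 47 IH Gen.i sp128 sp188 rfl rfl
theorem s0_f12625 : ed sl_ct sq277 = sq189 :=
  real_edge rels S fwd inv o lvl plet idx 47 IH Gen.c sp277 sp189 rfl rfl
theorem s0_f12626 : ed sl_bt sq407 = sq277 :=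
  real_edge rels S fwd inv o lvl plet idx 47 IH Gen.b sp407 sp277 rfl rfl
theorem s0_f12627 : ed sl_dt sq407 = sq407 :=
  real_edge rels S fwd inv o lvl plet idx 47 IH Gen.d sp407 sp407 rfl rfl
theorem s0_f12628 : ed sl_et sq592 = sq407 :=
  real_edge rels S fwd inv o lvl plet idx 47 IH Gen.e sp592 sp407 rfl rfl
theorem s0_f12629 : ed sl_ft sq847 = sq592 :=
  real_edge rels S fwd inv o lvl plet idx 47 IH Gen.f sp847 sp592 rfl rfl
theorem s0_f12630 : ed sl_dt sq1192 = sq847 :=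
  real_edge rels S fwd inv o lvl plet idx 47 IH Gen.d sp1192 sp847 rfl rfl
theorem s0_f12631 : ed sl_it sq1647 = sq1192 :=
  real_edge rels S fwd inv o lvl plet idx 47 IH Gen.i sp1647 sp1192 rfl rfl
theorem s0_f12632 : ed sl_dt sq1184 = sq1647 :=
  real_edge rels S fwd inv o lvl plet idx 47 IH Gen.d sp1184 sp1647 rfl rfl
theorem s0_f12633 : ed sl_ct sq1499 = sq1184 :=
  real_edge rels S fwd inv o lvl plet idx 47 IH Gen.c sp1499 sp1184 rfl rfl
theorem s0_f12634 : ed sl_ht sq4432 = sq3450 :=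
  real_edge rels S fwd inv o lvl plet idx 47 IH Gen.h sp4432 sp3450 rfl rfl
theorem s0_f12635 : ed sl_it sq5586 = sq4432 :=
  real_edge rels S fwd inv o lvl plet idx 47 IH Gen.i sp5586 sp4432 rfl rfl
theorem s0_f12636 : ed sl_ct sq8541 = sq6974 :=
  real_edge rels S fwd inv o lvl plet idx 47 IH Gen.c sp8541 sp6974 rfl rfl
theorem s0_f12637 : ed sl_et sq11922 = sq11922 :=
  real_edge rels S fwd inv o lvl plet idx 47 IH Gen.e sp11922 sp11922 rfl rfl
theorem s0_f12638 : ed sl_ft sq10791 = sq11922 :=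
  real_edge rels S fwd inv o lvl plet idx 47 IH Gen.f sp10791 sp11922 rfl rfl
theorem s0_f12639 : ed sl_dt sq9210 = sq10791 :=
  real_edge rels S fwd inv o lvl plet idx 47 IH Gen.d sp9210 sp10791 rfl rfl
theorem s0_f12640 : ed sl_ht sq11188 = sq9210 :=
  real_edge rels S fwd inv o lvl plet idx 47 IH Gen.h sp11188 sp9210 rfl rfl
theorem s0_f12641 : ed sl_it sq9335 = sq11188 :=
  real_edge rels S fwd inv o lvl plet idx 47 IH Gen.i sp9335 sp11188 rfl rfl
theorem s0_f12642 : ed sl_dt sq11338 = sq9335 :=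
  real_edge rels S fwd inv o lvl plet idx 47 IH Gen.d sp11338 sp9335 rfl rfl
theorem s0_f12643 : ed sl_it sq5162 = s0_v879 :=
  rfl
theorem s0_f12643r : ed sl_if s0_v879 = sq5162 :=
  edge_flip (s0_f12643 IH)
theorem s0_f3529r : ed sl_ef sq5162 = sq4029 :=
  edge_flip (s0_f3529 IH)
theorem s0_f12646 : ed sl_ef s0_v240 = s0_v879 :=
  gap_rel s0_rot50 (path_edge (s0_f3525 IH) (path_edge (s0_f3529r IH) (path_edge (s0_f12643r IH) (path_nil s0_v879))))
theorem s0_f12650 : ed sl_jt sq5162 = sq5162 :=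
  real_edge rels S fwd inv o lvl plet idx 47 IH Gen.j sp5162 sp5162 rfl rfl
theorem s0_f12651 : ed sl_if sq5162 = s0_v879 :=
  gap_rel s0_rot9 (path_edge (s0_f12643r IH) (path_nil s0_v879))
theorem s0_f12657 : ed sl_ft sq5162 = sq6435 :=
  real_edge rels S fwd inv o lvl plet idx 47 IH Gen.f sp5162 sp6435 rfl rfl
theorem s0_f12651r : ed sl_it s0_v879 = sq5162 :=
  edge_flip (s0_f12651 IH)
theorem s0_f12659 : ed sl_jt s0_v879 = s0_v879 :=
  gap_rel s0_rot12 (path_edge (s0_f12643 IH) (path_edge (s0_f12650 IH) (path_edge (s0_f12651r IH) (path_nil s0_v879))))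
theorem s0_f12660 : ed sl_ht s0_v879 = s0_v880 :=
  rfl
theorem s0_f12660r : ed sl_hf s0_v880 = s0_v879 :=
  edge_flip (s0_f12660 IH)
theorem s0_f12662 : ed sl_hf s0_v879 = s0_v880 :=
  gap_rel s0_rot13 (path_edge (s0_f12660r IH) (path_nil s0_v880))
theorem s0_f12659r : ed sl_jf s0_v879 = s0_v879 :=
  edge_flip (s0_f12659 IH)
theorem s0_f12663 : ed sl_jf s0_v880 = s0_v880 :=
  gap_rel s0_rot15 (path_edge (s0_f12662 IH) (path_edge (s0_f12659r IH) (path_edge (s0_f12660r IH) (path_nil s0_v880))))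
theorem s0_f12665 : ed sl_dt s0_v880 = s0_v881 :=
  rfl
theorem s0_f12665r : ed sl_df s0_v881 = s0_v880 :=
  edge_flip (s0_f12665 IH)
theorem s0_f12666 : ed sl_df s0_v880 = s0_v881 :=
  gap_rel s0_rot4 (path_edge (s0_f12665r IH) (path_nil s0_v881))
theorem s0_f12668 : ed sl_jf s0_v881 = s0_v881 :=
  gap_rel s0_rot6 (path_edge (s0_f12666 IH) (path_edge (s0_f12663 IH) (path_edge (s0_f12665r IH) (path_nil s0_v881))))
theorem s0_f12670 : ed sl_ft s0_v881 = s0_v882 :=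
  rfl
theorem s0_f12670r : ed sl_ff s0_v882 = s0_v881 :=
  edge_flip (s0_f12670 IH)
theorem s0_f12671 : ed sl_ff s0_v881 = s0_v882 :=
  gap_rel s0_rot22 (path_edge (s0_f12670r IH) (path_nil s0_v882))
theorem s0_f12672 : ed sl_jf s0_v882 = s0_v882 :=
  gap_rel s0_rot23 (path_edge (s0_f12671 IH) (path_edge (s0_f12668 IH) (path_edge (s0_f12670r IH) (path_nil s0_v882))))
theorem s0_f12673 : ed sl_et s0_v882 = s0_v883 :=
  rfl
theorem s0_f12673r : ed sl_ef s0_v883 = s0_v882 :=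
  edge_flip (s0_f12673 IH)
theorem s0_f12674 : ed sl_ef s0_v882 = s0_v883 :=
  gap_rel s0_rot17 (path_edge (s0_f12673r IH) (path_nil s0_v883))
theorem s0_f12676 : ed sl_dt s0_v883 = s0_v884 :=
  rfl
theorem s0_f12676r : ed sl_df s0_v884 = s0_v883 :=
  edge_flip (s0_f12676 IH)
theorem s0_f12677 : ed sl_df s0_v883 = s0_v884 :=
  gap_rel s0_rot4 (path_edge (s0_f12676r IH) (path_nil s0_v884))
theorem s0_f12679 : ed sl_bt s0_v884 = s0_v885 :=
  rfl
theorem s0_f12679r : ed sl_bf s0_v885 = s0_v884 :=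
  edge_flip (s0_f12679 IH)
theorem s0_f12680 : ed sl_bf s0_v884 = s0_v885 :=
  gap_rel s0_rot20 (path_edge (s0_f12679r IH) (path_nil s0_v885))
theorem s0_f12622r : ed sl_df sq5162 = sq6432 :=
  edge_flip (s0_f12622 IH)
theorem s0_f12621r : ed sl_cf sq6432 = sq6432 :=
  edge_flip (s0_f12621 IH)
theorem s0_f12620r : ed sl_bf sq6432 = sq7876 :=
  edge_flip (s0_f12620 IH)
theorem s0_f6726r : ed sl_df sq7876 = sq6372 :=
  edge_flip (s0_f6726 IH)
theorem s0_f6725r : ed sl_ef sq6372 = sq5070 :=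
  edge_flip (s0_f6725 IH)
theorem s0_f6724r : ed sl_ff sq5070 = sq3940 :=
  edge_flip (s0_f6724 IH)
theorem s0_f6359r : ed sl_df sq3940 = sq2974 :=
  edge_flip (s0_f6359 IH)
theorem s0_f8133r : ed sl_hf sq2974 = sq2196 :=
  edge_flip (s0_f8133 IH)
theorem s0_f12619r : ed sl_if sq2196 = sq2963 :=
  edge_flip (s0_f12619 IH)
theorem s0_f99r : ed sl_df sq2963 = sq3585 :=
  edge_flip (s0_f99 IH)
theorem s0_f10653r : ed sl_cf sq3585 = sq2713 :=
  edge_flip (s0_f10653 IH)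
theorem s0_f12618r : ed sl_bf sq2713 = sq2004 :=
  edge_flip (s0_f12618 IH)
theorem s0_f10621r : ed sl_df sq2004 = sq1465 :=
  edge_flip (s0_f10621 IH)
theorem s0_f10620r : ed sl_ef sq1465 = sq1059 :=
  edge_flip (s0_f10620 IH)
theorem s0_f10619r : ed sl_ff sq1059 = sq1059 :=
  edge_flip (s0_f10619 IH)
theorem s0_f12617r : ed sl_df sq1059 = sq1398 :=
  edge_flip (s0_f12617 IH)
theorem s0_f10737r : ed sl_hf sq1398 = sq1398 :=
  edge_flip (s0_f10737 IH)
theorem s0_f12616r : ed sl_if sq1398 = sq1016 :=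
  edge_flip (s0_f12616 IH)
theorem s0_f12123r : ed sl_df sq1016 = sq757 :=
  edge_flip (s0_f12123 IH)
theorem s0_f12615r : ed sl_cf sq757 = sq532 :=
  edge_flip (s0_f12615 IH)
theorem s0_f12614r : ed sl_bf sq532 = sq397 :=
  edge_flip (s0_f12614 IH)
theorem s0_f4221r : ed sl_df sq397 = sq269 :=
  edge_flip (s0_f4221 IH)
theorem s0_f4222r : ed sl_ef sq269 = sq187 :=
  edge_flip (s0_f4222 IH)
theorem s0_f4223r : ed sl_ff sq187 = sq128 :=
  edge_flip (s0_f4223 IH)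
theorem s0_f8815r : ed sl_df sq128 = sq189 :=
  edge_flip (s0_f8815 IH)
theorem s0_f12613r : ed sl_hf sq189 = sq132 :=
  edge_flip (s0_f12613 IH)
theorem s0_f12612r : ed sl_if sq132 = sq132 :=
  edge_flip (s0_f12612 IH)
theorem s0_f253r : ed sl_cf sq89 = sq64 :=
  edge_flip (s0_f253 IH)
theorem s0_f9748r : ed sl_bf sq64 = sq64 :=
  edge_flip (s0_f9748 IH)
theorem s0_f252r : ed sl_df sq64 = sq94 :=
  edge_flip (s0_f252 IH)
theorem s0_f251r : ed sl_ef sq94 = sq94 :=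
  edge_flip (s0_f251 IH)
theorem s0_f250r : ed sl_ff sq94 = sq136 :=
  edge_flip (s0_f250 IH)
theorem s0_f6966r : ed sl_df sq136 = sq93 :=
  edge_flip (s0_f6966 IH)
theorem s0_f10042r : ed sl_hf sq93 = sq63 :=
  edge_flip (s0_f10042 IH)
theorem s0_f12605r : ed sl_if sq63 = sq42 :=
  edge_flip (s0_f12605 IH)
theorem s0_f3277r : ed sl_df sq42 = sq42 :=
  edge_flip (s0_f3277 IH)
theorem s0_f924r : ed sl_cf sq42 = sq59 :=
  edge_flip (s0_f924 IH)
theorem s0_f3312r : ed sl_bf sq59 = sq81 :=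
  edge_flip (s0_f3312 IH)
theorem s0_f3310r : ed sl_df sq81 = sq116 :=
  edge_flip (s0_f3310 IH)
theorem s0_f3309r : ed sl_ef sq116 = sq168 :=
  edge_flip (s0_f3309 IH)
theorem s0_f3308r : ed sl_ff sq168 = sq168 :=
  edge_flip (s0_f3308 IH)
theorem s0_f7640r : ed sl_df sq168 = sq168 :=
  edge_flip (s0_f7640 IH)
theorem s0_f3307r : ed sl_hf sq168 = sq247 :=
  edge_flip (s0_f3307 IH)
theorem s0_f12623r : ed sl_if sq247 = sq365 :=
  edge_flip (s0_f12623 IH)
theorem s0_f3244r : ed sl_cf sq530 = sq530 :=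
  edge_flip (s0_f3244 IH)
theorem s0_f12145r : ed sl_bf sq530 = sq395 :=
  edge_flip (s0_f12145 IH)
theorem s0_f2009r : ed sl_df sq395 = sq268 :=
  edge_flip (s0_f2009 IH)
theorem s0_f2010r : ed sl_ef sq268 = sq186 :=
  edge_flip (s0_f2010 IH)
theorem s0_f2011r : ed sl_ff sq186 = sq127 :=
  edge_flip (s0_f2011 IH)
theorem s0_f7429r : ed sl_df sq127 = sq127 :=
  edge_flip (s0_f7429 IH)
theorem s0_f2012r : ed sl_hf sq127 = sq188 :=
  edge_flip (s0_f2012 IH)
theorem s0_f12624r : ed sl_if sq188 = sq128 :=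
  edge_flip (s0_f12624 IH)
theorem s0_f12625r : ed sl_cf sq189 = sq277 :=
  edge_flip (s0_f12625 IH)
theorem s0_f12626r : ed sl_bf sq277 = sq407 :=
  edge_flip (s0_f12626 IH)
theorem s0_f12627r : ed sl_df sq407 = sq407 :=
  edge_flip (s0_f12627 IH)
theorem s0_f12628r : ed sl_ef sq407 = sq592 :=
  edge_flip (s0_f12628 IH)
theorem s0_f12629r : ed sl_ff sq592 = sq847 :=
  edge_flip (s0_f12629 IH)
theorem s0_f12630r : ed sl_df sq847 = sq1192 :=
  edge_flip (s0_f12630 IH)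
theorem s0_f1709r : ed sl_hf sq1192 = sq1192 :=
  edge_flip (s0_f1709 IH)
theorem s0_f12631r : ed sl_if sq1192 = sq1647 :=
  edge_flip (s0_f12631 IH)
theorem s0_f12632r : ed sl_df sq1647 = sq1184 :=
  edge_flip (s0_f12632 IH)
theorem s0_f12633r : ed sl_cf sq1184 = sq1499 :=
  edge_flip (s0_f12633 IH)
theorem s0_f809r : ed sl_bf sq1499 = sq1083 :=
  edge_flip (s0_f809 IH)
theorem s0_f2022r : ed sl_df sq1083 = sq1500 :=
  edge_flip (s0_f2022 IH)
theorem s0_f2023r : ed sl_ef sq1500 = sq2058 :=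
  edge_flip (s0_f2023 IH)
theorem s0_f2024r : ed sl_ff sq2058 = sq2642 :=
  edge_flip (s0_f2024 IH)
theorem s0_f7490r : ed sl_df sq2642 = sq3450 :=
  edge_flip (s0_f7490 IH)
theorem s0_f12634r : ed sl_hf sq3450 = sq4432 :=
  edge_flip (s0_f12634 IH)
theorem s0_f12635r : ed sl_if sq4432 = sq5586 :=
  edge_flip (s0_f12635 IH)
theorem s0_f11221r : ed sl_df sq5586 = sq6974 :=
  edge_flip (s0_f11221 IH)
theorem s0_f12636r : ed sl_cf sq6974 = sq8541 :=
  edge_flip (s0_f12636 IH)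
theorem s0_f12565r : ed sl_bf sq8541 = sq10398 :=
  edge_flip (s0_f12565 IH)
theorem s0_f3684r : ed sl_df sq10398 = sq11922 :=
  edge_flip (s0_f3684 IH)
theorem s0_f12637r : ed sl_ef sq11922 = sq11922 :=
  edge_flip (s0_f12637 IH)
theorem s0_f12638r : ed sl_ff sq11922 = sq10791 :=
  edge_flip (s0_f12638 IH)
theorem s0_f12639r : ed sl_df sq10791 = sq9210 :=
  edge_flip (s0_f12639 IH)
theorem s0_f12640r : ed sl_hf sq9210 = sq11188 :=
  edge_flip (s0_f12640 IH)
theorem s0_f12641r : ed sl_if sq11188 = sq9335 :=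
  edge_flip (s0_f12641 IH)
theorem s0_f12642r : ed sl_df sq9335 = sq11338 :=
  edge_flip (s0_f12642 IH)
theorem s0_f12682 : ed sl_cf sq11338 = s0_v885 :=
  gap_rel s0_rot63 (path_edge (s0_f12642r IH) (path_edge (s0_f12641r IH) (path_edge (s0_f12640r IH) (path_edge (s0_f12639r IH) (path_edge (s0_f12638r IH) (path_edge (s0_f12637r IH) (path_edge (s0_f3684r IH) (path_edge (s0_f12565r IH) (path_edge (s0_f12636r IH) (path_edge (s0_f11221r IH) (path_edge (s0_f12635r IH) (path_edge (s0_f12634r IH) (path_edge (s0_f7490r IH) (path_edge (s0_f2024r IH) (path_edge (s0_f2023r IH) (path_edge (s0_f2022r IH) (path_edge (s0_f809r IH) (path_edge (s0_f12633r IH) (path_edge (s0_f12632r IH) (path_edge (s0_f12631r IH) (path_edge (s0_f1709r IH) (path_edge (s0_f12630r IH) (path_edge (s0_f12629r IH) (path_edge (s0_f12628r IH) (path_edge (s0_f12627r IH) (path_edge (s0_f12626r IH) (path_edge (s0_f12625r IH) (path_edge (s0_f8815r IH) (path_edge (s0_f12624r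 IH) (path_edge (s0_f2012r IH) (path_edge (s0_f7429r IH) (path_edge (s0_f2011r IH) (path_edge (s0_f2010r IH) (path_edge (s0_f2009r IH) (path_edge (s0_f12145r IH) (path_edge (s0_f3244r IH) (path_edge (s0_f10346r IH) (path_edge (s0_f12623r IH) (path_edge (s0_f3307r IH) (path_edge (s0_f7640r IH) (path_edge (s0_f3308r IH) (path_edge (s0_f3309r IH) (path_edge (s0_f3310r IH) (path_edge (s0_f3312r IH) (path_edge (s0_f924r IH) (path_edge (s0_f3277r IH) (path_edge (s0_f12605r IH) (path_edge (s0_f10042r IH) (path_edge (s0_f6966r IH) (path_edge (s0_f250r IH) (path_edge (s0_f251r IH) (path_edge (s0_f252r IH) (path_edge (s0_f9748r IH) (path_edge (s0_f253r IH) (path_edge (s0_f4111r IH) (path_edge (s0_f12612r IH) (path_edge (s0_f12613r IH) (path_edge (s0_f8815r IH) (path_edge (s0_f4223r IH) (path_edge (s0_f4222r IH) (path_edge (s0_f4221r IH) (path_edge (s0_f12614r IH) (path_edge (s0_f12615r IH) (path_edge (s0_f12123r IH) (path_edge (s0_f12616r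 IH) (path_edge (s0_f10737r IH) (path_edge (s0_f12617r IH) (path_edge (s0_f10619r IH) (path_edge (s0_f10620r IH) (path_edge (s0_f10621r IH) (path_edge (s0_f12618r IH) (path_edge (s0_f10653r IH) (path_edge (s0_f99r IH) (path_edge (s0_f12619r IH) (path_edge (s0_f8133r IH) (path_edge (s0_f6359r IH) (path_edge (s0_f6724r IH) (path_edge (s0_f6725r IH) (path_edge (s0_f6726r IH) (path_edge (s0_f12620r IH) (path_edge (s0_f12621r IH) (path_edge (s0_f12622r IH) (path_edge (s0_f12643r IH) (path_edge (s0_f12660r IH) (path_edge (s0_f12665r IH) (path_edge (s0_f12670r IH) (path_edge (s0_f12673r IH) (path_edge (s0_f12676r IH) (path_edge (s0_f12679r IH) (path_nil s0_v885))))))))))))))))))))))))))))))))))))))))))))))))))))))))))))))))))))))))))))))))))))))))))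
theorem s0_f12683 : ed sl_bt sq11338 = sq9336 :=
  real_edge rels S fwd inv o lvl plet idx 47 IH Gen.b sp11338 sp9336 rfl rfl
theorem s0_f12684 : ed sl_ct sq9336 = sq7659 :=
  real_edge rels S fwd inv o lvl plet idx 47 IH Gen.c sp9336 sp7659 rfl rfl
theorem s0_f12685 : ed sl_bt sq7659 = sq9394 :=
  real_edge rels S fwd inv o lvl plet idx 47 IH Gen.b sp7659 sp9394 rfl rfl
theorem s0_f12682r : ed sl_ct s0_v885 = sq11338 :=
  edge_flip (s0_f12682 IH)
theorem s0_f12686 : ed sl_ct sq9394 = s0_v884 :=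
  gap_rel s0_rot26 (path_edge (s0_f12685 IH) (path_edge (s0_f12684 IH) (path_edge (s0_f12683 IH) (path_edge (s0_f12682r IH) (path_edge (s0_f12679 IH) (path_nil s0_v884))))))
theorem s0_f12687 : ed sl_ct sq11338 = s0_v885 :=
  gap_rel s0_rot64 (path_edge (s0_f12682r IH) (path_nil s0_v885))
theorem s0_f12688 : ed sl_ht sq11338 = sq11338 :=
  real_edge rels S fwd inv o lvl plet idx 47 IH Gen.h sp11338 sp11338 rfl rfl
theorem s0_f12689 : ed sl_ht s0_v885 = s0_v885 :=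
  gap_rel s0_rot65 (path_edge (s0_f12687 IH) (path_edge (s0_f12688 IH) (path_edge (s0_f12682r IH) (path_nil s0_v885))))
theorem s0_f12689r : ed sl_hf s0_v885 = s0_v885 :=
  edge_flip (s0_f12689 IH)
theorem s0_f12695 : ed sl_hf s0_v884 = s0_v884 :=
  gap_rel s0_rot37 (path_edge (s0_f12679r IH) (path_edge (s0_f12689r IH) (path_edge (s0_f12680 IH) (path_nil s0_v884))))
theorem s0_f12696 : ed sl_ht sq9394 = sq9394 :=
  real_edge rels S fwd inv o lvl plet idx 47 IH Gen.h sp9394 sp9394 rfl rfl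
theorem s0_f12695r : ed sl_ht s0_v884 = s0_v884 :=
  edge_flip (s0_f12695 IH)
theorem s0_f12697 : ed sl_ct s0_v884 = sq9394 :=
  gap_rel s0_rot68 (path_edge (s0_f12695r IH) (path_edge (s0_f12686 IH) (path_edge (s0_f12696 IH) (path_nil sq9394))))
theorem s0_f12700 : ed sl_bt sq9394 = sq7659 :=
  real_edge rels S fwd inv o lvl plet idx 47 IH Gen.b sp9394 sp7659 rfl rfl
theorem s0_f12707 : ed sl_jt sq9394 = sq9394 :=
  real_edge rels S fwd inv o lvl plet idx 47 IH Gen.j sp9394 sp9394 rfl rfl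
theorem s0_f12721 : ed sl_dt sq3342 = sq4267 :=
  real_edge rels S fwd inv o lvl plet idx 47 IH Gen.d sp3342 sp4267 rfl rfl
theorem s0_f12742 : ed sl_ft sq7659 = sq8705 :=
  real_edge rels S fwd inv o lvl plet idx 47 IH Gen.f sp7659 sp8705 rfl rfl
theorem s0_f12743 : ed sl_et sq8705 = sq10602 :=
  real_edge rels S fwd inv o lvl plet idx 47 IH Gen.e sp8705 sp10602 rfl rfl
theorem s0_f12744 : ed sl_dt sq10602 = sq10602 :=
  real_edge rels S fwd inv o lvl plet idx 47 IH Gen.d sp10602 sp10602 rfl rfl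
theorem s0_f12815 : ed sl_dt sq6128 = sq7659 :=
  real_edge rels S fwd inv o lvl plet idx 47 IH Gen.d sp6128 sp7659 rfl rfl
theorem s0_f12817 : ed sl_ft sq4961 = sq4961 :=
  real_edge rels S fwd inv o lvl plet idx 47 IH Gen.f sp4961 sp4961 rfl rfl
theorem s0_f12832 : ed sl_bt sq82 = sq60 :=
  real_edge rels S fwd inv o lvl plet idx 47 IH Gen.b sp82 sp60 rfl rfl
theorem s0_f12839 : ed sl_it sq84 = sq126 :=
  real_edge rels S fwd inv o lvl plet idx 47 IH Gen.i sp84 sp126 rfl rfl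
theorem s0_f12840 : ed sl_ht sq126 = sq187 :=
  real_edge rels S fwd inv o lvl plet idx 47 IH Gen.h sp126 sp187 rfl rfl
theorem s0_f12841 : ed sl_dt sq187 = sq275 :=
  real_edge rels S fwd inv o lvl plet idx 47 IH Gen.d sp187 sp275 rfl rfl
theorem s0_f12842 : ed sl_ft sq275 = sq189 :=
  real_edge rels S fwd inv o lvl plet idx 47 IH Gen.f sp275 sp189 rfl rfl
theorem s0_f12843 : ed sl_et sq189 = sq278 :=
  real_edge rels S fwd inv o lvl plet idx 47 IH Gen.e sp189 sp278 rfl rfl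
theorem s0_f12844 : ed sl_dt sq278 = sq278 :=
  real_edge rels S fwd inv o lvl plet idx 47 IH Gen.d sp278 sp278 rfl rfl
theorem s0_f12845 : ed sl_bt sq278 = sq375 :=
  real_edge rels S fwd inv o lvl plet idx 47 IH Gen.b sp278 sp375 rfl rfl
theorem s0_f12846 : ed sl_it sq774 = sq1082 :=
  real_edge rels S fwd inv o lvl plet idx 47 IH Gen.i sp774 sp1082 rfl rfl
theorem s0_f12847 : ed sl_ht sq1082 = sq1501 :=
  real_edge rels S fwd inv o lvl plet idx 47 IH Gen.h sp1082 sp1501 rfl rfl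
theorem s0_f12848 : ed sl_dt sq1501 = sq1501 :=
  real_edge rels S fwd inv o lvl plet idx 47 IH Gen.d sp1501 sp1501 rfl rfl
theorem s0_f12849 : ed sl_ft sq1501 = sq2060 :=
  real_edge rels S fwd inv o lvl plet idx 47 IH Gen.f sp1501 sp2060 rfl rfl
theorem s0_f12850 : ed sl_et sq2060 = sq2795 :=
  real_edge rels S fwd inv o lvl plet idx 47 IH Gen.e sp2060 sp2795 rfl rfl
theorem s0_f12851 : ed sl_bt sq3708 = sq4790 :=
  real_edge rels S fwd inv o lvl plet idx 47 IH Gen.b sp3708 sp4790 rfl rfl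
theorem s0_f12852 : ed sl_ct sq4790 = sq6073 :=
  real_edge rels S fwd inv o lvl plet idx 47 IH Gen.c sp4790 sp6073 rfl rfl
theorem s0_f12853 : ed sl_et sq118 = sq118 :=
  real_edge rels S fwd inv o lvl plet idx 47 IH Gen.e sp118 sp118 rfl rfl
theorem s0_f12854 : ed sl_ft sq171 = sq118 :=
  real_edge rels S fwd inv o lvl plet idx 47 IH Gen.f sp171 sp118 rfl rfl
theorem s0_f12855 : ed sl_it sq176 = sq176 :=
  real_edge rels S fwd inv o lvl plet idx 47 IH Gen.i sp176 sp176 rfl rfl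
theorem s0_f12856 : ed sl_ct sq378 = sq258 :=
  real_edge rels S fwd inv o lvl plet idx 47 IH Gen.c sp378 sp258 rfl rfl
theorem s0_f12857 : ed sl_bt sq548 = sq378 :=
  real_edge rels S fwd inv o lvl plet idx 47 IH Gen.b sp548 sp378 rfl rfl
theorem s0_f12858 : ed sl_et sq783 = sq548 :=
  real_edge rels S fwd inv o lvl plet idx 47 IH Gen.e sp783 sp548 rfl rfl
theorem s0_f12859 : ed sl_ft sq1102 = sq783 :=
  real_edge rels S fwd inv o lvl plet idx 47 IH Gen.f sp1102 sp783 rfl rfl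
theorem s0_f12860 : ed sl_dt sq1530 = sq1102 :=
  real_edge rels S fwd inv o lvl plet idx 47 IH Gen.d sp1530 sp1102 rfl rfl
theorem s0_f12861 : ed sl_ht sq2105 = sq1530 :=
  real_edge rels S fwd inv o lvl plet idx 47 IH Gen.h sp2105 sp1530 rfl rfl
theorem s0_f12862 : ed sl_it sq2862 = sq2105 :=
  real_edge rels S fwd inv o lvl plet idx 47 IH Gen.i sp2862 sp2105 rfl rfl
theorem s0_f12863 : ed sl_et sq8942 = sq7308 :=
  real_edge rels S fwd inv o lvl plet idx 47 IH Gen.e sp8942 sp7308 rfl rfl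
theorem s0_f12864 : ed sl_ft sq10860 = sq8942 :=
  real_edge rels S fwd inv o lvl plet idx 47 IH Gen.f sp10860 sp8942 rfl rfl
theorem s0_f12865 : ed sl_dt sq12997 = sq10860 :=
  real_edge rels S fwd inv o lvl plet idx 47 IH Gen.d sp12997 sp10860 rfl rfl
theorem s0_f12866 : ed sl_ht sq15262 = sq12997 :=
  real_edge rels S fwd inv o lvl plet idx 47 IH Gen.h sp15262 sp12997 rfl rfl
theorem s0_f12867 : ed sl_it sq17429 = sq15262 :=
  real_edge rels S fwd inv o lvl plet idx 47 IH Gen.i sp17429 sp15262 rfl rfl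
theorem s0_f12868 : ed sl_dt sq6073 = s0_v886 :=
  rfl
theorem s0_f12897 : ed sl_it s0_v886 = s0_v887 :=
  rfl
theorem s0_f12900 : ed sl_ht s0_v887 = s0_v888 :=
  rfl
theorem s0_f12903 : ed sl_dt s0_v888 = s0_v889 :=
  rfl
theorem s0_f12906 : ed sl_ft s0_v889 = s0_v890 :=
  rfl
theorem s0_f12909 : ed sl_et s0_v890 = s0_v891 :=
  rfl
theorem s0_f12912 : ed sl_dt s0_v891 = s0_v892 :=
  rfl
theorem s0_f12915 : ed sl_bt s0_v892 = s0_v893 :=
  rfl
theorem s0_f12918 : ed sl_ct s0_v893 = s0_v894 :=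
  rfl
theorem s0_f12921 : ed sl_dt s0_v894 = s0_v895 :=
  rfl
theorem s0_f12924 : ed sl_it s0_v895 = s0_v896 :=
  rfl
theorem s0_f12927 : ed sl_ht s0_v896 = s0_v897 :=
  rfl
theorem s0_f12930 : ed sl_dt s0_v897 = s0_v898 :=
  rfl
theorem s0_f12933 : ed sl_ft s0_v898 = s0_v899 :=
  rfl
theorem s0_f12936 : ed sl_et s0_v899 = s0_v900 :=
  rfl
theorem s0_f12939 : ed sl_dt s0_v900 = s0_v901 :=
  rfl
theorem s0_f12942 : ed sl_bt s0_v901 = s0_v902 :=
  rfl
theorem s0_f12945 : ed sl_ct s0_v902 = s0_v903 :=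
  rfl
theorem s0_f12948 : ed sl_dt s0_v903 = s0_v904 :=
  rfl
theorem s0_f12951 : ed sl_it s0_v904 = s0_v905 :=
  rfl
theorem s0_f12954 : ed sl_ht s0_v905 = s0_v906 :=
  rfl
theorem s0_f12957 : ed sl_dt s0_v906 = s0_v907 :=
  rfl
theorem s0_f12960 : ed sl_ft s0_v907 = s0_v908 :=
  rfl
theorem s0_f12963 : ed sl_et s0_v908 = s0_v909 :=
  rfl
theorem s0_f12966 : ed sl_dt s0_v909 = s0_v910 :=
  rfl
theorem s0_f12969 : ed sl_bt s0_v910 = s0_v911 :=
  rfl
theorem s0_f12972 : ed sl_ct s0_v911 = s0_v912 :=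
  rfl
theorem s0_f12975 : ed sl_dt s0_v912 = s0_v913 :=
  rfl
theorem s0_f12978 : ed sl_it s0_v913 = s0_v914 :=
  rfl
theorem s0_f12981 : ed sl_ht s0_v914 = s0_v915 :=
  rfl
theorem s0_f12984 : ed sl_dt s0_v915 = s0_v916 :=
  rfl
theorem s0_f12987 : ed sl_ft s0_v916 = s0_v917 :=
  rfl
theorem s0_f12990 : ed sl_et s0_v917 = s0_v918 :=
  rfl
theorem s0_f12993 : ed sl_dt s0_v918 = s0_v919 :=
  rfl
theorem s0_f12996 : ed sl_bt s0_v919 = s0_v920 :=
  rfl
theorem s0_f12999 : ed sl_ct s0_v920 = s0_v921 :=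
  rfl
theorem s0_f12999r : ed sl_cf s0_v921 = s0_v920 :=
  edge_flip (s0_f12999 IH)
theorem s0_f12996r : ed sl_bf s0_v920 = s0_v919 :=
  edge_flip (s0_f12996 IH)
theorem s0_f12993r : ed sl_df s0_v919 = s0_v918 :=
  edge_flip (s0_f12993 IH)
theorem s0_f12990r : ed sl_ef s0_v918 = s0_v917 :=
  edge_flip (s0_f12990 IH)
theorem s0_f12987r : ed sl_ff s0_v917 = s0_v916 :=
  edge_flip (s0_f12987 IH)
theorem s0_f12984r : ed sl_df s0_v916 = s0_v915 :=
  edge_flip (s0_f12984 IH)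
theorem s0_f12981r : ed sl_hf s0_v915 = s0_v914 :=
  edge_flip (s0_f12981 IH)
theorem s0_f12978r : ed sl_if s0_v914 = s0_v913 :=
  edge_flip (s0_f12978 IH)
theorem s0_f12975r : ed sl_df s0_v913 = s0_v912 :=
  edge_flip (s0_f12975 IH)
theorem s0_f12972r : ed sl_cf s0_v912 = s0_v911 :=
  edge_flip (s0_f12972 IH)
theorem s0_f12969r : ed sl_bf s0_v911 = s0_v910 :=
  edge_flip (s0_f12969 IH)
theorem s0_f12966r : ed sl_df s0_v910 = s0_v909 :=
  edge_flip (s0_f12966 IH)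
theorem s0_f12963r : ed sl_ef s0_v909 = s0_v908 :=
  edge_flip (s0_f12963 IH)
theorem s0_f12960r : ed sl_ff s0_v908 = s0_v907 :=
  edge_flip (s0_f12960 IH)
theorem s0_f12957r : ed sl_df s0_v907 = s0_v906 :=
  edge_flip (s0_f12957 IH)
theorem s0_f12954r : ed sl_hf s0_v906 = s0_v905 :=
  edge_flip (s0_f12954 IH)
theorem s0_f12951r : ed sl_if s0_v905 = s0_v904 :=
  edge_flip (s0_f12951 IH)
theorem s0_f12948r : ed sl_df s0_v904 = s0_v903 :=
  edge_flip (s0_f12948 IH)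
theorem s0_f12945r : ed sl_cf s0_v903 = s0_v902 :=
  edge_flip (s0_f12945 IH)
theorem s0_f12942r : ed sl_bf s0_v902 = s0_v901 :=
  edge_flip (s0_f12942 IH)
theorem s0_f12939r : ed sl_df s0_v901 = s0_v900 :=
  edge_flip (s0_f12939 IH)
theorem s0_f12936r : ed sl_ef s0_v900 = s0_v899 :=
  edge_flip (s0_f12936 IH)
theorem s0_f12933r : ed sl_ff s0_v899 = s0_v898 :=
  edge_flip (s0_f12933 IH)
theorem s0_f12930r : ed sl_df s0_v898 = s0_v897 :=
  edge_flip (s0_f12930 IH)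
theorem s0_f12927r : ed sl_hf s0_v897 = s0_v896 :=
  edge_flip (s0_f12927 IH)
theorem s0_f12924r : ed sl_if s0_v896 = s0_v895 :=
  edge_flip (s0_f12924 IH)
theorem s0_f12921r : ed sl_df s0_v895 = s0_v894 :=
  edge_flip (s0_f12921 IH)
theorem s0_f12918r : ed sl_cf s0_v894 = s0_v893 :=
  edge_flip (s0_f12918 IH)
theorem s0_f12915r : ed sl_bf s0_v893 = s0_v892 :=
  edge_flip (s0_f12915 IH)
theorem s0_f12912r : ed sl_df s0_v892 = s0_v891 :=
  edge_flip (s0_f12912 IH)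
theorem s0_f12909r : ed sl_ef s0_v891 = s0_v890 :=
  edge_flip (s0_f12909 IH)
theorem s0_f12906r : ed sl_ff s0_v890 = s0_v889 :=
  edge_flip (s0_f12906 IH)
theorem s0_f12903r : ed sl_df s0_v889 = s0_v888 :=
  edge_flip (s0_f12903 IH)
theorem s0_f12900r : ed sl_hf s0_v888 = s0_v887 :=
  edge_flip (s0_f12900 IH)
theorem s0_f12897r : ed sl_if s0_v887 = s0_v886 :=
  edge_flip (s0_f12897 IH)
theorem s0_f12868r : ed sl_df s0_v886 = sq6073 :=
  edge_flip (s0_f12868 IH)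
theorem s0_f12852r : ed sl_cf sq6073 = sq4790 :=
  edge_flip (s0_f12852 IH)
theorem s0_f12851r : ed sl_bf sq4790 = sq3708 :=
  edge_flip (s0_f12851 IH)
theorem s0_f11290r : ed sl_df sq3708 = sq2795 :=
  edge_flip (s0_f11290 IH)
theorem s0_f12850r : ed sl_ef sq2795 = sq2060 :=
  edge_flip (s0_f12850 IH)
theorem s0_f12849r : ed sl_ff sq2060 = sq1501 :=
  edge_flip (s0_f12849 IH)
theorem s0_f12848r : ed sl_df sq1501 = sq1501 :=
  edge_flip (s0_f12848 IH)
theorem s0_f12847r : ed sl_hf sq1501 = sq1082 :=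
  edge_flip (s0_f12847 IH)
theorem s0_f12846r : ed sl_if sq1082 = sq774 :=
  edge_flip (s0_f12846 IH)
theorem s0_f10783r : ed sl_df sq774 = sq543 :=
  edge_flip (s0_f10783 IH)
theorem s0_f2279r : ed sl_cf sq543 = sq375 :=
  edge_flip (s0_f2279 IH)
theorem s0_f12845r : ed sl_bf sq375 = sq278 :=
  edge_flip (s0_f12845 IH)
theorem s0_f12844r : ed sl_df sq278 = sq278 :=
  edge_flip (s0_f12844 IH)
theorem s0_f12843r : ed sl_ef sq278 = sq189 :=
  edge_flip (s0_f12843 IH)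
theorem s0_f12842r : ed sl_ff sq189 = sq275 :=
  edge_flip (s0_f12842 IH)
theorem s0_f12841r : ed sl_df sq275 = sq187 :=
  edge_flip (s0_f12841 IH)
theorem s0_f12840r : ed sl_hf sq187 = sq126 :=
  edge_flip (s0_f12840 IH)
theorem s0_f12839r : ed sl_if sq126 = sq84 :=
  edge_flip (s0_f12839 IH)
theorem s0_f4064r : ed sl_df sq84 = sq59 :=
  edge_flip (s0_f4064 IH)
theorem s0_f3278r : ed sl_cf sq59 = sq42 :=
  edge_flip (s0_f3278 IH)
theorem s0_f925r : ed sl_bf sq42 = sq42 :=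
  edge_flip (s0_f925 IH)
theorem s0_f3276r : ed sl_ef sq42 = sq42 :=
  edge_flip (s0_f3276 IH)
theorem s0_f3275r : ed sl_ff sq42 = sq29 :=
  edge_flip (s0_f3275 IH)
theorem s0_f3274r : ed sl_hf sq29 = sq29 :=
  edge_flip (s0_f3274 IH)
theorem s0_f4969r : ed sl_if sq29 = sq43 :=
  edge_flip (s0_f4969 IH)
theorem s0_f3462r : ed sl_df sq43 = sq43 :=
  edge_flip (s0_f3462 IH)
theorem s0_f8546r : ed sl_cf sq43 = sq60 :=
  edge_flip (s0_f8546 IH)
theorem s0_f12832r : ed sl_bf sq60 = sq82 :=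
  edge_flip (s0_f12832 IH)
theorem s0_f11458r : ed sl_df sq82 = sq118 :=
  edge_flip (s0_f11458 IH)
theorem s0_f12853r : ed sl_ef sq118 = sq118 :=
  edge_flip (s0_f12853 IH)
theorem s0_f12854r : ed sl_ff sq118 = sq171 :=
  edge_flip (s0_f12854 IH)
theorem s0_f259r : ed sl_df sq171 = sq120 :=
  edge_flip (s0_f259 IH)
theorem s0_f2310r : ed sl_hf sq120 = sq176 :=
  edge_flip (s0_f2310 IH)
theorem s0_f12855r : ed sl_if sq176 = sq176 :=
  edge_flip (s0_f12855 IH)
theorem s0_f4700r : ed sl_df sq176 = sq258 :=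
  edge_flip (s0_f4700 IH)
theorem s0_f12856r : ed sl_cf sq258 = sq378 :=
  edge_flip (s0_f12856 IH)
theorem s0_f12857r : ed sl_bf sq378 = sq548 :=
  edge_flip (s0_f12857 IH)
theorem s0_f11902r : ed sl_df sq548 = sq548 :=
  edge_flip (s0_f11902 IH)
theorem s0_f12858r : ed sl_ef sq548 = sq783 :=
  edge_flip (s0_f12858 IH)
theorem s0_f12859r : ed sl_ff sq783 = sq1102 :=
  edge_flip (s0_f12859 IH)
theorem s0_f12860r : ed sl_df sq1102 = sq1530 :=
  edge_flip (s0_f12860 IH)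
theorem s0_f12861r : ed sl_hf sq1530 = sq2105 :=
  edge_flip (s0_f12861 IH)
theorem s0_f12862r : ed sl_if sq2105 = sq2862 :=
  edge_flip (s0_f12862 IH)
theorem s0_f10399r : ed sl_df sq2862 = sq3688 :=
  edge_flip (s0_f10399 IH)
theorem s0_f11360r : ed sl_cf sq3688 = sq4764 :=
  edge_flip (s0_f11360 IH)
theorem s0_f11342r : ed sl_bf sq4764 = sq5864 :=
  edge_flip (s0_f11342 IH)
theorem s0_f5055r : ed sl_df sq5864 = sq7308 :=
  edge_flip (s0_f5055 IH)
theorem s0_f12863r : ed sl_ef sq7308 = sq8942 :=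
  edge_flip (s0_f12863 IH)
theorem s0_f12864r : ed sl_ff sq8942 = sq10860 :=
  edge_flip (s0_f12864 IH)
theorem s0_f12865r : ed sl_df sq10860 = sq12997 :=
  edge_flip (s0_f12865 IH)
theorem s0_f12866r : ed sl_hf sq12997 = sq15262 :=
  edge_flip (s0_f12866 IH)
theorem s0_f12867r : ed sl_if sq15262 = sq17429 :=
  edge_flip (s0_f12867 IH)
theorem s0_f13002 : ed sl_df sq17429 = s0_v921 :=
  gap_rel s0_rot99 (path_edge (s0_f12867r IH) (path_edge (s0_f12866r IH) (path_edge (s0_f12865r IH) (path_edge (s0_f12864r IH) (path_edge (s0_f12863r IH) (path_edge (s0_f5055r IH) (path_edge (s0_f11342r IH) (path_edge (s0_f11360r IH) (path_edge (s0_f10399r IH) (path_edge (s0_f12862r IH) (path_edge (s0_f12861r IH) (path_edge (s0_f12860r IH) (path_edge (s0_f12859r IH) (path_edge (s0_f12858r IH) (path_edge (s0_f11902r IH) (path_edge (s0_f12857r IH) (path_edge (s0_f12856r IH) (path_edge (s0_f4700r IH) (path_edge (s0_f12855r IH) (path_edge (s0_f2310r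 IH) (path_edge (s0_f259r IH) (path_edge (s0_f12854r IH) (path_edge (s0_f12853r IH) (path_edge (s0_f11458r IH) (path_edge (s0_f12832r IH) (path_edge (s0_f8546r IH) (path_edge (s0_f3462r IH) (path_edge (s0_f4969r IH) (path_edge (s0_f3274r IH) (path_edge (s0_f951r IH) (path_edge (s0_f3275r IH) (path_edge (s0_f3276r IH) (path_edge (s0_f3277r IH) (path_edge (s0_f925r IH) (path_edge (s0_f3278r IH) (path_edge (s0_f4064r IH) (path_edge (s0_f12839r IH) (path_edge (s0_f12840r IH) (path_edge (s0_f12841r IH) (path_edge (s0_f12842r IH) (path_edge (s0_f12843r IH) (path_edge (s0_f12844r IH) (path_edge (s0_f12845r IH) (path_edge (s0_f2279r IH) (path_edge (s0_f10783r IH) (path_edge (s0_f12846r IH) (path_edge (s0_f12847r IH) (path_edge (s0_f12848r IH) (path_edge (s0_f12849r IH) (path_edge (s0_f12850r IH) (path_edge (s0_f11290r IH) (path_edge (s0_f12851r IH) (path_edge (s0_f12852r IH) (path_edge (s0_f12868r IH) (path_edge (s0_f12897r IH)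 (path_edge (s0_f12900r IH) (path_edge (s0_f12903r IH) (path_edge (s0_f12906r IH) (path_edge (s0_f12909r IH) (path_edge (s0_f12912r IH) (path_edge (s0_f12915r IH) (path_edge (s0_f12918r IH) (path_edge (s0_f12921r IH) (path_edge (s0_f12924r IH) (path_edge (s0_f12927r IH) (path_edge (s0_f12930r IH) (path_edge (s0_f12933r IH) (path_edge (s0_f12936r IH) (path_edge (s0_f12939r IH) (path_edge (s0_f12942r IH) (path_edge (s0_f12945r IH) (path_edge (s0_f12948r IH) (path_edge (s0_f12951r IH) (path_edge (s0_f12954r IH) (path_edge (s0_f12957r IH) (path_edge (s0_f12960r IH) (path_edge (s0_f12963r IH) (path_edge (s0_f12966r IH) (path_edge (s0_f12969r IH) (path_edge (s0_f12972r IH) (path_edge (s0_f12975r IH) (path_edge (s0_f12978r IH) (path_edge (s0_f12981r IH) (path_edge (s0_f12984r IH) (path_edge (s0_f12987r IH) (path_edge (s0_f12990r IH) (path_edge (s0_f12993r IH) (path_edge (s0_f12996r IH) (path_edge (s0_f12999r IH) (path_nil s0_v921))))))))))))))))))))))))))))))))))))))))))))))))))))))))))))))))))))))))))))))))))))))))))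
theorem s0_f13002r : ed sl_dt s0_v921 = sq17429 :=
  edge_flip (s0_f13002 IH)
theorem s0_f13004 : ed sl_dt sq17429 = s0_v921 :=
  gap_rel s0_rot59 (path_edge (s0_f13002r IH) (path_nil s0_v921))
theorem s0_f13029 : ed sl_it sq15262 = sq17429 :=
  real_edge rels S fwd inv o lvl plet idx 47 IH Gen.i sp15262 sp17429 rfl rfl
theorem s0_f13057 : ed sl_ht sq394 = sq394 :=
  real_edge rels S fwd inv o lvl plet idx 47 IH Gen.h sp394 sp394 rfl rfl
theorem s0_f13070 : ed sl_bt sq116 = sq84 :=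
  real_edge rels S fwd inv o lvl plet idx 47 IH Gen.b sp116 sp84 rfl rfl
theorem s0_f13078 : ed sl_dt sq170 = sq170 :=
  real_edge rels S fwd inv o lvl plet idx 47 IH Gen.d sp170 sp170 rfl rfl
theorem s0_f13111 : ed sl_ct sq99 = sq99 :=
  real_edge rels S fwd inv o lvl plet idx 47 IH Gen.c sp99 sp99 rfl rfl
theorem s0_f13112 : ed sl_bt sq99 = sq99 :=
  real_edge rels S fwd inv o lvl plet idx 47 IH Gen.b sp99 sp99 rfl rfl
theorem s0_f13113 : ed sl_et sq99 = sq99 :=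
  real_edge rels S fwd inv o lvl plet idx 47 IH Gen.e sp99 sp99 rfl rfl
theorem s0_f13114 : ed sl_ft sq144 = sq99 :=
  real_edge rels S fwd inv o lvl plet idx 47 IH Gen.f sp144 sp99 rfl rfl
theorem s0_f13115 : ed sl_ht sq212 = sq144 :=
  real_edge rels S fwd inv o lvl plet idx 47 IH Gen.h sp212 sp144 rfl rfl
theorem s0_f13298 : ed sl_ct sq418 = sq285 :=
  real_edge rels S fwd inv o lvl plet idx 47 IH Gen.c sp418 sp285 rfl rfl
theorem s0_f13475 : ed sl_bt sq312 = sq458 :=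
  real_edge rels S fwd inv o lvl plet idx 47 IH Gen.b sp312 sp458 rfl rfl
theorem s0_f13658 : ed sl_dt sq575 = sq396 :=
  real_edge rels S fwd inv o lvl plet idx 47 IH Gen.d sp575 sp396 rfl rfl
theorem s0_f13663 : ed sl_ct sq252 = sq354 :=
  real_edge rels S fwd inv o lvl plet idx 47 IH Gen.c sp252 sp354 rfl rfl
theorem s0_f13668 : ed sl_dt sq358 = sq519 :=
  real_edge rels S fwd inv o lvl plet idx 47 IH Gen.d sp358 sp519 rfl rfl
theorem s0_f13907 : ed sl_it sq7551 = sq9268 :=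
  real_edge rels S fwd inv o lvl plet idx 47 IH Gen.i sp7551 sp9268 rfl rfl
theorem s0_f13909 : ed sl_ht sq6435 = sq7551 :=
  real_edge rels S fwd inv o lvl plet idx 47 IH Gen.h sp6435 sp7551 rfl rfl
theorem s0_f13913 : ed sl_ct sq87 = sq62 :=
  real_edge rels S fwd inv o lvl plet idx 47 IH Gen.c sp87 sp62 rfl rfl
theorem s0_f14370 : ed sl_ft sq173 = sq253 :=
  real_edge rels S fwd inv o lvl plet idx 47 IH Gen.f sp173 sp253 rfl rfl
theorem s0_f14371 : ed sl_et sq253 = sq366 :=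
  real_edge rels S fwd inv o lvl plet idx 47 IH Gen.e sp253 sp366 rfl rfl
theorem s0_f14380 : ed sl_et sq182 = sq126 :=
  real_edge rels S fwd inv o lvl plet idx 47 IH Gen.e sp182 sp126 rfl rfl
theorem s0_f14381 : ed sl_ft sq182 = sq182 :=
  real_edge rels S fwd inv o lvl plet idx 47 IH Gen.f sp182 sp182 rfl rfl
theorem s0_f14382 : ed sl_ht sq269 = sq182 :=
  real_edge rels S fwd inv o lvl plet idx 47 IH Gen.h sp269 sp182 rfl rfl
theorem s0_f14516 : ed sl_bt sq1062 = sq1468 :=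
  real_edge rels S fwd inv o lvl plet idx 47 IH Gen.b sp1062 sp1468 rfl rfl
theorem s0_f14520 : ed sl_ht sq177 = sq255 :=
  real_edge rels S fwd inv o lvl plet idx 47 IH Gen.h sp177 sp255 rfl rfl
theorem s0_f14526 : ed sl_ht sq198 = sq198 :=
  real_edge rels S fwd inv o lvl plet idx 47 IH Gen.h sp198 sp198 rfl rfl
theorem s0_f14753 : ed sl_dt sq2135 = sq2887 :=
  real_edge rels S fwd inv o lvl plet idx 47 IH Gen.d sp2135 sp2887 rfl rfl
theorem s0_f15066 : ed sl_ct sq1554 = sq2135 :=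
  real_edge rels S fwd inv o lvl plet idx 47 IH Gen.c sp1554 sp2135 rfl rfl
theorem s0_f15067 : ed sl_et sq796 = sq1118 :=
  real_edge rels S fwd inv o lvl plet idx 47 IH Gen.e sp796 sp1118 rfl rfl
theorem s0_f15068 : ed sl_ft sq557 = sq796 :=
  real_edge rels S fwd inv o lvl plet idx 47 IH Gen.f sp557 sp796 rfl rfl
theorem s0_f15069 : ed sl_ht sq383 = sq557 :=
  real_edge rels S fwd inv o lvl plet idx 47 IH Gen.h sp383 sp557 rfl rfl
theorem s0_f15103 : ed sl_ht sq88 = sq131 :=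
  real_edge rels S fwd inv o lvl plet idx 47 IH Gen.h sp88 sp131 rfl rfl
theorem s0_f15105 : ed sl_ht sq122 = sq122 :=
  real_edge rels S fwd inv o lvl plet idx 47 IH Gen.h sp122 sp122 rfl rfl
theorem s0_f15117 : ed sl_dt sq132 = sq89 :=
  real_edge rels S fwd inv o lvl plet idx 47 IH Gen.d sp132 sp89 rfl rfl
theorem s0_f15118 : ed sl_et sq194 = sq132 :=
  real_edge rels S fwd inv o lvl plet idx 47 IH Gen.e sp194 sp132 rfl rfl
theorem s0_f15119 : ed sl_ft sq285 = sq194 :=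
  real_edge rels S fwd inv o lvl plet idx 47 IH Gen.f sp285 sp194 rfl rfl
theorem s0_f15120 : ed sl_ht sq409 = sq285 :=
  real_edge rels S fwd inv o lvl plet idx 47 IH Gen.h sp409 sp285 rfl rfl
theorem s0_f15167 : ed sl_ht sq2065 = sq1504 :=
  real_edge rels S fwd inv o lvl plet idx 47 IH Gen.h sp2065 sp1504 rfl rfl
theorem s0_f16001 : ed sl_bt sq289 = sq289 :=
  real_edge rels S fwd inv o lvl plet idx 47 IH Gen.b sp289 sp289 rfl rfl
theorem s0_f16472 : ed sl_ct sq2815 = sq3735 :=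
  real_edge rels S fwd inv o lvl plet idx 47 IH Gen.c sp2815 sp3735 rfl rfl
theorem s0_f16721 : ed sl_dt sq354 = sq514 :=
  real_edge rels S fwd inv o lvl plet idx 47 IH Gen.d sp354 sp514 rfl rfl
theorem s0_f16903 : ed sl_it sq59 = sq88 :=
  real_edge rels S fwd inv o lvl plet idx 47 IH Gen.i sp59 sp88 rfl rfl
theorem s0_f16912 : ed sl_ft sq192 = sq132 :=
  real_edge rels S fwd inv o lvl plet idx 47 IH Gen.f sp192 sp132 rfl rfl
theorem s0_f16913 : ed sl_et sq132 = sq194 :=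
  real_edge rels S fwd inv o lvl plet idx 47 IH Gen.e sp132 sp194 rfl rfl
theorem s0_f16914 : ed sl_dt sq194 = sq133 :=
  real_edge rels S fwd inv o lvl plet idx 47 IH Gen.d sp194 sp133 rfl rfl
theorem s0_f16915 : ed sl_bt sq133 = sq179 :=
  real_edge rels S fwd inv o lvl plet idx 47 IH Gen.b sp133 sp179 rfl rfl
theorem s0_f16916 : ed sl_ct sq179 = sq261 :=
  real_edge rels S fwd inv o lvl plet idx 47 IH Gen.c sp179 sp261 rfl rfl
theorem s0_f16917 : ed sl_it sq383 = sq383 :=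
  real_edge rels S fwd inv o lvl plet idx 47 IH Gen.i sp383 sp383 rfl rfl
theorem s0_f16918 : ed sl_dt sq557 = sq557 :=
  real_edge rels S fwd inv o lvl plet idx 47 IH Gen.d sp557 sp557 rfl rfl
theorem s0_f16919 : ed sl_it sq2887 = sq3834 :=
  real_edge rels S fwd inv o lvl plet idx 47 IH Gen.i sp2887 sp3834 rfl rfl
theorem s0_f16920 : ed sl_ht sq3834 = sq4961 :=
  real_edge rels S fwd inv o lvl plet idx 47 IH Gen.h sp3834 sp4961 rfl rfl
theorem s0_f16921 : ed sl_it sq172 = sq117 :=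
  real_edge rels S fwd inv o lvl plet idx 47 IH Gen.i sp172 sp117 rfl rfl
theorem s0_f16922 : ed sl_dt sq172 = sq172 :=
  real_edge rels S fwd inv o lvl plet idx 47 IH Gen.d sp172 sp172 rfl rfl
theorem s0_f16923 : ed sl_bt sq244 = sq244 :=
  real_edge rels S fwd inv o lvl plet idx 47 IH Gen.b sp244 sp244 rfl rfl
theorem s0_f16924 : ed sl_dt sq517 = sq517 :=
  real_edge rels S fwd inv o lvl plet idx 47 IH Gen.d sp517 sp517 rfl rfl
theorem s0_f16925 : ed sl_it sq736 = sq736 :=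
  real_edge rels S fwd inv o lvl plet idx 47 IH Gen.i sp736 sp736 rfl rfl
theorem s0_f16926 : ed sl_ct sq1423 = sq1031 :=
  real_edge rels S fwd inv o lvl plet idx 47 IH Gen.c sp1423 sp1031 rfl rfl
theorem s0_f16927 : ed sl_bt sq1943 = sq1423 :=
  real_edge rels S fwd inv o lvl plet idx 47 IH Gen.b sp1943 sp1423 rfl rfl
theorem s0_f16928 : ed sl_dt sq1943 = sq1943 :=
  real_edge rels S fwd inv o lvl plet idx 47 IH Gen.d sp1943 sp1943 rfl rfl
theorem s0_f16929 : ed sl_et sq2625 = sq1943 :=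
  real_edge rels S fwd inv o lvl plet idx 47 IH Gen.e sp2625 sp1943 rfl rfl
theorem s0_f16930 : ed sl_ft sq3471 = sq2625 :=
  real_edge rels S fwd inv o lvl plet idx 47 IH Gen.f sp3471 sp2625 rfl rfl
theorem s0_f16931 : ed sl_dt sq4961 = s0_v1268 :=
  rfl
theorem s0_f16931r : ed sl_df s0_v1268 = sq4961 :=
  edge_flip (s0_f16931 IH)
theorem s0_f16936 : ed sl_df sq4961 = s0_v1268 :=
  gap_rel s0_rot4 (path_edge (s0_f16931r IH) (path_nil s0_v1268))
theorem s0_f16937 : ed sl_et sq6128 = sq4961 :=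
  real_edge rels S fwd inv o lvl plet idx 47 IH Gen.e sp6128 sp4961 rfl rfl
theorem s0_f16938 : ed sl_dt sq7659 = sq6128 :=
  real_edge rels S fwd inv o lvl plet idx 47 IH Gen.d sp7659 sp6128 rfl rfl
theorem s0_f16939 : ed sl_et sq9395 = sq7659 :=
  real_edge rels S fwd inv o lvl plet idx 47 IH Gen.e sp9395 sp7659 rfl rfl
theorem s0_f12817r : ed sl_ff sq4961 = sq4961 :=
  edge_flip (s0_f12817 IH)
theorem s0_f16941 : ed sl_ff s0_v1268 = s0_v1268 :=
  gap_rel s0_rot5 (path_edge (s0_f16936 IH) (path_edge (s0_f12817r IH) (path_edge (s0_f16931r IH) (path_nil s0_v1268))))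
theorem s0_f16961 : ed sl_et sq7659 = sq9395 :=
  real_edge rels S fwd inv o lvl plet idx 47 IH Gen.e sp7659 sp9395 rfl rfl
theorem s0_f16988 : ed sl_et s0_v1268 = s0_v1269 :=
  rfl
theorem s0_f16988r : ed sl_ef s0_v1269 = s0_v1268 :=
  edge_flip (s0_f16988 IH)
theorem s0_f16937r : ed sl_ef sq4961 = sq6128 :=
  edge_flip (s0_f16937 IH)
theorem s0_f16938r : ed sl_df sq6128 = sq7659 :=
  edge_flip (s0_f16938 IH)
theorem s0_f16939r : ed sl_ef sq7659 = sq9395 :=
  edge_flip (s0_f16939 IH)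
theorem s0_f16989 : ed sl_df sq9395 = s0_v1269 :=
  gap_rel s0_rot57 (path_edge (s0_f16939r IH) (path_edge (s0_f16938r IH) (path_edge (s0_f16937r IH) (path_edge (s0_f16931r IH) (path_edge (s0_f16988r IH) (path_nil s0_v1269))))))
theorem s0_f16993 : ed sl_jt sq9395 = sq9395 :=
  real_edge rels S fwd inv o lvl plet idx 47 IH Gen.j sp9395 sp9395 rfl rfl
theorem s0_f17038 : ed sl_bt sq9395 = s0_v1270 :=
  rfl
theorem s0_f17038r : ed sl_bf s0_v1270 = sq9395 :=
  edge_flip (s0_f17038 IH)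
theorem s0_f17039 : ed sl_bf sq9395 = s0_v1270 :=
  gap_rel s0_rot20 (path_edge (s0_f17038r IH) (path_nil s0_v1270))
theorem s0_f16961r : ed sl_ef sq9395 = sq7659 :=
  edge_flip (s0_f16961 IH)
theorem s0_f12700r : ed sl_bf sq7659 = sq9394 :=
  edge_flip (s0_f12700 IH)
theorem s0_f17040 : ed sl_ef sq9394 = s0_v1270 :=
  gap_rel s0_rot100 (path_edge (s0_f12700r IH) (path_edge (s0_f16961r IH) (path_edge (s0_f17038r IH) (path_nil s0_v1270))))
theorem s0_f16993r : ed sl_jf sq9395 = sq9395 :=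
  edge_flip (s0_f16993 IH)
theorem s0_f17042 : ed sl_jf s0_v1270 = s0_v1270 :=
  gap_rel s0_rot21 (path_edge (s0_f17039 IH) (path_edge (s0_f16993r IH) (path_edge (s0_f17038r IH) (path_nil s0_v1270))))
theorem s0_f17042r : ed sl_jt s0_v1270 = s0_v1270 :=
  edge_flip (s0_f17042 IH)
theorem s0_f17040r : ed sl_et s0_v1270 = sq9394 :=
  edge_flip (s0_f17040 IH)
theorem s0_f17046 : ed sl_et sq9394 = s0_v1270 :=
  gap_rel s0_rot101 (path_edge (s0_f12707 IH) (path_edge (s0_f17040r IH) (path_edge (s0_f17042r IH) (path_nil s0_v1270))))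
theorem s0_f17086 : ed sl_ct s0_v1270 = s0_v1271 :=
  rfl
theorem s0_f17086r : ed sl_cf s0_v1271 = s0_v1270 :=
  edge_flip (s0_f17086 IH)
theorem s0_f17087 : ed sl_cf s0_v1270 = s0_v1271 :=
  gap_rel s0_rot0 (path_edge (s0_f17086r IH) (path_nil s0_v1271))
theorem s0_f17046r : ed sl_ef s0_v1270 = sq9394 :=
  edge_flip (s0_f17046 IH)
theorem s0_f12697r : ed sl_cf sq9394 = s0_v884 :=
  edge_flip (s0_f12697 IH)
theorem s0_f17088 : ed sl_ef s0_v884 = s0_v1271 :=
  gap_rel s0_rot8 (path_edge (s0_f12697r IH) (path_edge (s0_f17046r IH) (path_edge (s0_f17086r IH) (path_nil s0_v1271))))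
theorem s0_f17090 : ed sl_jf s0_v1271 = s0_v1271 :=
  gap_rel s0_rot2 (path_edge (s0_f17087 IH) (path_edge (s0_f17042 IH) (path_edge (s0_f17086r IH) (path_nil s0_v1271))))
theorem s0_f17092 : ed sl_dt s0_v1271 = s0_v1272 :=
  rfl
theorem s0_f17092r : ed sl_df s0_v1272 = s0_v1271 :=
  edge_flip (s0_f17092 IH)
theorem s0_f17093 : ed sl_df s0_v1271 = s0_v1272 :=
  gap_rel s0_rot4 (path_edge (s0_f17092r IH) (path_nil s0_v1272))
theorem s0_f17094 : ed sl_jf s0_v1272 = s0_v1272 :=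
  gap_rel s0_rot6 (path_edge (s0_f17093 IH) (path_edge (s0_f17090 IH) (path_edge (s0_f17092r IH) (path_nil s0_v1272))))
theorem s0_f17095 : ed sl_it s0_v1272 = s0_v1273 :=
  rfl
theorem s0_f17095r : ed sl_if s0_v1273 = s0_v1272 :=
  edge_flip (s0_f17095 IH)
theorem s0_f17096 : ed sl_if s0_v1272 = s0_v1273 :=
  gap_rel s0_rot9 (path_edge (s0_f17095r IH) (path_nil s0_v1273))
theorem s0_f17096r : ed sl_it s0_v1273 = s0_v1272 :=
  edge_flip (s0_f17096 IH)
theorem s0_f17094r : ed sl_jt s0_v1272 = s0_v1272 :=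
  edge_flip (s0_f17094 IH)
theorem s0_f17097 : ed sl_jt s0_v1273 = s0_v1273 :=
  gap_rel s0_rot12 (path_edge (s0_f17095 IH) (path_edge (s0_f17094r IH) (path_edge (s0_f17096r IH) (path_nil s0_v1273))))
theorem s0_f17098 : ed sl_ht s0_v1273 = s0_v1274 :=
  rfl
theorem s0_f17098r : ed sl_hf s0_v1274 = s0_v1273 :=
  edge_flip (s0_f17098 IH)
theorem s0_f17099 : ed sl_hf s0_v1273 = s0_v1274 :=
  gap_rel s0_rot13 (path_edge (s0_f17098r IH) (path_nil s0_v1274))
theorem s0_f17097r : ed sl_jf s0_v1273 = s0_v1273 :=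
  edge_flip (s0_f17097 IH)
theorem s0_f17100 : ed sl_jf s0_v1274 = s0_v1274 :=
  gap_rel s0_rot15 (path_edge (s0_f17099 IH) (path_edge (s0_f17097r IH) (path_edge (s0_f17098r IH) (path_nil s0_v1274))))
theorem s0_f17101 : ed sl_dt s0_v1274 = s0_v1275 :=
  rfl
theorem s0_f17101r : ed sl_df s0_v1275 = s0_v1274 :=
  edge_flip (s0_f17101 IH)
theorem s0_f17102 : ed sl_df s0_v1274 = s0_v1275 :=
  gap_rel s0_rot4 (path_edge (s0_f17101r IH) (path_nil s0_v1275))
theorem s0_f17103 : ed sl_jf s0_v1275 = s0_v1275 :=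
  gap_rel s0_rot6 (path_edge (s0_f17102 IH) (path_edge (s0_f17100 IH) (path_edge (s0_f17101r IH) (path_nil s0_v1275))))
theorem s0_f17104 : ed sl_ft s0_v1275 = s0_v1276 :=
  rfl
theorem s0_f17104r : ed sl_ff s0_v1276 = s0_v1275 :=
  edge_flip (s0_f17104 IH)
theorem s0_f17105 : ed sl_ff s0_v1275 = s0_v1276 :=
  gap_rel s0_rot22 (path_edge (s0_f17104r IH) (path_nil s0_v1276))
theorem s0_f17106 : ed sl_jf s0_v1276 = s0_v1276 :=
  gap_rel s0_rot23 (path_edge (s0_f17105 IH) (path_edge (s0_f17103 IH) (path_edge (s0_f17104r IH) (path_nil s0_v1276))))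
theorem s0_f17107 : ed sl_et s0_v1276 = s0_v1277 :=
  rfl
theorem s0_f17107r : ed sl_ef s0_v1277 = s0_v1276 :=
  edge_flip (s0_f17107 IH)
theorem s0_f17108 : ed sl_ef s0_v1276 = s0_v1277 :=
  gap_rel s0_rot17 (path_edge (s0_f17107r IH) (path_nil s0_v1277))
theorem s0_f17109 : ed sl_jf s0_v1277 = s0_v1277 :=
  gap_rel s0_rot18 (path_edge (s0_f17108 IH) (path_edge (s0_f17106 IH) (path_edge (s0_f17107r IH) (path_nil s0_v1277))))
theorem s0_f17110 : ed sl_dt s0_v1277 = s0_v1278 :=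
  rfl
theorem s0_f17110r : ed sl_df s0_v1278 = s0_v1277 :=
  edge_flip (s0_f17110 IH)
theorem s0_f17111 : ed sl_df s0_v1277 = s0_v1278 :=
  gap_rel s0_rot4 (path_edge (s0_f17110r IH) (path_nil s0_v1278))
theorem s0_f17112 : ed sl_jf s0_v1278 = s0_v1278 :=
  gap_rel s0_rot6 (path_edge (s0_f17111 IH) (path_edge (s0_f17109 IH) (path_edge (s0_f17110r IH) (path_nil s0_v1278))))
theorem s0_f17113 : ed sl_bt s0_v1278 = s0_v1279 :=
  rfl
theorem s0_f17113r : ed sl_bf s0_v1279 = s0_v1278 :=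
  edge_flip (s0_f17113 IH)
theorem s0_f17114 : ed sl_bf s0_v1278 = s0_v1279 :=
  gap_rel s0_rot20 (path_edge (s0_f17113r IH) (path_nil s0_v1279))
theorem s0_f17115 : ed sl_jf s0_v1279 = s0_v1279 :=
  gap_rel s0_rot21 (path_edge (s0_f17114 IH) (path_edge (s0_f17112 IH) (path_edge (s0_f17113r IH) (path_nil s0_v1279))))
theorem s0_f17116 : ed sl_ct s0_v1279 = s0_v1280 :=
  rfl
theorem s0_f17116r : ed sl_cf s0_v1280 = s0_v1279 :=
  edge_flip (s0_f17116 IH)
theorem s0_f17117 : ed sl_cf s0_v1279 = s0_v1280 :=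
  gap_rel s0_rot0 (path_edge (s0_f17116r IH) (path_nil s0_v1280))
theorem s0_f17118 : ed sl_jf s0_v1280 = s0_v1280 :=
  gap_rel s0_rot2 (path_edge (s0_f17117 IH) (path_edge (s0_f17115 IH) (path_edge (s0_f17116r IH) (path_nil s0_v1280))))
theorem s0_f17119 : ed sl_dt s0_v1280 = s0_v1281 :=
  rfl
theorem s0_f17119r : ed sl_df s0_v1281 = s0_v1280 :=
  edge_flip (s0_f17119 IH)
theorem s0_f17120 : ed sl_df s0_v1280 = s0_v1281 :=
  gap_rel s0_rot4 (path_edge (s0_f17119r IH) (path_nil s0_v1281))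
theorem s0_f17121 : ed sl_jf s0_v1281 = s0_v1281 :=
  gap_rel s0_rot6 (path_edge (s0_f17120 IH) (path_edge (s0_f17118 IH) (path_edge (s0_f17119r IH) (path_nil s0_v1281))))
theorem s0_f17122 : ed sl_it s0_v1281 = s0_v1282 :=
  rfl
theorem s0_f17122r : ed sl_if s0_v1282 = s0_v1281 :=
  edge_flip (s0_f17122 IH)
theorem s0_f17123 : ed sl_if s0_v1281 = s0_v1282 :=
  gap_rel s0_rot9 (path_edge (s0_f17122r IH) (path_nil s0_v1282))
theorem s0_f17123r : ed sl_it s0_v1282 = s0_v1281 :=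
  edge_flip (s0_f17123 IH)
theorem s0_f17121r : ed sl_jt s0_v1281 = s0_v1281 :=
  edge_flip (s0_f17121 IH)
theorem s0_f17124 : ed sl_jt s0_v1282 = s0_v1282 :=
  gap_rel s0_rot12 (path_edge (s0_f17122 IH) (path_edge (s0_f17121r IH) (path_edge (s0_f17123r IH) (path_nil s0_v1282))))
theorem s0_f17125 : ed sl_ht s0_v1282 = s0_v1283 :=
  rfl
theorem s0_f17125r : ed sl_hf s0_v1283 = s0_v1282 :=
  edge_flip (s0_f17125 IH)
theorem s0_f17126 : ed sl_hf s0_v1282 = s0_v1283 :=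
  gap_rel s0_rot13 (path_edge (s0_f17125r IH) (path_nil s0_v1283))
theorem s0_f17124r : ed sl_jf s0_v1282 = s0_v1282 :=
  edge_flip (s0_f17124 IH)
theorem s0_f17127 : ed sl_jf s0_v1283 = s0_v1283 :=
  gap_rel s0_rot15 (path_edge (s0_f17126 IH) (path_edge (s0_f17124r IH) (path_edge (s0_f17125r IH) (path_nil s0_v1283))))
theorem s0_f17128 : ed sl_dt s0_v1283 = s0_v1284 :=
  rfl
theorem s0_f17128r : ed sl_df s0_v1284 = s0_v1283 :=
  edge_flip (s0_f17128 IH)
theorem s0_f17129 : ed sl_df s0_v1283 = s0_v1284 :=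
  gap_rel s0_rot4 (path_edge (s0_f17128r IH) (path_nil s0_v1284))
theorem s0_f17130 : ed sl_jf s0_v1284 = s0_v1284 :=
  gap_rel s0_rot6 (path_edge (s0_f17129 IH) (path_edge (s0_f17127 IH) (path_edge (s0_f17128r IH) (path_nil s0_v1284))))
theorem s0_f17131 : ed sl_ft s0_v1284 = s0_v1285 :=
  rfl
theorem s0_f17131r : ed sl_ff s0_v1285 = s0_v1284 :=
  edge_flip (s0_f17131 IH)
theorem s0_f17132 : ed sl_ff s0_v1284 = s0_v1285 :=
  gap_rel s0_rot22 (path_edge (s0_f17131r IH) (path_nil s0_v1285))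
theorem s0_f17133 : ed sl_jf s0_v1285 = s0_v1285 :=
  gap_rel s0_rot23 (path_edge (s0_f17132 IH) (path_edge (s0_f17130 IH) (path_edge (s0_f17131r IH) (path_nil s0_v1285))))
theorem s0_f17134 : ed sl_et s0_v1285 = s0_v1286 :=
  rfl
theorem s0_f17134r : ed sl_ef s0_v1286 = s0_v1285 :=
  edge_flip (s0_f17134 IH)
theorem s0_f17135 : ed sl_ef s0_v1285 = s0_v1286 :=
  gap_rel s0_rot17 (path_edge (s0_f17134r IH) (path_nil s0_v1286))
theorem s0_f17136 : ed sl_jf s0_v1286 = s0_v1286 :=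
  gap_rel s0_rot18 (path_edge (s0_f17135 IH) (path_edge (s0_f17133 IH) (path_edge (s0_f17134r IH) (path_nil s0_v1286))))
theorem s0_f17137 : ed sl_dt s0_v1286 = s0_v1287 :=
  rfl
theorem s0_f17137r : ed sl_df s0_v1287 = s0_v1286 :=
  edge_flip (s0_f17137 IH)
theorem s0_f17138 : ed sl_df s0_v1286 = s0_v1287 :=
  gap_rel s0_rot4 (path_edge (s0_f17137r IH) (path_nil s0_v1287))
theorem s0_f17139 : ed sl_jf s0_v1287 = s0_v1287 :=
  gap_rel s0_rot6 (path_edge (s0_f17138 IH) (path_edge (s0_f17136 IH) (path_edge (s0_f17137r IH) (path_nil s0_v1287))))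
theorem s0_f17140 : ed sl_bt s0_v1287 = s0_v1288 :=
  rfl
theorem s0_f17140r : ed sl_bf s0_v1288 = s0_v1287 :=
  edge_flip (s0_f17140 IH)
theorem s0_f17141 : ed sl_bf s0_v1287 = s0_v1288 :=
  gap_rel s0_rot20 (path_edge (s0_f17140r IH) (path_nil s0_v1288))
theorem s0_f17142 : ed sl_jf s0_v1288 = s0_v1288 :=
  gap_rel s0_rot21 (path_edge (s0_f17141 IH) (path_edge (s0_f17139 IH) (path_edge (s0_f17140r IH) (path_nil s0_v1288))))
theorem s0_f17143 : ed sl_ct s0_v1288 = s0_v1289 :=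
  rfl
theorem s0_f17143r : ed sl_cf s0_v1289 = s0_v1288 :=
  edge_flip (s0_f17143 IH)
theorem s0_f17144 : ed sl_cf s0_v1288 = s0_v1289 :=
  gap_rel s0_rot0 (path_edge (s0_f17143r IH) (path_nil s0_v1289))
theorem s0_f17145 : ed sl_jf s0_v1289 = s0_v1289 :=
  gap_rel s0_rot2 (path_edge (s0_f17144 IH) (path_edge (s0_f17142 IH) (path_edge (s0_f17143r IH) (path_nil s0_v1289))))
theorem s0_f17146 : ed sl_dt s0_v1289 = s0_v1290 :=
  rfl
theorem s0_f17146r : ed sl_df s0_v1290 = s0_v1289 :=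
  edge_flip (s0_f17146 IH)
theorem s0_f17147 : ed sl_df s0_v1289 = s0_v1290 :=
  gap_rel s0_rot4 (path_edge (s0_f17146r IH) (path_nil s0_v1290))
theorem s0_f17148 : ed sl_jf s0_v1290 = s0_v1290 :=
  gap_rel s0_rot6 (path_edge (s0_f17147 IH) (path_edge (s0_f17145 IH) (path_edge (s0_f17146r IH) (path_nil s0_v1290))))
theorem s0_f17149 : ed sl_it s0_v1290 = s0_v1291 :=
  rfl
theorem s0_f17149r : ed sl_if s0_v1291 = s0_v1290 :=
  edge_flip (s0_f17149 IH)
theorem s0_f17150 : ed sl_if s0_v1290 = s0_v1291 :=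
  gap_rel s0_rot9 (path_edge (s0_f17149r IH) (path_nil s0_v1291))
theorem s0_f17150r : ed sl_it s0_v1291 = s0_v1290 :=
  edge_flip (s0_f17150 IH)
theorem s0_f17148r : ed sl_jt s0_v1290 = s0_v1290 :=
  edge_flip (s0_f17148 IH)
theorem s0_f17151 : ed sl_jt s0_v1291 = s0_v1291 :=
  gap_rel s0_rot12 (path_edge (s0_f17149 IH) (path_edge (s0_f17148r IH) (path_edge (s0_f17150r IH) (path_nil s0_v1291))))
theorem s0_f17152 : ed sl_ht s0_v1291 = s0_v1292 :=
  rfl
theorem s0_f17152r : ed sl_hf s0_v1292 = s0_v1291 :=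
  edge_flip (s0_f17152 IH)
theorem s0_f17153 : ed sl_hf s0_v1291 = s0_v1292 :=
  gap_rel s0_rot13 (path_edge (s0_f17152r IH) (path_nil s0_v1292))
theorem s0_f17151r : ed sl_jf s0_v1291 = s0_v1291 :=
  edge_flip (s0_f17151 IH)
theorem s0_f17154 : ed sl_jf s0_v1292 = s0_v1292 :=
  gap_rel s0_rot15 (path_edge (s0_f17153 IH) (path_edge (s0_f17151r IH) (path_edge (s0_f17152r IH) (path_nil s0_v1292))))
theorem s0_f17155 : ed sl_dt s0_v1292 = s0_v1293 :=
  rfl
theorem s0_f17155r : ed sl_df s0_v1293 = s0_v1292 :=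
  edge_flip (s0_f17155 IH)
theorem s0_f17156 : ed sl_df s0_v1292 = s0_v1293 :=
  gap_rel s0_rot4 (path_edge (s0_f17155r IH) (path_nil s0_v1293))
theorem s0_f17157 : ed sl_jf s0_v1293 = s0_v1293 :=
  gap_rel s0_rot6 (path_edge (s0_f17156 IH) (path_edge (s0_f17154 IH) (path_edge (s0_f17155r IH) (path_nil s0_v1293))))
theorem s0_f17158 : ed sl_ft s0_v1293 = s0_v1294 :=
  rfl
theorem s0_f17158r : ed sl_ff s0_v1294 = s0_v1293 :=
  edge_flip (s0_f17158 IH)
theorem s0_f17159 : ed sl_ff s0_v1293 = s0_v1294 :=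
  gap_rel s0_rot22 (path_edge (s0_f17158r IH) (path_nil s0_v1294))
theorem s0_f17160 : ed sl_jf s0_v1294 = s0_v1294 :=
  gap_rel s0_rot23 (path_edge (s0_f17159 IH) (path_edge (s0_f17157 IH) (path_edge (s0_f17158r IH) (path_nil s0_v1294))))
theorem s0_f17161 : ed sl_et s0_v1294 = s0_v1295 :=
  rfl
theorem s0_f17161r : ed sl_ef s0_v1295 = s0_v1294 :=
  edge_flip (s0_f17161 IH)
theorem s0_f17162 : ed sl_ef s0_v1294 = s0_v1295 :=
  gap_rel s0_rot17 (path_edge (s0_f17161r IH) (path_nil s0_v1295))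
theorem s0_f17163 : ed sl_jf s0_v1295 = s0_v1295 :=
  gap_rel s0_rot18 (path_edge (s0_f17162 IH) (path_edge (s0_f17160 IH) (path_edge (s0_f17161r IH) (path_nil s0_v1295))))
theorem s0_f17164 : ed sl_dt s0_v1295 = s0_v1296 :=
  rfl
theorem s0_f17164r : ed sl_df s0_v1296 = s0_v1295 :=
  edge_flip (s0_f17164 IH)
theorem s0_f17165 : ed sl_df s0_v1295 = s0_v1296 :=
  gap_rel s0_rot4 (path_edge (s0_f17164r IH) (path_nil s0_v1296))
theorem s0_f17166 : ed sl_jf s0_v1296 = s0_v1296 :=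
  gap_rel s0_rot6 (path_edge (s0_f17165 IH) (path_edge (s0_f17163 IH) (path_edge (s0_f17164r IH) (path_nil s0_v1296))))
theorem s0_f17167 : ed sl_bt s0_v1296 = s0_v1297 :=
  rfl
theorem s0_f17167r : ed sl_bf s0_v1297 = s0_v1296 :=
  edge_flip (s0_f17167 IH)
theorem s0_f17168 : ed sl_bf s0_v1296 = s0_v1297 :=
  gap_rel s0_rot20 (path_edge (s0_f17167r IH) (path_nil s0_v1297))
theorem s0_f17169 : ed sl_jf s0_v1297 = s0_v1297 :=
  gap_rel s0_rot21 (path_edge (s0_f17168 IH) (path_edge (s0_f17166 IH) (path_edge (s0_f17167r IH) (path_nil s0_v1297))))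
theorem s0_f17170 : ed sl_ct s0_v1297 = s0_v1298 :=
  rfl
theorem s0_f17170r : ed sl_cf s0_v1298 = s0_v1297 :=
  edge_flip (s0_f17170 IH)
theorem s0_f17171 : ed sl_cf s0_v1297 = s0_v1298 :=
  gap_rel s0_rot0 (path_edge (s0_f17170r IH) (path_nil s0_v1298))
theorem s0_f17172 : ed sl_jf s0_v1298 = s0_v1298 :=
  gap_rel s0_rot2 (path_edge (s0_f17171 IH) (path_edge (s0_f17169 IH) (path_edge (s0_f17170r IH) (path_nil s0_v1298))))
theorem s0_f17173 : ed sl_dt s0_v1298 = s0_v1299 :=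
  rfl
theorem s0_f17173r : ed sl_df s0_v1299 = s0_v1298 :=
  edge_flip (s0_f17173 IH)
theorem s0_f17174 : ed sl_df s0_v1298 = s0_v1299 :=
  gap_rel s0_rot4 (path_edge (s0_f17173r IH) (path_nil s0_v1299))
theorem s0_f17175 : ed sl_jf s0_v1299 = s0_v1299 :=
  gap_rel s0_rot6 (path_edge (s0_f17174 IH) (path_edge (s0_f17172 IH) (path_edge (s0_f17173r IH) (path_nil s0_v1299))))
theorem s0_f17176 : ed sl_it s0_v1299 = s0_v1300 :=
  rfl
theorem s0_f17176r : ed sl_if s0_v1300 = s0_v1299 :=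
  edge_flip (s0_f17176 IH)
theorem s0_f17177 : ed sl_if s0_v1299 = s0_v1300 :=
  gap_rel s0_rot9 (path_edge (s0_f17176r IH) (path_nil s0_v1300))
theorem s0_f17177r : ed sl_it s0_v1300 = s0_v1299 :=
  edge_flip (s0_f17177 IH)
theorem s0_f17175r : ed sl_jt s0_v1299 = s0_v1299 :=
  edge_flip (s0_f17175 IH)
theorem s0_f17178 : ed sl_jt s0_v1300 = s0_v1300 :=
  gap_rel s0_rot12 (path_edge (s0_f17176 IH) (path_edge (s0_f17175r IH) (path_edge (s0_f17177r IH) (path_nil s0_v1300))))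
theorem s0_f17179 : ed sl_ht s0_v1300 = s0_v1301 :=
  rfl
theorem s0_f17179r : ed sl_hf s0_v1301 = s0_v1300 :=
  edge_flip (s0_f17179 IH)
theorem s0_f17180 : ed sl_hf s0_v1300 = s0_v1301 :=
  gap_rel s0_rot13 (path_edge (s0_f17179r IH) (path_nil s0_v1301))
theorem s0_f17178r : ed sl_jf s0_v1300 = s0_v1300 :=
  edge_flip (s0_f17178 IH)
theorem s0_f17181 : ed sl_jf s0_v1301 = s0_v1301 :=
  gap_rel s0_rot15 (path_edge (s0_f17180 IH) (path_edge (s0_f17178r IH) (path_edge (s0_f17179r IH) (path_nil s0_v1301))))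
theorem s0_f17182 : ed sl_dt s0_v1301 = s0_v1302 :=
  rfl
theorem s0_f17182r : ed sl_df s0_v1302 = s0_v1301 :=
  edge_flip (s0_f17182 IH)
theorem s0_f17183 : ed sl_df s0_v1301 = s0_v1302 :=
  gap_rel s0_rot4 (path_edge (s0_f17182r IH) (path_nil s0_v1302))
theorem s0_f17184 : ed sl_jf s0_v1302 = s0_v1302 :=
  gap_rel s0_rot6 (path_edge (s0_f17183 IH) (path_edge (s0_f17181 IH) (path_edge (s0_f17182r IH) (path_nil s0_v1302))))
theorem s0_f17185 : ed sl_ft s0_v1302 = s0_v1303 :=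
  rfl
theorem s0_f17185r : ed sl_ff s0_v1303 = s0_v1302 :=
  edge_flip (s0_f17185 IH)
theorem s0_f17186 : ed sl_ff s0_v1302 = s0_v1303 :=
  gap_rel s0_rot22 (path_edge (s0_f17185r IH) (path_nil s0_v1303))
theorem s0_f17187 : ed sl_jf s0_v1303 = s0_v1303 :=
  gap_rel s0_rot23 (path_edge (s0_f17186 IH) (path_edge (s0_f17184 IH) (path_edge (s0_f17185r IH) (path_nil s0_v1303))))
theorem s0_f17188 : ed sl_et s0_v1303 = s0_v1304 :=
  rfl
theorem s0_f17188r : ed sl_ef s0_v1304 = s0_v1303 :=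
  edge_flip (s0_f17188 IH)
theorem s0_f17189 : ed sl_ef s0_v1303 = s0_v1304 :=
  gap_rel s0_rot17 (path_edge (s0_f17188r IH) (path_nil s0_v1304))
theorem s0_f17190 : ed sl_jf s0_v1304 = s0_v1304 :=
  gap_rel s0_rot18 (path_edge (s0_f17189 IH) (path_edge (s0_f17187 IH) (path_edge (s0_f17188r IH) (path_nil s0_v1304))))
theorem s0_f17191 : ed sl_dt s0_v1304 = s0_v1305 :=
  rfl
theorem s0_f17191r : ed sl_df s0_v1305 = s0_v1304 :=
  edge_flip (s0_f17191 IH)
theorem s0_f17192 : ed sl_df s0_v1304 = s0_v1305 :=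
  gap_rel s0_rot4 (path_edge (s0_f17191r IH) (path_nil s0_v1305))
theorem s0_f17193 : ed sl_jf s0_v1305 = s0_v1305 :=
  gap_rel s0_rot6 (path_edge (s0_f17192 IH) (path_edge (s0_f17190 IH) (path_edge (s0_f17191r IH) (path_nil s0_v1305))))
theorem s0_f17194 : ed sl_bt s0_v1305 = s0_v1306 :=
  rfl
theorem s0_f17194r : ed sl_bf s0_v1306 = s0_v1305 :=
  edge_flip (s0_f17194 IH)
theorem s0_f17195 : ed sl_bf s0_v1305 = s0_v1306 :=
  gap_rel s0_rot20 (path_edge (s0_f17194r IH) (path_nil s0_v1306))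
theorem s0_f17196 : ed sl_jf s0_v1306 = s0_v1306 :=
  gap_rel s0_rot21 (path_edge (s0_f17195 IH) (path_edge (s0_f17193 IH) (path_edge (s0_f17194r IH) (path_nil s0_v1306))))
theorem s0_f17197 : ed sl_ct s0_v1306 = s0_v1307 :=
  rfl
theorem s0_f17197r : ed sl_cf s0_v1307 = s0_v1306 :=
  edge_flip (s0_f17197 IH)
theorem s0_f17198 : ed sl_cf s0_v1306 = s0_v1307 :=
  gap_rel s0_rot0 (path_edge (s0_f17197r IH) (path_nil s0_v1307))
theorem s0_f17200 : ed sl_dt s0_v1307 = s0_v1308 :=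
  rfl
theorem s0_f17203 : ed sl_it s0_v1308 = s0_v1309 :=
  rfl
theorem s0_f17203r : ed sl_if s0_v1309 = s0_v1308 :=
  edge_flip (s0_f17203 IH)
theorem s0_f17204 : ed sl_if s0_v1308 = s0_v1309 :=
  gap_rel s0_rot9 (path_edge (s0_f17203r IH) (path_nil s0_v1309))
theorem s0_f17206 : ed sl_ht s0_v1309 = s0_v1310 :=
  rfl
theorem s0_f17206r : ed sl_hf s0_v1310 = s0_v1309 :=
  edge_flip (s0_f17206 IH)
theorem s0_f17207 : ed sl_hf s0_v1309 = s0_v1310 :=
  gap_rel s0_rot13 (path_edge (s0_f17206r IH) (path_nil s0_v1310))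
theorem s0_f17200r : ed sl_df s0_v1308 = s0_v1307 :=
  edge_flip (s0_f17200 IH)
theorem s0_f16920r : ed sl_hf sq4961 = sq3834 :=
  edge_flip (s0_f16920 IH)
theorem s0_f16919r : ed sl_if sq3834 = sq2887 :=
  edge_flip (s0_f16919 IH)
theorem s0_f14753r : ed sl_df sq2887 = sq2135 :=
  edge_flip (s0_f14753 IH)
theorem s0_f15066r : ed sl_cf sq2135 = sq1554 :=
  edge_flip (s0_f15066 IH)
theorem s0_f4473r : ed sl_bf sq1554 = sq1554 :=
  edge_flip (s0_f4473 IH)
theorem s0_f11525r : ed sl_df sq1554 = sq1118 :=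
  edge_flip (s0_f11525 IH)
theorem s0_f15067r : ed sl_ef sq1118 = sq796 :=
  edge_flip (s0_f15067 IH)
theorem s0_f15068r : ed sl_ff sq796 = sq557 :=
  edge_flip (s0_f15068 IH)
theorem s0_f16918r : ed sl_df sq557 = sq557 :=
  edge_flip (s0_f16918 IH)
theorem s0_f15069r : ed sl_hf sq557 = sq383 :=
  edge_flip (s0_f15069 IH)
theorem s0_f16917r : ed sl_if sq383 = sq383 :=
  edge_flip (s0_f16917 IH)
theorem s0_f2553r : ed sl_df sq383 = sq261 :=
  edge_flip (s0_f2553 IH)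
theorem s0_f16916r : ed sl_cf sq261 = sq179 :=
  edge_flip (s0_f16916 IH)
theorem s0_f16915r : ed sl_bf sq179 = sq133 :=
  edge_flip (s0_f16915 IH)
theorem s0_f16914r : ed sl_df sq133 = sq194 :=
  edge_flip (s0_f16914 IH)
theorem s0_f16913r : ed sl_ef sq194 = sq132 :=
  edge_flip (s0_f16913 IH)
theorem s0_f16912r : ed sl_ff sq132 = sq192 :=
  edge_flip (s0_f16912 IH)
theorem s0_f8681r : ed sl_df sq192 = sq131 :=
  edge_flip (s0_f8681 IH)
theorem s0_f15103r : ed sl_hf sq131 = sq88 :=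
  edge_flip (s0_f15103 IH)
theorem s0_f16903r : ed sl_if sq88 = sq59 :=
  edge_flip (s0_f16903 IH)
theorem s0_f4065r : ed sl_cf sq84 = sq84 :=
  edge_flip (s0_f4065 IH)
theorem s0_f13070r : ed sl_bf sq84 = sq116 :=
  edge_flip (s0_f13070 IH)
theorem s0_f958r : ed sl_df sq116 = sq81 :=
  edge_flip (s0_f958 IH)
theorem s0_f957r : ed sl_ef sq81 = sq81 :=
  edge_flip (s0_f957 IH)
theorem s0_f956r : ed sl_ff sq81 = sq56 :=
  edge_flip (s0_f956 IH)
theorem s0_f7793r : ed sl_df sq56 = sq80 :=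
  edge_flip (s0_f7793 IH)
theorem s0_f7986r : ed sl_hf sq80 = sq117 :=
  edge_flip (s0_f7986 IH)
theorem s0_f16921r : ed sl_if sq117 = sq172 :=
  edge_flip (s0_f16921 IH)
theorem s0_f16922r : ed sl_df sq172 = sq172 :=
  edge_flip (s0_f16922 IH)
theorem s0_f1566r : ed sl_cf sq172 = sq244 :=
  edge_flip (s0_f1566 IH)
theorem s0_f16923r : ed sl_bf sq244 = sq244 :=
  edge_flip (s0_f16923 IH)
theorem s0_f1567r : ed sl_df sq244 = sq357 :=
  edge_flip (s0_f1567 IH)
theorem s0_f1568r : ed sl_ef sq357 = sq517 :=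
  edge_flip (s0_f1568 IH)
theorem s0_f1569r : ed sl_ff sq517 = sq517 :=
  edge_flip (s0_f1569 IH)
theorem s0_f16924r : ed sl_df sq517 = sq517 :=
  edge_flip (s0_f16924 IH)
theorem s0_f1570r : ed sl_hf sq517 = sq736 :=
  edge_flip (s0_f1570 IH)
theorem s0_f16925r : ed sl_if sq736 = sq736 :=
  edge_flip (s0_f16925 IH)
theorem s0_f1574r : ed sl_df sq736 = sq1031 :=
  edge_flip (s0_f1574 IH)
theorem s0_f16926r : ed sl_cf sq1031 = sq1423 :=
  edge_flip (s0_f16926 IH)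
theorem s0_f16927r : ed sl_bf sq1423 = sq1943 :=
  edge_flip (s0_f16927 IH)
theorem s0_f16928r : ed sl_df sq1943 = sq1943 :=
  edge_flip (s0_f16928 IH)
theorem s0_f16929r : ed sl_ef sq1943 = sq2625 :=
  edge_flip (s0_f16929 IH)
theorem s0_f16930r : ed sl_ff sq2625 = sq3471 :=
  edge_flip (s0_f16930 IH)
theorem s0_f17209 : ed sl_df sq3471 = s0_v1310 :=
  gap_rel s0_rot58 (path_edge (s0_f16930r IH) (path_edge (s0_f16929r IH) (path_edge (s0_f16928r IH) (path_edge (s0_f16927r IH) (path_edge (s0_f16926r IH) (path_edge (s0_f1574r IH) (path_edge (s0_f16925r IH) (path_edge (s0_f1570r IH) (path_edge (s0_f16924r IH) (path_edge (s0_f1569r IH) (path_edge (s0_f1568r IH) (path_edge (s0_f1567r IH) (path_edge (s0_f16923r IH) (path_edge (s0_f1566r IH) (path_edge (s0_f16922r IH) (path_edge (s0_f16921r IH) (path_edge (s0_f7986r IH) (path_edge (s0_f7793r IH) (path_edge (s0_f956r IH) (path_edge (s0_f957r IH) (path_edge (s0_f958r IH) (path_edge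 (s0_f13070r IH) (path_edge (s0_f4065r IH) (path_edge (s0_f923r IH) (path_edge (s0_f16903r IH) (path_edge (s0_f15103r IH) (path_edge (s0_f8681r IH) (path_edge (s0_f16912r IH) (path_edge (s0_f16913r IH) (path_edge (s0_f16914r IH) (path_edge (s0_f16915r IH) (path_edge (s0_f16916r IH) (path_edge (s0_f2553r IH) (path_edge (s0_f16917r IH) (path_edge (s0_f15069r IH) (path_edge (s0_f16918r IH) (path_edge (s0_f15068r IH) (path_edge (s0_f15067r IH) (path_edge (s0_f11525r IH) (path_edge (s0_f4473r IH) (path_edge (s0_f15066r IH) (path_edge (s0_f14753r IH) (path_edge (s0_f16919r IH) (path_edge (s0_f16920r IH) (path_edge (s0_f16931r IH) (path_edge (s0_f16941 IH) (path_edge (s0_f16988r IH) (path_edge (s0_f16989 IH) (path_edge (s0_f17038r IH) (path_edge (s0_f17086r IH) (path_edge (s0_f17092r IH) (path_edge (s0_f17095r IH) (path_edge (s0_f17098r IH) (path_edge (s0_f17101r IH) (path_edge (s0_f17104r IH) (path_edge (s0_f17107r IH) (path_edge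 (s0_f17110r IH) (path_edge (s0_f17113r IH) (path_edge (s0_f17116r IH) (path_edge (s0_f17119r IH) (path_edge (s0_f17122r IH) (path_edge (s0_f17125r IH) (path_edge (s0_f17128r IH) (path_edge (s0_f17131r IH) (path_edge (s0_f17134r IH) (path_edge (s0_f17137r IH) (path_edge (s0_f17140r IH) (path_edge (s0_f17143r IH) (path_edge (s0_f17146r IH) (path_edge (s0_f17149r IH) (path_edge (s0_f17152r IH) (path_edge (s0_f17155r IH) (path_edge (s0_f17158r IH) (path_edge (s0_f17161r IH) (path_edge (s0_f17164r IH) (path_edge (s0_f17167r IH) (path_edge (s0_f17170r IH) (path_edge (s0_f17173r IH) (path_edge (s0_f17176r IH) (path_edge (s0_f17179r IH) (path_edge (s0_f17182r IH) (path_edge (s0_f17185r IH) (path_edge (s0_f17188r IH) (path_edge (s0_f17191r IH) (path_edge (s0_f17194r IH) (path_edge (s0_f17197r IH) (path_edge (s0_f17200r IH) (path_edge (s0_f17203r IH) (path_edge (s0_f17206r IH) (path_nil s0_v1310))))))))))))))))))))))))))))))))))))))))))))))))))))))))))))))))))))))))))))))))))))))))))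
theorem s0_f17210 : ed sl_bt sq3471 = sq2627 :=
  real_edge rels S fwd inv o lvl plet idx 47 IH Gen.b sp3471 sp2627 rfl rfl
theorem s0_f17211 : ed sl_dt sq2627 = sq3472 :=
  real_edge rels S fwd inv o lvl plet idx 47 IH Gen.d sp2627 sp3472 rfl rfl
theorem s0_f17209r : ed sl_dt s0_v1310 = sq3471 :=
  edge_flip (s0_f17209 IH)
theorem s0_f17212 : ed sl_bt sq3472 = s0_v1310 :=
  gap_rel s0_rot79 (path_edge (s0_f17211 IH) (path_edge (s0_f17210 IH) (path_edge (s0_f17209r IH) (path_nil s0_v1310))))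
theorem s0_f17214 : ed sl_dt sq3471 = s0_v1310 :=
  gap_rel s0_rot59 (path_edge (s0_f17209r IH) (path_nil s0_v1310))
theorem s0_f17216 : ed sl_ht sq3471 = sq3471 :=
  real_edge rels S fwd inv o lvl plet idx 47 IH Gen.h sp3471 sp3471 rfl rfl
theorem s0_f17207r : ed sl_ht s0_v1310 = s0_v1309 :=
  edge_flip (s0_f17207 IH)
theorem s0_f17217 : ed sl_dt s0_v1309 = s0_v1309 :=
  gap_rel s0_rot41 (path_edge (s0_f17207r IH) (path_edge (s0_f17214 IH) (path_edge (s0_f17216 IH) (path_edge (s0_f17209r IH) (path_edge (s0_f17206 IH) (path_nil s0_v1309))))))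
theorem s0_f17220 : ed sl_it sq3471 = sq3471 :=
  real_edge rels S fwd inv o lvl plet idx 47 IH Gen.i sp3471 sp3471 rfl rfl
theorem s0_f17221 : ed sl_it s0_v1310 = s0_v1310 :=
  gap_rel s0_rot70 (path_edge (s0_f17214 IH) (path_edge (s0_f17220 IH) (path_edge (s0_f17209r IH) (path_nil s0_v1310))))
theorem s0_f17222 : ed sl_it sq1427 = sq1427 :=
  real_edge rels S fwd inv o lvl plet idx 47 IH Gen.i sp1427 sp1427 rfl rfl
theorem s0_f17223 : ed sl_dt sq1036 = sq1036 :=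
  real_edge rels S fwd inv o lvl plet idx 47 IH Gen.d sp1036 sp1036 rfl rfl
theorem s0_f17224 : ed sl_bt sq358 = sq358 :=
  real_edge rels S fwd inv o lvl plet idx 47 IH Gen.b sp358 sp358 rfl rfl
theorem s0_f17225 : ed sl_dt sq254 = sq373 :=
  real_edge rels S fwd inv o lvl plet idx 47 IH Gen.d sp254 sp373 rfl rfl
theorem s0_f17226 : ed sl_it sq373 = sq255 :=
  real_edge rels S fwd inv o lvl plet idx 47 IH Gen.i sp373 sp255 rfl rfl
theorem s0_f17227 : ed sl_ht sq255 = sq177 :=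
  real_edge rels S fwd inv o lvl plet idx 47 IH Gen.h sp255 sp177 rfl rfl
theorem s0_f17228 : ed sl_dt sq177 = sq121 :=
  real_edge rels S fwd inv o lvl plet idx 47 IH Gen.d sp177 sp121 rfl rfl
theorem s0_f17229 : ed sl_bt sq258 = sq192 :=
  real_edge rels S fwd inv o lvl plet idx 47 IH Gen.b sp258 sp192 rfl rfl
theorem s0_f17230 : ed sl_it sq198 = sq198 :=
  real_edge rels S fwd inv o lvl plet idx 47 IH Gen.i sp198 sp198 rfl rfl

end

end

end Cfsg.Agent.Helper28.S1689
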