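import Cfsg.Agent.Lib.Helper28.S1689.Seeds4

set_option autoImplicit false
set_option maxRecDepth 100000
set_option linter.all false

namespace Cfsg.Agent.Helper28.S1689

open Cfsg.Agent.Helper28
open Cfsg.Spor.Fi23 (Gen)

noncomputable section

section
variable (IH : ∀ y q, lvl y q < 47 → EntryOK rels S fwd inv o plet idx y q)
include IH

theorem s0_f17231 : ed sl_ft sq281 = sq193 :=
  real_edge rels S fwd inv o lvl plet idx 47 IH Gen.f sp281 sp193 rfl rfl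
theorem s0_f17232 : ed sl_et sq193 = sq284 :=
  real_edge rels S fwd inv o lvl plet idx 47 IH Gen.e sp193 sp284 rfl rfl
theorem s0_f17233 : ed sl_bt sq284 = sq417 :=
  real_edge rels S fwd inv o lvl plet idx 47 IH Gen.b sp284 sp417 rfl rfl
theorem s0_f17234 : ed sl_ct sq417 = sq552 :=
  real_edge rels S fwd inv o lvl plet idx 47 IH Gen.c sp417 sp552 rfl rfl
theorem s0_f17235 : ed sl_it sq788 = sq788 :=
  real_edge rels S fwd inv o lvl plet idx 47 IH Gen.i sp788 sp788 rfl rfl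
theorem s0_f17236 : ed sl_ht sq788 = sq1110 :=
  real_edge rels S fwd inv o lvl plet idx 47 IH Gen.h sp788 sp1110 rfl rfl
theorem s0_f17237 : ed sl_ft sq1508 = sq2071 :=
  real_edge rels S fwd inv o lvl plet idx 47 IH Gen.f sp1508 sp2071 rfl rfl
theorem s0_f17238 : ed sl_et sq2071 = sq2808 :=
  real_edge rels S fwd inv o lvl plet idx 47 IH Gen.e sp2071 sp2808 rfl rfl
theorem s0_f17239 : ed sl_bt sq3726 = sq2815 :=
  real_edge rels S fwd inv o lvl plet idx 47 IH Gen.b sp3726 sp2815 rfl rfl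
theorem s0_f17240 : ed sl_dt sq3735 = sq3735 :=
  real_edge rels S fwd inv o lvl plet idx 47 IH Gen.d sp3735 sp3735 rfl rfl
theorem s0_f17241 : ed sl_it sq3735 = sq4832 :=
  real_edge rels S fwd inv o lvl plet idx 47 IH Gen.i sp3735 sp4832 rfl rfl
theorem s0_f17242 : ed sl_ht sq4832 = sq6128 :=
  real_edge rels S fwd inv o lvl plet idx 47 IH Gen.h sp4832 sp6128 rfl rfl
theorem s0_f17263 : ed sl_it sq3472 = sq3472 :=
  real_edge rels S fwd inv o lvl plet idx 47 IH Gen.i sp3472 sp3472 rfl rfl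
theorem s0_f17221r : ed sl_if s0_v1310 = s0_v1310 :=
  edge_flip (s0_f17221 IH)
theorem s0_f17212r : ed sl_bf s0_v1310 = sq3472 :=
  edge_flip (s0_f17212 IH)
theorem s0_f17263r : ed sl_if sq3472 = sq3472 :=
  edge_flip (s0_f17263 IH)
theorem s0_f17264 : ed sl_bf sq3472 = s0_v1310 :=
  gap_rel s0_rot102 (path_edge (s0_f17263r IH) (path_edge (s0_f17212r IH) (path_edge (s0_f17221r IH) (path_nil s0_v1310))))
theorem s0_f17217r : ed sl_df s0_v1309 = s0_v1309 :=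
  edge_flip (s0_f17217 IH)
theorem s0_f17281 : s0_v1307 = s0_v1308 :=
  (loop_rel s0_rot51 (path_edge (s0_f17200r IH) (path_edge (s0_f17203r IH) (path_edge (s0_f17217r IH) (path_edge (s0_f17204 IH) (path_nil s0_v1308)))))).symm
theorem s0_f17310 : ed sl_dt sq8256 = sq9998 :=
  real_edge rels S fwd inv o lvl plet idx 47 IH Gen.d sp8256 sp9998 rfl rfl
theorem s0_f17344 : ed sl_dt sq17477 = sq19525 :=
  real_edge rels S fwd inv o lvl plet idx 47 IH Gen.d sp17477 sp19525 rfl rfl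
theorem s0_f17347 : ed sl_dt sq12993 = sq12993 :=
  real_edge rels S fwd inv o lvl plet idx 47 IH Gen.d sp12993 sp12993 rfl rfl
theorem s0_f17640 : ed sl_ct sq515 = sq371 :=
  real_edge rels S fwd inv o lvl plet idx 47 IH Gen.c sp515 sp371 rfl rfl
theorem s0_f17641 : ed sl_et sq1027 = sq733 :=
  real_edge rels S fwd inv o lvl plet idx 47 IH Gen.e sp1027 sp733 rfl rfl
theorem s0_f17642 : ed sl_ft sq1417 = sq1027 :=
  real_edge rels S fwd inv o lvl plet idx 47 IH Gen.f sp1417 sp1027 rfl rfl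
theorem s0_f17670 : ed sl_dt sq4734 = sq3660 :=
  real_edge rels S fwd inv o lvl plet idx 47 IH Gen.d sp4734 sp3660 rfl rfl
theorem s0_f17996 : ed sl_dt sq7316 = sq8934 :=
  real_edge rels S fwd inv o lvl plet idx 47 IH Gen.d sp7316 sp8934 rfl rfl
theorem s0_f18017 : ed sl_et sq9756 = sq8256 :=
  real_edge rels S fwd inv o lvl plet idx 47 IH Gen.e sp9756 sp8256 rfl rfl
theorem s0_f18300 : ed sl_dt sq818 = sq574 :=
  real_edge rels S fwd inv o lvl plet idx 47 IH Gen.d sp818 sp574 rfl rfl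
theorem s0_f18377 : ed sl_it sq62 = sq92 :=
  real_edge rels S fwd inv o lvl plet idx 47 IH Gen.i sp62 sp92 rfl rfl
theorem s0_f18379 : ed sl_bt sq119 = sq87 :=
  real_edge rels S fwd inv o lvl plet idx 47 IH Gen.b sp119 sp87 rfl rfl
theorem s0_f18383 : ed sl_ht sq92 = sq135 :=
  real_edge rels S fwd inv o lvl plet idx 47 IH Gen.h sp92 sp135 rfl rfl
theorem s0_f18388 : ed sl_dt sq135 = sq197 :=
  real_edge rels S fwd inv o lvl plet idx 47 IH Gen.d sp135 sp197 rfl rfl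
theorem s0_f18389 : ed sl_ft sq197 = sq197 :=
  real_edge rels S fwd inv o lvl plet idx 47 IH Gen.f sp197 sp197 rfl rfl
theorem s0_f18390 : ed sl_et sq197 = sq289 :=
  real_edge rels S fwd inv o lvl plet idx 47 IH Gen.e sp197 sp289 rfl rfl
theorem s0_f18391 : ed sl_dt sq289 = sq289 :=
  real_edge rels S fwd inv o lvl plet idx 47 IH Gen.d sp289 sp289 rfl rfl
theorem s0_f18392 : ed sl_ct sq289 = sq424 :=
  real_edge rels S fwd inv o lvl plet idx 47 IH Gen.c sp289 sp424 rfl rfl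
theorem s0_f18393 : ed sl_dt sq424 = sq615 :=
  real_edge rels S fwd inv o lvl plet idx 47 IH Gen.d sp424 sp615 rfl rfl
theorem s0_f18394 : ed sl_it sq615 = sq615 :=
  real_edge rels S fwd inv o lvl plet idx 47 IH Gen.i sp615 sp615 rfl rfl
theorem s0_f18395 : ed sl_ht sq615 = sq878 :=
  real_edge rels S fwd inv o lvl plet idx 47 IH Gen.h sp615 sp878 rfl rfl
theorem s0_f18396 : ed sl_dt sq878 = sq878 :=
  real_edge rels S fwd inv o lvl plet idx 47 IH Gen.d sp878 sp878 rfl rfl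
theorem s0_f18397 : ed sl_ft sq878 = sq1233 :=
  real_edge rels S fwd inv o lvl plet idx 47 IH Gen.f sp878 sp1233 rfl rfl
theorem s0_f18398 : ed sl_et sq1233 = sq1709 :=
  real_edge rels S fwd inv o lvl plet idx 47 IH Gen.e sp1233 sp1709 rfl rfl
theorem s0_f18399 : ed sl_dt sq1709 = sq2338 :=
  real_edge rels S fwd inv o lvl plet idx 47 IH Gen.d sp1709 sp2338 rfl rfl
theorem s0_f18400 : ed sl_ct sq3148 = sq4126 :=
  real_edge rels S fwd inv o lvl plet idx 47 IH Gen.c sp3148 sp4126 rfl rfl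
theorem s0_f18401 : ed sl_dt sq4126 = sq5248 :=
  real_edge rels S fwd inv o lvl plet idx 47 IH Gen.d sp4126 sp5248 rfl rfl
theorem s0_f18402 : ed sl_dt sq169 = sq119 :=
  real_edge rels S fwd inv o lvl plet idx 47 IH Gen.d sp169 sp119 rfl rfl
theorem s0_f18403 : ed sl_et sq246 = sq169 :=
  real_edge rels S fwd inv o lvl plet idx 47 IH Gen.e sp246 sp169 rfl rfl
theorem s0_f18404 : ed sl_ft sq360 = sq246 :=
  real_edge rels S fwd inv o lvl plet idx 47 IH Gen.f sp360 sp246 rfl rfl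
theorem s0_f18405 : ed sl_dt sq360 = sq360 :=
  real_edge rels S fwd inv o lvl plet idx 47 IH Gen.d sp360 sp360 rfl rfl
theorem s0_f18406 : ed sl_ht sq523 = sq360 :=
  real_edge rels S fwd inv o lvl plet idx 47 IH Gen.h sp523 sp360 rfl rfl
theorem s0_f18407 : ed sl_it sq747 = sq523 :=
  real_edge rels S fwd inv o lvl plet idx 47 IH Gen.i sp747 sp523 rfl rfl
theorem s0_f18408 : ed sl_dt sq1048 = sq747 :=
  real_edge rels S fwd inv o lvl plet idx 47 IH Gen.d sp1048 sp747 rfl rfl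
theorem s0_f18409 : ed sl_ct sq1048 = sq1048 :=
  real_edge rels S fwd inv o lvl plet idx 47 IH Gen.c sp1048 sp1048 rfl rfl
theorem s0_f18410 : ed sl_bt sq806 = sq1048 :=
  real_edge rels S fwd inv o lvl plet idx 47 IH Gen.b sp806 sp1048 rfl rfl
theorem s0_f18411 : ed sl_dt sq564 = sq806 :=
  real_edge rels S fwd inv o lvl plet idx 47 IH Gen.d sp564 sp806 rfl rfl
theorem s0_f18412 : ed sl_et sq564 = sq564 :=
  real_edge rels S fwd inv o lvl plet idx 47 IH Gen.e sp564 sp564 rfl rfl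
theorem s0_f18413 : ed sl_ft sq392 = sq564 :=
  real_edge rels S fwd inv o lvl plet idx 47 IH Gen.f sp392 sp564 rfl rfl
theorem s0_f18414 : ed sl_dt sq570 = sq392 :=
  real_edge rels S fwd inv o lvl plet idx 47 IH Gen.d sp570 sp392 rfl rfl
theorem s0_f18415 : ed sl_ht sq814 = sq570 :=
  real_edge rels S fwd inv o lvl plet idx 47 IH Gen.h sp814 sp570 rfl rfl
theorem s0_f18416 : ed sl_it sq814 = sq814 :=
  real_edge rels S fwd inv o lvl plet idx 47 IH Gen.i sp814 sp814 rfl rfl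
theorem s0_f18417 : ed sl_dt sq1142 = sq814 :=
  real_edge rels S fwd inv o lvl plet idx 47 IH Gen.d sp1142 sp814 rfl rfl
theorem s0_f18418 : ed sl_it sq5248 = s0_v1358 :=
  rfl
theorem s0_f18435 : ed sl_ht s0_v1358 = s0_v1359 :=
  rfl
theorem s0_f18438 : ed sl_dt s0_v1359 = s0_v1360 :=
  rfl
theorem s0_f18441 : ed sl_ft s0_v1360 = s0_v1361 :=
  rfl
theorem s0_f18443 : ed sl_et s0_v1361 = s0_v1362 :=
  rfl
theorem s0_f18445 : ed sl_dt s0_v1362 = s0_v1363 :=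
  rfl
theorem s0_f18447 : ed sl_bt s0_v1363 = s0_v1364 :=
  rfl
theorem s0_f18449 : ed sl_ct s0_v1364 = s0_v1365 :=
  rfl
theorem s0_f18451 : ed sl_dt s0_v1365 = s0_v1366 :=
  rfl
theorem s0_f18453 : ed sl_it s0_v1366 = s0_v1367 :=
  rfl
theorem s0_f18455 : ed sl_ht s0_v1367 = s0_v1368 :=
  rfl
theorem s0_f18457 : ed sl_dt s0_v1368 = s0_v1369 :=
  rfl
theorem s0_f18459 : ed sl_ft s0_v1369 = s0_v1370 :=
  rfl
theorem s0_f18461 : ed sl_et s0_v1370 = s0_v1371 :=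
  rfl
theorem s0_f18463 : ed sl_dt s0_v1371 = s0_v1372 :=
  rfl
theorem s0_f18465 : ed sl_bt s0_v1372 = s0_v1373 :=
  rfl
theorem s0_f18467 : ed sl_ct s0_v1373 = s0_v1374 :=
  rfl
theorem s0_f18469 : ed sl_dt s0_v1374 = s0_v1375 :=
  rfl
theorem s0_f18471 : ed sl_it s0_v1375 = s0_v1376 :=
  rfl
theorem s0_f18473 : ed sl_ht s0_v1376 = s0_v1377 :=
  rfl
theorem s0_f18475 : ed sl_dt s0_v1377 = s0_v1378 :=
  rfl
theorem s0_f18477 : ed sl_ft s0_v1378 = s0_v1379 :=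
  rfl
theorem s0_f18479 : ed sl_et s0_v1379 = s0_v1380 :=
  rfl
theorem s0_f18481 : ed sl_dt s0_v1380 = s0_v1381 :=
  rfl
theorem s0_f18483 : ed sl_bt s0_v1381 = s0_v1382 :=
  rfl
theorem s0_f18485 : ed sl_ct s0_v1382 = s0_v1383 :=
  rfl
theorem s0_f18487 : ed sl_dt s0_v1383 = s0_v1384 :=
  rfl
theorem s0_f18489 : ed sl_it s0_v1384 = s0_v1385 :=
  rfl
theorem s0_f18491 : ed sl_ht s0_v1385 = s0_v1386 :=
  rfl
theorem s0_f18493 : ed sl_dt s0_v1386 = s0_v1387 :=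
  rfl
theorem s0_f18495 : ed sl_ft s0_v1387 = s0_v1388 :=
  rfl
theorem s0_f18497 : ed sl_et s0_v1388 = s0_v1389 :=
  rfl
theorem s0_f18499 : ed sl_dt s0_v1389 = s0_v1390 :=
  rfl
theorem s0_f18501 : ed sl_bt s0_v1390 = s0_v1391 :=
  rfl
theorem s0_f18503 : ed sl_ct s0_v1391 = s0_v1392 :=
  rfl
theorem s0_f18505 : ed sl_dt s0_v1392 = s0_v1393 :=
  rfl
theorem s0_f18507 : ed sl_it s0_v1393 = s0_v1394 :=
  rfl
theorem s0_f18509 : ed sl_ht s0_v1394 = s0_v1395 :=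
  rfl
theorem s0_f18511 : ed sl_dt s0_v1395 = s0_v1396 :=
  rfl
theorem s0_f18513 : ed sl_ft s0_v1396 = s0_v1397 :=
  rfl
theorem s0_f18515 : ed sl_et s0_v1397 = s0_v1398 :=
  rfl
theorem s0_f18517 : ed sl_dt s0_v1398 = s0_v1399 :=
  rfl
theorem s0_f18519 : ed sl_bt s0_v1399 = s0_v1400 :=
  rfl
theorem s0_f18521 : ed sl_ct s0_v1400 = s0_v1401 :=
  rfl
theorem s0_f18523 : ed sl_dt s0_v1401 = s0_v1402 :=
  rfl
theorem s0_f18525 : ed sl_it s0_v1402 = s0_v1403 :=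
  rfl
theorem s0_f18527 : ed sl_ht s0_v1403 = s0_v1404 :=
  rfl
theorem s0_f18529 : ed sl_dt s0_v1404 = s0_v1405 :=
  rfl
theorem s0_f18531 : ed sl_ft s0_v1405 = s0_v1406 :=
  rfl
theorem s0_f18533 : ed sl_et s0_v1406 = s0_v1407 :=
  rfl
theorem s0_f18535 : ed sl_dt s0_v1407 = s0_v1408 :=
  rfl
theorem s0_f18535r : ed sl_df s0_v1408 = s0_v1407 :=
  edge_flip (s0_f18535 IH)
theorem s0_f18536 : ed sl_df s0_v1407 = s0_v1408 :=
  gap_rel s0_rot4 (path_edge (s0_f18535r IH) (path_nil s0_v1408))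
theorem s0_f18537 : ed sl_bt s0_v1408 = s0_v1409 :=
  rfl
theorem s0_f18537r : ed sl_bf s0_v1409 = s0_v1408 :=
  edge_flip (s0_f18537 IH)
theorem s0_f18538 : ed sl_bf s0_v1408 = s0_v1409 :=
  gap_rel s0_rot20 (path_edge (s0_f18537r IH) (path_nil s0_v1409))
theorem s0_f18533r : ed sl_ef s0_v1407 = s0_v1406 :=
  edge_flip (s0_f18533 IH)
theorem s0_f18531r : ed sl_ff s0_v1406 = s0_v1405 :=
  edge_flip (s0_f18531 IH)
theorem s0_f18529r : ed sl_df s0_v1405 = s0_v1404 :=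
  edge_flip (s0_f18529 IH)
theorem s0_f18527r : ed sl_hf s0_v1404 = s0_v1403 :=
  edge_flip (s0_f18527 IH)
theorem s0_f18525r : ed sl_if s0_v1403 = s0_v1402 :=
  edge_flip (s0_f18525 IH)
theorem s0_f18523r : ed sl_df s0_v1402 = s0_v1401 :=
  edge_flip (s0_f18523 IH)
theorem s0_f18521r : ed sl_cf s0_v1401 = s0_v1400 :=
  edge_flip (s0_f18521 IH)
theorem s0_f18519r : ed sl_bf s0_v1400 = s0_v1399 :=
  edge_flip (s0_f18519 IH)
theorem s0_f18517r : ed sl_df s0_v1399 = s0_v1398 :=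
  edge_flip (s0_f18517 IH)
theorem s0_f18515r : ed sl_ef s0_v1398 = s0_v1397 :=
  edge_flip (s0_f18515 IH)
theorem s0_f18513r : ed sl_ff s0_v1397 = s0_v1396 :=
  edge_flip (s0_f18513 IH)
theorem s0_f18511r : ed sl_df s0_v1396 = s0_v1395 :=
  edge_flip (s0_f18511 IH)
theorem s0_f18509r : ed sl_hf s0_v1395 = s0_v1394 :=
  edge_flip (s0_f18509 IH)
theorem s0_f18507r : ed sl_if s0_v1394 = s0_v1393 :=
  edge_flip (s0_f18507 IH)
theorem s0_f18505r : ed sl_df s0_v1393 = s0_v1392 :=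
  edge_flip (s0_f18505 IH)
theorem s0_f18503r : ed sl_cf s0_v1392 = s0_v1391 :=
  edge_flip (s0_f18503 IH)
theorem s0_f18501r : ed sl_bf s0_v1391 = s0_v1390 :=
  edge_flip (s0_f18501 IH)
theorem s0_f18499r : ed sl_df s0_v1390 = s0_v1389 :=
  edge_flip (s0_f18499 IH)
theorem s0_f18497r : ed sl_ef s0_v1389 = s0_v1388 :=
  edge_flip (s0_f18497 IH)
theorem s0_f18495r : ed sl_ff s0_v1388 = s0_v1387 :=
  edge_flip (s0_f18495 IH)
theorem s0_f18493r : ed sl_df s0_v1387 = s0_v1386 :=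
  edge_flip (s0_f18493 IH)
theorem s0_f18491r : ed sl_hf s0_v1386 = s0_v1385 :=
  edge_flip (s0_f18491 IH)
theorem s0_f18489r : ed sl_if s0_v1385 = s0_v1384 :=
  edge_flip (s0_f18489 IH)
theorem s0_f18487r : ed sl_df s0_v1384 = s0_v1383 :=
  edge_flip (s0_f18487 IH)
theorem s0_f18485r : ed sl_cf s0_v1383 = s0_v1382 :=
  edge_flip (s0_f18485 IH)
theorem s0_f18483r : ed sl_bf s0_v1382 = s0_v1381 :=
  edge_flip (s0_f18483 IH)
theorem s0_f18481r : ed sl_df s0_v1381 = s0_v1380 :=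
  edge_flip (s0_f18481 IH)
theorem s0_f18479r : ed sl_ef s0_v1380 = s0_v1379 :=
  edge_flip (s0_f18479 IH)
theorem s0_f18477r : ed sl_ff s0_v1379 = s0_v1378 :=
  edge_flip (s0_f18477 IH)
theorem s0_f18475r : ed sl_df s0_v1378 = s0_v1377 :=
  edge_flip (s0_f18475 IH)
theorem s0_f18473r : ed sl_hf s0_v1377 = s0_v1376 :=
  edge_flip (s0_f18473 IH)
theorem s0_f18471r : ed sl_if s0_v1376 = s0_v1375 :=
  edge_flip (s0_f18471 IH)
theorem s0_f18469r : ed sl_df s0_v1375 = s0_v1374 :=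
  edge_flip (s0_f18469 IH)
theorem s0_f18467r : ed sl_cf s0_v1374 = s0_v1373 :=
  edge_flip (s0_f18467 IH)
theorem s0_f18465r : ed sl_bf s0_v1373 = s0_v1372 :=
  edge_flip (s0_f18465 IH)
theorem s0_f18463r : ed sl_df s0_v1372 = s0_v1371 :=
  edge_flip (s0_f18463 IH)
theorem s0_f18461r : ed sl_ef s0_v1371 = s0_v1370 :=
  edge_flip (s0_f18461 IH)
theorem s0_f18459r : ed sl_ff s0_v1370 = s0_v1369 :=
  edge_flip (s0_f18459 IH)
theorem s0_f18457r : ed sl_df s0_v1369 = s0_v1368 :=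
  edge_flip (s0_f18457 IH)
theorem s0_f18455r : ed sl_hf s0_v1368 = s0_v1367 :=
  edge_flip (s0_f18455 IH)
theorem s0_f18453r : ed sl_if s0_v1367 = s0_v1366 :=
  edge_flip (s0_f18453 IH)
theorem s0_f18451r : ed sl_df s0_v1366 = s0_v1365 :=
  edge_flip (s0_f18451 IH)
theorem s0_f18449r : ed sl_cf s0_v1365 = s0_v1364 :=
  edge_flip (s0_f18449 IH)
theorem s0_f18447r : ed sl_bf s0_v1364 = s0_v1363 :=
  edge_flip (s0_f18447 IH)
theorem s0_f18445r : ed sl_df s0_v1363 = s0_v1362 :=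
  edge_flip (s0_f18445 IH)
theorem s0_f18443r : ed sl_ef s0_v1362 = s0_v1361 :=
  edge_flip (s0_f18443 IH)
theorem s0_f18441r : ed sl_ff s0_v1361 = s0_v1360 :=
  edge_flip (s0_f18441 IH)
theorem s0_f18438r : ed sl_df s0_v1360 = s0_v1359 :=
  edge_flip (s0_f18438 IH)
theorem s0_f18435r : ed sl_hf s0_v1359 = s0_v1358 :=
  edge_flip (s0_f18435 IH)
theorem s0_f18418r : ed sl_if s0_v1358 = sq5248 :=
  edge_flip (s0_f18418 IH)
theorem s0_f18401r : ed sl_df sq5248 = sq4126 :=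
  edge_flip (s0_f18401 IH)
theorem s0_f18400r : ed sl_cf sq4126 = sq3148 :=
  edge_flip (s0_f18400 IH)
theorem s0_f8907r : ed sl_bf sq3148 = sq2338 :=
  edge_flip (s0_f8907 IH)
theorem s0_f18399r : ed sl_df sq2338 = sq1709 :=
  edge_flip (s0_f18399 IH)
theorem s0_f18398r : ed sl_ef sq1709 = sq1233 :=
  edge_flip (s0_f18398 IH)
theorem s0_f18397r : ed sl_ff sq1233 = sq878 :=
  edge_flip (s0_f18397 IH)
theorem s0_f18396r : ed sl_df sq878 = sq878 :=
  edge_flip (s0_f18396 IH)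
theorem s0_f18395r : ed sl_hf sq878 = sq615 :=
  edge_flip (s0_f18395 IH)
theorem s0_f18394r : ed sl_if sq615 = sq615 :=
  edge_flip (s0_f18394 IH)
theorem s0_f18393r : ed sl_df sq615 = sq424 :=
  edge_flip (s0_f18393 IH)
theorem s0_f18392r : ed sl_cf sq424 = sq289 :=
  edge_flip (s0_f18392 IH)
theorem s0_f16001r : ed sl_bf sq289 = sq289 :=
  edge_flip (s0_f16001 IH)
theorem s0_f18391r : ed sl_df sq289 = sq289 :=
  edge_flip (s0_f18391 IH)
theorem s0_f18390r : ed sl_ef sq289 = sq197 :=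
  edge_flip (s0_f18390 IH)
theorem s0_f18389r : ed sl_ff sq197 = sq197 :=
  edge_flip (s0_f18389 IH)
theorem s0_f18388r : ed sl_df sq197 = sq135 :=
  edge_flip (s0_f18388 IH)
theorem s0_f18383r : ed sl_hf sq135 = sq92 :=
  edge_flip (s0_f18383 IH)
theorem s0_f18377r : ed sl_if sq92 = sq62 :=
  edge_flip (s0_f18377 IH)
theorem s0_f9301r : ed sl_df sq62 = sq62 :=
  edge_flip (s0_f9301 IH)
theorem s0_f13913r : ed sl_cf sq62 = sq87 :=
  edge_flip (s0_f13913 IH)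
theorem s0_f18379r : ed sl_bf sq87 = sq119 :=
  edge_flip (s0_f18379 IH)
theorem s0_f18402r : ed sl_df sq119 = sq169 :=
  edge_flip (s0_f18402 IH)
theorem s0_f18403r : ed sl_ef sq169 = sq246 :=
  edge_flip (s0_f18403 IH)
theorem s0_f18404r : ed sl_ff sq246 = sq360 :=
  edge_flip (s0_f18404 IH)
theorem s0_f18405r : ed sl_df sq360 = sq360 :=
  edge_flip (s0_f18405 IH)
theorem s0_f18406r : ed sl_hf sq360 = sq523 :=
  edge_flip (s0_f18406 IH)
theorem s0_f18407r : ed sl_if sq523 = sq747 :=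
  edge_flip (s0_f18407 IH)
theorem s0_f18408r : ed sl_df sq747 = sq1048 :=
  edge_flip (s0_f18408 IH)
theorem s0_f18409r : ed sl_cf sq1048 = sq1048 :=
  edge_flip (s0_f18409 IH)
theorem s0_f18410r : ed sl_bf sq1048 = sq806 :=
  edge_flip (s0_f18410 IH)
theorem s0_f18411r : ed sl_df sq806 = sq564 :=
  edge_flip (s0_f18411 IH)
theorem s0_f18412r : ed sl_ef sq564 = sq564 :=
  edge_flip (s0_f18412 IH)
theorem s0_f18413r : ed sl_ff sq564 = sq392 :=
  edge_flip (s0_f18413 IH)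
theorem s0_f18414r : ed sl_df sq392 = sq570 :=
  edge_flip (s0_f18414 IH)
theorem s0_f18415r : ed sl_hf sq570 = sq814 :=
  edge_flip (s0_f18415 IH)
theorem s0_f18416r : ed sl_if sq814 = sq814 :=
  edge_flip (s0_f18416 IH)
theorem s0_f18417r : ed sl_df sq814 = sq1142 :=
  edge_flip (s0_f18417 IH)
theorem s0_f18539 : ed sl_cf sq1142 = s0_v1409 :=
  gap_rel s0_rot63 (path_edge (s0_f18417r IH) (path_edge (s0_f18416r IH) (path_edge (s0_f18415r IH) (path_edge (s0_f18414r IH) (path_edge (s0_f18413r IH) (path_edge (s0_f18412r IH) (path_edge (s0_f18411r IH) (path_edge (s0_f18410r IH) (path_edge (s0_f18409r IH) (path_edge (s0_f18408r IH) (path_edge (s0_f18407r IH) (path_edge (s0_f18406r IH) (path_edge (s0_f18405r IH) (path_edge (s0_f18404r IH) (path_edge (s0_f18403r IH) (path_edge (s0_f18402r IH) (path_edge (s0_f18379r IH) (path_edge (s0_f13913r IH) (path_edge (s0_f9301r IH) (path_edge (s0_f18377r IH) (path_edge (s0_f18383r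 IH) (path_edge (s0_f18388r IH) (path_edge (s0_f18389r IH) (path_edge (s0_f18390r IH) (path_edge (s0_f18391r IH) (path_edge (s0_f16001r IH) (path_edge (s0_f18392r IH) (path_edge (s0_f18393r IH) (path_edge (s0_f18394r IH) (path_edge (s0_f18395r IH) (path_edge (s0_f18396r IH) (path_edge (s0_f18397r IH) (path_edge (s0_f18398r IH) (path_edge (s0_f18399r IH) (path_edge (s0_f8907r IH) (path_edge (s0_f18400r IH) (path_edge (s0_f18401r IH) (path_edge (s0_f18418r IH) (path_edge (s0_f18435r IH) (path_edge (s0_f18438r IH) (path_edge (s0_f18441r IH) (path_edge (s0_f18443r IH) (path_edge (s0_f18445r IH) (path_edge (s0_f18447r IH) (path_edge (s0_f18449r IH) (path_edge (s0_f18451r IH) (path_edge (s0_f18453r IH) (path_edge (s0_f18455r IH) (path_edge (s0_f18457r IH) (path_edge (s0_f18459r IH) (path_edge (s0_f18461r IH) (path_edge (s0_f18463r IH) (path_edge (s0_f18465r IH) (path_edge (s0_f18467r IH) (path_edge (s0_f18469r IH) (path_edge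 (s0_f18471r IH) (path_edge (s0_f18473r IH) (path_edge (s0_f18475r IH) (path_edge (s0_f18477r IH) (path_edge (s0_f18479r IH) (path_edge (s0_f18481r IH) (path_edge (s0_f18483r IH) (path_edge (s0_f18485r IH) (path_edge (s0_f18487r IH) (path_edge (s0_f18489r IH) (path_edge (s0_f18491r IH) (path_edge (s0_f18493r IH) (path_edge (s0_f18495r IH) (path_edge (s0_f18497r IH) (path_edge (s0_f18499r IH) (path_edge (s0_f18501r IH) (path_edge (s0_f18503r IH) (path_edge (s0_f18505r IH) (path_edge (s0_f18507r IH) (path_edge (s0_f18509r IH) (path_edge (s0_f18511r IH) (path_edge (s0_f18513r IH) (path_edge (s0_f18515r IH) (path_edge (s0_f18517r IH) (path_edge (s0_f18519r IH) (path_edge (s0_f18521r IH) (path_edge (s0_f18523r IH) (path_edge (s0_f18525r IH) (path_edge (s0_f18527r IH) (path_edge (s0_f18529r IH) (path_edge (s0_f18531r IH) (path_edge (s0_f18533r IH) (path_edge (s0_f18535r IH) (path_edge (s0_f18537r IH) (path_nil s0_v1409))))))))))))))))))))))))))))))))))))))))))))))))))))))))))))))))))))))))))))))))))))))))))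
theorem s0_f18539r : ed sl_ct s0_v1409 = sq1142 :=
  edge_flip (s0_f18539 IH)
theorem s0_f18542 : ed sl_ct sq1142 = s0_v1409 :=
  gap_rel s0_rot64 (path_edge (s0_f18539r IH) (path_nil s0_v1409))
theorem s0_f18544 : ed sl_ht sq1142 = sq815 :=
  real_edge rels S fwd inv o lvl plet idx 47 IH Gen.h sp1142 sp815 rfl rfl
theorem s0_f18545 : ed sl_ct sq815 = sq1143 :=
  real_edge rels S fwd inv o lvl plet idx 47 IH Gen.c sp815 sp1143 rfl rfl
theorem s0_f18546 : ed sl_ht sq1143 = s0_v1409 :=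
  gap_rel s0_rot65 (path_edge (s0_f18545 IH) (path_edge (s0_f18544 IH) (path_edge (s0_f18539r IH) (path_nil s0_v1409))))
theorem s0_f18550 : ed sl_it sq1142 = sq1142 :=
  real_edge rels S fwd inv o lvl plet idx 47 IH Gen.i sp1142 sp1142 rfl rfl
theorem s0_f18551 : ed sl_it s0_v1409 = s0_v1409 :=
  gap_rel s0_rot66 (path_edge (s0_f18542 IH) (path_edge (s0_f18550 IH) (path_edge (s0_f18539r IH) (path_nil s0_v1409))))
theorem s0_f18551r : ed sl_if s0_v1409 = s0_v1409 :=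
  edge_flip (s0_f18551 IH)
theorem s0_f18559 : ed sl_if s0_v1408 = s0_v1408 :=
  gap_rel s0_rot38 (path_edge (s0_f18537r IH) (path_edge (s0_f18551r IH) (path_edge (s0_f18538 IH) (path_nil s0_v1408))))
theorem s0_f18560 : ed sl_it sq816 = sq1143 :=
  real_edge rels S fwd inv o lvl plet idx 47 IH Gen.i sp816 sp1143 rfl rfl
theorem s0_f18561 : ed sl_ht sq816 = sq816 :=
  real_edge rels S fwd inv o lvl plet idx 47 IH Gen.h sp816 sp816 rfl rfl
theorem s0_f18562 : ed sl_it sq1143 = sq816 :=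
  real_edge rels S fwd inv o lvl plet idx 47 IH Gen.i sp1143 sp816 rfl rfl
theorem s0_f18546r : ed sl_hf s0_v1409 = sq1143 :=
  edge_flip (s0_f18546 IH)
theorem s0_f18560r : ed sl_if sq1143 = sq816 :=
  edge_flip (s0_f18560 IH)
theorem s0_f18561r : ed sl_hf sq816 = sq816 :=
  edge_flip (s0_f18561 IH)
theorem s0_f18562r : ed sl_if sq816 = sq1143 :=
  edge_flip (s0_f18562 IH)
theorem s0_f18563 : ed sl_hf sq1143 = s0_v1409 :=
  gap_rel s0_rot67 (path_edge (s0_f18562r IH) (path_edge (s0_f18561r IH) (path_edge (s0_f18560r IH) (path_edge (s0_f18546r IH) (path_edge (s0_f18551r IH) (path_nil s0_v1409))))))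
theorem s0_f18573 : ed sl_bt sq1143 = sq1586 :=
  real_edge rels S fwd inv o lvl plet idx 47 IH Gen.b sp1143 sp1586 rfl rfl
theorem s0_f18563r : ed sl_ht s0_v1409 = sq1143 :=
  edge_flip (s0_f18563 IH)
theorem s0_f18574 : ed sl_ht sq1586 = s0_v1408 :=
  gap_rel s0_rot56 (path_edge (s0_f18573 IH) (path_edge (s0_f18563r IH) (path_edge (s0_f18537 IH) (path_nil s0_v1408))))
theorem s0_f18574r : ed sl_hf s0_v1408 = sq1586 :=
  edge_flip (s0_f18574 IH)
theorem s0_f18584 : ed sl_hf sq1586 = s0_v1408 :=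
  gap_rel s0_rot13 (path_edge (s0_f18574r IH) (path_nil s0_v1408))
theorem s0_f18614 : ed sl_gt sq1586 = sq1149 :=
  real_edge rels S fwd inv o lvl plet idx 47 IH Gen.g sp1586 sp1149 rfl rfl
theorem s0_f18559r : ed sl_it s0_v1408 = s0_v1408 :=
  edge_flip (s0_f18559 IH)
theorem s0_f18536r : ed sl_dt s0_v1408 = s0_v1407 :=
  edge_flip (s0_f18536 IH)
theorem s0_f18636 : ed sl_it s0_v1407 = s0_v1407 :=
  gap_rel s0_rot70 (path_edge (s0_f18536r IH) (path_edge (s0_f18559r IH) (path_edge (s0_f18535 IH) (path_nil s0_v1407))))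
theorem s0_f18673 : ed sl_gt sq818 = sq1142 :=
  real_edge rels S fwd inv o lvl plet idx 47 IH Gen.g sp818 sp1142 rfl rfl
theorem s0_f18692 : ed sl_ct sq120 = sq120 :=
  real_edge rels S fwd inv o lvl plet idx 47 IH Gen.c sp120 sp120 rfl rfl
theorem s0_f18697 : ed sl_ct sq121 = sq121 :=
  real_edge rels S fwd inv o lvl plet idx 47 IH Gen.c sp121 sp121 rfl rfl
theorem s0_f18723 : ed sl_dt sq607 = sq607 :=
  real_edge rels S fwd inv o lvl plet idx 47 IH Gen.d sp607 sp607 rfl rfl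
theorem s0_f18726 : ed sl_dt sq1647 = sq1184 :=
  real_edge rels S fwd inv o lvl plet idx 47 IH Gen.d sp1647 sp1184 rfl rfl
theorem s0_f18734 : ed sl_dt sq14696 = s0_v1410 :=
  rfl
theorem s0_f18734r : ed sl_df s0_v1410 = sq14696 :=
  edge_flip (s0_f18734 IH)
theorem s0_f18741 : ed sl_df sq14696 = s0_v1410 :=
  gap_rel s0_rot4 (path_edge (s0_f18734r IH) (path_nil s0_v1410))
theorem s0_f18743 : ed sl_ft sq13335 = sq14696 :=
  real_edge rels S fwd inv o lvl plet idx 47 IH Gen.f sp13335 sp14696 rfl rfl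
theorem s0_f18745 : ed sl_jt sq14696 = sq14696 :=
  real_edge rels S fwd inv o lvl plet idx 47 IH Gen.j sp14696 sp14696 rfl rfl
theorem s0_f18745r : ed sl_jf sq14696 = sq14696 :=
  edge_flip (s0_f18745 IH)
theorem s0_f18746 : ed sl_jf s0_v1410 = s0_v1410 :=
  gap_rel s0_rot6 (path_edge (s0_f18741 IH) (path_edge (s0_f18745r IH) (path_edge (s0_f18734r IH) (path_nil s0_v1410))))
theorem s0_f18791 : ed sl_ft s0_v1410 = s0_v1411 :=
  rfl
theorem s0_f18791r : ed sl_ff s0_v1411 = s0_v1410 :=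
  edge_flip (s0_f18791 IH)
theorem s0_f18743r : ed sl_ff sq14696 = sq13335 :=
  edge_flip (s0_f18743 IH)
theorem s0_f18793 : ed sl_df sq13335 = s0_v1411 :=
  gap_rel s0_rot103 (path_edge (s0_f18743r IH) (path_edge (s0_f18734r IH) (path_edge (s0_f18791r IH) (path_nil s0_v1411))))
theorem s0_f18794 : ed sl_ff s0_v1410 = s0_v1411 :=
  gap_rel s0_rot22 (path_edge (s0_f18791r IH) (path_nil s0_v1411))
theorem s0_f18795 : ed sl_jf s0_v1411 = s0_v1411 :=
  gap_rel s0_rot23 (path_edge (s0_f18794 IH) (path_edge (s0_f18746 IH) (path_edge (s0_f18791r IH) (path_nil s0_v1411))))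
theorem s0_f18798 : ed sl_jt sq13335 = sq13335 :=
  real_edge rels S fwd inv o lvl plet idx 47 IH Gen.j sp13335 sp13335 rfl rfl
theorem s0_f18795r : ed sl_jt s0_v1411 = s0_v1411 :=
  edge_flip (s0_f18795 IH)
theorem s0_f18793r : ed sl_dt s0_v1411 = sq13335 :=
  edge_flip (s0_f18793 IH)
theorem s0_f18799 : ed sl_dt sq13335 = s0_v1411 :=
  gap_rel s0_rot104 (path_edge (s0_f18798 IH) (path_edge (s0_f18793r IH) (path_edge (s0_f18795r IH) (path_nil s0_v1411))))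
theorem s0_f18981 : ed sl_dt sq7914 = sq6421 :=
  real_edge rels S fwd inv o lvl plet idx 47 IH Gen.d sp7914 sp6421 rfl rfl
theorem s0_f19082 : ed sl_dt sq193 = sq137 :=
  real_edge rels S fwd inv o lvl plet idx 47 IH Gen.d sp193 sp137 rfl rfl
theorem s0_f19118 : ed sl_at sq99 = sq127 :=
  real_edge rels S fwd inv o lvl plet idx 47 IH Gen.a sp99 sp127 rfl rfl
theorem s0_f19142 : ed sl_at sq643 = s0_v1444 :=
  rfl
theorem s0_f19142r : ed sl_af s0_v1444 = sq643 :=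
  edge_flip (s0_f19142 IH)
theorem s0_f19143 : ed sl_af sq643 = s0_v1444 :=
  gap_rel s0_rot105 (path_edge (s0_f19142r IH) (path_nil s0_v1444))
theorem s0_f19144 : ed sl_at sq576 = sq446 :=
  real_edge rels S fwd inv o lvl plet idx 47 IH Gen.a sp576 sp446 rfl rfl
theorem s0_f19145 : ed sl_at sq1152 = sq821 :=
  real_edge rels S fwd inv o lvl plet idx 47 IH Gen.a sp1152 sp821 rfl rfl
theorem s0_f1310r : ed sl_bf sq643 = sq446 :=
  edge_flip (s0_f1310 IH)
theorem s0_f19144r : ed sl_af sq446 = sq576 :=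
  edge_flip (s0_f19144 IH)
theorem s0_f7630r : ed sl_bf sq576 = sq821 :=
  edge_flip (s0_f7630 IH)
theorem s0_f19145r : ed sl_af sq821 = sq1152 :=
  edge_flip (s0_f19145 IH)
theorem s0_f19146 : ed sl_bf sq1152 = s0_v1444 :=
  gap_rel s0_rot106 (path_edge (s0_f19145r IH) (path_edge (s0_f7630r IH) (path_edge (s0_f19144r IH) (path_edge (s0_f1310r IH) (path_edge (s0_f19142r IH) (path_nil s0_v1444))))))
theorem s0_f1313r : ed sl_cf sq643 = sq643 :=
  edge_flip (s0_f1313 IH)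
theorem s0_f19147 : ed sl_cf s0_v1444 = s0_v1444 :=
  gap_rel s0_rot107 (path_edge (s0_f19143 IH) (path_edge (s0_f1313r IH) (path_edge (s0_f19142r IH) (path_nil s0_v1444))))
theorem s0_f542r : ed sl_hf sq643 = sq643 :=
  edge_flip (s0_f542 IH)
theorem s0_f19149 : ed sl_hf s0_v1444 = s0_v1444 :=
  gap_rel s0_rot108 (path_edge (s0_f19143 IH) (path_edge (s0_f542r IH) (path_edge (s0_f19142r IH) (path_nil s0_v1444))))
theorem s0_f1319r : ed sl_jf sq643 = sq643 :=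
  edge_flip (s0_f1319 IH)
theorem s0_f19151 : ed sl_jf s0_v1444 = s0_v1444 :=
  gap_rel s0_rot109 (path_edge (s0_f19143 IH) (path_edge (s0_f1319r IH) (path_edge (s0_f19142r IH) (path_nil s0_v1444))))
theorem s0_f19152 : ed sl_jt sq1152 = sq1152 :=
  real_edge rels S fwd inv o lvl plet idx 47 IH Gen.j sp1152 sp1152 rfl rfl
theorem s0_f19151r : ed sl_jt s0_v1444 = s0_v1444 :=
  edge_flip (s0_f19151 IH)
theorem s0_f19146r : ed sl_bt s0_v1444 = sq1152 :=
  edge_flip (s0_f19146 IH)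
theorem s0_f19153 : ed sl_bt sq1152 = s0_v1444 :=
  gap_rel s0_rot110 (path_edge (s0_f19152 IH) (path_edge (s0_f19146r IH) (path_edge (s0_f19151r IH) (path_nil s0_v1444))))
theorem s0_f19158 : ed sl_dt sq1152 = sq1152 :=
  real_edge rels S fwd inv o lvl plet idx 47 IH Gen.d sp1152 sp1152 rfl rfl
theorem s0_f19185 : ed sl_dt sq1153 = sq1600 :=
  real_edge rels S fwd inv o lvl plet idx 47 IH Gen.d sp1153 sp1600 rfl rfl
theorem s0_f19237 : ed sl_bt sq177 = sq132 :=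
  real_edge rels S fwd inv o lvl plet idx 47 IH Gen.b sp177 sp132 rfl rfl
theorem s0_f20815 : ed sl_et sq1630 = sq1630 :=
  real_edge rels S fwd inv o lvl plet idx 47 IH Gen.e sp1630 sp1630 rfl rfl
theorem s0_f20887 : ed sl_et sq1798 = sq1798 :=
  real_edge rels S fwd inv o lvl plet idx 47 IH Gen.e sp1798 sp1798 rfl rfl
theorem s0_f22123 : ed sl_dt sq5858 = sq4638 :=
  real_edge rels S fwd inv o lvl plet idx 47 IH Gen.d sp5858 sp4638 rfl rfl
theorem s0_f23675 : ed sl_ht sq1529 = sq2102 :=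
  real_edge rels S fwd inv o lvl plet idx 47 IH Gen.h sp1529 sp2102 rfl rfl
theorem s0_f23694 : ed sl_it sq171 = sq116 :=
  real_edge rels S fwd inv o lvl plet idx 47 IH Gen.i sp171 sp116 rfl rfl
theorem s0_f23710 : ed sl_ht sq1596 = s0_v1942 :=
  rfl
theorem s0_f23712 : ed sl_ct sq1172 = sq1596 :=
  real_edge rels S fwd inv o lvl plet idx 47 IH Gen.c sp1172 sp1596 rfl rfl
theorem s0_f23713 : ed sl_ht sq1630 = sq1172 :=
  real_edge rels S fwd inv o lvl plet idx 47 IH Gen.h sp1630 sp1172 rfl rfl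
theorem s0_f23710r : ed sl_hf s0_v1942 = sq1596 :=
  edge_flip (s0_f23710 IH)
theorem s0_f23712r : ed sl_cf sq1596 = sq1172 :=
  edge_flip (s0_f23712 IH)
theorem s0_f23713r : ed sl_hf sq1172 = sq1630 :=
  edge_flip (s0_f23713 IH)
theorem s0_f23714 : ed sl_cf sq1630 = s0_v1942 :=
  gap_rel s0_rot30 (path_edge (s0_f23713r IH) (path_edge (s0_f23712r IH) (path_edge (s0_f23710r IH) (path_nil s0_v1942))))
theorem s0_f23716 : ed sl_hf sq1596 = s0_v1942 :=
  gap_rel s0_rot13 (path_edge (s0_f23710r IH) (path_nil s0_v1942))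
theorem s0_f23720 : ed sl_jt sq1596 = sq1596 :=
  real_edge rels S fwd inv o lvl plet idx 47 IH Gen.j sp1596 sp1596 rfl rfl
theorem s0_f23720r : ed sl_jf sq1596 = sq1596 :=
  edge_flip (s0_f23720 IH)
theorem s0_f23721 : ed sl_jf s0_v1942 = s0_v1942 :=
  gap_rel s0_rot15 (path_edge (s0_f23716 IH) (path_edge (s0_f23720r IH) (path_edge (s0_f23710r IH) (path_nil s0_v1942))))
theorem s0_f23723 : ed sl_jt sq1630 = sq1630 :=
  real_edge rels S fwd inv o lvl plet idx 47 IH Gen.j sp1630 sp1630 rfl rfl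
theorem s0_f23721r : ed sl_jt s0_v1942 = s0_v1942 :=
  edge_flip (s0_f23721 IH)
theorem s0_f23714r : ed sl_ct s0_v1942 = sq1630 :=
  edge_flip (s0_f23714 IH)
theorem s0_f23724 : ed sl_ct sq1630 = s0_v1942 :=
  gap_rel s0_rot7 (path_edge (s0_f23723 IH) (path_edge (s0_f23714r IH) (path_edge (s0_f23721r IH) (path_nil s0_v1942))))
theorem s0_f23724r : ed sl_cf s0_v1942 = sq1630 :=
  edge_flip (s0_f23724 IH)
theorem s0_f20815r : ed sl_ef sq1630 = sq1630 :=
  edge_flip (s0_f20815 IH)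
theorem s0_f23727 : ed sl_ef s0_v1942 = s0_v1942 :=
  gap_rel s0_rot8 (path_edge (s0_f23714 IH) (path_edge (s0_f20815r IH) (path_edge (s0_f23724r IH) (path_nil s0_v1942))))
theorem s0_f23761 : ed sl_dt s0_v1942 = s0_v1943 :=
  rfl
theorem s0_f23761r : ed sl_df s0_v1943 = s0_v1942 :=
  edge_flip (s0_f23761 IH)
theorem s0_f23763 : ed sl_df s0_v1942 = s0_v1943 :=
  gap_rel s0_rot4 (path_edge (s0_f23761r IH) (path_nil s0_v1943))
theorem s0_f23764 : ed sl_jf s0_v1943 = s0_v1943 :=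
  gap_rel s0_rot6 (path_edge (s0_f23763 IH) (path_edge (s0_f23721 IH) (path_edge (s0_f23761r IH) (path_nil s0_v1943))))
theorem s0_f23767 : ed sl_ft s0_v1943 = s0_v1944 :=
  rfl
theorem s0_f23767r : ed sl_ff s0_v1944 = s0_v1943 :=
  edge_flip (s0_f23767 IH)
theorem s0_f23769 : ed sl_ff s0_v1943 = s0_v1944 :=
  gap_rel s0_rot22 (path_edge (s0_f23767r IH) (path_nil s0_v1944))
theorem s0_f23770 : ed sl_jf s0_v1944 = s0_v1944 :=
  gap_rel s0_rot23 (path_edge (s0_f23769 IH) (path_edge (s0_f23764 IH) (path_edge (s0_f23767r IH) (path_nil s0_v1944))))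
theorem s0_f23773 : ed sl_et s0_v1944 = s0_v1945 :=
  rfl
theorem s0_f23773r : ed sl_ef s0_v1945 = s0_v1944 :=
  edge_flip (s0_f23773 IH)
theorem s0_f23775 : ed sl_ef s0_v1944 = s0_v1945 :=
  gap_rel s0_rot17 (path_edge (s0_f23773r IH) (path_nil s0_v1945))
theorem s0_f23779 : ed sl_dt s0_v1945 = s0_v1946 :=
  rfl
theorem s0_f23779r : ed sl_df s0_v1946 = s0_v1945 :=
  edge_flip (s0_f23779 IH)
theorem s0_f23781 : ed sl_df s0_v1945 = s0_v1946 :=
  gap_rel s0_rot4 (path_edge (s0_f23779r IH) (path_nil s0_v1946))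
theorem s0_f24031 : ed sl_dt sq182 = sq182 :=
  real_edge rels S fwd inv o lvl plet idx 47 IH Gen.d sp182 sp182 rfl rfl
theorem s0_f24046 : ed sl_dt sq4619 = s0_v1995 :=
  rfl
theorem s0_f24046r : ed sl_df s0_v1995 = sq4619 :=
  edge_flip (s0_f24046 IH)
theorem s0_f2750r : ed sl_bf sq4619 = sq3660 :=
  edge_flip (s0_f2750 IH)
theorem s0_f17670r : ed sl_df sq3660 = sq4734 :=
  edge_flip (s0_f17670 IH)
theorem s0_f24047 : ed sl_bf sq4734 = s0_v1995 :=
  gap_rel s0_rot75 (path_edge (s0_f17670r IH) (path_edge (s0_f2750r IH) (path_edge (s0_f24046r IH) (path_nil s0_v1995))))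
theorem s0_f24048 : ed sl_df sq4619 = s0_v1995 :=
  gap_rel s0_rot4 (path_edge (s0_f24046r IH) (path_nil s0_v1995))
theorem s0_f24052 : ed sl_jt sq4619 = sq4619 :=
  real_edge rels S fwd inv o lvl plet idx 47 IH Gen.j sp4619 sp4619 rfl rfl
theorem s0_f24052r : ed sl_jf sq4619 = sq4619 :=
  edge_flip (s0_f24052 IH)
theorem s0_f24053 : ed sl_jf s0_v1995 = s0_v1995 :=
  gap_rel s0_rot6 (path_edge (s0_f24048 IH) (path_edge (s0_f24052r IH) (path_edge (s0_f24046r IH) (path_nil s0_v1995))))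
theorem s0_f24059 : ed sl_ct sq575 = sq819 :=
  real_edge rels S fwd inv o lvl plet idx 47 IH Gen.c sp575 sp819 rfl rfl
theorem s0_f24069 : ed sl_ct sq1431 = sq1036 :=
  real_edge rels S fwd inv o lvl plet idx 47 IH Gen.c sp1431 sp1036 rfl rfl
theorem s0_f24157 : ed sl_dt sq7774 = sq9258 :=
  real_edge rels S fwd inv o lvl plet idx 47 IH Gen.d sp7774 sp9258 rfl rfl
theorem s0_f24164 : ed sl_it s0_v1995 = s0_v1996 :=
  rfl
theorem s0_f24164r : ed sl_if s0_v1996 = s0_v1995 :=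
  edge_flip (s0_f24164 IH)
theorem s0_f24168 : ed sl_if s0_v1995 = s0_v1996 :=
  gap_rel s0_rot9 (path_edge (s0_f24164r IH) (path_nil s0_v1996))
theorem s0_f24168r : ed sl_it s0_v1996 = s0_v1995 :=
  edge_flip (s0_f24168 IH)
theorem s0_f24047r : ed sl_bt s0_v1995 = sq4734 :=
  edge_flip (s0_f24047 IH)
theorem s0_f24169 : ed sl_bt sq5999 = s0_v1996 :=
  gap_rel s0_rot74 (path_edge (s0_f11214 IH) (path_edge (s0_f24047r IH) (path_edge (s0_f24168r IH) (path_nil s0_v1996))))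
theorem s0_f24048r : ed sl_dt s0_v1995 = sq4619 :=
  edge_flip (s0_f24048 IH)
theorem s0_f24170 : ed sl_dt sq5833 = s0_v1996 :=
  gap_rel s0_rot91 (path_edge (s0_f11511 IH) (path_edge (s0_f24048r IH) (path_edge (s0_f24168r IH) (path_nil s0_v1996))))
theorem s0_f24053r : ed sl_jt s0_v1995 = s0_v1995 :=
  edge_flip (s0_f24053 IH)
theorem s0_f24172 : ed sl_jt s0_v1996 = s0_v1996 :=
  gap_rel s0_rot12 (path_edge (s0_f24164 IH) (path_edge (s0_f24053r IH) (path_edge (s0_f24168r IH) (path_nil s0_v1996))))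
theorem s0_f24220 : ed sl_dt sq5866 = sq4642 :=
  real_edge rels S fwd inv o lvl plet idx 47 IH Gen.d sp5866 sp4642 rfl rfl
theorem s0_f24281 : ed sl_ht s0_v1996 = s0_v1997 :=
  rfl
theorem s0_f24281r : ed sl_hf s0_v1997 = s0_v1996 :=
  edge_flip (s0_f24281 IH)
theorem s0_f24283 : ed sl_hf s0_v1996 = s0_v1997 :=
  gap_rel s0_rot13 (path_edge (s0_f24281r IH) (path_nil s0_v1997))
theorem s0_f24172r : ed sl_jf s0_v1996 = s0_v1996 :=
  edge_flip (s0_f24172 IH)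
theorem s0_f24284 : ed sl_jf s0_v1997 = s0_v1997 :=
  gap_rel s0_rot15 (path_edge (s0_f24283 IH) (path_edge (s0_f24172r IH) (path_edge (s0_f24281r IH) (path_nil s0_v1997))))
theorem s0_f24286 : ed sl_dt s0_v1997 = s0_v1998 :=
  rfl
theorem s0_f24286r : ed sl_df s0_v1998 = s0_v1997 :=
  edge_flip (s0_f24286 IH)
theorem s0_f24287 : ed sl_df s0_v1997 = s0_v1998 :=
  gap_rel s0_rot4 (path_edge (s0_f24286r IH) (path_nil s0_v1998))
theorem s0_f24170r : ed sl_df s0_v1996 = sq5833 :=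
  edge_flip (s0_f24170 IH)
theorem s0_f11565r : ed sl_hf sq5833 = sq4642 :=
  edge_flip (s0_f11565 IH)
theorem s0_f24220r : ed sl_df sq4642 = sq5866 :=
  edge_flip (s0_f24220 IH)
theorem s0_f24288 : ed sl_hf sq5866 = s0_v1998 :=
  gap_rel s0_rot32 (path_edge (s0_f24220r IH) (path_edge (s0_f11565r IH) (path_edge (s0_f24170r IH) (path_edge (s0_f24281r IH) (path_edge (s0_f24286r IH) (path_nil s0_v1998))))))
theorem s0_f24289 : ed sl_jf s0_v1998 = s0_v1998 :=
  gap_rel s0_rot6 (path_edge (s0_f24287 IH) (path_edge (s0_f24284 IH) (path_edge (s0_f24286r IH) (path_nil s0_v1998))))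
theorem s0_f24290 : ed sl_jt sq5866 = sq5866 :=
  real_edge rels S fwd inv o lvl plet idx 47 IH Gen.j sp5866 sp5866 rfl rfl
theorem s0_f24289r : ed sl_jt s0_v1998 = s0_v1998 :=
  edge_flip (s0_f24289 IH)
theorem s0_f24288r : ed sl_ht s0_v1998 = sq5866 :=
  edge_flip (s0_f24288 IH)
theorem s0_f24291 : ed sl_ht sq5866 = s0_v1998 :=
  gap_rel s0_rot78 (path_edge (s0_f24290 IH) (path_edge (s0_f24288r IH) (path_edge (s0_f24289r IH) (path_nil s0_v1998))))
theorem s0_f24305 : ed sl_dt sq1027 = sq1399 :=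
  real_edge rels S fwd inv o lvl plet idx 47 IH Gen.d sp1027 sp1399 rfl rfl
theorem s0_f24326 : ed sl_ft s0_v1998 = s0_v1999 :=
  rfl
theorem s0_f24326r : ed sl_ff s0_v1999 = s0_v1998 :=
  edge_flip (s0_f24326 IH)
theorem s0_f24291r : ed sl_hf s0_v1998 = sq5866 :=
  edge_flip (s0_f24291 IH)
theorem s0_f11494r : ed sl_ff sq5866 = sq7308 :=
  edge_flip (s0_f11494 IH)
theorem s0_f24327 : ed sl_hf sq7308 = s0_v1999 :=
  gap_rel s0_rot111 (path_edge (s0_f11494r IH) (path_edge (s0_f24291r IH) (path_edge (s0_f24326r IH) (path_nil s0_v1999))))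
theorem s0_f24328 : ed sl_ff s0_v1998 = s0_v1999 :=
  gap_rel s0_rot22 (path_edge (s0_f24326r IH) (path_nil s0_v1999))
theorem s0_f24329 : ed sl_jf s0_v1999 = s0_v1999 :=
  gap_rel s0_rot23 (path_edge (s0_f24328 IH) (path_edge (s0_f24289 IH) (path_edge (s0_f24326r IH) (path_nil s0_v1999))))
theorem s0_f24330 : ed sl_jt sq7308 = sq7308 :=
  real_edge rels S fwd inv o lvl plet idx 47 IH Gen.j sp7308 sp7308 rfl rfl
theorem s0_f24329r : ed sl_jt s0_v1999 = s0_v1999 :=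
  edge_flip (s0_f24329 IH)
theorem s0_f24327r : ed sl_ht s0_v1999 = sq7308 :=
  edge_flip (s0_f24327 IH)
theorem s0_f24331 : ed sl_ht sq7308 = s0_v1999 :=
  gap_rel s0_rot78 (path_edge (s0_f24330 IH) (path_edge (s0_f24327r IH) (path_edge (s0_f24329r IH) (path_nil s0_v1999))))
theorem s0_f24356 : ed sl_et s0_v1999 = s0_v2000 :=
  rfl
theorem s0_f24356r : ed sl_ef s0_v2000 = s0_v1999 :=
  edge_flip (s0_f24356 IH)
theorem s0_f24357 : ed sl_ef s0_v1999 = s0_v2000 :=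
  gap_rel s0_rot17 (path_edge (s0_f24356r IH) (path_nil s0_v2000))
theorem s0_f24331r : ed sl_hf s0_v1999 = sq7308 :=
  edge_flip (s0_f24331 IH)
theorem s0_f24358 : ed sl_hf sq8942 = s0_v2000 :=
  gap_rel s0_rot34 (path_edge (s0_f12863r IH) (path_edge (s0_f24331r IH) (path_edge (s0_f24356r IH) (path_nil s0_v2000))))
theorem s0_f24359 : ed sl_jf s0_v2000 = s0_v2000 :=
  gap_rel s0_rot18 (path_edge (s0_f24357 IH) (path_edge (s0_f24329 IH) (path_edge (s0_f24356r IH) (path_nil s0_v2000))))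
theorem s0_f24360 : ed sl_jt sq8942 = sq8942 :=
  real_edge rels S fwd inv o lvl plet idx 47 IH Gen.j sp8942 sp8942 rfl rfl
theorem s0_f24359r : ed sl_jt s0_v2000 = s0_v2000 :=
  edge_flip (s0_f24359 IH)
theorem s0_f24358r : ed sl_ht s0_v2000 = sq8942 :=
  edge_flip (s0_f24358 IH)
theorem s0_f24361 : ed sl_ht sq8942 = s0_v2000 :=
  gap_rel s0_rot78 (path_edge (s0_f24360 IH) (path_edge (s0_f24358r IH) (path_edge (s0_f24359r IH) (path_nil s0_v2000))))
theorem s0_f24569 : ed sl_ht sq518 = sq357 :=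
  real_edge rels S fwd inv o lvl plet idx 47 IH Gen.h sp518 sp357 rfl rfl
theorem s0_f24571 : ed sl_dt sq737 = sq518 :=
  real_edge rels S fwd inv o lvl plet idx 47 IH Gen.d sp737 sp518 rfl rfl
theorem s0_f24671 : ed sl_dt sq253 = sq372 :=
  real_edge rels S fwd inv o lvl plet idx 47 IH Gen.d sp253 sp372 rfl rfl
theorem s0_f24678 : ed sl_ht sq1930 = sq1417 :=
  real_edge rels S fwd inv o lvl plet idx 47 IH Gen.h sp1930 sp1417 rfl rfl
theorem s0_f24681 : ed sl_ct sq2604 = sq1930 :=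
  real_edge rels S fwd inv o lvl plet idx 47 IH Gen.c sp2604 sp1930 rfl rfl
theorem s0_f24845 : ed sl_et s0_v1410 = s0_v2015 :=
  rfl
theorem s0_f24855 : ed sl_dt s0_v2015 = s0_v2016 :=
  rfl
theorem s0_f24858 : ed sl_bt s0_v2016 = s0_v2017 :=
  rfl
theorem s0_f24861 : ed sl_ct s0_v2017 = s0_v2018 :=
  rfl
theorem s0_f24864 : ed sl_dt s0_v2018 = s0_v2019 :=
  rfl
theorem s0_f24867 : ed sl_it s0_v2019 = s0_v2020 :=
  rfl
theorem s0_f24870 : ed sl_ht s0_v2020 = s0_v2021 :=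
  rfl
theorem s0_f24873 : ed sl_dt s0_v2021 = s0_v2022 :=
  rfl
theorem s0_f24876 : ed sl_ft s0_v2022 = s0_v2023 :=
  rfl
theorem s0_f24879 : ed sl_et s0_v2023 = s0_v2024 :=
  rfl
theorem s0_f24882 : ed sl_dt s0_v2024 = s0_v2025 :=
  rfl
theorem s0_f24885 : ed sl_bt s0_v2025 = s0_v2026 :=
  rfl
theorem s0_f24888 : ed sl_ct s0_v2026 = s0_v2027 :=
  rfl
theorem s0_f24891 : ed sl_dt s0_v2027 = s0_v2028 :=
  rfl
theorem s0_f24894 : ed sl_it s0_v2028 = s0_v2029 :=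
  rfl
theorem s0_f24897 : ed sl_ht s0_v2029 = s0_v2030 :=
  rfl
theorem s0_f24900 : ed sl_dt s0_v2030 = s0_v2031 :=
  rfl
theorem s0_f24903 : ed sl_ft s0_v2031 = s0_v2032 :=
  rfl
theorem s0_f24906 : ed sl_et s0_v2032 = s0_v2033 :=
  rfl
theorem s0_f24909 : ed sl_dt s0_v2033 = s0_v2034 :=
  rfl
theorem s0_f24912 : ed sl_bt s0_v2034 = s0_v2035 :=
  rfl
theorem s0_f24915 : ed sl_ct s0_v2035 = s0_v2036 :=
  rfl
theorem s0_f24918 : ed sl_dt s0_v2036 = s0_v2037 :=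
  rfl
theorem s0_f24921 : ed sl_it s0_v2037 = s0_v2038 :=
  rfl
theorem s0_f24924 : ed sl_ht s0_v2038 = s0_v2039 :=
  rfl
theorem s0_f24927 : ed sl_dt s0_v2039 = s0_v2040 :=
  rfl
theorem s0_f24930 : ed sl_ft s0_v2040 = s0_v2041 :=
  rfl
theorem s0_f24933 : ed sl_et s0_v2041 = s0_v2042 :=
  rfl
theorem s0_f24936 : ed sl_dt s0_v2042 = s0_v2043 :=
  rfl
theorem s0_f24939 : ed sl_bt s0_v2043 = s0_v2044 :=
  rfl
theorem s0_f24942 : ed sl_ct s0_v2044 = s0_v2045 :=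
  rfl
theorem s0_f24945 : ed sl_dt s0_v2045 = s0_v2046 :=
  rfl
theorem s0_f24948 : ed sl_it s0_v2046 = s0_v2047 :=
  rfl
theorem s0_f24951 : ed sl_ht s0_v2047 = s0_v2048 :=
  rfl
theorem s0_f24954 : ed sl_dt s0_v2048 = s0_v2049 :=
  rfl
theorem s0_f24957 : ed sl_ft s0_v2049 = s0_v2050 :=
  rfl
theorem s0_f24960 : ed sl_et s0_v2050 = s0_v2051 :=
  rfl
theorem s0_f24960r : ed sl_ef s0_v2051 = s0_v2050 :=
  edge_flip (s0_f24960 IH)
theorem s0_f24957r : ed sl_ff s0_v2050 = s0_v2049 :=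
  edge_flip (s0_f24957 IH)
theorem s0_f24954r : ed sl_df s0_v2049 = s0_v2048 :=
  edge_flip (s0_f24954 IH)
theorem s0_f24951r : ed sl_hf s0_v2048 = s0_v2047 :=
  edge_flip (s0_f24951 IH)
theorem s0_f24948r : ed sl_if s0_v2047 = s0_v2046 :=
  edge_flip (s0_f24948 IH)
theorem s0_f24945r : ed sl_df s0_v2046 = s0_v2045 :=
  edge_flip (s0_f24945 IH)
theorem s0_f24942r : ed sl_cf s0_v2045 = s0_v2044 :=
  edge_flip (s0_f24942 IH)
theorem s0_f24939r : ed sl_bf s0_v2044 = s0_v2043 :=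
  edge_flip (s0_f24939 IH)
theorem s0_f24936r : ed sl_df s0_v2043 = s0_v2042 :=
  edge_flip (s0_f24936 IH)
theorem s0_f24933r : ed sl_ef s0_v2042 = s0_v2041 :=
  edge_flip (s0_f24933 IH)
theorem s0_f24930r : ed sl_ff s0_v2041 = s0_v2040 :=
  edge_flip (s0_f24930 IH)
theorem s0_f24927r : ed sl_df s0_v2040 = s0_v2039 :=
  edge_flip (s0_f24927 IH)
theorem s0_f24924r : ed sl_hf s0_v2039 = s0_v2038 :=
  edge_flip (s0_f24924 IH)
theorem s0_f24921r : ed sl_if s0_v2038 = s0_v2037 :=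
  edge_flip (s0_f24921 IH)
theorem s0_f24918r : ed sl_df s0_v2037 = s0_v2036 :=
  edge_flip (s0_f24918 IH)
theorem s0_f24915r : ed sl_cf s0_v2036 = s0_v2035 :=
  edge_flip (s0_f24915 IH)
theorem s0_f24912r : ed sl_bf s0_v2035 = s0_v2034 :=
  edge_flip (s0_f24912 IH)
theorem s0_f24909r : ed sl_df s0_v2034 = s0_v2033 :=
  edge_flip (s0_f24909 IH)
theorem s0_f24906r : ed sl_ef s0_v2033 = s0_v2032 :=
  edge_flip (s0_f24906 IH)
theorem s0_f24903r : ed sl_ff s0_v2032 = s0_v2031 :=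
  edge_flip (s0_f24903 IH)
theorem s0_f24900r : ed sl_df s0_v2031 = s0_v2030 :=
  edge_flip (s0_f24900 IH)
theorem s0_f24897r : ed sl_hf s0_v2030 = s0_v2029 :=
  edge_flip (s0_f24897 IH)
theorem s0_f24894r : ed sl_if s0_v2029 = s0_v2028 :=
  edge_flip (s0_f24894 IH)
theorem s0_f24891r : ed sl_df s0_v2028 = s0_v2027 :=
  edge_flip (s0_f24891 IH)
theorem s0_f24888r : ed sl_cf s0_v2027 = s0_v2026 :=
  edge_flip (s0_f24888 IH)
theorem s0_f24885r : ed sl_bf s0_v2026 = s0_v2025 :=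
  edge_flip (s0_f24885 IH)
theorem s0_f24882r : ed sl_df s0_v2025 = s0_v2024 :=
  edge_flip (s0_f24882 IH)
theorem s0_f24879r : ed sl_ef s0_v2024 = s0_v2023 :=
  edge_flip (s0_f24879 IH)
theorem s0_f24876r : ed sl_ff s0_v2023 = s0_v2022 :=
  edge_flip (s0_f24876 IH)
theorem s0_f24873r : ed sl_df s0_v2022 = s0_v2021 :=
  edge_flip (s0_f24873 IH)
theorem s0_f24870r : ed sl_hf s0_v2021 = s0_v2020 :=
  edge_flip (s0_f24870 IH)
theorem s0_f24867r : ed sl_if s0_v2020 = s0_v2019 :=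
  edge_flip (s0_f24867 IH)
theorem s0_f24864r : ed sl_df s0_v2019 = s0_v2018 :=
  edge_flip (s0_f24864 IH)
theorem s0_f24861r : ed sl_cf s0_v2018 = s0_v2017 :=
  edge_flip (s0_f24861 IH)
theorem s0_f24858r : ed sl_bf s0_v2017 = s0_v2016 :=
  edge_flip (s0_f24858 IH)
theorem s0_f24855r : ed sl_df s0_v2016 = s0_v2015 :=
  edge_flip (s0_f24855 IH)
theorem s0_f24845r : ed sl_ef s0_v2015 = s0_v1410 :=
  edge_flip (s0_f24845 IH)
theorem s0_f18799r : ed sl_df s0_v1411 = sq13335 :=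
  edge_flip (s0_f18799 IH)
theorem s0_f11478r : ed sl_hf sq13335 = sq11152 :=
  edge_flip (s0_f11478 IH)
theorem s0_f11477r : ed sl_if sq11152 = sq9180 :=
  edge_flip (s0_f11477 IH)
theorem s0_f11476r : ed sl_df sq9180 = sq7500 :=
  edge_flip (s0_f11476 IH)
theorem s0_f11475r : ed sl_cf sq7500 = sq6003 :=
  edge_flip (s0_f11475 IH)
theorem s0_f11474r : ed sl_bf sq6003 = sq4744 :=
  edge_flip (s0_f11474 IH)
theorem s0_f2728r : ed sl_df sq4744 = sq3667 :=
  edge_flip (s0_f2728 IH)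
theorem s0_f11473r : ed sl_ef sq3667 = sq2768 :=
  edge_flip (s0_f11473 IH)
theorem s0_f11472r : ed sl_ff sq2768 = sq2038 :=
  edge_flip (s0_f11472 IH)
theorem s0_f11471r : ed sl_df sq2038 = sq2038 :=
  edge_flip (s0_f11471 IH)
theorem s0_f11470r : ed sl_hf sq2038 = sq1487 :=
  edge_flip (s0_f11470 IH)
theorem s0_f11469r : ed sl_if sq1487 = sq1077 :=
  edge_flip (s0_f11469 IH)
theorem s0_f11468r : ed sl_df sq1077 = sq767 :=
  edge_flip (s0_f11468 IH)
theorem s0_f11467r : ed sl_cf sq767 = sq539 :=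
  edge_flip (s0_f11467 IH)
theorem s0_f11466r : ed sl_bf sq539 = sq404 :=
  edge_flip (s0_f11466 IH)
theorem s0_f11465r : ed sl_df sq404 = sq577 :=
  edge_flip (s0_f11465 IH)
theorem s0_f11464r : ed sl_ef sq577 = sq397 :=
  edge_flip (s0_f11464 IH)
theorem s0_f11463r : ed sl_ff sq397 = sq397 :=
  edge_flip (s0_f11463 IH)
theorem s0_f11462r : ed sl_hf sq269 = sq182 :=
  edge_flip (s0_f11462 IH)
theorem s0_f11461r : ed sl_if sq182 = sq123 :=
  edge_flip (s0_f11461 IH)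
theorem s0_f11460r : ed sl_df sq123 = sq123 :=
  edge_flip (s0_f11460 IH)
theorem s0_f11459r : ed sl_cf sq123 = sq123 :=
  edge_flip (s0_f11459 IH)
theorem s0_f4087r : ed sl_bf sq123 = sq168 :=
  edge_flip (s0_f4087 IH)
theorem s0_f7988r : ed sl_ef sq168 = sq116 :=
  edge_flip (s0_f7988 IH)
theorem s0_f7987r : ed sl_ff sq116 = sq80 :=
  edge_flip (s0_f7987 IH)
theorem s0_f955r : ed sl_hf sq56 = sq56 :=
  edge_flip (s0_f955 IH)
theorem s0_f10322r : ed sl_if sq56 = sq82 :=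
  edge_flip (s0_f10322 IH)
theorem s0_f11457r : ed sl_cf sq118 = sq167 :=
  edge_flip (s0_f11457 IH)
theorem s0_f10051r : ed sl_bf sq167 = sq167 :=
  edge_flip (s0_f10051 IH)
theorem s0_f11456r : ed sl_df sq167 = sq167 :=
  edge_flip (s0_f11456 IH)
theorem s0_f11455r : ed sl_ef sq167 = sq167 :=
  edge_flip (s0_f11455 IH)
theorem s0_f11454r : ed sl_ff sq167 = sq242 :=
  edge_flip (s0_f11454 IH)
theorem s0_f7798r : ed sl_df sq242 = sq242 :=
  edge_flip (s0_f7798 IH)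
theorem s0_f11453r : ed sl_hf sq242 = sq355 :=
  edge_flip (s0_f11453 IH)
theorem s0_f11452r : ed sl_if sq355 = sq515 :=
  edge_flip (s0_f11452 IH)
theorem s0_f11451r : ed sl_df sq515 = sq733 :=
  edge_flip (s0_f11451 IH)
theorem s0_f11450r : ed sl_cf sq733 = sq1026 :=
  edge_flip (s0_f11450 IH)
theorem s0_f11449r : ed sl_bf sq1026 = sq1415 :=
  edge_flip (s0_f11449 IH)
theorem s0_f10389r : ed sl_df sq1415 = sq1072 :=
  edge_flip (s0_f10389 IH)
theorem s0_f11448r : ed sl_ef sq1072 = sq1486 :=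
  edge_flip (s0_f11448 IH)
theorem s0_f11447r : ed sl_ff sq1486 = sq2036 :=
  edge_flip (s0_f11447 IH)
theorem s0_f11446r : ed sl_df sq2036 = sq2763 :=
  edge_flip (s0_f11446 IH)
theorem s0_f11445r : ed sl_hf sq2763 = sq3663 :=
  edge_flip (s0_f11445 IH)
theorem s0_f11318r : ed sl_if sq3663 = sq4740 :=
  edge_flip (s0_f11318 IH)
theorem s0_f11268r : ed sl_df sq4740 = sq4740 :=
  edge_flip (s0_f11268 IH)
theorem s0_f10965r : ed sl_cf sq4740 = sq5998 :=
  edge_flip (s0_f10965 IH)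
theorem s0_f10946r : ed sl_bf sq5998 = sq7262 :=
  edge_flip (s0_f10946 IH)
theorem s0_f24963 : ed sl_df sq7262 = s0_v2051 :=
  gap_rel s0_rot112 (path_edge (s0_f10946r IH) (path_edge (s0_f10965r IH) (path_edge (s0_f11268r IH) (path_edge (s0_f11318r IH) (path_edge (s0_f11445r IH) (path_edge (s0_f11446r IH) (path_edge (s0_f11447r IH) (path_edge (s0_f11448r IH) (path_edge (s0_f10389r IH) (path_edge (s0_f11449r IH) (path_edge (s0_f11450r IH) (path_edge (s0_f11451r IH) (path_edge (s0_f11452r IH) (path_edge (s0_f11453r IH) (path_edge (s0_f7798r IH) (path_edge (s0_f11454r IH) (path_edge (s0_f11455r IH) (path_edge (s0_f11456r IH) (path_edge (s0_f10051r IH) (path_edge (s0_f11457r IH) (path_edge (s0_f11458r IH) (path_edge (s0_f10322r IH) (path_edge (s0_f955r IH) (path_edge (s0_f406r IH) (path_edge (s0_f7987r IH) (path_edge (s0_f7988r IH) (path_edge (s0_f7640r IH) (path_edge (s0_f4087r IH) (path_edge (s0_f11459r IH) (path_edge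 (s0_f11460r IH) (path_edge (s0_f11461r IH) (path_edge (s0_f11462r IH) (path_edge (s0_f4221r IH) (path_edge (s0_f11463r IH) (path_edge (s0_f11464r IH) (path_edge (s0_f11465r IH) (path_edge (s0_f11466r IH) (path_edge (s0_f11467r IH) (path_edge (s0_f11468r IH) (path_edge (s0_f11469r IH) (path_edge (s0_f11470r IH) (path_edge (s0_f11471r IH) (path_edge (s0_f11472r IH) (path_edge (s0_f11473r IH) (path_edge (s0_f2728r IH) (path_edge (s0_f11474r IH) (path_edge (s0_f11475r IH) (path_edge (s0_f11476r IH) (path_edge (s0_f11477r IH) (path_edge (s0_f11478r IH) (path_edge (s0_f18799r IH) (path_edge (s0_f18794 IH) (path_edge (s0_f24845r IH) (path_edge (s0_f24855r IH) (path_edge (s0_f24858r IH) (path_edge (s0_f24861r IH) (path_edge (s0_f24864r IH) (path_edge (s0_f24867r IH) (path_edge (s0_f24870r IH) (path_edge (s0_f24873r IH) (path_edge (s0_f24876r IH) (path_edge (s0_f24879r IH) (path_edge (s0_f24882r IH) (path_edge (s0_f24885r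 IH) (path_edge (s0_f24888r IH) (path_edge (s0_f24891r IH) (path_edge (s0_f24894r IH) (path_edge (s0_f24897r IH) (path_edge (s0_f24900r IH) (path_edge (s0_f24903r IH) (path_edge (s0_f24906r IH) (path_edge (s0_f24909r IH) (path_edge (s0_f24912r IH) (path_edge (s0_f24915r IH) (path_edge (s0_f24918r IH) (path_edge (s0_f24921r IH) (path_edge (s0_f24924r IH) (path_edge (s0_f24927r IH) (path_edge (s0_f24930r IH) (path_edge (s0_f24933r IH) (path_edge (s0_f24936r IH) (path_edge (s0_f24939r IH) (path_edge (s0_f24942r IH) (path_edge (s0_f24945r IH) (path_edge (s0_f24948r IH) (path_edge (s0_f24951r IH) (path_edge (s0_f24954r IH) (path_edge (s0_f24957r IH) (path_edge (s0_f24960r IH) (path_nil s0_v2051))))))))))))))))))))))))))))))))))))))))))))))))))))))))))))))))))))))))))))))))))))))))))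
theorem s0_f24963r : ed sl_dt s0_v2051 = sq7262 :=
  edge_flip (s0_f24963 IH)
theorem s0_f24966 : ed sl_ft s0_v1996 = s0_v2051 :=
  gap_rel s0_rot55 (path_edge (s0_f24170 IH) (path_edge (s0_f10951 IH) (path_edge (s0_f24963r IH) (path_nil s0_v2051))))
theorem s0_f24966r : ed sl_ff s0_v2051 = s0_v1996 :=
  edge_flip (s0_f24966 IH)
theorem s0_f24169r : ed sl_bf s0_v1996 = sq5999 :=
  edge_flip (s0_f24169 IH)
theorem s0_f10980r : ed sl_ff sq5999 = sq7494 :=
  edge_flip (s0_f10980 IH)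
theorem s0_f24967 : ed sl_bf sq7494 = s0_v2051 :=
  gap_rel s0_rot93 (path_edge (s0_f10980r IH) (path_edge (s0_f24169r IH) (path_edge (s0_f24966r IH) (path_nil s0_v2051))))
theorem s0_f24985 : ed sl_it sq122 = sq122 :=
  real_edge rels S fwd inv o lvl plet idx 47 IH Gen.i sp122 sp122 rfl rfl
theorem s0_f25001 : ed sl_it sq85 = sq127 :=
  real_edge rels S fwd inv o lvl plet idx 47 IH Gen.i sp85 sp127 rfl rfl
theorem s0_f25003 : ed sl_ht sq127 = sq188 :=
  real_edge rels S fwd inv o lvl plet idx 47 IH Gen.h sp127 sp188 rfl rfl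
theorem s0_f25008 : ed sl_ft sq276 = sq402 :=
  real_edge rels S fwd inv o lvl plet idx 47 IH Gen.f sp276 sp402 rfl rfl
theorem s0_f25009 : ed sl_et sq402 = sq584 :=
  real_edge rels S fwd inv o lvl plet idx 47 IH Gen.e sp402 sp584 rfl rfl
theorem s0_f25010 : ed sl_dt sq584 = sq820 :=
  real_edge rels S fwd inv o lvl plet idx 47 IH Gen.d sp584 sp820 rfl rfl
theorem s0_f25011 : ed sl_ct sq1060 = sq1465 :=
  real_edge rels S fwd inv o lvl plet idx 47 IH Gen.c sp1060 sp1465 rfl rfl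
theorem s0_f25012 : ed sl_it sq2004 = sq1469 :=
  real_edge rels S fwd inv o lvl plet idx 47 IH Gen.i sp2004 sp1469 rfl rfl
theorem s0_f25013 : ed sl_ct sq5870 = sq7316 :=
  real_edge rels S fwd inv o lvl plet idx 47 IH Gen.c sp5870 sp7316 rfl rfl
theorem s0_f25014 : ed sl_it sq8934 = sq10851 :=
  real_edge rels S fwd inv o lvl plet idx 47 IH Gen.i sp8934 sp10851 rfl rfl
theorem s0_f25015 : ed sl_ht sq10851 = sq12995 :=
  real_edge rels S fwd inv o lvl plet idx 47 IH Gen.h sp10851 sp12995 rfl rfl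
theorem s0_f25016 : ed sl_ft sq15259 = sq16342 :=
  real_edge rels S fwd inv o lvl plet idx 47 IH Gen.f sp15259 sp16342 rfl rfl
theorem s0_f25017 : ed sl_et sq16342 = sq18443 :=
  real_edge rels S fwd inv o lvl plet idx 47 IH Gen.e sp16342 sp18443 rfl rfl
theorem s0_f25018 : ed sl_it sq396 = sq269 :=
  real_edge rels S fwd inv o lvl plet idx 47 IH Gen.i sp396 sp269 rfl rfl
theorem s0_f25019 : ed sl_dt sq1149 = sq1149 :=
  real_edge rels S fwd inv o lvl plet idx 47 IH Gen.d sp1149 sp1149 rfl rfl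
theorem s0_f25020 : ed sl_et sq1595 = sq1149 :=
  real_edge rels S fwd inv o lvl plet idx 47 IH Gen.e sp1595 sp1149 rfl rfl
theorem s0_f25021 : ed sl_ft sq2190 = sq1595 :=
  real_edge rels S fwd inv o lvl plet idx 47 IH Gen.f sp2190 sp1595 rfl rfl
theorem s0_f25022 : ed sl_dt sq2964 = sq2190 :=
  real_edge rels S fwd inv o lvl plet idx 47 IH Gen.d sp2964 sp2190 rfl rfl
theorem s0_f25023 : ed sl_dt sq18443 = s0_v2052 :=
  rfl
theorem s0_f25024 : ed sl_bt sq20335 = sq18443 :=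
  real_edge rels S fwd inv o lvl plet idx 47 IH Gen.b sp20335 sp18443 rfl rfl
theorem s0_f25023r : ed sl_df s0_v2052 = sq18443 :=
  edge_flip (s0_f25023 IH)
theorem s0_f25027 : ed sl_df sq18443 = s0_v2052 :=
  gap_rel s0_rot4 (path_edge (s0_f25023r IH) (path_nil s0_v2052))
theorem s0_f25032 : ed sl_jt sq18443 = sq18443 :=
  real_edge rels S fwd inv o lvl plet idx 47 IH Gen.j sp18443 sp18443 rfl rfl
theorem s0_f25032r : ed sl_jf sq18443 = sq18443 :=
  edge_flip (s0_f25032 IH)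
theorem s0_f25033 : ed sl_jf s0_v2052 = s0_v2052 :=
  gap_rel s0_rot6 (path_edge (s0_f25027 IH) (path_edge (s0_f25032r IH) (path_edge (s0_f25023r IH) (path_nil s0_v2052))))
theorem s0_f25048 : ed sl_bt s0_v2052 = s0_v2053 :=
  rfl
theorem s0_f25048r : ed sl_bf s0_v2053 = s0_v2052 :=
  edge_flip (s0_f25048 IH)
theorem s0_f25049 : ed sl_bf s0_v2052 = s0_v2053 :=
  gap_rel s0_rot20 (path_edge (s0_f25048r IH) (path_nil s0_v2053))
theorem s0_f25024r : ed sl_bf sq18443 = sq20335 :=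
  edge_flip (s0_f25024 IH)
theorem s0_f25050 : ed sl_df sq20335 = s0_v2053 :=
  gap_rel s0_rot36 (path_edge (s0_f25024r IH) (path_edge (s0_f25023r IH) (path_edge (s0_f25048r IH) (path_nil s0_v2053))))
theorem s0_f25051 : ed sl_jf s0_v2053 = s0_v2053 :=
  gap_rel s0_rot21 (path_edge (s0_f25049 IH) (path_edge (s0_f25033 IH) (path_edge (s0_f25048r IH) (path_nil s0_v2053))))
theorem s0_f25052 : ed sl_jt sq20335 = sq20335 :=
  real_edge rels S fwd inv o lvl plet idx 47 IH Gen.j sp20335 sp20335 rfl rfl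
theorem s0_f25051r : ed sl_jt s0_v2053 = s0_v2053 :=
  edge_flip (s0_f25051 IH)
theorem s0_f25050r : ed sl_dt s0_v2053 = sq20335 :=
  edge_flip (s0_f25050 IH)
theorem s0_f25053 : ed sl_dt sq20335 = s0_v2053 :=
  gap_rel s0_rot104 (path_edge (s0_f25052 IH) (path_edge (s0_f25050r IH) (path_edge (s0_f25051r IH) (path_nil s0_v2053))))
theorem s0_f25070 : ed sl_dt sq1954 = sq1431 :=
  real_edge rels S fwd inv o lvl plet idx 47 IH Gen.d sp1954 sp1431 rfl rfl
theorem s0_f25071 : ed sl_et sq2642 = sq1954 :=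
  real_edge rels S fwd inv o lvl plet idx 47 IH Gen.e sp2642 sp1954 rfl rfl
theorem s0_f25072 : ed sl_ft sq2058 = sq2642 :=
  real_edge rels S fwd inv o lvl plet idx 47 IH Gen.f sp2058 sp2642 rfl rfl
theorem s0_f25088 : ed sl_ct s0_v2053 = s0_v2054 :=
  rfl
theorem s0_f25088r : ed sl_cf s0_v2054 = s0_v2053 :=
  edge_flip (s0_f25088 IH)
theorem s0_f25089 : ed sl_cf s0_v2053 = s0_v2054 :=
  gap_rel s0_rot0 (path_edge (s0_f25088r IH) (path_nil s0_v2054))
theorem s0_f25091 : ed sl_dt s0_v2054 = s0_v2055 :=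
  rfl
theorem s0_f25091r : ed sl_df s0_v2055 = s0_v2054 :=
  edge_flip (s0_f25091 IH)
theorem s0_f25092 : ed sl_df s0_v2054 = s0_v2055 :=
  gap_rel s0_rot4 (path_edge (s0_f25091r IH) (path_nil s0_v2055))
theorem s0_f25094 : ed sl_it s0_v2055 = s0_v2056 :=
  rfl
theorem s0_f25097 : ed sl_ht s0_v2056 = s0_v2057 :=
  rfl
theorem s0_f25097r : ed sl_hf s0_v2057 = s0_v2056 :=
  edge_flip (s0_f25097 IH)
theorem s0_f25098 : ed sl_hf s0_v2056 = s0_v2057 :=
  gap_rel s0_rot13 (path_edge (s0_f25097r IH) (path_nil s0_v2057))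
theorem s0_f25100 : ed sl_dt s0_v2057 = s0_v2058 :=
  rfl
theorem s0_f25100r : ed sl_df s0_v2058 = s0_v2057 :=
  edge_flip (s0_f25100 IH)
theorem s0_f25101 : ed sl_df s0_v2057 = s0_v2058 :=
  gap_rel s0_rot4 (path_edge (s0_f25100r IH) (path_nil s0_v2058))
theorem s0_f25103 : ed sl_ft s0_v2058 = s0_v2059 :=
  rfl
theorem s0_f25103r : ed sl_ff s0_v2059 = s0_v2058 :=
  edge_flip (s0_f25103 IH)
theorem s0_f25104 : ed sl_ff s0_v2058 = s0_v2059 :=
  gap_rel s0_rot22 (path_edge (s0_f25103r IH) (path_nil s0_v2059))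
theorem s0_f25106 : ed sl_et s0_v2059 = s0_v2060 :=
  rfl
theorem s0_f25106r : ed sl_ef s0_v2060 = s0_v2059 :=
  edge_flip (s0_f25106 IH)
theorem s0_f25107 : ed sl_ef s0_v2059 = s0_v2060 :=
  gap_rel s0_rot17 (path_edge (s0_f25106r IH) (path_nil s0_v2060))
theorem s0_f25109 : ed sl_dt s0_v2060 = s0_v2061 :=
  rfl
theorem s0_f25112 : ed sl_bt s0_v2061 = s0_v2062 :=
  rfl
theorem s0_f25112r : ed sl_bf s0_v2062 = s0_v2061 :=
  edge_flip (s0_f25112 IH)
theorem s0_f25113 : ed sl_bf s0_v2061 = s0_v2062 :=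
  gap_rel s0_rot20 (path_edge (s0_f25112r IH) (path_nil s0_v2062))
theorem s0_f25115 : ed sl_ct s0_v2062 = s0_v2063 :=
  rfl
theorem s0_f25115r : ed sl_cf s0_v2063 = s0_v2062 :=
  edge_flip (s0_f25115 IH)
theorem s0_f25116 : ed sl_cf s0_v2062 = s0_v2063 :=
  gap_rel s0_rot0 (path_edge (s0_f25115r IH) (path_nil s0_v2063))
theorem s0_f25118 : ed sl_dt s0_v2063 = s0_v2064 :=
  rfl
theorem s0_f25118r : ed sl_df s0_v2064 = s0_v2063 :=
  edge_flip (s0_f25118 IH)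
theorem s0_f25119 : ed sl_df s0_v2063 = s0_v2064 :=
  gap_rel s0_rot4 (path_edge (s0_f25118r IH) (path_nil s0_v2064))
theorem s0_f25121 : ed sl_it s0_v2064 = s0_v2065 :=
  rfl
theorem s0_f25124 : ed sl_ht s0_v2065 = s0_v2066 :=
  rfl
theorem s0_f25124r : ed sl_hf s0_v2066 = s0_v2065 :=
  edge_flip (s0_f25124 IH)
theorem s0_f25125 : ed sl_hf s0_v2065 = s0_v2066 :=
  gap_rel s0_rot13 (path_edge (s0_f25124r IH) (path_nil s0_v2066))
theorem s0_f25127 : ed sl_dt s0_v2066 = s0_v2067 :=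
  rfl
theorem s0_f25127r : ed sl_df s0_v2067 = s0_v2066 :=
  edge_flip (s0_f25127 IH)
theorem s0_f25128 : ed sl_df s0_v2066 = s0_v2067 :=
  gap_rel s0_rot4 (path_edge (s0_f25127r IH) (path_nil s0_v2067))
theorem s0_f25130 : ed sl_ft s0_v2067 = s0_v2068 :=
  rfl
theorem s0_f25130r : ed sl_ff s0_v2068 = s0_v2067 :=
  edge_flip (s0_f25130 IH)
theorem s0_f25131 : ed sl_ff s0_v2067 = s0_v2068 :=
  gap_rel s0_rot22 (path_edge (s0_f25130r IH) (path_nil s0_v2068))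
theorem s0_f25133 : ed sl_et s0_v2068 = s0_v2069 :=
  rfl
theorem s0_f25133r : ed sl_ef s0_v2069 = s0_v2068 :=
  edge_flip (s0_f25133 IH)
theorem s0_f25134 : ed sl_ef s0_v2068 = s0_v2069 :=
  gap_rel s0_rot17 (path_edge (s0_f25133r IH) (path_nil s0_v2069))
theorem s0_f25136 : ed sl_dt s0_v2069 = s0_v2070 :=
  rfl
theorem s0_f25136r : ed sl_df s0_v2070 = s0_v2069 :=
  edge_flip (s0_f25136 IH)
theorem s0_f25137 : ed sl_df s0_v2069 = s0_v2070 :=
  gap_rel s0_rot4 (path_edge (s0_f25136r IH) (path_nil s0_v2070))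
theorem s0_f25139 : ed sl_bt s0_v2070 = s0_v2071 :=
  rfl
theorem s0_f25139r : ed sl_bf s0_v2071 = s0_v2070 :=
  edge_flip (s0_f25139 IH)
theorem s0_f25140 : ed sl_bf s0_v2070 = s0_v2071 :=
  gap_rel s0_rot20 (path_edge (s0_f25139r IH) (path_nil s0_v2071))
theorem s0_f25142 : ed sl_ct s0_v2071 = s0_v2072 :=
  rfl
theorem s0_f25142r : ed sl_cf s0_v2072 = s0_v2071 :=
  edge_flip (s0_f25142 IH)
theorem s0_f25143 : ed sl_cf s0_v2071 = s0_v2072 :=
  gap_rel s0_rot0 (path_edge (s0_f25142r IH) (path_nil s0_v2072))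
theorem s0_f25145 : ed sl_dt s0_v2072 = s0_v2073 :=
  rfl
theorem s0_f25145r : ed sl_df s0_v2073 = s0_v2072 :=
  edge_flip (s0_f25145 IH)
theorem s0_f25146 : ed sl_df s0_v2072 = s0_v2073 :=
  gap_rel s0_rot4 (path_edge (s0_f25145r IH) (path_nil s0_v2073))
theorem s0_f25148 : ed sl_it s0_v2073 = s0_v2074 :=
  rfl
theorem s0_f25148r : ed sl_if s0_v2074 = s0_v2073 :=
  edge_flip (s0_f25148 IH)
theorem s0_f25149 : ed sl_if s0_v2073 = s0_v2074 :=
  gap_rel s0_rot9 (path_edge (s0_f25148r IH) (path_nil s0_v2074))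
theorem s0_f25151 : ed sl_ht s0_v2074 = s0_v2075 :=
  rfl
theorem s0_f25151r : ed sl_hf s0_v2075 = s0_v2074 :=
  edge_flip (s0_f25151 IH)
theorem s0_f25152 : ed sl_hf s0_v2074 = s0_v2075 :=
  gap_rel s0_rot13 (path_edge (s0_f25151r IH) (path_nil s0_v2075))
theorem s0_f25154 : ed sl_dt s0_v2075 = s0_v2076 :=
  rfl
theorem s0_f25154r : ed sl_df s0_v2076 = s0_v2075 :=
  edge_flip (s0_f25154 IH)
theorem s0_f25155 : ed sl_df s0_v2075 = s0_v2076 :=
  gap_rel s0_rot4 (path_edge (s0_f25154r IH) (path_nil s0_v2076))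
theorem s0_f25157 : ed sl_ft s0_v2076 = s0_v2077 :=
  rfl
theorem s0_f25157r : ed sl_ff s0_v2077 = s0_v2076 :=
  edge_flip (s0_f25157 IH)
theorem s0_f25158 : ed sl_ff s0_v2076 = s0_v2077 :=
  gap_rel s0_rot22 (path_edge (s0_f25157r IH) (path_nil s0_v2077))
theorem s0_f25160 : ed sl_et s0_v2077 = s0_v2078 :=
  rfl
theorem s0_f25160r : ed sl_ef s0_v2078 = s0_v2077 :=
  edge_flip (s0_f25160 IH)
theorem s0_f25161 : ed sl_ef s0_v2077 = s0_v2078 :=
  gap_rel s0_rot17 (path_edge (s0_f25160r IH) (path_nil s0_v2078))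
theorem s0_f25163 : ed sl_dt s0_v2078 = s0_v2079 :=
  rfl
theorem s0_f25163r : ed sl_df s0_v2079 = s0_v2078 :=
  edge_flip (s0_f25163 IH)
theorem s0_f25164 : ed sl_df s0_v2078 = s0_v2079 :=
  gap_rel s0_rot4 (path_edge (s0_f25163r IH) (path_nil s0_v2079))
theorem s0_f25166 : ed sl_bt s0_v2079 = s0_v2080 :=
  rfl
theorem s0_f25166r : ed sl_bf s0_v2080 = s0_v2079 :=
  edge_flip (s0_f25166 IH)
theorem s0_f25167 : ed sl_bf s0_v2079 = s0_v2080 :=
  gap_rel s0_rot20 (path_edge (s0_f25166r IH) (path_nil s0_v2080))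
theorem s0_f25169 : ed sl_ct s0_v2080 = s0_v2081 :=
  rfl
theorem s0_f25169r : ed sl_cf s0_v2081 = s0_v2080 :=
  edge_flip (s0_f25169 IH)
theorem s0_f25170 : ed sl_cf s0_v2080 = s0_v2081 :=
  gap_rel s0_rot0 (path_edge (s0_f25169r IH) (path_nil s0_v2081))
theorem s0_f25172 : ed sl_dt s0_v2081 = s0_v2082 :=
  rfl
theorem s0_f25172r : ed sl_df s0_v2082 = s0_v2081 :=
  edge_flip (s0_f25172 IH)
theorem s0_f25173 : ed sl_df s0_v2081 = s0_v2082 :=
  gap_rel s0_rot4 (path_edge (s0_f25172r IH) (path_nil s0_v2082))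
theorem s0_f25175 : ed sl_it s0_v2082 = s0_v2083 :=
  rfl
theorem s0_f25175r : ed sl_if s0_v2083 = s0_v2082 :=
  edge_flip (s0_f25175 IH)
theorem s0_f25176 : ed sl_if s0_v2082 = s0_v2083 :=
  gap_rel s0_rot9 (path_edge (s0_f25175r IH) (path_nil s0_v2083))
theorem s0_f25178 : ed sl_ht s0_v2083 = s0_v2084 :=
  rfl
theorem s0_f25178r : ed sl_hf s0_v2084 = s0_v2083 :=
  edge_flip (s0_f25178 IH)
theorem s0_f25179 : ed sl_hf s0_v2083 = s0_v2084 :=
  gap_rel s0_rot13 (path_edge (s0_f25178r IH) (path_nil s0_v2084))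
theorem s0_f25181 : ed sl_dt s0_v2084 = s0_v2085 :=
  rfl
theorem s0_f25181r : ed sl_df s0_v2085 = s0_v2084 :=
  edge_flip (s0_f25181 IH)
theorem s0_f25182 : ed sl_df s0_v2084 = s0_v2085 :=
  gap_rel s0_rot4 (path_edge (s0_f25181r IH) (path_nil s0_v2085))
theorem s0_f25184 : ed sl_ft s0_v2085 = s0_v2086 :=
  rfl
theorem s0_f25184r : ed sl_ff s0_v2086 = s0_v2085 :=
  edge_flip (s0_f25184 IH)
theorem s0_f25185 : ed sl_ff s0_v2085 = s0_v2086 :=
  gap_rel s0_rot22 (path_edge (s0_f25184r IH) (path_nil s0_v2086))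
theorem s0_f25187 : ed sl_et s0_v2086 = s0_v2087 :=
  rfl
theorem s0_f25187r : ed sl_ef s0_v2087 = s0_v2086 :=
  edge_flip (s0_f25187 IH)
theorem s0_f25188 : ed sl_ef s0_v2086 = s0_v2087 :=
  gap_rel s0_rot17 (path_edge (s0_f25187r IH) (path_nil s0_v2087))
theorem s0_f25190 : ed sl_dt s0_v2087 = s0_v2088 :=
  rfl
theorem s0_f25193 : ed sl_bt s0_v2088 = s0_v2089 :=
  rfl
theorem s0_f25196 : ed sl_ct s0_v2089 = s0_v2090 :=
  rfl
theorem s0_f25196r : ed sl_cf s0_v2090 = s0_v2089 :=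
  edge_flip (s0_f25196 IH)
theorem s0_f25197 : ed sl_cf s0_v2089 = s0_v2090 :=
  gap_rel s0_rot0 (path_edge (s0_f25196r IH) (path_nil s0_v2090))
theorem s0_f25199 : ed sl_dt s0_v2090 = s0_v2091 :=
  rfl
theorem s0_f25199r : ed sl_df s0_v2091 = s0_v2090 :=
  edge_flip (s0_f25199 IH)
theorem s0_f25200 : ed sl_df s0_v2090 = s0_v2091 :=
  gap_rel s0_rot4 (path_edge (s0_f25199r IH) (path_nil s0_v2091))
theorem s0_f25202 : ed sl_it s0_v2091 = s0_v2092 :=
  rfl
theorem s0_f25202r : ed sl_if s0_v2092 = s0_v2091 :=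
  edge_flip (s0_f25202 IH)
theorem s0_f25193r : ed sl_bf s0_v2089 = s0_v2088 :=
  edge_flip (s0_f25193 IH)
theorem s0_f25190r : ed sl_df s0_v2088 = s0_v2087 :=
  edge_flip (s0_f25190 IH)
theorem s0_f25121r : ed sl_if s0_v2065 = s0_v2064 :=
  edge_flip (s0_f25121 IH)
theorem s0_f25109r : ed sl_df s0_v2061 = s0_v2060 :=
  edge_flip (s0_f25109 IH)
theorem s0_f25094r : ed sl_if s0_v2056 = s0_v2055 :=
  edge_flip (s0_f25094 IH)
theorem s0_f25017r : ed sl_ef sq18443 = sq16342 :=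
  edge_flip (s0_f25017 IH)
theorem s0_f25016r : ed sl_ff sq16342 = sq15259 :=
  edge_flip (s0_f25016 IH)
theorem s0_f11146r : ed sl_df sq15259 = sq12995 :=
  edge_flip (s0_f11146 IH)
theorem s0_f25015r : ed sl_hf sq12995 = sq10851 :=
  edge_flip (s0_f25015 IH)
theorem s0_f25014r : ed sl_if sq10851 = sq8934 :=
  edge_flip (s0_f25014 IH)
theorem s0_f17996r : ed sl_df sq8934 = sq7316 :=
  edge_flip (s0_f17996 IH)
theorem s0_f25013r : ed sl_cf sq7316 = sq5870 :=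
  edge_flip (s0_f25013 IH)
theorem s0_f2622r : ed sl_bf sq5870 = sq4651 :=
  edge_flip (s0_f2622 IH)
theorem s0_f4518r : ed sl_df sq4651 = sq3606 :=
  edge_flip (s0_f4518 IH)
theorem s0_f4517r : ed sl_ef sq3606 = sq2727 :=
  edge_flip (s0_f4517 IH)
theorem s0_f4516r : ed sl_ff sq2727 = sq2011 :=
  edge_flip (s0_f4516 IH)
theorem s0_f6470r : ed sl_df sq2011 = sq2011 :=
  edge_flip (s0_f6470 IH)
theorem s0_f4515r : ed sl_hf sq2011 = sq1469 :=
  edge_flip (s0_f4515 IH)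
theorem s0_f25012r : ed sl_if sq1469 = sq2004 :=
  edge_flip (s0_f25012 IH)
theorem s0_f25011r : ed sl_cf sq1465 = sq1060 :=
  edge_flip (s0_f25011 IH)
theorem s0_f12042r : ed sl_bf sq1060 = sq820 :=
  edge_flip (s0_f12042 IH)
theorem s0_f25010r : ed sl_df sq820 = sq584 :=
  edge_flip (s0_f25010 IH)
theorem s0_f25009r : ed sl_ef sq584 = sq402 :=
  edge_flip (s0_f25009 IH)
theorem s0_f25008r : ed sl_ff sq402 = sq276 :=
  edge_flip (s0_f25008 IH)
theorem s0_f5089r : ed sl_df sq276 = sq188 :=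
  edge_flip (s0_f5089 IH)
theorem s0_f25003r : ed sl_hf sq188 = sq127 :=
  edge_flip (s0_f25003 IH)
theorem s0_f25001r : ed sl_if sq127 = sq85 :=
  edge_flip (s0_f25001 IH)
theorem s0_f3467r : ed sl_df sq85 = sq85 :=
  edge_flip (s0_f3467 IH)
theorem s0_f7983r : ed sl_cf sq85 = sq85 :=
  edge_flip (s0_f7983 IH)
theorem s0_f8009r : ed sl_bf sq85 = sq117 :=
  edge_flip (s0_f8009 IH)
theorem s0_f4071r : ed sl_df sq117 = sq117 :=
  edge_flip (s0_f4071 IH)
theorem s0_f4070r : ed sl_ef sq117 = sq117 :=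
  edge_flip (s0_f4070 IH)
theorem s0_f4069r : ed sl_ff sq117 = sq170 :=
  edge_flip (s0_f4069 IH)
theorem s0_f13078r : ed sl_df sq170 = sq170 :=
  edge_flip (s0_f13078 IH)
theorem s0_f4068r : ed sl_hf sq170 = sq116 :=
  edge_flip (s0_f4068 IH)
theorem s0_f23694r : ed sl_if sq116 = sq171 :=
  edge_flip (s0_f23694 IH)
theorem s0_f18692r : ed sl_cf sq120 = sq120 :=
  edge_flip (s0_f18692 IH)
theorem s0_f2565r : ed sl_bf sq120 = sq88 :=
  edge_flip (s0_f2565 IH)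
theorem s0_f14380r : ed sl_ef sq126 = sq182 :=
  edge_flip (s0_f14380 IH)
theorem s0_f14381r : ed sl_ff sq182 = sq182 :=
  edge_flip (s0_f14381 IH)
theorem s0_f24031r : ed sl_df sq182 = sq182 :=
  edge_flip (s0_f24031 IH)
theorem s0_f14382r : ed sl_hf sq182 = sq269 :=
  edge_flip (s0_f14382 IH)
theorem s0_f25018r : ed sl_if sq269 = sq396 :=
  edge_flip (s0_f25018 IH)

end

end

end Cfsg.Agent.Helper28.S1689
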