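import Cfsg.Agent.Lib.Helper28.S1689.Seeds5

set_option autoImplicit false
set_option maxRecDepth 100000
set_option linter.all false

namespace Cfsg.Agent.Helper28.S1689

open Cfsg.Agent.Helper28
open Cfsg.Spor.Fi23 (Gen)

noncomputable section

section
variable (IH : ∀ y q, lvl y q < 47 → EntryOK rels S fwd inv o plet idx y q)
include IH

theorem s0_f13658r : ed sl_df sq396 = sq575 :=
  edge_flip (s0_f13658 IH)
theorem s0_f10836r : ed sl_cf sq575 = sq819 :=
  edge_flip (s0_f10836 IH)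
theorem s0_f1561r : ed sl_bf sq819 = sq1149 :=
  edge_flip (s0_f1561 IH)
theorem s0_f25019r : ed sl_df sq1149 = sq1149 :=
  edge_flip (s0_f25019 IH)
theorem s0_f25020r : ed sl_ef sq1149 = sq1595 :=
  edge_flip (s0_f25020 IH)
theorem s0_f25021r : ed sl_ff sq1595 = sq2190 :=
  edge_flip (s0_f25021 IH)
theorem s0_f25022r : ed sl_df sq2190 = sq2964 :=
  edge_flip (s0_f25022 IH)
theorem s0_f25204 : ed sl_hf sq2964 = s0_v2092 :=
  gap_rel s0_rot42 (path_edge (s0_f25022r IH) (path_edge (s0_f25021r IH) (path_edge (s0_f25020r IH) (path_edge (s0_f25019r IH) (path_edge (s0_f1561r IH) (path_edge (s0_f10836r IH) (path_edge (s0_f13658r IH) (path_edge (s0_f25018r IH) (path_edge (s0_f14382r IH) (path_edge (s0_f24031r IH) (path_edge (s0_f14381r IH) (path_edge (s0_f14380r IH) (path_edge (s0_f12177r IH) (path_edge (s0_f2565r IH) (path_edge (s0_f18692r IH) (path_edge (s0_f259r IH) (path_edge (s0_f23694r IH) (path_edge (s0_f4068r IH)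 (path_edge (s0_f13078r IH) (path_edge (s0_f4069r IH) (path_edge (s0_f4070r IH) (path_edge (s0_f4071r IH) (path_edge (s0_f8009r IH) (path_edge (s0_f7983r IH) (path_edge (s0_f3467r IH) (path_edge (s0_f25001r IH) (path_edge (s0_f25003r IH) (path_edge (s0_f5089r IH) (path_edge (s0_f25008r IH) (path_edge (s0_f25009r IH) (path_edge (s0_f25010r IH) (path_edge (s0_f12042r IH) (path_edge (s0_f25011r IH) (path_edge (s0_f10621r IH) (path_edge (s0_f25012r IH) (path_edge (s0_f4515r IH) (path_edge (s0_f6470r IH) (path_edge (s0_f4516r IH) (path_edge (s0_f4517r IH) (path_edge (s0_f4518r IH) (path_edge (s0_f2622r IH) (path_edge (s0_f25013r IH) (path_edge (s0_f17996r IH) (path_edge (s0_f25014r IH) (path_edge (s0_f25015r IH) (path_edge (s0_f11146r IH) (path_edge (s0_f25016r IH) (path_edge (s0_f25017r IH) (path_edge (s0_f25023r IH) (path_edge (s0_f25048r IH) (path_edge (s0_f25088r IH) (path_edge (s0_f25091r IH) (path_edge (s0_f25094r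 IH) (path_edge (s0_f25097r IH) (path_edge (s0_f25100r IH) (path_edge (s0_f25103r IH) (path_edge (s0_f25106r IH) (path_edge (s0_f25109r IH) (path_edge (s0_f25112r IH) (path_edge (s0_f25115r IH) (path_edge (s0_f25118r IH) (path_edge (s0_f25121r IH) (path_edge (s0_f25124r IH) (path_edge (s0_f25127r IH) (path_edge (s0_f25130r IH) (path_edge (s0_f25133r IH) (path_edge (s0_f25136r IH) (path_edge (s0_f25139r IH) (path_edge (s0_f25142r IH) (path_edge (s0_f25145r IH) (path_edge (s0_f25148r IH) (path_edge (s0_f25151r IH) (path_edge (s0_f25154r IH) (path_edge (s0_f25157r IH) (path_edge (s0_f25160r IH) (path_edge (s0_f25163r IH) (path_edge (s0_f25166r IH) (path_edge (s0_f25169r IH) (path_edge (s0_f25172r IH) (path_edge (s0_f25175r IH) (path_edge (s0_f25178r IH) (path_edge (s0_f25181r IH) (path_edge (s0_f25184r IH) (path_edge (s0_f25187r IH) (path_edge (s0_f25190r IH) (path_edge (s0_f25193r IH) (path_edge (s0_f25196r IH) (path_edge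 (s0_f25199r IH) (path_edge (s0_f25202r IH) (path_nil s0_v2092))))))))))))))))))))))))))))))))))))))))))))))))))))))))))))))))))))))))))))))))))))))))))
theorem s0_f25207 : ed sl_it sq2964 = sq2197 :=
  real_edge rels S fwd inv o lvl plet idx 47 IH Gen.i sp2964 sp2197 rfl rfl
theorem s0_f25208 : ed sl_ht sq2197 = sq2977 :=
  real_edge rels S fwd inv o lvl plet idx 47 IH Gen.h sp2197 sp2977 rfl rfl
theorem s0_f25204r : ed sl_ht s0_v2092 = sq2964 :=
  edge_flip (s0_f25204 IH)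
theorem s0_f25209 : ed sl_ht sq3945 = s0_v2091 :=
  gap_rel s0_rot45 (path_edge (s0_f7660 IH) (path_edge (s0_f25208 IH) (path_edge (s0_f25207 IH) (path_edge (s0_f25204r IH) (path_edge (s0_f25202 IH) (path_nil s0_v2091))))))
theorem s0_f25209r : ed sl_hf s0_v2091 = sq3945 :=
  edge_flip (s0_f25209 IH)
theorem s0_f25213 : ed sl_cf s0_v848 = s0_v2091 :=
  gap_rel s0_rot30 (path_edge (s0_f12359 IH) (path_edge (s0_f7601 IH) (path_edge (s0_f25209r IH) (path_nil s0_v2091))))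
theorem s0_f25214 : ed sl_hf sq3945 = s0_v2091 :=
  gap_rel s0_rot13 (path_edge (s0_f25209r IH) (path_nil s0_v2091))
theorem s0_f25214r : ed sl_ht s0_v2091 = sq3945 :=
  edge_flip (s0_f25214 IH)
theorem s0_f25224 : ed sl_ct s0_v848 = s0_v2091 :=
  gap_rel s0_rot68 (path_edge (s0_f12361 IH) (path_edge (s0_f7619 IH) (path_edge (s0_f25214r IH) (path_nil s0_v2091))))
theorem s0_f25467 : ed sl_dt sq3341 = sq2538 :=
  real_edge rels S fwd inv o lvl plet idx 47 IH Gen.d sp3341 sp2538 rfl rfl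
theorem s0_f25488 : ed sl_ft sq2538 = sq3342 :=
  real_edge rels S fwd inv o lvl plet idx 47 IH Gen.f sp2538 sp3342 rfl rfl
theorem s0_f25489 : ed sl_et sq3342 = sq3342 :=
  real_edge rels S fwd inv o lvl plet idx 47 IH Gen.e sp3342 sp3342 rfl rfl
theorem s0_f27002 : ed sl_ht sq137 = sq137 :=
  real_edge rels S fwd inv o lvl plet idx 47 IH Gen.h sp137 sp137 rfl rfl
theorem s0_f27005 : ed sl_it sq137 = sq137 :=
  real_edge rels S fwd inv o lvl plet idx 47 IH Gen.i sp137 sp137 rfl rfl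
theorem s0_f27286 : ed sl_ht sq2063 = s0_v2308 :=
  rfl
theorem s0_f27286r : ed sl_hf s0_v2308 = sq2063 :=
  edge_flip (s0_f27286 IH)
theorem s0_f9370r : ed sl_cf sq2063 = sq1504 :=
  edge_flip (s0_f9370 IH)
theorem s0_f15167r : ed sl_hf sq1504 = sq2065 :=
  edge_flip (s0_f15167 IH)
theorem s0_f27289 : ed sl_cf sq2065 = s0_v2308 :=
  gap_rel s0_rot30 (path_edge (s0_f15167r IH) (path_edge (s0_f9370r IH) (path_edge (s0_f27286r IH) (path_nil s0_v2308))))
theorem s0_f27290 : ed sl_hf sq2063 = s0_v2308 :=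
  gap_rel s0_rot13 (path_edge (s0_f27286r IH) (path_nil s0_v2308))
theorem s0_f9402r : ed sl_jf sq2063 = sq2063 :=
  edge_flip (s0_f9402 IH)
theorem s0_f27292 : ed sl_jf s0_v2308 = s0_v2308 :=
  gap_rel s0_rot15 (path_edge (s0_f27290 IH) (path_edge (s0_f9402r IH) (path_edge (s0_f27286r IH) (path_nil s0_v2308))))
theorem s0_f27296 : ed sl_jt sq2065 = sq2065 :=
  real_edge rels S fwd inv o lvl plet idx 47 IH Gen.j sp2065 sp2065 rfl rfl
theorem s0_f27292r : ed sl_jt s0_v2308 = s0_v2308 :=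
  edge_flip (s0_f27292 IH)
theorem s0_f27289r : ed sl_ct s0_v2308 = sq2065 :=
  edge_flip (s0_f27289 IH)
theorem s0_f27297 : ed sl_ct sq2065 = s0_v2308 :=
  gap_rel s0_rot7 (path_edge (s0_f27296 IH) (path_edge (s0_f27289r IH) (path_edge (s0_f27292r IH) (path_nil s0_v2308))))
theorem s0_f27302 : ed sl_ft sq2802 = sq2065 :=
  real_edge rels S fwd inv o lvl plet idx 47 IH Gen.f sp2802 sp2065 rfl rfl
theorem s0_f27324 : ed sl_dt sq2804 = sq3718 :=
  real_edge rels S fwd inv o lvl plet idx 47 IH Gen.d sp2804 sp3718 rfl rfl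
theorem s0_f27325 : ed sl_ct sq3718 = sq4758 :=
  real_edge rels S fwd inv o lvl plet idx 47 IH Gen.c sp3718 sp4758 rfl rfl
theorem s0_f27326 : ed sl_bt sq4758 = sq5858 :=
  real_edge rels S fwd inv o lvl plet idx 47 IH Gen.b sp4758 sp5858 rfl rfl
theorem s0_f27352 : ed sl_ft s0_v2308 = s0_v2309 :=
  rfl
theorem s0_f27352r : ed sl_ff s0_v2309 = s0_v2308 :=
  edge_flip (s0_f27352 IH)
theorem s0_f27297r : ed sl_cf s0_v2308 = sq2065 :=
  edge_flip (s0_f27297 IH)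
theorem s0_f27302r : ed sl_ff sq2065 = sq2802 :=
  edge_flip (s0_f27302 IH)
theorem s0_f27355 : ed sl_cf sq2802 = s0_v2309 :=
  gap_rel s0_rot113 (path_edge (s0_f27302r IH) (path_edge (s0_f27297r IH) (path_edge (s0_f27352r IH) (path_nil s0_v2309))))
theorem s0_f27357 : ed sl_ff s0_v2308 = s0_v2309 :=
  gap_rel s0_rot22 (path_edge (s0_f27352r IH) (path_nil s0_v2309))
theorem s0_f27358 : ed sl_jf s0_v2309 = s0_v2309 :=
  gap_rel s0_rot23 (path_edge (s0_f27357 IH) (path_edge (s0_f27292 IH) (path_edge (s0_f27352r IH) (path_nil s0_v2309))))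
theorem s0_f27362 : ed sl_jt sq2802 = sq2802 :=
  real_edge rels S fwd inv o lvl plet idx 47 IH Gen.j sp2802 sp2802 rfl rfl
theorem s0_f27358r : ed sl_jt s0_v2309 = s0_v2309 :=
  edge_flip (s0_f27358 IH)
theorem s0_f27355r : ed sl_ct s0_v2309 = sq2802 :=
  edge_flip (s0_f27355 IH)
theorem s0_f27363 : ed sl_ct sq2802 = s0_v2309 :=
  gap_rel s0_rot7 (path_edge (s0_f27362 IH) (path_edge (s0_f27355r IH) (path_edge (s0_f27358r IH) (path_nil s0_v2309))))
theorem s0_f27384 : ed sl_et sq3715 = sq2802 :=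
  real_edge rels S fwd inv o lvl plet idx 47 IH Gen.e sp3715 sp2802 rfl rfl
theorem s0_f27434 : ed sl_et s0_v2309 = s0_v2310 :=
  rfl
theorem s0_f27434r : ed sl_ef s0_v2310 = s0_v2309 :=
  edge_flip (s0_f27434 IH)
theorem s0_f27363r : ed sl_cf s0_v2309 = sq2802 :=
  edge_flip (s0_f27363 IH)
theorem s0_f27384r : ed sl_ef sq2802 = sq3715 :=
  edge_flip (s0_f27384 IH)
theorem s0_f27437 : ed sl_cf sq3715 = s0_v2310 :=
  gap_rel s0_rot85 (path_edge (s0_f27384r IH) (path_edge (s0_f27363r IH) (path_edge (s0_f27434r IH) (path_nil s0_v2310))))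
theorem s0_f27438 : ed sl_ef s0_v2309 = s0_v2310 :=
  gap_rel s0_rot17 (path_edge (s0_f27434r IH) (path_nil s0_v2310))
theorem s0_f27440 : ed sl_jf s0_v2310 = s0_v2310 :=
  gap_rel s0_rot18 (path_edge (s0_f27438 IH) (path_edge (s0_f27358 IH) (path_edge (s0_f27434r IH) (path_nil s0_v2310))))
theorem s0_f27444 : ed sl_jt sq3715 = sq3715 :=
  real_edge rels S fwd inv o lvl plet idx 47 IH Gen.j sp3715 sp3715 rfl rfl
theorem s0_f27440r : ed sl_jt s0_v2310 = s0_v2310 :=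
  edge_flip (s0_f27440 IH)
theorem s0_f27437r : ed sl_ct s0_v2310 = sq3715 :=
  edge_flip (s0_f27437 IH)
theorem s0_f27445 : ed sl_ct sq3715 = s0_v2310 :=
  gap_rel s0_rot7 (path_edge (s0_f27444 IH) (path_edge (s0_f27437r IH) (path_edge (s0_f27440r IH) (path_nil s0_v2310))))
theorem s0_f27461 : ed sl_dt sq4806 = sq3715 :=
  real_edge rels S fwd inv o lvl plet idx 47 IH Gen.d sp4806 sp3715 rfl rfl
theorem s0_f27462 : ed sl_ct sq6093 = sq4806 :=
  real_edge rels S fwd inv o lvl plet idx 47 IH Gen.c sp6093 sp4806 rfl rfl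
theorem s0_f27516 : ed sl_dt s0_v2310 = s0_v2311 :=
  rfl
theorem s0_f27516r : ed sl_df s0_v2311 = s0_v2310 :=
  edge_flip (s0_f27516 IH)
theorem s0_f27519 : ed sl_df s0_v2310 = s0_v2311 :=
  gap_rel s0_rot4 (path_edge (s0_f27516r IH) (path_nil s0_v2311))
theorem s0_f27522 : ed sl_jf s0_v2311 = s0_v2311 :=
  gap_rel s0_rot6 (path_edge (s0_f27519 IH) (path_edge (s0_f27440 IH) (path_edge (s0_f27516r IH) (path_nil s0_v2311))))
theorem s0_f27531 : ed sl_ct s0_v2311 = s0_v2312 :=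
  rfl
theorem s0_f27531r : ed sl_cf s0_v2312 = s0_v2311 :=
  edge_flip (s0_f27531 IH)
theorem s0_f27533 : ed sl_cf s0_v2311 = s0_v2312 :=
  gap_rel s0_rot0 (path_edge (s0_f27531r IH) (path_nil s0_v2312))
theorem s0_f27445r : ed sl_cf s0_v2310 = sq3715 :=
  edge_flip (s0_f27445 IH)
theorem s0_f27461r : ed sl_df sq3715 = sq4806 :=
  edge_flip (s0_f27461 IH)
theorem s0_f27462r : ed sl_cf sq4806 = sq6093 :=
  edge_flip (s0_f27462 IH)
theorem s0_f27534 : ed sl_df sq6093 = s0_v2312 :=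
  gap_rel s0_rot80 (path_edge (s0_f27462r IH) (path_edge (s0_f27461r IH) (path_edge (s0_f27445r IH) (path_edge (s0_f27516r IH) (path_edge (s0_f27531r IH) (path_nil s0_v2312))))))
theorem s0_f27536 : ed sl_jf s0_v2312 = s0_v2312 :=
  gap_rel s0_rot2 (path_edge (s0_f27533 IH) (path_edge (s0_f27522 IH) (path_edge (s0_f27531r IH) (path_nil s0_v2312))))
theorem s0_f27538 : ed sl_jt sq6093 = sq6093 :=
  real_edge rels S fwd inv o lvl plet idx 47 IH Gen.j sp6093 sp6093 rfl rfl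
theorem s0_f27536r : ed sl_jt s0_v2312 = s0_v2312 :=
  edge_flip (s0_f27536 IH)
theorem s0_f27534r : ed sl_dt s0_v2312 = sq6093 :=
  edge_flip (s0_f27534 IH)
theorem s0_f27539 : ed sl_dt sq6093 = s0_v2312 :=
  gap_rel s0_rot104 (path_edge (s0_f27538 IH) (path_edge (s0_f27534r IH) (path_edge (s0_f27536r IH) (path_nil s0_v2312))))
theorem s0_f27540 : ed sl_bt sq7616 = sq6093 :=
  real_edge rels S fwd inv o lvl plet idx 47 IH Gen.b sp7616 sp6093 rfl rfl
theorem s0_f27582 : ed sl_bt s0_v2312 = s0_v2313 :=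
  rfl
theorem s0_f27582r : ed sl_bf s0_v2313 = s0_v2312 :=
  edge_flip (s0_f27582 IH)
theorem s0_f27583 : ed sl_bf s0_v2312 = s0_v2313 :=
  gap_rel s0_rot20 (path_edge (s0_f27582r IH) (path_nil s0_v2313))
theorem s0_f27539r : ed sl_df s0_v2312 = sq6093 :=
  edge_flip (s0_f27539 IH)
theorem s0_f27540r : ed sl_bf sq6093 = sq7616 :=
  edge_flip (s0_f27540 IH)
theorem s0_f27585 : ed sl_df sq7616 = s0_v2313 :=
  gap_rel s0_rot36 (path_edge (s0_f27540r IH) (path_edge (s0_f27539r IH) (path_edge (s0_f27582r IH) (path_nil s0_v2313))))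
theorem s0_f27587 : ed sl_jf s0_v2313 = s0_v2313 :=
  gap_rel s0_rot21 (path_edge (s0_f27583 IH) (path_edge (s0_f27536 IH) (path_edge (s0_f27582r IH) (path_nil s0_v2313))))
theorem s0_f27589 : ed sl_jt sq7616 = sq7616 :=
  real_edge rels S fwd inv o lvl plet idx 47 IH Gen.j sp7616 sp7616 rfl rfl
theorem s0_f27587r : ed sl_jt s0_v2313 = s0_v2313 :=
  edge_flip (s0_f27587 IH)
theorem s0_f27585r : ed sl_dt s0_v2313 = sq7616 :=
  edge_flip (s0_f27585 IH)
theorem s0_f27590 : ed sl_dt sq7616 = s0_v2313 :=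
  gap_rel s0_rot104 (path_edge (s0_f27589 IH) (path_edge (s0_f27585r IH) (path_edge (s0_f27587r IH) (path_nil s0_v2313))))
theorem s0_f27603 : ed sl_at s0_v2313 = s0_v2314 :=
  rfl
theorem s0_f27603r : ed sl_af s0_v2314 = s0_v2313 :=
  edge_flip (s0_f27603 IH)
theorem s0_f27604 : ed sl_af s0_v2313 = s0_v2314 :=
  gap_rel s0_rot105 (path_edge (s0_f27603r IH) (path_nil s0_v2314))
theorem s0_f27590r : ed sl_df s0_v2313 = sq7616 :=
  edge_flip (s0_f27590 IH)
theorem s0_f6150r : ed sl_af sq7616 = sq9349 :=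
  edge_flip (s0_f6150 IH)
theorem s0_f27607 : ed sl_df sq9349 = s0_v2314 :=
  gap_rel s0_rot114 (path_edge (s0_f6150r IH) (path_edge (s0_f27590r IH) (path_edge (s0_f27603r IH) (path_nil s0_v2314))))
theorem s0_f27609 : ed sl_jf s0_v2314 = s0_v2314 :=
  gap_rel s0_rot109 (path_edge (s0_f27604 IH) (path_edge (s0_f27587 IH) (path_edge (s0_f27603r IH) (path_nil s0_v2314))))
theorem s0_f27613 : ed sl_jt sq9349 = sq9349 :=
  real_edge rels S fwd inv o lvl plet idx 47 IH Gen.j sp9349 sp9349 rfl rfl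
theorem s0_f27609r : ed sl_jt s0_v2314 = s0_v2314 :=
  edge_flip (s0_f27609 IH)
theorem s0_f27607r : ed sl_dt s0_v2314 = sq9349 :=
  edge_flip (s0_f27607 IH)
theorem s0_f27614 : ed sl_dt sq9349 = s0_v2314 :=
  gap_rel s0_rot104 (path_edge (s0_f27613 IH) (path_edge (s0_f27607r IH) (path_edge (s0_f27609r IH) (path_nil s0_v2314))))
theorem s0_f27618 : ed sl_ht sq11223 = sq9349 :=
  real_edge rels S fwd inv o lvl plet idx 47 IH Gen.h sp11223 sp9349 rfl rfl
theorem s0_f27619 : ed sl_dt sq13398 = sq11223 :=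
  real_edge rels S fwd inv o lvl plet idx 47 IH Gen.d sp13398 sp11223 rfl rfl
theorem s0_f27620 : ed sl_ht sq14149 = sq13398 :=
  real_edge rels S fwd inv o lvl plet idx 47 IH Gen.h sp14149 sp13398 rfl rfl
theorem s0_f27658 : ed sl_bt sq532 = sq397 :=
  real_edge rels S fwd inv o lvl plet idx 47 IH Gen.b sp532 sp397 rfl rfl
theorem s0_f27663 : ed sl_ht sq2540 = sq1910 :=
  real_edge rels S fwd inv o lvl plet idx 47 IH Gen.h sp2540 sp1910 rfl rfl
theorem s0_f27695 : ed sl_ht s0_v2314 = s0_v2315 :=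
  rfl
theorem s0_f27695r : ed sl_hf s0_v2315 = s0_v2314 :=
  edge_flip (s0_f27695 IH)
theorem s0_f27614r : ed sl_df s0_v2314 = sq9349 :=
  edge_flip (s0_f27614 IH)
theorem s0_f27618r : ed sl_hf sq9349 = sq11223 :=
  edge_flip (s0_f27618 IH)
theorem s0_f27619r : ed sl_df sq11223 = sq13398 :=
  edge_flip (s0_f27619 IH)
theorem s0_f27620r : ed sl_hf sq13398 = sq14149 :=
  edge_flip (s0_f27620 IH)
theorem s0_f27698 : ed sl_df sq14149 = s0_v2315 :=
  gap_rel s0_rot115 (path_edge (s0_f27620r IH) (path_edge (s0_f27619r IH) (path_edge (s0_f27618r IH) (path_edge (s0_f27614r IH) (path_edge (s0_f27695r IH) (path_nil s0_v2315))))))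
theorem s0_f27699 : ed sl_hf s0_v2314 = s0_v2315 :=
  gap_rel s0_rot13 (path_edge (s0_f27695r IH) (path_nil s0_v2315))
theorem s0_f27700 : ed sl_jf s0_v2315 = s0_v2315 :=
  gap_rel s0_rot15 (path_edge (s0_f27699 IH) (path_edge (s0_f27609 IH) (path_edge (s0_f27695r IH) (path_nil s0_v2315))))
theorem s0_f27709 : ed sl_jt sq14149 = sq14149 :=
  real_edge rels S fwd inv o lvl plet idx 47 IH Gen.j sp14149 sp14149 rfl rfl
theorem s0_f27700r : ed sl_jt s0_v2315 = s0_v2315 :=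
  edge_flip (s0_f27700 IH)
theorem s0_f27698r : ed sl_dt s0_v2315 = sq14149 :=
  edge_flip (s0_f27698 IH)
theorem s0_f27710 : ed sl_dt sq14149 = s0_v2315 :=
  gap_rel s0_rot104 (path_edge (s0_f27709 IH) (path_edge (s0_f27698r IH) (path_edge (s0_f27700r IH) (path_nil s0_v2315))))
theorem s0_f27713 : ed sl_et sq12993 = sq14149 :=
  real_edge rels S fwd inv o lvl plet idx 47 IH Gen.e sp12993 sp14149 rfl rfl
theorem s0_f27714 : ed sl_et sq14149 = sq12993 :=
  real_edge rels S fwd inv o lvl plet idx 47 IH Gen.e sp14149 sp12993 rfl rfl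
theorem s0_f27710r : ed sl_df s0_v2315 = sq14149 :=
  edge_flip (s0_f27710 IH)
theorem s0_f27713r : ed sl_ef sq14149 = sq12993 :=
  edge_flip (s0_f27713 IH)
theorem s0_f17347r : ed sl_df sq12993 = sq12993 :=
  edge_flip (s0_f17347 IH)
theorem s0_f27714r : ed sl_ef sq12993 = sq14149 :=
  edge_flip (s0_f27714 IH)
theorem s0_f27715 : ed sl_ef s0_v2315 = s0_v2315 :=
  gap_rel s0_rot95 (path_edge (s0_f27698 IH) (path_edge (s0_f27714r IH) (path_edge (s0_f17347r IH) (path_edge (s0_f27713r IH) (path_edge (s0_f27710r IH) (path_nil s0_v2315))))))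
theorem s0_f27716 : ed sl_ft sq11989 = sq14149 :=
  real_edge rels S fwd inv o lvl plet idx 47 IH Gen.f sp11989 sp14149 rfl rfl
theorem s0_f27759 : ed sl_ft s0_v2315 = s0_v2316 :=
  rfl
theorem s0_f27759r : ed sl_ff s0_v2316 = s0_v2315 :=
  edge_flip (s0_f27759 IH)
theorem s0_f27716r : ed sl_ff sq14149 = sq11989 :=
  edge_flip (s0_f27716 IH)
theorem s0_f27762 : ed sl_df sq11989 = s0_v2316 :=
  gap_rel s0_rot103 (path_edge (s0_f27716r IH) (path_edge (s0_f27710r IH) (path_edge (s0_f27759r IH) (path_nil s0_v2316))))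
theorem s0_f27763 : ed sl_ff s0_v2315 = s0_v2316 :=
  gap_rel s0_rot22 (path_edge (s0_f27759r IH) (path_nil s0_v2316))
theorem s0_f27764 : ed sl_jf s0_v2316 = s0_v2316 :=
  gap_rel s0_rot23 (path_edge (s0_f27763 IH) (path_edge (s0_f27700 IH) (path_edge (s0_f27759r IH) (path_nil s0_v2316))))
theorem s0_f27768 : ed sl_jt sq11989 = sq11989 :=
  real_edge rels S fwd inv o lvl plet idx 47 IH Gen.j sp11989 sp11989 rfl rfl
theorem s0_f27764r : ed sl_jt s0_v2316 = s0_v2316 :=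
  edge_flip (s0_f27764 IH)
theorem s0_f27762r : ed sl_dt s0_v2316 = sq11989 :=
  edge_flip (s0_f27762 IH)
theorem s0_f27769 : ed sl_dt sq11989 = s0_v2316 :=
  gap_rel s0_rot104 (path_edge (s0_f27768 IH) (path_edge (s0_f27762r IH) (path_edge (s0_f27764r IH) (path_nil s0_v2316))))
theorem s0_f27772 : ed sl_et sq9998 = sq11989 :=
  real_edge rels S fwd inv o lvl plet idx 47 IH Gen.e sp9998 sp11989 rfl rfl
theorem s0_f27846 : ed sl_et s0_v2316 = s0_v2317 :=
  rfl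
theorem s0_f27846r : ed sl_ef s0_v2317 = s0_v2316 :=
  edge_flip (s0_f27846 IH)
theorem s0_f27769r : ed sl_df s0_v2316 = sq11989 :=
  edge_flip (s0_f27769 IH)
theorem s0_f27772r : ed sl_ef sq11989 = sq9998 :=
  edge_flip (s0_f27772 IH)
theorem s0_f17310r : ed sl_df sq9998 = sq8256 :=
  edge_flip (s0_f17310 IH)
theorem s0_f18017r : ed sl_ef sq8256 = sq9756 :=
  edge_flip (s0_f18017 IH)
theorem s0_f27848 : ed sl_df sq9756 = s0_v2317 :=
  gap_rel s0_rot57 (path_edge (s0_f18017r IH) (path_edge (s0_f17310r IH) (path_edge (s0_f27772r IH) (path_edge (s0_f27769r IH) (path_edge (s0_f27846r IH) (path_nil s0_v2317))))))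
theorem s0_f27849 : ed sl_ef s0_v2316 = s0_v2317 :=
  gap_rel s0_rot17 (path_edge (s0_f27846r IH) (path_nil s0_v2317))
theorem s0_f27850 : ed sl_ff s0_v2317 = s0_v2317 :=
  gap_rel s0_rot61 (path_edge (s0_f27849 IH) (path_edge (s0_f27763 IH) (path_edge (s0_f27715 IH) (path_edge (s0_f27759r IH) (path_edge (s0_f27846r IH) (path_nil s0_v2317))))))
theorem s0_f27851 : ed sl_jf s0_v2317 = s0_v2317 :=
  gap_rel s0_rot18 (path_edge (s0_f27849 IH) (path_edge (s0_f27764 IH) (path_edge (s0_f27846r IH) (path_nil s0_v2317))))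
theorem s0_f27857 : ed sl_jt sq9756 = sq9756 :=
  real_edge rels S fwd inv o lvl plet idx 47 IH Gen.j sp9756 sp9756 rfl rfl
theorem s0_f27851r : ed sl_jt s0_v2317 = s0_v2317 :=
  edge_flip (s0_f27851 IH)
theorem s0_f27848r : ed sl_dt s0_v2317 = sq9756 :=
  edge_flip (s0_f27848 IH)
theorem s0_f27858 : ed sl_dt sq9756 = s0_v2317 :=
  gap_rel s0_rot104 (path_edge (s0_f27857 IH) (path_edge (s0_f27848r IH) (path_edge (s0_f27851r IH) (path_nil s0_v2317))))
theorem s0_f27863 : ed sl_it sq2566 = sq1909 :=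
  real_edge rels S fwd inv o lvl plet idx 47 IH Gen.i sp2566 sp1909 rfl rfl
theorem s0_f27864 : ed sl_ct sq1399 = sq1905 :=
  real_edge rels S fwd inv o lvl plet idx 47 IH Gen.c sp1399 sp1905 rfl rfl
theorem s0_f27865 : ed sl_bt sq1399 = sq1399 :=
  real_edge rels S fwd inv o lvl plet idx 47 IH Gen.b sp1399 sp1399 rfl rfl
theorem s0_f27866 : ed sl_et sq733 = sq1027 :=
  real_edge rels S fwd inv o lvl plet idx 47 IH Gen.e sp733 sp1027 rfl rfl
theorem s0_f27867 : ed sl_ft sq519 = sq733 :=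
  real_edge rels S fwd inv o lvl plet idx 47 IH Gen.f sp519 sp733 rfl rfl
theorem s0_f27868 : ed sl_ht sq244 = sq358 :=
  real_edge rels S fwd inv o lvl plet idx 47 IH Gen.h sp244 sp358 rfl rfl
theorem s0_f27869 : ed sl_it sq166 = sq244 :=
  real_edge rels S fwd inv o lvl plet idx 47 IH Gen.i sp166 sp244 rfl rfl
theorem s0_f27870 : ed sl_it sq514 = sq353 :=
  real_edge rels S fwd inv o lvl plet idx 47 IH Gen.i sp514 sp353 rfl rfl
theorem s0_f27871 : ed sl_bt sq186 = sq252 :=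
  real_edge rels S fwd inv o lvl plet idx 47 IH Gen.b sp186 sp252 rfl rfl
theorem s0_f27872 : ed sl_et sq268 = sq186 :=
  real_edge rels S fwd inv o lvl plet idx 47 IH Gen.e sp268 sp186 rfl rfl
theorem s0_f27873 : ed sl_ft sq268 = sq268 :=
  real_edge rels S fwd inv o lvl plet idx 47 IH Gen.f sp268 sp268 rfl rfl
theorem s0_f27874 : ed sl_it sq574 = sq574 :=
  real_edge rels S fwd inv o lvl plet idx 47 IH Gen.i sp574 sp574 rfl rfl
theorem s0_f28420 : ed sl_at s0_v87 = s0_v2376 :=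
  rfl
theorem s0_f28420r : ed sl_af s0_v2376 = s0_v87 :=
  edge_flip (s0_f28420 IH)
theorem s0_f28421 : ed sl_af s0_v87 = s0_v2376 :=
  gap_rel s0_rot105 (path_edge (s0_f28420r IH) (path_nil s0_v2376))
theorem s0_f1302r : ed sl_cf s0_v88 = s0_v88 :=
  edge_flip (s0_f1302 IH)
theorem s0_f28422 : ed sl_cf s0_v2376 = s0_v2376 :=
  gap_rel s0_rot107 (path_edge (s0_f28421 IH) (path_eq (s0_f1312 IH).symm (path_edge (s0_f1302r IH) (path_eq (s0_f1312 IH) (path_edge (s0_f28420r IH) (path_nil s0_v2376))))))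
theorem s0_f28424 : ed sl_ff s0_v2376 = s0_v2376 :=
  gap_rel s0_rot116 (path_edge (s0_f28421 IH) (path_eq (s0_f1312 IH).symm (path_edge (s0_f1306r IH) (path_eq (s0_f1312 IH) (path_edge (s0_f28420r IH) (path_nil s0_v2376))))))
theorem s0_f28425 : ed sl_jf s0_v2376 = s0_v2376 :=
  gap_rel s0_rot109 (path_edge (s0_f28421 IH) (path_edge (s0_f1292 IH) (path_edge (s0_f28420r IH) (path_nil s0_v2376))))
theorem s0_f1311r : ed sl_if s0_v88 = sq643 :=
  edge_flip (s0_f1311 IH)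
theorem s0_f28426 : ed sl_if s0_v1444 = s0_v2376 :=
  gap_rel s0_rot117 (path_edge (s0_f19143 IH) (path_edge (s0_f1311r IH) (path_eq (s0_f1312 IH) (path_edge (s0_f28420r IH) (path_nil s0_v2376)))))
theorem s0_f28422r : ed sl_ct s0_v2376 = s0_v2376 :=
  edge_flip (s0_f28422 IH)
theorem s0_f28426r : ed sl_it s0_v2376 = s0_v1444 :=
  edge_flip (s0_f28426 IH)
theorem s0_f19147r : ed sl_ct s0_v1444 = s0_v1444 :=
  edge_flip (s0_f19147 IH)
theorem s0_f28427 : ed sl_it s0_v1444 = s0_v2376 :=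
  gap_rel s0_rot66 (path_edge (s0_f19147r IH) (path_edge (s0_f28426r IH) (path_edge (s0_f28422r IH) (path_nil s0_v2376))))
theorem s0_f28428 : ed sl_ht s0_v2376 = s0_v2377 :=
  rfl
theorem s0_f28428r : ed sl_hf s0_v2377 = s0_v2376 :=
  edge_flip (s0_f28428 IH)
theorem s0_f28429 : ed sl_af s0_v225 = s0_v2377 :=
  gap_rel s0_rot118 (path_edge (s0_f3193 IH) (path_eq (s0_f1312 IH) (path_edge (s0_f28420r IH) (path_edge (s0_f28428r IH) (path_nil s0_v2377)))))
theorem s0_f28430 : ed sl_hf s0_v2376 = s0_v2377 :=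
  gap_rel s0_rot13 (path_edge (s0_f28428r IH) (path_nil s0_v2377))
theorem s0_f28427r : ed sl_if s0_v2376 = s0_v1444 :=
  edge_flip (s0_f28427 IH)
theorem s0_f28431 : ed sl_if s0_v2377 = s0_v2377 :=
  gap_rel s0_rot31 (path_edge (s0_f28430 IH) (path_edge (s0_f28426 IH) (path_edge (s0_f19149 IH) (path_edge (s0_f28427r IH) (path_edge (s0_f28428r IH) (path_nil s0_v2377))))))
theorem s0_f28432 : ed sl_ff s0_v2377 = s0_v2377 :=
  gap_rel s0_rot14 (path_edge (s0_f28430 IH) (path_edge (s0_f28424 IH) (path_edge (s0_f28428r IH) (path_nil s0_v2377))))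
theorem s0_f28433 : ed sl_jf s0_v2377 = s0_v2377 :=
  gap_rel s0_rot15 (path_edge (s0_f28430 IH) (path_edge (s0_f28425 IH) (path_edge (s0_f28428r IH) (path_nil s0_v2377))))
theorem s0_f28436 : ed sl_et s0_v2377 = s0_v2378 :=
  rfl
theorem s0_f28436r : ed sl_ef s0_v2378 = s0_v2377 :=
  edge_flip (s0_f28436 IH)
theorem s0_f28437 : ed sl_ef s0_v2377 = s0_v2378 :=
  gap_rel s0_rot17 (path_edge (s0_f28436r IH) (path_nil s0_v2378))
theorem s0_f28438 : ed sl_jf s0_v2378 = s0_v2378 :=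
  gap_rel s0_rot18 (path_edge (s0_f28437 IH) (path_edge (s0_f28433 IH) (path_edge (s0_f28436r IH) (path_nil s0_v2378))))
theorem s0_f28439 : ed sl_if s0_v2378 = s0_v2378 :=
  gap_rel s0_rot35 (path_edge (s0_f28437 IH) (path_edge (s0_f28431 IH) (path_edge (s0_f28436r IH) (path_nil s0_v2378))))
theorem s0_f28441 : ed sl_dt s0_v2378 = s0_v2379 :=
  rfl
theorem s0_f28441r : ed sl_df s0_v2379 = s0_v2378 :=
  edge_flip (s0_f28441 IH)
theorem s0_f28442 : ed sl_df s0_v2378 = s0_v2379 :=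
  gap_rel s0_rot4 (path_edge (s0_f28441r IH) (path_nil s0_v2379))
theorem s0_f28443 : ed sl_jf s0_v2379 = s0_v2379 :=
  gap_rel s0_rot6 (path_edge (s0_f28442 IH) (path_edge (s0_f28438 IH) (path_edge (s0_f28441r IH) (path_nil s0_v2379))))
theorem s0_f28444 : ed sl_if s0_v2379 = s0_v2379 :=
  gap_rel s0_rot33 (path_edge (s0_f28442 IH) (path_edge (s0_f28439 IH) (path_edge (s0_f28441r IH) (path_nil s0_v2379))))
theorem s0_f28445 : ed sl_ct s0_v2379 = s0_v2380 :=
  rfl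
theorem s0_f28445r : ed sl_cf s0_v2380 = s0_v2379 :=
  edge_flip (s0_f28445 IH)
theorem s0_f28446 : ed sl_cf s0_v2379 = s0_v2380 :=
  gap_rel s0_rot0 (path_edge (s0_f28445r IH) (path_nil s0_v2380))
theorem s0_f28448 : ed sl_jf s0_v2380 = s0_v2380 :=
  gap_rel s0_rot2 (path_edge (s0_f28446 IH) (path_edge (s0_f28443 IH) (path_edge (s0_f28445r IH) (path_nil s0_v2380))))
theorem s0_f28449 : ed sl_if s0_v2380 = s0_v2380 :=
  gap_rel s0_rot40 (path_edge (s0_f28446 IH) (path_edge (s0_f28444 IH) (path_edge (s0_f28445r IH) (path_nil s0_v2380))))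
theorem s0_f28450 : ed sl_bt s0_v2380 = s0_v2381 :=
  rfl
theorem s0_f28450r : ed sl_bf s0_v2381 = s0_v2380 :=
  edge_flip (s0_f28450 IH)
theorem s0_f28451 : ed sl_bf s0_v2380 = s0_v2381 :=
  gap_rel s0_rot20 (path_edge (s0_f28450r IH) (path_nil s0_v2381))
theorem s0_f28453 : ed sl_jf s0_v2381 = s0_v2381 :=
  gap_rel s0_rot21 (path_edge (s0_f28451 IH) (path_edge (s0_f28448 IH) (path_edge (s0_f28450r IH) (path_nil s0_v2381))))
theorem s0_f28454 : ed sl_if s0_v2381 = s0_v2381 :=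
  gap_rel s0_rot38 (path_edge (s0_f28451 IH) (path_edge (s0_f28449 IH) (path_edge (s0_f28450r IH) (path_nil s0_v2381))))
theorem s0_f28455 : ed sl_at s0_v2381 = s0_v2382 :=
  rfl
theorem s0_f28455r : ed sl_af s0_v2382 = s0_v2381 :=
  edge_flip (s0_f28455 IH)
theorem s0_f28456 : ed sl_af s0_v2381 = s0_v2382 :=
  gap_rel s0_rot105 (path_edge (s0_f28455r IH) (path_nil s0_v2382))
theorem s0_f28458 : ed sl_jf s0_v2382 = s0_v2382 :=
  gap_rel s0_rot109 (path_edge (s0_f28456 IH) (path_edge (s0_f28453 IH) (path_edge (s0_f28455r IH) (path_nil s0_v2382))))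
theorem s0_f28459 : ed sl_if s0_v2382 = s0_v2382 :=
  gap_rel s0_rot117 (path_edge (s0_f28456 IH) (path_edge (s0_f28454 IH) (path_edge (s0_f28455r IH) (path_nil s0_v2382))))
theorem s0_f28460 : ed sl_ht s0_v2382 = s0_v2383 :=
  rfl
theorem s0_f28460r : ed sl_hf s0_v2383 = s0_v2382 :=
  edge_flip (s0_f28460 IH)
theorem s0_f28461 : ed sl_hf s0_v2382 = s0_v2383 :=
  gap_rel s0_rot13 (path_edge (s0_f28460r IH) (path_nil s0_v2383))
theorem s0_f28462 : ed sl_jf s0_v2383 = s0_v2383 :=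
  gap_rel s0_rot15 (path_edge (s0_f28461 IH) (path_edge (s0_f28458 IH) (path_edge (s0_f28460r IH) (path_nil s0_v2383))))
theorem s0_f28463 : ed sl_ft s0_v2383 = s0_v2384 :=
  rfl
theorem s0_f28463r : ed sl_ff s0_v2384 = s0_v2383 :=
  edge_flip (s0_f28463 IH)
theorem s0_f28464 : ed sl_ff s0_v2383 = s0_v2384 :=
  gap_rel s0_rot22 (path_edge (s0_f28463r IH) (path_nil s0_v2384))
theorem s0_f28465 : ed sl_jf s0_v2384 = s0_v2384 :=
  gap_rel s0_rot23 (path_edge (s0_f28464 IH) (path_edge (s0_f28462 IH) (path_edge (s0_f28463r IH) (path_nil s0_v2384))))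
theorem s0_f28466 : ed sl_et s0_v2384 = s0_v2385 :=
  rfl
theorem s0_f28466r : ed sl_ef s0_v2385 = s0_v2384 :=
  edge_flip (s0_f28466 IH)
theorem s0_f28467 : ed sl_ef s0_v2384 = s0_v2385 :=
  gap_rel s0_rot17 (path_edge (s0_f28466r IH) (path_nil s0_v2385))
theorem s0_f28468 : ed sl_jf s0_v2385 = s0_v2385 :=
  gap_rel s0_rot18 (path_edge (s0_f28467 IH) (path_edge (s0_f28465 IH) (path_edge (s0_f28466r IH) (path_nil s0_v2385))))
theorem s0_f28469 : ed sl_dt s0_v2385 = s0_v2386 :=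
  rfl
theorem s0_f28469r : ed sl_df s0_v2386 = s0_v2385 :=
  edge_flip (s0_f28469 IH)
theorem s0_f28470 : ed sl_df s0_v2385 = s0_v2386 :=
  gap_rel s0_rot4 (path_edge (s0_f28469r IH) (path_nil s0_v2386))
theorem s0_f28471 : ed sl_jf s0_v2386 = s0_v2386 :=
  gap_rel s0_rot6 (path_edge (s0_f28470 IH) (path_edge (s0_f28468 IH) (path_edge (s0_f28469r IH) (path_nil s0_v2386))))
theorem s0_f28472 : ed sl_ct s0_v2386 = s0_v2387 :=
  rfl
theorem s0_f28472r : ed sl_cf s0_v2387 = s0_v2386 :=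
  edge_flip (s0_f28472 IH)
theorem s0_f28473 : ed sl_cf s0_v2386 = s0_v2387 :=
  gap_rel s0_rot0 (path_edge (s0_f28472r IH) (path_nil s0_v2387))
theorem s0_f28474 : ed sl_jf s0_v2387 = s0_v2387 :=
  gap_rel s0_rot2 (path_edge (s0_f28473 IH) (path_edge (s0_f28471 IH) (path_edge (s0_f28472r IH) (path_nil s0_v2387))))
theorem s0_f28475 : ed sl_bt s0_v2387 = s0_v2388 :=
  rfl
theorem s0_f28475r : ed sl_bf s0_v2388 = s0_v2387 :=
  edge_flip (s0_f28475 IH)
theorem s0_f28476 : ed sl_bf s0_v2387 = s0_v2388 :=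
  gap_rel s0_rot20 (path_edge (s0_f28475r IH) (path_nil s0_v2388))
theorem s0_f28477 : ed sl_jf s0_v2388 = s0_v2388 :=
  gap_rel s0_rot21 (path_edge (s0_f28476 IH) (path_edge (s0_f28474 IH) (path_edge (s0_f28475r IH) (path_nil s0_v2388))))
theorem s0_f28478 : ed sl_at s0_v2388 = s0_v2389 :=
  rfl
theorem s0_f28478r : ed sl_af s0_v2389 = s0_v2388 :=
  edge_flip (s0_f28478 IH)
theorem s0_f28479 : ed sl_af s0_v2388 = s0_v2389 :=
  gap_rel s0_rot105 (path_edge (s0_f28478r IH) (path_nil s0_v2389))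
theorem s0_f28480 : ed sl_jf s0_v2389 = s0_v2389 :=
  gap_rel s0_rot109 (path_edge (s0_f28479 IH) (path_edge (s0_f28477 IH) (path_edge (s0_f28478r IH) (path_nil s0_v2389))))
theorem s0_f28481 : ed sl_ht s0_v2389 = s0_v2390 :=
  rfl
theorem s0_f28481r : ed sl_hf s0_v2390 = s0_v2389 :=
  edge_flip (s0_f28481 IH)
theorem s0_f28482 : ed sl_hf s0_v2389 = s0_v2390 :=
  gap_rel s0_rot13 (path_edge (s0_f28481r IH) (path_nil s0_v2390))
theorem s0_f28484 : ed sl_ft s0_v2390 = s0_v2391 :=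
  rfl
theorem s0_f28484r : ed sl_ff s0_v2391 = s0_v2390 :=
  edge_flip (s0_f28484 IH)
theorem s0_f28485 : ed sl_ff s0_v2390 = s0_v2391 :=
  gap_rel s0_rot22 (path_edge (s0_f28484r IH) (path_nil s0_v2391))
theorem s0_f28487 : ed sl_et s0_v2391 = s0_v2392 :=
  rfl
theorem s0_f28490 : ed sl_dt s0_v2392 = s0_v2393 :=
  rfl
theorem s0_f28493 : ed sl_ct s0_v2393 = s0_v2394 :=
  rfl
theorem s0_f28496 : ed sl_bt s0_v2394 = s0_v2395 :=
  rfl
theorem s0_f28499 : ed sl_at s0_v2395 = s0_v2396 :=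
  rfl
theorem s0_f28502 : ed sl_ht s0_v2396 = s0_v2397 :=
  rfl
theorem s0_f28505 : ed sl_ft s0_v2397 = s0_v2398 :=
  rfl
theorem s0_f28508 : ed sl_et s0_v2398 = s0_v2399 :=
  rfl
theorem s0_f28511 : ed sl_dt s0_v2399 = s0_v2400 :=
  rfl
theorem s0_f28514 : ed sl_ct s0_v2400 = s0_v2401 :=
  rfl
theorem s0_f28517 : ed sl_bt s0_v2401 = s0_v2402 :=
  rfl
theorem s0_f28520 : ed sl_at s0_v2402 = s0_v2403 :=
  rfl
theorem s0_f28523 : ed sl_ht s0_v2403 = s0_v2404 :=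
  rfl
theorem s0_f28526 : ed sl_ft s0_v2404 = s0_v2405 :=
  rfl
theorem s0_f28529 : ed sl_et s0_v2405 = s0_v2406 :=
  rfl
theorem s0_f28532 : ed sl_dt s0_v2406 = s0_v2407 :=
  rfl
theorem s0_f28532r : ed sl_df s0_v2407 = s0_v2406 :=
  edge_flip (s0_f28532 IH)
theorem s0_f28533 : ed sl_df s0_v2406 = s0_v2407 :=
  gap_rel s0_rot4 (path_edge (s0_f28532r IH) (path_nil s0_v2407))
theorem s0_f28535 : ed sl_ct s0_v2407 = s0_v2408 :=
  rfl
theorem s0_f28535r : ed sl_cf s0_v2408 = s0_v2407 :=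
  edge_flip (s0_f28535 IH)
theorem s0_f28536 : ed sl_cf s0_v2407 = s0_v2408 :=
  gap_rel s0_rot0 (path_edge (s0_f28535r IH) (path_nil s0_v2408))
theorem s0_f28538 : ed sl_bt s0_v2408 = s0_v2409 :=
  rfl
theorem s0_f28538r : ed sl_bf s0_v2409 = s0_v2408 :=
  edge_flip (s0_f28538 IH)
theorem s0_f28539 : ed sl_bf s0_v2408 = s0_v2409 :=
  gap_rel s0_rot20 (path_edge (s0_f28538r IH) (path_nil s0_v2409))
theorem s0_f28541 : ed sl_at s0_v2409 = s0_v2410 :=
  rfl
theorem s0_f28541r : ed sl_af s0_v2410 = s0_v2409 :=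
  edge_flip (s0_f28541 IH)
theorem s0_f28529r : ed sl_ef s0_v2406 = s0_v2405 :=
  edge_flip (s0_f28529 IH)
theorem s0_f28526r : ed sl_ff s0_v2405 = s0_v2404 :=
  edge_flip (s0_f28526 IH)
theorem s0_f28523r : ed sl_hf s0_v2404 = s0_v2403 :=
  edge_flip (s0_f28523 IH)
theorem s0_f28520r : ed sl_af s0_v2403 = s0_v2402 :=
  edge_flip (s0_f28520 IH)
theorem s0_f28517r : ed sl_bf s0_v2402 = s0_v2401 :=
  edge_flip (s0_f28517 IH)
theorem s0_f28514r : ed sl_cf s0_v2401 = s0_v2400 :=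
  edge_flip (s0_f28514 IH)
theorem s0_f28511r : ed sl_df s0_v2400 = s0_v2399 :=
  edge_flip (s0_f28511 IH)
theorem s0_f28508r : ed sl_ef s0_v2399 = s0_v2398 :=
  edge_flip (s0_f28508 IH)
theorem s0_f28505r : ed sl_ff s0_v2398 = s0_v2397 :=
  edge_flip (s0_f28505 IH)
theorem s0_f28502r : ed sl_hf s0_v2397 = s0_v2396 :=
  edge_flip (s0_f28502 IH)
theorem s0_f28499r : ed sl_af s0_v2396 = s0_v2395 :=
  edge_flip (s0_f28499 IH)
theorem s0_f28496r : ed sl_bf s0_v2395 = s0_v2394 :=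
  edge_flip (s0_f28496 IH)
theorem s0_f28493r : ed sl_cf s0_v2394 = s0_v2393 :=
  edge_flip (s0_f28493 IH)
theorem s0_f28490r : ed sl_df s0_v2393 = s0_v2392 :=
  edge_flip (s0_f28490 IH)
theorem s0_f28487r : ed sl_ef s0_v2392 = s0_v2391 :=
  edge_flip (s0_f28487 IH)
theorem s0_f1299r : ed sl_bf s0_v88 = sq641 :=
  edge_flip (s0_f1299 IH)
theorem s0_f1301r : ed sl_cf sq641 = sq445 :=
  edge_flip (s0_f1301 IH)
theorem s0_f1131r : ed sl_df sq445 = sq303 :=
  edge_flip (s0_f1131 IH)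
theorem s0_f1528r : ed sl_ef sq303 = sq212 :=
  edge_flip (s0_f1528 IH)
theorem s0_f1527r : ed sl_ff sq212 = sq146 :=
  edge_flip (s0_f1527 IH)
theorem s0_f1563r : ed sl_hf sq146 = sq99 :=
  edge_flip (s0_f1563 IH)
theorem s0_f1564r : ed sl_af sq99 = sq127 :=
  edge_flip (s0_f1564 IH)
theorem s0_f1565r : ed sl_bf sq127 = sq172 :=
  edge_flip (s0_f1565 IH)
theorem s0_f1571r : ed sl_af sq736 = sq736 :=
  edge_flip (s0_f1571 IH)
theorem s0_f1572r : ed sl_bf sq736 = sq736 :=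
  edge_flip (s0_f1572 IH)
theorem s0_f1573r : ed sl_cf sq736 = sq736 :=
  edge_flip (s0_f1573 IH)
theorem s0_f1575r : ed sl_ef sq1031 = sq1424 :=
  edge_flip (s0_f1575 IH)
theorem s0_f1576r : ed sl_ff sq1424 = sq1945 :=
  edge_flip (s0_f1576 IH)
theorem s0_f1577r : ed sl_hf sq1945 = sq1945 :=
  edge_flip (s0_f1577 IH)
theorem s0_f1578r : ed sl_af sq1945 = sq1945 :=
  edge_flip (s0_f1578 IH)
theorem s0_f1579r : ed sl_bf sq1945 = sq1945 :=
  edge_flip (s0_f1579 IH)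
theorem s0_f1580r : ed sl_cf sq1945 = sq2627 :=
  edge_flip (s0_f1580 IH)
theorem s0_f1581r : ed sl_df sq2627 = sq3472 :=
  edge_flip (s0_f1581 IH)
theorem s0_f1582r : ed sl_ef sq3472 = sq4462 :=
  edge_flip (s0_f1582 IH)
theorem s0_f1583r : ed sl_ff sq4462 = sq4462 :=
  edge_flip (s0_f1583 IH)
theorem s0_f28544 : ed sl_hf sq4462 = s0_v2410 :=
  gap_rel s0_rot119 (path_edge (s0_f1583r IH) (path_edge (s0_f1582r IH) (path_edge (s0_f1581r IH) (path_edge (s0_f1580r IH) (path_edge (s0_f1579r IH) (path_edge (s0_f1578r IH) (path_edge (s0_f1577r IH) (path_edge (s0_f1576r IH) (path_edge (s0_f1575r IH) (path_edge (s0_f1574r IH) (path_edge (s0_f1573r IH) (path_edge (s0_f1572r IH) (path_edge (s0_f1571r IH) (path_edge (s0_f1570r IH) (path_edge (s0_f1569r IH) (path_edge (s0_f1568r IH) (path_edge (s0_f1567r IH) (path_edge (s0_f1566r IH) (path_edge (s0_f1565r IH) (path_edge (s0_f1564r IH) (path_edge (s0_f1563r IH) (path_edge (s0_f1527r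 IH) (path_edge (s0_f1528r IH) (path_edge (s0_f1131r IH) (path_edge (s0_f1301r IH) (path_edge (s0_f1299r IH) (path_eq (s0_f1312 IH) (path_edge (s0_f28420r IH) (path_edge (s0_f28428r IH) (path_edge (s0_f28432 IH) (path_edge (s0_f28436r IH) (path_edge (s0_f28441r IH) (path_edge (s0_f28445r IH) (path_edge (s0_f28450r IH) (path_edge (s0_f28455r IH) (path_edge (s0_f28460r IH) (path_edge (s0_f28463r IH) (path_edge (s0_f28466r IH) (path_edge (s0_f28469r IH) (path_edge (s0_f28472r IH) (path_edge (s0_f28475r IH) (path_edge (s0_f28478r IH) (path_edge (s0_f28481r IH) (path_edge (s0_f28484r IH) (path_edge (s0_f28487r IH) (path_edge (s0_f28490r IH) (path_edge (s0_f28493r IH) (path_edge (s0_f28496r IH) (path_edge (s0_f28499r IH) (path_edge (s0_f28502r IH) (path_edge (s0_f28505r IH) (path_edge (s0_f28508r IH) (path_edge (s0_f28511r IH) (path_edge (s0_f28514r IH) (path_edge (s0_f28517r IH) (path_edge (s0_f28520r IH) (path_edge (s0_f28523r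 IH) (path_edge (s0_f28526r IH) (path_edge (s0_f28529r IH) (path_edge (s0_f28532r IH) (path_edge (s0_f28535r IH) (path_edge (s0_f28538r IH) (path_edge (s0_f28541r IH) (path_nil s0_v2410))))))))))))))))))))))))))))))))))))))))))))))))))))))))))))))))
theorem s0_f28545 : ed sl_at sq4462 = sq4462 :=
  real_edge rels S fwd inv o lvl plet idx 47 IH Gen.a sp4462 sp4462 rfl rfl
theorem s0_f28544r : ed sl_ht s0_v2410 = sq4462 :=
  edge_flip (s0_f28544 IH)
theorem s0_f28546 : ed sl_ht sq4462 = s0_v2409 :=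
  gap_rel s0_rot120 (path_edge (s0_f28545 IH) (path_edge (s0_f28544r IH) (path_edge (s0_f28541 IH) (path_nil s0_v2409))))
theorem s0_f28547 : ed sl_ct sq4462 = sq3478 :=
  real_edge rels S fwd inv o lvl plet idx 47 IH Gen.c sp4462 sp3478 rfl rfl
theorem s0_f28548 : ed sl_ht sq3478 = sq4470 :=
  real_edge rels S fwd inv o lvl plet idx 47 IH Gen.h sp3478 sp4470 rfl rfl
theorem s0_f28549 : ed sl_ct sq4470 = s0_v2410 :=
  gap_rel s0_rot68 (path_edge (s0_f28548 IH) (path_edge (s0_f28547 IH) (path_edge (s0_f28544r IH) (path_nil s0_v2410))))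
theorem s0_f28550 : ed sl_ft s0_v2409 = s0_v2410 :=
  gap_rel s0_rot46 (path_edge (s0_f28546 IH) (path_edge (s0_f1583 IH) (path_edge (s0_f28544r IH) (path_nil s0_v2410))))
theorem s0_f28553 : s0_v2409 = s0_v2410 :=
  (loop_rel s0_rot44 (path_edge (s0_f28546 IH) (path_edge (s0_f28544r IH) (path_nil s0_v2410)))).symm
theorem s0_f28556 : ed sl_dt sq4470 = sq5634 :=
  real_edge rels S fwd inv o lvl plet idx 47 IH Gen.d sp4470 sp5634 rfl rfl
theorem s0_f28559 : ed sl_ft sq4470 = sq4470 :=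
  real_edge rels S fwd inv o lvl plet idx 47 IH Gen.f sp4470 sp4470 rfl rfl
theorem s0_f28550r : ed sl_ff s0_v2410 = s0_v2409 :=
  edge_flip (s0_f28550 IH)
theorem s0_f28562 : ed sl_ff s0_v2408 = s0_v2408 :=
  gap_rel s0_rot54 (path_edge (s0_f28538r IH) (path_edge (s0_f28550r IH) (path_eq (s0_f28553 IH) (path_edge (s0_f28539 IH) (path_nil s0_v2408)))))
theorem s0_f28562r : ed sl_ft s0_v2408 = s0_v2408 :=
  edge_flip (s0_f28562 IH)
theorem s0_f28536r : ed sl_ct s0_v2408 = s0_v2407 :=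
  edge_flip (s0_f28536 IH)
theorem s0_f28563 : ed sl_ft s0_v2407 = s0_v2407 :=
  gap_rel s0_rot53 (path_edge (s0_f28536r IH) (path_edge (s0_f28562r IH) (path_edge (s0_f28535 IH) (path_nil s0_v2407))))
theorem s0_f33717 : ed sl_it sq116 = sq171 :=
  real_edge rels S fwd inv o lvl plet idx 47 IH Gen.i sp116 sp171 rfl rfl
theorem s0_f33730 : ed sl_bt sq375 = sq278 :=
  real_edge rels S fwd inv o lvl plet idx 47 IH Gen.b sp375 sp278 rfl rfl
theorem s0_f33731 : ed sl_ct sq278 = sq408 :=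
  real_edge rels S fwd inv o lvl plet idx 47 IH Gen.c sp278 sp408 rfl rfl
theorem s0_f33732 : ed sl_it sq593 = sq842 :=
  real_edge rels S fwd inv o lvl plet idx 47 IH Gen.i sp593 sp842 rfl rfl
theorem s0_f33733 : ed sl_ht sq842 = sq1186 :=
  real_edge rels S fwd inv o lvl plet idx 47 IH Gen.h sp842 sp1186 rfl rfl
theorem s0_f33734 : ed sl_dt sq1186 = sq1186 :=
  real_edge rels S fwd inv o lvl plet idx 47 IH Gen.d sp1186 sp1186 rfl rfl
theorem s0_f33735 : ed sl_ft sq1186 = sq1652 :=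
  real_edge rels S fwd inv o lvl plet idx 47 IH Gen.f sp1186 sp1652 rfl rfl
theorem s0_f33736 : ed sl_et sq1652 = sq2271 :=
  real_edge rels S fwd inv o lvl plet idx 47 IH Gen.e sp1652 sp2271 rfl rfl
theorem s0_f33737 : ed sl_dt sq2271 = sq3075 :=
  real_edge rels S fwd inv o lvl plet idx 47 IH Gen.d sp2271 sp3075 rfl rfl
theorem s0_f33738 : ed sl_bt sq3075 = sq4051 :=
  real_edge rels S fwd inv o lvl plet idx 47 IH Gen.b sp3075 sp4051 rfl rfl
theorem s0_f33739 : ed sl_ct sq4051 = sq5183 :=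
  real_edge rels S fwd inv o lvl plet idx 47 IH Gen.c sp4051 sp5183 rfl rfl
theorem s0_f33740 : ed sl_dt sq5183 = sq6454 :=
  real_edge rels S fwd inv o lvl plet idx 47 IH Gen.d sp5183 sp6454 rfl rfl
theorem s0_f33741 : ed sl_it sq6454 = sq6454 :=
  real_edge rels S fwd inv o lvl plet idx 47 IH Gen.i sp6454 sp6454 rfl rfl
theorem s0_f33742 : ed sl_ht sq6454 = sq7944 :=
  real_edge rels S fwd inv o lvl plet idx 47 IH Gen.h sp6454 sp7944 rfl rfl
theorem s0_f33743 : ed sl_dt sq7944 = sq9650 :=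
  real_edge rels S fwd inv o lvl plet idx 47 IH Gen.d sp7944 sp9650 rfl rfl
theorem s0_f33744 : ed sl_ft sq9650 = sq9650 :=
  real_edge rels S fwd inv o lvl plet idx 47 IH Gen.f sp9650 sp9650 rfl rfl
theorem s0_f33745 : ed sl_it sq268 = sq181 :=
  real_edge rels S fwd inv o lvl plet idx 47 IH Gen.i sp268 sp181 rfl rfl
theorem s0_f33746 : ed sl_et sq9650 = s0_v2996 :=
  rfl
theorem s0_f33746r : ed sl_ef s0_v2996 = sq9650 :=
  edge_flip (s0_f33746 IH)
theorem s0_f33748 : ed sl_ef sq9650 = s0_v2996 :=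
  gap_rel s0_rot17 (path_edge (s0_f33746r IH) (path_nil s0_v2996))
theorem s0_f33751 : ed sl_jt sq9650 = sq9650 :=
  real_edge rels S fwd inv o lvl plet idx 47 IH Gen.j sp9650 sp9650 rfl rfl
theorem s0_f33751r : ed sl_jf sq9650 = sq9650 :=
  edge_flip (s0_f33751 IH)
theorem s0_f33752 : ed sl_jf s0_v2996 = s0_v2996 :=
  gap_rel s0_rot18 (path_edge (s0_f33748 IH) (path_edge (s0_f33751r IH) (path_edge (s0_f33746r IH) (path_nil s0_v2996))))
theorem s0_f33761 : ed sl_dt s0_v2996 = s0_v2997 :=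
  rfl
theorem s0_f33761r : ed sl_df s0_v2997 = s0_v2996 :=
  edge_flip (s0_f33761 IH)
theorem s0_f33762 : ed sl_df s0_v2996 = s0_v2997 :=
  gap_rel s0_rot4 (path_edge (s0_f33761r IH) (path_nil s0_v2997))
theorem s0_f33763 : ed sl_jf s0_v2997 = s0_v2997 :=
  gap_rel s0_rot6 (path_edge (s0_f33762 IH) (path_edge (s0_f33752 IH) (path_edge (s0_f33761r IH) (path_nil s0_v2997))))
theorem s0_f33764 : ed sl_bt s0_v2997 = s0_v2998 :=
  rfl
theorem s0_f33764r : ed sl_bf s0_v2998 = s0_v2997 :=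
  edge_flip (s0_f33764 IH)
theorem s0_f33765 : ed sl_bf s0_v2997 = s0_v2998 :=
  gap_rel s0_rot20 (path_edge (s0_f33764r IH) (path_nil s0_v2998))
theorem s0_f33766 : ed sl_jf s0_v2998 = s0_v2998 :=
  gap_rel s0_rot21 (path_edge (s0_f33765 IH) (path_edge (s0_f33763 IH) (path_edge (s0_f33764r IH) (path_nil s0_v2998))))
theorem s0_f33767 : ed sl_ct s0_v2998 = s0_v2999 :=
  rfl
theorem s0_f33767r : ed sl_cf s0_v2999 = s0_v2998 :=
  edge_flip (s0_f33767 IH)
theorem s0_f33768 : ed sl_cf s0_v2998 = s0_v2999 :=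
  gap_rel s0_rot0 (path_edge (s0_f33767r IH) (path_nil s0_v2999))
theorem s0_f33769 : ed sl_jf s0_v2999 = s0_v2999 :=
  gap_rel s0_rot2 (path_edge (s0_f33768 IH) (path_edge (s0_f33766 IH) (path_edge (s0_f33767r IH) (path_nil s0_v2999))))
theorem s0_f33770 : ed sl_dt s0_v2999 = s0_v3000 :=
  rfl
theorem s0_f33770r : ed sl_df s0_v3000 = s0_v2999 :=
  edge_flip (s0_f33770 IH)
theorem s0_f33771 : ed sl_df s0_v2999 = s0_v3000 :=
  gap_rel s0_rot4 (path_edge (s0_f33770r IH) (path_nil s0_v3000))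
theorem s0_f33772 : ed sl_jf s0_v3000 = s0_v3000 :=
  gap_rel s0_rot6 (path_edge (s0_f33771 IH) (path_edge (s0_f33769 IH) (path_edge (s0_f33770r IH) (path_nil s0_v3000))))
theorem s0_f33773 : ed sl_it s0_v3000 = s0_v3001 :=
  rfl
theorem s0_f33773r : ed sl_if s0_v3001 = s0_v3000 :=
  edge_flip (s0_f33773 IH)
theorem s0_f33774 : ed sl_if s0_v3000 = s0_v3001 :=
  gap_rel s0_rot9 (path_edge (s0_f33773r IH) (path_nil s0_v3001))
theorem s0_f33774r : ed sl_it s0_v3001 = s0_v3000 :=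
  edge_flip (s0_f33774 IH)
theorem s0_f33772r : ed sl_jt s0_v3000 = s0_v3000 :=
  edge_flip (s0_f33772 IH)
theorem s0_f33775 : ed sl_jt s0_v3001 = s0_v3001 :=
  gap_rel s0_rot12 (path_edge (s0_f33773 IH) (path_edge (s0_f33772r IH) (path_edge (s0_f33774r IH) (path_nil s0_v3001))))
theorem s0_f33776 : ed sl_ht s0_v3001 = s0_v3002 :=
  rfl
theorem s0_f33776r : ed sl_hf s0_v3002 = s0_v3001 :=
  edge_flip (s0_f33776 IH)
theorem s0_f33777 : ed sl_hf s0_v3001 = s0_v3002 :=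
  gap_rel s0_rot13 (path_edge (s0_f33776r IH) (path_nil s0_v3002))
theorem s0_f33775r : ed sl_jf s0_v3001 = s0_v3001 :=
  edge_flip (s0_f33775 IH)
theorem s0_f33778 : ed sl_jf s0_v3002 = s0_v3002 :=
  gap_rel s0_rot15 (path_edge (s0_f33777 IH) (path_edge (s0_f33775r IH) (path_edge (s0_f33776r IH) (path_nil s0_v3002))))
theorem s0_f33779 : ed sl_dt s0_v3002 = s0_v3003 :=
  rfl
theorem s0_f33779r : ed sl_df s0_v3003 = s0_v3002 :=
  edge_flip (s0_f33779 IH)
theorem s0_f33780 : ed sl_df s0_v3002 = s0_v3003 :=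
  gap_rel s0_rot4 (path_edge (s0_f33779r IH) (path_nil s0_v3003))
theorem s0_f33781 : ed sl_jf s0_v3003 = s0_v3003 :=
  gap_rel s0_rot6 (path_edge (s0_f33780 IH) (path_edge (s0_f33778 IH) (path_edge (s0_f33779r IH) (path_nil s0_v3003))))
theorem s0_f33782 : ed sl_ft s0_v3003 = s0_v3004 :=
  rfl
theorem s0_f33782r : ed sl_ff s0_v3004 = s0_v3003 :=
  edge_flip (s0_f33782 IH)
theorem s0_f33783 : ed sl_ff s0_v3003 = s0_v3004 :=
  gap_rel s0_rot22 (path_edge (s0_f33782r IH) (path_nil s0_v3004))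
theorem s0_f33784 : ed sl_jf s0_v3004 = s0_v3004 :=
  gap_rel s0_rot23 (path_edge (s0_f33783 IH) (path_edge (s0_f33781 IH) (path_edge (s0_f33782r IH) (path_nil s0_v3004))))
theorem s0_f33785 : ed sl_et s0_v3004 = s0_v3005 :=
  rfl
theorem s0_f33785r : ed sl_ef s0_v3005 = s0_v3004 :=
  edge_flip (s0_f33785 IH)
theorem s0_f33786 : ed sl_ef s0_v3004 = s0_v3005 :=
  gap_rel s0_rot17 (path_edge (s0_f33785r IH) (path_nil s0_v3005))
theorem s0_f33787 : ed sl_jf s0_v3005 = s0_v3005 :=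
  gap_rel s0_rot18 (path_edge (s0_f33786 IH) (path_edge (s0_f33784 IH) (path_edge (s0_f33785r IH) (path_nil s0_v3005))))
theorem s0_f33788 : ed sl_dt s0_v3005 = s0_v3006 :=
  rfl
theorem s0_f33788r : ed sl_df s0_v3006 = s0_v3005 :=
  edge_flip (s0_f33788 IH)
theorem s0_f33789 : ed sl_df s0_v3005 = s0_v3006 :=
  gap_rel s0_rot4 (path_edge (s0_f33788r IH) (path_nil s0_v3006))
theorem s0_f33790 : ed sl_jf s0_v3006 = s0_v3006 :=
  gap_rel s0_rot6 (path_edge (s0_f33789 IH) (path_edge (s0_f33787 IH) (path_edge (s0_f33788r IH) (path_nil s0_v3006))))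
theorem s0_f33791 : ed sl_bt s0_v3006 = s0_v3007 :=
  rfl
theorem s0_f33791r : ed sl_bf s0_v3007 = s0_v3006 :=
  edge_flip (s0_f33791 IH)
theorem s0_f33792 : ed sl_bf s0_v3006 = s0_v3007 :=
  gap_rel s0_rot20 (path_edge (s0_f33791r IH) (path_nil s0_v3007))
theorem s0_f33793 : ed sl_jf s0_v3007 = s0_v3007 :=
  gap_rel s0_rot21 (path_edge (s0_f33792 IH) (path_edge (s0_f33790 IH) (path_edge (s0_f33791r IH) (path_nil s0_v3007))))
theorem s0_f33794 : ed sl_ct s0_v3007 = s0_v3008 :=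
  rfl
theorem s0_f33794r : ed sl_cf s0_v3008 = s0_v3007 :=
  edge_flip (s0_f33794 IH)
theorem s0_f33795 : ed sl_cf s0_v3007 = s0_v3008 :=
  gap_rel s0_rot0 (path_edge (s0_f33794r IH) (path_nil s0_v3008))
theorem s0_f33796 : ed sl_jf s0_v3008 = s0_v3008 :=
  gap_rel s0_rot2 (path_edge (s0_f33795 IH) (path_edge (s0_f33793 IH) (path_edge (s0_f33794r IH) (path_nil s0_v3008))))
theorem s0_f33797 : ed sl_dt s0_v3008 = s0_v3009 :=
  rfl
theorem s0_f33797r : ed sl_df s0_v3009 = s0_v3008 :=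
  edge_flip (s0_f33797 IH)
theorem s0_f33798 : ed sl_df s0_v3008 = s0_v3009 :=
  gap_rel s0_rot4 (path_edge (s0_f33797r IH) (path_nil s0_v3009))
theorem s0_f33799 : ed sl_jf s0_v3009 = s0_v3009 :=
  gap_rel s0_rot6 (path_edge (s0_f33798 IH) (path_edge (s0_f33796 IH) (path_edge (s0_f33797r IH) (path_nil s0_v3009))))
theorem s0_f33800 : ed sl_it s0_v3009 = s0_v3010 :=
  rfl
theorem s0_f33800r : ed sl_if s0_v3010 = s0_v3009 :=
  edge_flip (s0_f33800 IH)
theorem s0_f33801 : ed sl_if s0_v3009 = s0_v3010 :=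
  gap_rel s0_rot9 (path_edge (s0_f33800r IH) (path_nil s0_v3010))
theorem s0_f33801r : ed sl_it s0_v3010 = s0_v3009 :=
  edge_flip (s0_f33801 IH)
theorem s0_f33799r : ed sl_jt s0_v3009 = s0_v3009 :=
  edge_flip (s0_f33799 IH)
theorem s0_f33802 : ed sl_jt s0_v3010 = s0_v3010 :=
  gap_rel s0_rot12 (path_edge (s0_f33800 IH) (path_edge (s0_f33799r IH) (path_edge (s0_f33801r IH) (path_nil s0_v3010))))
theorem s0_f33803 : ed sl_ht s0_v3010 = s0_v3011 :=
  rfl
theorem s0_f33803r : ed sl_hf s0_v3011 = s0_v3010 :=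
  edge_flip (s0_f33803 IH)
theorem s0_f33804 : ed sl_hf s0_v3010 = s0_v3011 :=
  gap_rel s0_rot13 (path_edge (s0_f33803r IH) (path_nil s0_v3011))
theorem s0_f33802r : ed sl_jf s0_v3010 = s0_v3010 :=
  edge_flip (s0_f33802 IH)
theorem s0_f33805 : ed sl_jf s0_v3011 = s0_v3011 :=
  gap_rel s0_rot15 (path_edge (s0_f33804 IH) (path_edge (s0_f33802r IH) (path_edge (s0_f33803r IH) (path_nil s0_v3011))))
theorem s0_f33806 : ed sl_dt s0_v3011 = s0_v3012 :=
  rfl
theorem s0_f33806r : ed sl_df s0_v3012 = s0_v3011 :=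
  edge_flip (s0_f33806 IH)
theorem s0_f33807 : ed sl_df s0_v3011 = s0_v3012 :=
  gap_rel s0_rot4 (path_edge (s0_f33806r IH) (path_nil s0_v3012))
theorem s0_f33808 : ed sl_jf s0_v3012 = s0_v3012 :=
  gap_rel s0_rot6 (path_edge (s0_f33807 IH) (path_edge (s0_f33805 IH) (path_edge (s0_f33806r IH) (path_nil s0_v3012))))
theorem s0_f33809 : ed sl_ft s0_v3012 = s0_v3013 :=
  rfl
theorem s0_f33809r : ed sl_ff s0_v3013 = s0_v3012 :=
  edge_flip (s0_f33809 IH)
theorem s0_f33810 : ed sl_ff s0_v3012 = s0_v3013 :=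
  gap_rel s0_rot22 (path_edge (s0_f33809r IH) (path_nil s0_v3013))
theorem s0_f33811 : ed sl_jf s0_v3013 = s0_v3013 :=
  gap_rel s0_rot23 (path_edge (s0_f33810 IH) (path_edge (s0_f33808 IH) (path_edge (s0_f33809r IH) (path_nil s0_v3013))))
theorem s0_f33812 : ed sl_et s0_v3013 = s0_v3014 :=
  rfl
theorem s0_f33812r : ed sl_ef s0_v3014 = s0_v3013 :=
  edge_flip (s0_f33812 IH)
theorem s0_f33813 : ed sl_ef s0_v3013 = s0_v3014 :=
  gap_rel s0_rot17 (path_edge (s0_f33812r IH) (path_nil s0_v3014))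
theorem s0_f33814 : ed sl_jf s0_v3014 = s0_v3014 :=
  gap_rel s0_rot18 (path_edge (s0_f33813 IH) (path_edge (s0_f33811 IH) (path_edge (s0_f33812r IH) (path_nil s0_v3014))))
theorem s0_f33815 : ed sl_dt s0_v3014 = s0_v3015 :=
  rfl
theorem s0_f33815r : ed sl_df s0_v3015 = s0_v3014 :=
  edge_flip (s0_f33815 IH)
theorem s0_f33816 : ed sl_df s0_v3014 = s0_v3015 :=
  gap_rel s0_rot4 (path_edge (s0_f33815r IH) (path_nil s0_v3015))
theorem s0_f33817 : ed sl_jf s0_v3015 = s0_v3015 :=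
  gap_rel s0_rot6 (path_edge (s0_f33816 IH) (path_edge (s0_f33814 IH) (path_edge (s0_f33815r IH) (path_nil s0_v3015))))
theorem s0_f33818 : ed sl_bt s0_v3015 = s0_v3016 :=
  rfl
theorem s0_f33818r : ed sl_bf s0_v3016 = s0_v3015 :=
  edge_flip (s0_f33818 IH)
theorem s0_f33819 : ed sl_bf s0_v3015 = s0_v3016 :=
  gap_rel s0_rot20 (path_edge (s0_f33818r IH) (path_nil s0_v3016))
theorem s0_f33820 : ed sl_jf s0_v3016 = s0_v3016 :=
  gap_rel s0_rot21 (path_edge (s0_f33819 IH) (path_edge (s0_f33817 IH) (path_edge (s0_f33818r IH) (path_nil s0_v3016))))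
theorem s0_f33821 : ed sl_ct s0_v3016 = s0_v3017 :=
  rfl
theorem s0_f33821r : ed sl_cf s0_v3017 = s0_v3016 :=
  edge_flip (s0_f33821 IH)
theorem s0_f33822 : ed sl_cf s0_v3016 = s0_v3017 :=
  gap_rel s0_rot0 (path_edge (s0_f33821r IH) (path_nil s0_v3017))
theorem s0_f33823 : ed sl_jf s0_v3017 = s0_v3017 :=
  gap_rel s0_rot2 (path_edge (s0_f33822 IH) (path_edge (s0_f33820 IH) (path_edge (s0_f33821r IH) (path_nil s0_v3017))))
theorem s0_f33824 : ed sl_dt s0_v3017 = s0_v3018 :=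
  rfl
theorem s0_f33824r : ed sl_df s0_v3018 = s0_v3017 :=
  edge_flip (s0_f33824 IH)
theorem s0_f33825 : ed sl_df s0_v3017 = s0_v3018 :=
  gap_rel s0_rot4 (path_edge (s0_f33824r IH) (path_nil s0_v3018))
theorem s0_f33826 : ed sl_jf s0_v3018 = s0_v3018 :=
  gap_rel s0_rot6 (path_edge (s0_f33825 IH) (path_edge (s0_f33823 IH) (path_edge (s0_f33824r IH) (path_nil s0_v3018))))
theorem s0_f33827 : ed sl_it s0_v3018 = s0_v3019 :=
  rfl
theorem s0_f33827r : ed sl_if s0_v3019 = s0_v3018 :=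
  edge_flip (s0_f33827 IH)
theorem s0_f33828 : ed sl_if s0_v3018 = s0_v3019 :=
  gap_rel s0_rot9 (path_edge (s0_f33827r IH) (path_nil s0_v3019))
theorem s0_f33828r : ed sl_it s0_v3019 = s0_v3018 :=
  edge_flip (s0_f33828 IH)
theorem s0_f33826r : ed sl_jt s0_v3018 = s0_v3018 :=
  edge_flip (s0_f33826 IH)
theorem s0_f33829 : ed sl_jt s0_v3019 = s0_v3019 :=
  gap_rel s0_rot12 (path_edge (s0_f33827 IH) (path_edge (s0_f33826r IH) (path_edge (s0_f33828r IH) (path_nil s0_v3019))))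
theorem s0_f33830 : ed sl_ht s0_v3019 = s0_v3020 :=
  rfl
theorem s0_f33830r : ed sl_hf s0_v3020 = s0_v3019 :=
  edge_flip (s0_f33830 IH)
theorem s0_f33831 : ed sl_hf s0_v3019 = s0_v3020 :=
  gap_rel s0_rot13 (path_edge (s0_f33830r IH) (path_nil s0_v3020))
theorem s0_f33829r : ed sl_jf s0_v3019 = s0_v3019 :=
  edge_flip (s0_f33829 IH)
theorem s0_f33832 : ed sl_jf s0_v3020 = s0_v3020 :=
  gap_rel s0_rot15 (path_edge (s0_f33831 IH) (path_edge (s0_f33829r IH) (path_edge (s0_f33830r IH) (path_nil s0_v3020))))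
theorem s0_f33833 : ed sl_dt s0_v3020 = s0_v3021 :=
  rfl
theorem s0_f33833r : ed sl_df s0_v3021 = s0_v3020 :=
  edge_flip (s0_f33833 IH)
theorem s0_f33834 : ed sl_df s0_v3020 = s0_v3021 :=
  gap_rel s0_rot4 (path_edge (s0_f33833r IH) (path_nil s0_v3021))
theorem s0_f33835 : ed sl_jf s0_v3021 = s0_v3021 :=
  gap_rel s0_rot6 (path_edge (s0_f33834 IH) (path_edge (s0_f33832 IH) (path_edge (s0_f33833r IH) (path_nil s0_v3021))))
theorem s0_f33836 : ed sl_ft s0_v3021 = s0_v3022 :=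
  rfl
theorem s0_f33836r : ed sl_ff s0_v3022 = s0_v3021 :=
  edge_flip (s0_f33836 IH)
theorem s0_f33837 : ed sl_ff s0_v3021 = s0_v3022 :=
  gap_rel s0_rot22 (path_edge (s0_f33836r IH) (path_nil s0_v3022))
theorem s0_f33838 : ed sl_jf s0_v3022 = s0_v3022 :=
  gap_rel s0_rot23 (path_edge (s0_f33837 IH) (path_edge (s0_f33835 IH) (path_edge (s0_f33836r IH) (path_nil s0_v3022))))
theorem s0_f33839 : ed sl_et s0_v3022 = s0_v3023 :=
  rfl
theorem s0_f33839r : ed sl_ef s0_v3023 = s0_v3022 :=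
  edge_flip (s0_f33839 IH)
theorem s0_f33840 : ed sl_ef s0_v3022 = s0_v3023 :=
  gap_rel s0_rot17 (path_edge (s0_f33839r IH) (path_nil s0_v3023))
theorem s0_f33841 : ed sl_jf s0_v3023 = s0_v3023 :=
  gap_rel s0_rot18 (path_edge (s0_f33840 IH) (path_edge (s0_f33838 IH) (path_edge (s0_f33839r IH) (path_nil s0_v3023))))
theorem s0_f33842 : ed sl_dt s0_v3023 = s0_v3024 :=
  rfl
theorem s0_f33842r : ed sl_df s0_v3024 = s0_v3023 :=
  edge_flip (s0_f33842 IH)
theorem s0_f33843 : ed sl_df s0_v3023 = s0_v3024 :=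
  gap_rel s0_rot4 (path_edge (s0_f33842r IH) (path_nil s0_v3024))
theorem s0_f33844 : ed sl_jf s0_v3024 = s0_v3024 :=
  gap_rel s0_rot6 (path_edge (s0_f33843 IH) (path_edge (s0_f33841 IH) (path_edge (s0_f33842r IH) (path_nil s0_v3024))))
theorem s0_f33845 : ed sl_bt s0_v3024 = s0_v3025 :=
  rfl
theorem s0_f33845r : ed sl_bf s0_v3025 = s0_v3024 :=
  edge_flip (s0_f33845 IH)
theorem s0_f33846 : ed sl_bf s0_v3024 = s0_v3025 :=
  gap_rel s0_rot20 (path_edge (s0_f33845r IH) (path_nil s0_v3025))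
theorem s0_f33847 : ed sl_jf s0_v3025 = s0_v3025 :=
  gap_rel s0_rot21 (path_edge (s0_f33846 IH) (path_edge (s0_f33844 IH) (path_edge (s0_f33845r IH) (path_nil s0_v3025))))
theorem s0_f33848 : ed sl_ct s0_v3025 = s0_v3026 :=
  rfl
theorem s0_f33848r : ed sl_cf s0_v3026 = s0_v3025 :=
  edge_flip (s0_f33848 IH)
theorem s0_f33849 : ed sl_cf s0_v3025 = s0_v3026 :=
  gap_rel s0_rot0 (path_edge (s0_f33848r IH) (path_nil s0_v3026))
theorem s0_f33850 : ed sl_jf s0_v3026 = s0_v3026 :=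
  gap_rel s0_rot2 (path_edge (s0_f33849 IH) (path_edge (s0_f33847 IH) (path_edge (s0_f33848r IH) (path_nil s0_v3026))))
theorem s0_f33851 : ed sl_dt s0_v3026 = s0_v3027 :=
  rfl
theorem s0_f33851r : ed sl_df s0_v3027 = s0_v3026 :=
  edge_flip (s0_f33851 IH)
theorem s0_f33852 : ed sl_df s0_v3026 = s0_v3027 :=
  gap_rel s0_rot4 (path_edge (s0_f33851r IH) (path_nil s0_v3027))
theorem s0_f33853 : ed sl_jf s0_v3027 = s0_v3027 :=
  gap_rel s0_rot6 (path_edge (s0_f33852 IH) (path_edge (s0_f33850 IH) (path_edge (s0_f33851r IH) (path_nil s0_v3027))))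
theorem s0_f33854 : ed sl_it s0_v3027 = s0_v3028 :=
  rfl
theorem s0_f33854r : ed sl_if s0_v3028 = s0_v3027 :=
  edge_flip (s0_f33854 IH)
theorem s0_f33855 : ed sl_if s0_v3027 = s0_v3028 :=
  gap_rel s0_rot9 (path_edge (s0_f33854r IH) (path_nil s0_v3028))
theorem s0_f33855r : ed sl_it s0_v3028 = s0_v3027 :=
  edge_flip (s0_f33855 IH)
theorem s0_f33853r : ed sl_jt s0_v3027 = s0_v3027 :=
  edge_flip (s0_f33853 IH)
theorem s0_f33856 : ed sl_jt s0_v3028 = s0_v3028 :=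
  gap_rel s0_rot12 (path_edge (s0_f33854 IH) (path_edge (s0_f33853r IH) (path_edge (s0_f33855r IH) (path_nil s0_v3028))))
theorem s0_f33857 : ed sl_ht s0_v3028 = s0_v3029 :=
  rfl
theorem s0_f33857r : ed sl_hf s0_v3029 = s0_v3028 :=
  edge_flip (s0_f33857 IH)
theorem s0_f33858 : ed sl_hf s0_v3028 = s0_v3029 :=
  gap_rel s0_rot13 (path_edge (s0_f33857r IH) (path_nil s0_v3029))
theorem s0_f33856r : ed sl_jf s0_v3028 = s0_v3028 :=
  edge_flip (s0_f33856 IH)
theorem s0_f33859 : ed sl_jf s0_v3029 = s0_v3029 :=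
  gap_rel s0_rot15 (path_edge (s0_f33858 IH) (path_edge (s0_f33856r IH) (path_edge (s0_f33857r IH) (path_nil s0_v3029))))
theorem s0_f33860 : ed sl_dt s0_v3029 = s0_v3030 :=
  rfl
theorem s0_f33860r : ed sl_df s0_v3030 = s0_v3029 :=
  edge_flip (s0_f33860 IH)
theorem s0_f33861 : ed sl_df s0_v3029 = s0_v3030 :=
  gap_rel s0_rot4 (path_edge (s0_f33860r IH) (path_nil s0_v3030))
theorem s0_f33862 : ed sl_jf s0_v3030 = s0_v3030 :=
  gap_rel s0_rot6 (path_edge (s0_f33861 IH) (path_edge (s0_f33859 IH) (path_edge (s0_f33860r IH) (path_nil s0_v3030))))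
theorem s0_f33863 : ed sl_ft s0_v3030 = s0_v3031 :=
  rfl
theorem s0_f33863r : ed sl_ff s0_v3031 = s0_v3030 :=
  edge_flip (s0_f33863 IH)
theorem s0_f33864 : ed sl_ff s0_v3030 = s0_v3031 :=
  gap_rel s0_rot22 (path_edge (s0_f33863r IH) (path_nil s0_v3031))
theorem s0_f33865 : ed sl_jf s0_v3031 = s0_v3031 :=
  gap_rel s0_rot23 (path_edge (s0_f33864 IH) (path_edge (s0_f33862 IH) (path_edge (s0_f33863r IH) (path_nil s0_v3031))))
theorem s0_f33866 : ed sl_et s0_v3031 = s0_v3032 :=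
  rfl
theorem s0_f33866r : ed sl_ef s0_v3032 = s0_v3031 :=
  edge_flip (s0_f33866 IH)
theorem s0_f33867 : ed sl_ef s0_v3031 = s0_v3032 :=
  gap_rel s0_rot17 (path_edge (s0_f33866r IH) (path_nil s0_v3032))
theorem s0_f33868 : ed sl_jf s0_v3032 = s0_v3032 :=
  gap_rel s0_rot18 (path_edge (s0_f33867 IH) (path_edge (s0_f33865 IH) (path_edge (s0_f33866r IH) (path_nil s0_v3032))))
theorem s0_f33869 : ed sl_dt s0_v3032 = s0_v3033 :=
  rfl
theorem s0_f33869r : ed sl_df s0_v3033 = s0_v3032 :=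
  edge_flip (s0_f33869 IH)
theorem s0_f33870 : ed sl_df s0_v3032 = s0_v3033 :=
  gap_rel s0_rot4 (path_edge (s0_f33869r IH) (path_nil s0_v3033))
theorem s0_f33871 : ed sl_jf s0_v3033 = s0_v3033 :=
  gap_rel s0_rot6 (path_edge (s0_f33870 IH) (path_edge (s0_f33868 IH) (path_edge (s0_f33869r IH) (path_nil s0_v3033))))
theorem s0_f33872 : ed sl_bt s0_v3033 = s0_v3034 :=
  rfl
theorem s0_f33872r : ed sl_bf s0_v3034 = s0_v3033 :=
  edge_flip (s0_f33872 IH)
theorem s0_f33873 : ed sl_bf s0_v3033 = s0_v3034 :=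
  gap_rel s0_rot20 (path_edge (s0_f33872r IH) (path_nil s0_v3034))
theorem s0_f33874 : ed sl_jf s0_v3034 = s0_v3034 :=
  gap_rel s0_rot21 (path_edge (s0_f33873 IH) (path_edge (s0_f33871 IH) (path_edge (s0_f33872r IH) (path_nil s0_v3034))))
theorem s0_f33875 : ed sl_ct s0_v3034 = s0_v3035 :=
  rfl
theorem s0_f33875r : ed sl_cf s0_v3035 = s0_v3034 :=
  edge_flip (s0_f33875 IH)
theorem s0_f33876 : ed sl_cf s0_v3034 = s0_v3035 :=
  gap_rel s0_rot0 (path_edge (s0_f33875r IH) (path_nil s0_v3035))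
theorem s0_f33877 : ed sl_jf s0_v3035 = s0_v3035 :=
  gap_rel s0_rot2 (path_edge (s0_f33876 IH) (path_edge (s0_f33874 IH) (path_edge (s0_f33875r IH) (path_nil s0_v3035))))
theorem s0_f33878 : ed sl_dt s0_v3035 = s0_v3036 :=
  rfl
theorem s0_f33878r : ed sl_df s0_v3036 = s0_v3035 :=
  edge_flip (s0_f33878 IH)
theorem s0_f33879 : ed sl_df s0_v3035 = s0_v3036 :=
  gap_rel s0_rot4 (path_edge (s0_f33878r IH) (path_nil s0_v3036))
theorem s0_f33880 : ed sl_jf s0_v3036 = s0_v3036 :=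
  gap_rel s0_rot6 (path_edge (s0_f33879 IH) (path_edge (s0_f33877 IH) (path_edge (s0_f33878r IH) (path_nil s0_v3036))))
theorem s0_f33881 : ed sl_it s0_v3036 = s0_v3037 :=
  rfl
theorem s0_f33881r : ed sl_if s0_v3037 = s0_v3036 :=
  edge_flip (s0_f33881 IH)
theorem s0_f33882 : ed sl_if s0_v3036 = s0_v3037 :=
  gap_rel s0_rot9 (path_edge (s0_f33881r IH) (path_nil s0_v3037))
theorem s0_f33882r : ed sl_it s0_v3037 = s0_v3036 :=
  edge_flip (s0_f33882 IH)
theorem s0_f33880r : ed sl_jt s0_v3036 = s0_v3036 :=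
  edge_flip (s0_f33880 IH)
theorem s0_f33883 : ed sl_jt s0_v3037 = s0_v3037 :=
  gap_rel s0_rot12 (path_edge (s0_f33881 IH) (path_edge (s0_f33880r IH) (path_edge (s0_f33882r IH) (path_nil s0_v3037))))
theorem s0_f33884 : ed sl_ht s0_v3037 = s0_v3038 :=
  rfl
theorem s0_f33884r : ed sl_hf s0_v3038 = s0_v3037 :=
  edge_flip (s0_f33884 IH)
theorem s0_f33885 : ed sl_hf s0_v3037 = s0_v3038 :=
  gap_rel s0_rot13 (path_edge (s0_f33884r IH) (path_nil s0_v3038))
theorem s0_f33883r : ed sl_jf s0_v3037 = s0_v3037 :=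
  edge_flip (s0_f33883 IH)
theorem s0_f33886 : ed sl_jf s0_v3038 = s0_v3038 :=
  gap_rel s0_rot15 (path_edge (s0_f33885 IH) (path_edge (s0_f33883r IH) (path_edge (s0_f33884r IH) (path_nil s0_v3038))))
theorem s0_f33887 : ed sl_dt s0_v3038 = s0_v3039 :=
  rfl
theorem s0_f33887r : ed sl_df s0_v3039 = s0_v3038 :=
  edge_flip (s0_f33887 IH)
theorem s0_f33888 : ed sl_df s0_v3038 = s0_v3039 :=
  gap_rel s0_rot4 (path_edge (s0_f33887r IH) (path_nil s0_v3039))
theorem s0_f33889 : ed sl_jf s0_v3039 = s0_v3039 :=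
  gap_rel s0_rot6 (path_edge (s0_f33888 IH) (path_edge (s0_f33886 IH) (path_edge (s0_f33887r IH) (path_nil s0_v3039))))
theorem s0_f33890 : ed sl_ft s0_v3039 = s0_v3040 :=
  rfl
theorem s0_f33890r : ed sl_ff s0_v3040 = s0_v3039 :=
  edge_flip (s0_f33890 IH)
theorem s0_f33891 : ed sl_ff s0_v3039 = s0_v3040 :=
  gap_rel s0_rot22 (path_edge (s0_f33890r IH) (path_nil s0_v3040))
theorem s0_f33892 : ed sl_jf s0_v3040 = s0_v3040 :=
  gap_rel s0_rot23 (path_edge (s0_f33891 IH) (path_edge (s0_f33889 IH) (path_edge (s0_f33890r IH) (path_nil s0_v3040))))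
theorem s0_f33893 : ed sl_et s0_v3040 = s0_v3041 :=
  rfl
theorem s0_f33893r : ed sl_ef s0_v3041 = s0_v3040 :=
  edge_flip (s0_f33893 IH)
theorem s0_f33894 : ed sl_ef s0_v3040 = s0_v3041 :=
  gap_rel s0_rot17 (path_edge (s0_f33893r IH) (path_nil s0_v3041))
theorem s0_f33895 : ed sl_jf s0_v3041 = s0_v3041 :=
  gap_rel s0_rot18 (path_edge (s0_f33894 IH) (path_edge (s0_f33892 IH) (path_edge (s0_f33893r IH) (path_nil s0_v3041))))
theorem s0_f33896 : ed sl_dt s0_v3041 = s0_v3042 :=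
  rfl
theorem s0_f33896r : ed sl_df s0_v3042 = s0_v3041 :=
  edge_flip (s0_f33896 IH)
theorem s0_f33897 : ed sl_df s0_v3041 = s0_v3042 :=
  gap_rel s0_rot4 (path_edge (s0_f33896r IH) (path_nil s0_v3042))
theorem s0_f33898 : ed sl_jf s0_v3042 = s0_v3042 :=
  gap_rel s0_rot6 (path_edge (s0_f33897 IH) (path_edge (s0_f33895 IH) (path_edge (s0_f33896r IH) (path_nil s0_v3042))))
theorem s0_f33899 : ed sl_bt s0_v3042 = s0_v3043 :=
  rfl
theorem s0_f33899r : ed sl_bf s0_v3043 = s0_v3042 :=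
  edge_flip (s0_f33899 IH)
theorem s0_f33900 : ed sl_bf s0_v3042 = s0_v3043 :=
  gap_rel s0_rot20 (path_edge (s0_f33899r IH) (path_nil s0_v3043))
theorem s0_f33901 : ed sl_jf s0_v3043 = s0_v3043 :=
  gap_rel s0_rot21 (path_edge (s0_f33900 IH) (path_edge (s0_f33898 IH) (path_edge (s0_f33899r IH) (path_nil s0_v3043))))
theorem s0_f33902 : ed sl_ct s0_v3043 = s0_v3044 :=
  rfl
theorem s0_f33902r : ed sl_cf s0_v3044 = s0_v3043 :=
  edge_flip (s0_f33902 IH)
theorem s0_f33903 : ed sl_cf s0_v3043 = s0_v3044 :=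
  gap_rel s0_rot0 (path_edge (s0_f33902r IH) (path_nil s0_v3044))
theorem s0_f33904 : ed sl_jf s0_v3044 = s0_v3044 :=
  gap_rel s0_rot2 (path_edge (s0_f33903 IH) (path_edge (s0_f33901 IH) (path_edge (s0_f33902r IH) (path_nil s0_v3044))))
theorem s0_f33905 : ed sl_dt s0_v3044 = s0_v3045 :=
  rfl
theorem s0_f33905r : ed sl_df s0_v3045 = s0_v3044 :=
  edge_flip (s0_f33905 IH)
theorem s0_f33906 : ed sl_df s0_v3044 = s0_v3045 :=
  gap_rel s0_rot4 (path_edge (s0_f33905r IH) (path_nil s0_v3045))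
theorem s0_f33908 : ed sl_it s0_v3045 = s0_v3046 :=
  rfl
theorem s0_f33908r : ed sl_if s0_v3046 = s0_v3045 :=
  edge_flip (s0_f33908 IH)
theorem s0_f33909 : ed sl_if s0_v3045 = s0_v3046 :=
  gap_rel s0_rot9 (path_edge (s0_f33908r IH) (path_nil s0_v3046))
theorem s0_f33744r : ed sl_ff sq9650 = sq9650 :=
  edge_flip (s0_f33744 IH)
theorem s0_f33743r : ed sl_df sq9650 = sq7944 :=
  edge_flip (s0_f33743 IH)
theorem s0_f33742r : ed sl_hf sq7944 = sq6454 :=
  edge_flip (s0_f33742 IH)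
theorem s0_f33741r : ed sl_if sq6454 = sq6454 :=
  edge_flip (s0_f33741 IH)
theorem s0_f33740r : ed sl_df sq6454 = sq5183 :=
  edge_flip (s0_f33740 IH)
theorem s0_f33739r : ed sl_cf sq5183 = sq4051 :=
  edge_flip (s0_f33739 IH)
theorem s0_f33738r : ed sl_bf sq4051 = sq3075 :=
  edge_flip (s0_f33738 IH)
theorem s0_f33737r : ed sl_df sq3075 = sq2271 :=
  edge_flip (s0_f33737 IH)
theorem s0_f33736r : ed sl_ef sq2271 = sq1652 :=
  edge_flip (s0_f33736 IH)
theorem s0_f33735r : ed sl_ff sq1652 = sq1186 :=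
  edge_flip (s0_f33735 IH)
theorem s0_f33734r : ed sl_df sq1186 = sq1186 :=
  edge_flip (s0_f33734 IH)
theorem s0_f33733r : ed sl_hf sq1186 = sq842 :=
  edge_flip (s0_f33733 IH)
theorem s0_f33732r : ed sl_if sq842 = sq593 :=
  edge_flip (s0_f33732 IH)
theorem s0_f33731r : ed sl_cf sq408 = sq278 :=
  edge_flip (s0_f33731 IH)
theorem s0_f33730r : ed sl_bf sq278 = sq375 :=
  edge_flip (s0_f33730 IH)
theorem s0_f2278r : ed sl_df sq375 = sq375 :=
  edge_flip (s0_f2278 IH)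
theorem s0_f2277r : ed sl_ef sq375 = sq255 :=
  edge_flip (s0_f2277 IH)
theorem s0_f2276r : ed sl_ff sq255 = sq372 :=
  edge_flip (s0_f2276 IH)
theorem s0_f24671r : ed sl_df sq372 = sq253 :=
  edge_flip (s0_f24671 IH)
theorem s0_f4915r : ed sl_hf sq253 = sq171 :=
  edge_flip (s0_f4915 IH)
theorem s0_f33717r : ed sl_if sq171 = sq116 :=
  edge_flip (s0_f33717 IH)
theorem s0_f3311r : ed sl_cf sq81 = sq81 :=
  edge_flip (s0_f3311 IH)
theorem s0_f3279r : ed sl_bf sq81 = sq59 :=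
  edge_flip (s0_f3279 IH)
theorem s0_f922r : ed sl_ef sq84 = sq123 :=
  edge_flip (s0_f922 IH)
theorem s0_f921r : ed sl_ff sq123 = sq123 :=
  edge_flip (s0_f921 IH)
theorem s0_f920r : ed sl_hf sq123 = sq181 :=
  edge_flip (s0_f920 IH)
theorem s0_f33745r : ed sl_if sq181 = sq268 :=
  edge_flip (s0_f33745 IH)
theorem s0_f2099r : ed sl_df sq268 = sq395 :=
  edge_flip (s0_f2099 IH)
theorem s0_f12146r : ed sl_cf sq395 = sq573 :=
  edge_flip (s0_f12146 IH)
theorem s0_f2007r : ed sl_bf sq573 = sq573 :=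
  edge_flip (s0_f2007 IH)
theorem s0_f12147r : ed sl_df sq573 = sq573 :=
  edge_flip (s0_f12147 IH)
theorem s0_f12148r : ed sl_ef sq573 = sq573 :=
  edge_flip (s0_f12148 IH)
theorem s0_f12149r : ed sl_ff sq573 = sq573 :=
  edge_flip (s0_f12149 IH)
theorem s0_f33910 : ed sl_hf sq573 = s0_v3046 :=
  gap_rel s0_rot42 (path_edge (s0_f12147r IH) (path_edge (s0_f12149r IH) (path_edge (s0_f12148r IH) (path_edge (s0_f12147r IH) (path_edge (s0_f2007r IH) (path_edge (s0_f12146r IH) (path_edge (s0_f2099r IH) (path_edge (s0_f33745r IH) (path_edge (s0_f920r IH) (path_edge (s0_f11460r IH) (path_edge (s0_f921r IH) (path_edge (s0_f922r IH) (path_edge (s0_f923r IH) (path_edge (s0_f3279r IH) (path_edge (s0_f3311r IH) (path_edge (s0_f958r IH) (path_edge (s0_f33717r IH) (path_edge (s0_f4915r IH) (path_edge (s0_f24671r IH) (path_edge (s0_f2276r IH) (path_edge (s0_f2277r IH) (path_edge (s0_f2278r IH) (path_edge (s0_f33730r IH) (path_edge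 (s0_f33731r IH) (path_edge (s0_f10333r IH) (path_edge (s0_f33732r IH) (path_edge (s0_f33733r IH) (path_edge (s0_f33734r IH) (path_edge (s0_f33735r IH) (path_edge (s0_f33736r IH) (path_edge (s0_f33737r IH) (path_edge (s0_f33738r IH) (path_edge (s0_f33739r IH) (path_edge (s0_f33740r IH) (path_edge (s0_f33741r IH) (path_edge (s0_f33742r IH) (path_edge (s0_f33743r IH) (path_edge (s0_f33744r IH) (path_edge (s0_f33746r IH) (path_edge (s0_f33761r IH) (path_edge (s0_f33764r IH) (path_edge (s0_f33767r IH) (path_edge (s0_f33770r IH) (path_edge (s0_f33773r IH) (path_edge (s0_f33776r IH) (path_edge (s0_f33779r IH) (path_edge (s0_f33782r IH) (path_edge (s0_f33785r IH) (path_edge (s0_f33788r IH) (path_edge (s0_f33791r IH) (path_edge (s0_f33794r IH) (path_edge (s0_f33797r IH) (path_edge (s0_f33800r IH) (path_edge (s0_f33803r IH) (path_edge (s0_f33806r IH) (path_edge (s0_f33809r IH) (path_edge (s0_f33812r IH) (path_edge (s0_f33815r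 IH) (path_edge (s0_f33818r IH) (path_edge (s0_f33821r IH) (path_edge (s0_f33824r IH) (path_edge (s0_f33827r IH) (path_edge (s0_f33830r IH) (path_edge (s0_f33833r IH) (path_edge (s0_f33836r IH) (path_edge (s0_f33839r IH) (path_edge (s0_f33842r IH) (path_edge (s0_f33845r IH) (path_edge (s0_f33848r IH) (path_edge (s0_f33851r IH) (path_edge (s0_f33854r IH) (path_edge (s0_f33857r IH) (path_edge (s0_f33860r IH) (path_edge (s0_f33863r IH) (path_edge (s0_f33866r IH) (path_edge (s0_f33869r IH) (path_edge (s0_f33872r IH) (path_edge (s0_f33875r IH) (path_edge (s0_f33878r IH) (path_edge (s0_f33881r IH) (path_edge (s0_f33884r IH) (path_edge (s0_f33887r IH) (path_edge (s0_f33890r IH) (path_edge (s0_f33893r IH) (path_edge (s0_f33896r IH) (path_edge (s0_f33899r IH) (path_edge (s0_f33902r IH) (path_edge (s0_f33905r IH) (path_edge (s0_f33908r IH) (path_nil s0_v3046))))))))))))))))))))))))))))))))))))))))))))))))))))))))))))))))))))))))))))))))))))))))))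
theorem s0_f33910r : ed sl_ht s0_v3046 = sq573 :=
  edge_flip (s0_f33910 IH)
theorem s0_f33911 : ed sl_at s0_v119 = s0_v3046 :=
  gap_rel s0_rot121 (path_edge (s0_f1991 IH) (path_edge (s0_f1992 IH) (path_edge (s0_f33910r IH) (path_nil s0_v3046))))
theorem s0_f33912 : ed sl_ct sq574 = s0_v3046 :=
  gap_rel s0_rot68 (path_edge (s0_f2062 IH) (path_edge (s0_f12146 IH) (path_edge (s0_f33910r IH) (path_nil s0_v3046))))
theorem s0_f33913 : ed sl_ht sq573 = s0_v3046 :=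
  gap_rel s0_rot44 (path_edge (s0_f33910r IH) (path_nil s0_v3046))
theorem s0_f33914 : ed sl_it sq573 = sq394 :=
  real_edge rels S fwd inv o lvl plet idx 47 IH Gen.i sp573 sp394 rfl rfl
theorem s0_f33915 : ed sl_it sq394 = sq573 :=
  real_edge rels S fwd inv o lvl plet idx 47 IH Gen.i sp394 sp573 rfl rfl
theorem s0_f33909r : ed sl_it s0_v3046 = s0_v3045 :=
  edge_flip (s0_f33909 IH)
theorem s0_f33920 : s0_v3045 = s0_v3046 :=
  (loop_rel s0_rot122 (path_edge (s0_f33909r IH) (path_edge (s0_f33913 IH) (path_edge (s0_f33915 IH) (path_edge (s0_f13057 IH) (path_edge (s0_f33914 IH) (path_edge (s0_f33910r IH) (path_nil s0_v3046)))))))).symm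
theorem s0_f33911r : ed sl_af s0_v3046 = s0_v119 :=
  edge_flip (s0_f33911 IH)
theorem s0_f33921 : ed sl_af s0_v119 = s0_v3045 :=
  gap_rel s0_rot123 (path_edge (s0_f2001 IH) (path_edge (s0_f33911r IH) (path_edge (s0_f33909 IH) (path_nil s0_v3045))))
theorem s0_f33923 : ed sl_if s0_v3044 = s0_v3044 :=
  gap_rel s0_rot33 (path_edge (s0_f33905r IH) (path_eq (s0_f33920 IH).symm (path_edge (s0_f33909 IH) (path_edge (s0_f33906 IH) (path_nil s0_v3044)))))
theorem s0_f33923r : ed sl_it s0_v3044 = s0_v3044 :=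
  edge_flip (s0_f33923 IH)
theorem s0_f33903r : ed sl_ct s0_v3044 = s0_v3043 :=
  edge_flip (s0_f33903 IH)
theorem s0_f33924 : ed sl_it s0_v3043 = s0_v3043 :=
  gap_rel s0_rot66 (path_edge (s0_f33903r IH) (path_edge (s0_f33923r IH) (path_edge (s0_f33902 IH) (path_nil s0_v3043))))
theorem s0_f33937 : ed sl_it sq818 = sq818 :=
  real_edge rels S fwd inv o lvl plet idx 47 IH Gen.i sp818 sp818 rfl rfl
theorem s0_f33921r : ed sl_at s0_v3045 = s0_v119 :=
  edge_flip (s0_f33921 IH)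
theorem s0_f33958 : ed sl_at s0_v120 = s0_v3044 :=
  gap_rel s0_rot124 (path_edge (s0_f2114 IH) (path_edge (s0_f33921r IH) (path_edge (s0_f33905 IH) (path_nil s0_v3044))))
theorem s0_f33958r : ed sl_af s0_v3044 = s0_v120 :=
  edge_flip (s0_f33958 IH)
theorem s0_f33959 : ed sl_af s0_v120 = s0_v3044 :=
  gap_rel s0_rot105 (path_edge (s0_f33958r IH) (path_nil s0_v3044))
theorem s0_f33962 : ed sl_ff s0_v3044 = s0_v3044 :=
  gap_rel s0_rot116 (path_edge (s0_f33959 IH) (path_edge (s0_f2117 IH) (path_edge (s0_f33958r IH) (path_nil s0_v3044))))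
theorem s0_f33962r : ed sl_ft s0_v3044 = s0_v3044 :=
  edge_flip (s0_f33962 IH)
theorem s0_f33963 : ed sl_ft s0_v3043 = s0_v3043 :=
  gap_rel s0_rot53 (path_edge (s0_f33903r IH) (path_edge (s0_f33962r IH) (path_edge (s0_f33902 IH) (path_nil s0_v3043))))
theorem s0_f34030 : ed sl_dt sq2721 = sq2196 :=
  real_edge rels S fwd inv o lvl plet idx 47 IH Gen.d sp2721 sp2196 rfl rfl
theorem s0_f34184 : ed sl_et s0_v3044 = s0_v3080 :=
  rfl
theorem s0_f34184r : ed sl_ef s0_v3080 = s0_v3044 :=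
  edge_flip (s0_f34184 IH)
theorem s0_f34185 : ed sl_af s0_v121 = s0_v3080 :=
  gap_rel s0_rot125 (path_edge (s0_f2121 IH) (path_edge (s0_f33958r IH) (path_edge (s0_f34184r IH) (path_nil s0_v3080))))
theorem s0_f34186 : ed sl_ef s0_v3044 = s0_v3080 :=
  gap_rel s0_rot17 (path_edge (s0_f34184r IH) (path_nil s0_v3080))
theorem s0_f34188 : ed sl_jf s0_v3080 = s0_v3080 :=
  gap_rel s0_rot18 (path_edge (s0_f34186 IH) (path_edge (s0_f33904 IH) (path_edge (s0_f34184r IH) (path_nil s0_v3080))))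
theorem s0_f34189 : ed sl_if s0_v3080 = s0_v3080 :=
  gap_rel s0_rot35 (path_edge (s0_f34186 IH) (path_edge (s0_f33923 IH) (path_edge (s0_f34184r IH) (path_nil s0_v3080))))
theorem s0_f34189r : ed sl_it s0_v3080 = s0_v3080 :=
  edge_flip (s0_f34189 IH)
theorem s0_f34185r : ed sl_at s0_v3080 = s0_v121 :=
  edge_flip (s0_f34185 IH)
theorem s0_f34190 : ed sl_at s0_v121 = s0_v3080 :=
  gap_rel s0_rot98 (path_edge (s0_f2124r IH) (path_edge (s0_f34185r IH) (path_edge (s0_f34189r IH) (path_nil s0_v3080))))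
theorem s0_f34193 : ed sl_ct s0_v3080 = s0_v3081 :=
  rfl
theorem s0_f34193r : ed sl_cf s0_v3081 = s0_v3080 :=
  edge_flip (s0_f34193 IH)
theorem s0_f34190r : ed sl_af s0_v3080 = s0_v121 :=
  edge_flip (s0_f34190 IH)
theorem s0_f34194 : ed sl_af s0_v420 = s0_v3081 :=
  gap_rel s0_rot126 (path_edge (s0_f5842 IH) (path_edge (s0_f34190r IH) (path_edge (s0_f34193r IH) (path_nil s0_v3081))))
theorem s0_f34195 : ed sl_cf s0_v3080 = s0_v3081 :=
  gap_rel s0_rot0 (path_edge (s0_f34193r IH) (path_nil s0_v3081))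
theorem s0_f34196 : ed sl_ef s0_v3043 = s0_v3081 :=
  gap_rel s0_rot8 (path_edge (s0_f33902r IH) (path_edge (s0_f34184r IH) (path_edge (s0_f34193r IH) (path_nil s0_v3081))))
theorem s0_f34198 : ed sl_jf s0_v3081 = s0_v3081 :=
  gap_rel s0_rot2 (path_edge (s0_f34195 IH) (path_edge (s0_f34188 IH) (path_edge (s0_f34193r IH) (path_nil s0_v3081))))
theorem s0_f34199 : ed sl_if s0_v3081 = s0_v3081 :=
  gap_rel s0_rot40 (path_edge (s0_f34195 IH) (path_edge (s0_f34189 IH) (path_edge (s0_f34193r IH) (path_nil s0_v3081))))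
theorem s0_f34199r : ed sl_it s0_v3081 = s0_v3081 :=
  edge_flip (s0_f34199 IH)
theorem s0_f34194r : ed sl_at s0_v3081 = s0_v420 :=
  edge_flip (s0_f34194 IH)
theorem s0_f34200 : ed sl_at s0_v420 = s0_v3081 :=
  gap_rel s0_rot98 (path_edge (s0_f5846r IH) (path_edge (s0_f34194r IH) (path_edge (s0_f34199r IH) (path_nil s0_v3081))))
theorem s0_f34196r : ed sl_et s0_v3081 = s0_v3043 :=
  edge_flip (s0_f34196 IH)
theorem s0_f34201 : ed sl_et s0_v3043 = s0_v3081 :=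
  gap_rel s0_rot10 (path_edge (s0_f33924 IH) (path_edge (s0_f34196r IH) (path_edge (s0_f34199r IH) (path_nil s0_v3081))))
theorem s0_f34202 : ed sl_dt s0_v3081 = s0_v3082 :=
  rfl
theorem s0_f34202r : ed sl_df s0_v3082 = s0_v3081 :=
  edge_flip (s0_f34202 IH)
theorem s0_f34200r : ed sl_af s0_v3081 = s0_v420 :=
  edge_flip (s0_f34200 IH)
theorem s0_f34203 : ed sl_af s0_v421 = s0_v3082 :=
  gap_rel s0_rot127 (path_edge (s0_f5850 IH) (path_edge (s0_f34200r IH) (path_edge (s0_f34202r IH) (path_nil s0_v3082))))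
theorem s0_f34204 : ed sl_df s0_v3081 = s0_v3082 :=
  gap_rel s0_rot4 (path_edge (s0_f34202r IH) (path_nil s0_v3082))
theorem s0_f34205 : ed sl_jf s0_v3082 = s0_v3082 :=
  gap_rel s0_rot6 (path_edge (s0_f34204 IH) (path_edge (s0_f34198 IH) (path_edge (s0_f34202r IH) (path_nil s0_v3082))))
theorem s0_f34206 : ed sl_if s0_v3082 = s0_v3082 :=
  gap_rel s0_rot33 (path_edge (s0_f34204 IH) (path_edge (s0_f34199 IH) (path_edge (s0_f34202r IH) (path_nil s0_v3082))))
theorem s0_f34206r : ed sl_it s0_v3082 = s0_v3082 :=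
  edge_flip (s0_f34206 IH)
theorem s0_f34203r : ed sl_at s0_v3082 = s0_v421 :=
  edge_flip (s0_f34203 IH)
theorem s0_f5852r : ed sl_it s0_v421 = s0_v421 :=
  edge_flip (s0_f5852 IH)
theorem s0_f34207 : ed sl_at s0_v421 = s0_v3082 :=
  gap_rel s0_rot98 (path_edge (s0_f5852r IH) (path_edge (s0_f34203r IH) (path_edge (s0_f34206r IH) (path_nil s0_v3082))))
theorem s0_f34207r : ed sl_af s0_v3082 = s0_v421 :=
  edge_flip (s0_f34207 IH)
theorem s0_f5853r : ed sl_cf s0_v421 = s0_v421 :=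
  edge_flip (s0_f5853 IH)
theorem s0_f34208 : ed sl_cf s0_v3082 = s0_v3082 :=
  gap_rel s0_rot107 (path_edge (s0_f34203 IH) (path_edge (s0_f5853r IH) (path_edge (s0_f34207r IH) (path_nil s0_v3082))))
theorem s0_f34978 : ed sl_it sq177 = sq177 :=
  real_edge rels S fwd inv o lvl plet idx 47 IH Gen.i sp177 sp177 rfl rfl
theorem s0_f35196 : ed sl_dt sq4010 = sq5141 :=
  real_edge rels S fwd inv o lvl plet idx 47 IH Gen.d sp4010 sp5141 rfl rfl
theorem s0_f35199 : ed sl_dt sq5141 = sq4010 :=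
  real_edge rels S fwd inv o lvl plet idx 47 IH Gen.d sp5141 sp4010 rfl rfl
theorem s0_f35417 : ed sl_it sq1529 = sq1529 :=
  real_edge rels S fwd inv o lvl plet idx 47 IH Gen.i sp1529 sp1529 rfl rfl
theorem s0_f35418 : ed sl_bt sq6229 = sq6229 :=
  real_edge rels S fwd inv o lvl plet idx 47 IH Gen.b sp6229 sp6229 rfl rfl
theorem s0_f35419 : ed sl_it sq9258 = sq11261 :=
  real_edge rels S fwd inv o lvl plet idx 47 IH Gen.i sp9258 sp11261 rfl rfl
theorem s0_f35420 : ed sl_ht sq11261 = sq13476 :=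
  real_edge rels S fwd inv o lvl plet idx 47 IH Gen.h sp11261 sp13476 rfl rfl
theorem s0_f35421 : ed sl_dt sq13476 = sq15753 :=
  real_edge rels S fwd inv o lvl plet idx 47 IH Gen.d sp13476 sp15753 rfl rfl
theorem s0_f35422 : ed sl_ft sq15753 = sq17935 :=
  real_edge rels S fwd inv o lvl plet idx 47 IH Gen.f sp15753 sp17935 rfl rfl
theorem s0_f35423 : ed sl_it sq590 = sq409 :=
  real_edge rels S fwd inv o lvl plet idx 47 IH Gen.i sp590 sp409 rfl rfl
theorem s0_f35424 : ed sl_dt sq590 = sq590 :=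
  real_edge rels S fwd inv o lvl plet idx 47 IH Gen.d sp590 sp590 rfl rfl
theorem s0_f35425 : ed sl_ct sq843 = sq590 :=
  real_edge rels S fwd inv o lvl plet idx 47 IH Gen.c sp843 sp590 rfl rfl
theorem s0_f35426 : ed sl_bt sq1184 = sq843 :=
  real_edge rels S fwd inv o lvl plet idx 47 IH Gen.b sp1184 sp843 rfl rfl
theorem s0_f35427 : ed sl_et sq2266 = sq1647 :=
  real_edge rels S fwd inv o lvl plet idx 47 IH Gen.e sp2266 sp1647 rfl rfl
theorem s0_f35428 : ed sl_ft sq2266 = sq2266 :=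
  real_edge rels S fwd inv o lvl plet idx 47 IH Gen.f sp2266 sp2266 rfl rfl
theorem s0_f35429 : ed sl_dt sq3033 = sq2266 :=
  real_edge rels S fwd inv o lvl plet idx 47 IH Gen.d sp3033 sp2266 rfl rfl
theorem s0_f35430 : ed sl_ht sq4010 = sq3033 :=
  real_edge rels S fwd inv o lvl plet idx 47 IH Gen.h sp4010 sp3033 rfl rfl
theorem s0_f35431 : ed sl_et sq17935 = s0_v3222 :=
  rfl
theorem s0_f35433 : ed sl_dt sq15752 = sq17935 :=
  real_edge rels S fwd inv o lvl plet idx 47 IH Gen.d sp15752 sp17935 rfl rfl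
theorem s0_f35434 : ed sl_et sq17101 = sq15752 :=
  real_edge rels S fwd inv o lvl plet idx 47 IH Gen.e sp17101 sp15752 rfl rfl
theorem s0_f35431r : ed sl_ef s0_v3222 = sq17935 :=
  edge_flip (s0_f35431 IH)
theorem s0_f35433r : ed sl_df sq17935 = sq15752 :=
  edge_flip (s0_f35433 IH)
theorem s0_f35434r : ed sl_ef sq15752 = sq17101 :=
  edge_flip (s0_f35434 IH)
theorem s0_f11889r : ed sl_df sq17101 = sq19192 :=
  edge_flip (s0_f11889 IH)
theorem s0_f11890r : ed sl_ef sq19192 = sq21057 :=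
  edge_flip (s0_f11890 IH)
theorem s0_f35435 : ed sl_df sq21057 = s0_v3222 :=
  gap_rel s0_rot57 (path_edge (s0_f11890r IH) (path_edge (s0_f11889r IH) (path_edge (s0_f35434r IH) (path_edge (s0_f35433r IH) (path_edge (s0_f35431r IH) (path_nil s0_v3222))))))
theorem s0_f35441 : ed sl_jt sq21057 = sq21057 :=
  real_edge rels S fwd inv o lvl plet idx 47 IH Gen.j sp21057 sp21057 rfl rfl
theorem s0_f35458 : ed sl_bt sq21057 = s0_v3223 :=
  rfl
theorem s0_f35458r : ed sl_bf s0_v3223 = sq21057 :=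
  edge_flip (s0_f35458 IH)
theorem s0_f35459 : ed sl_bf sq21057 = s0_v3223 :=
  gap_rel s0_rot20 (path_edge (s0_f35458r IH) (path_nil s0_v3223))
theorem s0_f35441r : ed sl_jf sq21057 = sq21057 :=
  edge_flip (s0_f35441 IH)
theorem s0_f35461 : ed sl_jf s0_v3223 = s0_v3223 :=
  gap_rel s0_rot21 (path_edge (s0_f35459 IH) (path_edge (s0_f35441r IH) (path_edge (s0_f35458r IH) (path_nil s0_v3223))))
theorem s0_f35462 : ed sl_ct s0_v3223 = s0_v3224 :=
  rfl
theorem s0_f35462r : ed sl_cf s0_v3224 = s0_v3223 :=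
  edge_flip (s0_f35462 IH)
theorem s0_f35463 : ed sl_cf s0_v3223 = s0_v3224 :=
  gap_rel s0_rot0 (path_edge (s0_f35462r IH) (path_nil s0_v3224))
theorem s0_f35465 : ed sl_jf s0_v3224 = s0_v3224 :=
  gap_rel s0_rot2 (path_edge (s0_f35463 IH) (path_edge (s0_f35461 IH) (path_edge (s0_f35462r IH) (path_nil s0_v3224))))
theorem s0_f35466 : ed sl_dt s0_v3224 = s0_v3225 :=
  rfl
theorem s0_f35466r : ed sl_df s0_v3225 = s0_v3224 :=
  edge_flip (s0_f35466 IH)
theorem s0_f35467 : ed sl_df s0_v3224 = s0_v3225 :=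
  gap_rel s0_rot4 (path_edge (s0_f35466r IH) (path_nil s0_v3225))
theorem s0_f35468 : ed sl_jf s0_v3225 = s0_v3225 :=
  gap_rel s0_rot6 (path_edge (s0_f35467 IH) (path_edge (s0_f35465 IH) (path_edge (s0_f35466r IH) (path_nil s0_v3225))))
theorem s0_f35469 : ed sl_it s0_v3225 = s0_v3226 :=
  rfl
theorem s0_f35469r : ed sl_if s0_v3226 = s0_v3225 :=
  edge_flip (s0_f35469 IH)
theorem s0_f35470 : ed sl_if s0_v3225 = s0_v3226 :=
  gap_rel s0_rot9 (path_edge (s0_f35469r IH) (path_nil s0_v3226))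
theorem s0_f35470r : ed sl_it s0_v3226 = s0_v3225 :=
  edge_flip (s0_f35470 IH)
theorem s0_f35468r : ed sl_jt s0_v3225 = s0_v3225 :=
  edge_flip (s0_f35468 IH)
theorem s0_f35471 : ed sl_jt s0_v3226 = s0_v3226 :=
  gap_rel s0_rot12 (path_edge (s0_f35469 IH) (path_edge (s0_f35468r IH) (path_edge (s0_f35470r IH) (path_nil s0_v3226))))
theorem s0_f35472 : ed sl_ht s0_v3226 = s0_v3227 :=
  rfl
theorem s0_f35472r : ed sl_hf s0_v3227 = s0_v3226 :=
  edge_flip (s0_f35472 IH)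
theorem s0_f35473 : ed sl_hf s0_v3226 = s0_v3227 :=
  gap_rel s0_rot13 (path_edge (s0_f35472r IH) (path_nil s0_v3227))

end

end

end Cfsg.Agent.Helper28.S1689
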