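import Cfsg.Agent.Lib.Helper28.S1689.Seeds6

set_option autoImplicit false
set_option maxRecDepth 100000
set_option linter.all false

namespace Cfsg.Agent.Helper28.S1689

open Cfsg.Agent.Helper28
open Cfsg.Spor.Fi23 (Gen)

noncomputable section

section
variable (IH : ∀ y q, lvl y q < 47 → EntryOK rels S fwd inv o plet idx y q)
include IH

theorem s0_f35471r : ed sl_jf s0_v3226 = s0_v3226 :=
  edge_flip (s0_f35471 IH)
theorem s0_f35474 : ed sl_jf s0_v3227 = s0_v3227 :=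
  gap_rel s0_rot15 (path_edge (s0_f35473 IH) (path_edge (s0_f35471r IH) (path_edge (s0_f35472r IH) (path_nil s0_v3227))))
theorem s0_f35475 : ed sl_dt s0_v3227 = s0_v3228 :=
  rfl
theorem s0_f35475r : ed sl_df s0_v3228 = s0_v3227 :=
  edge_flip (s0_f35475 IH)
theorem s0_f35476 : ed sl_df s0_v3227 = s0_v3228 :=
  gap_rel s0_rot4 (path_edge (s0_f35475r IH) (path_nil s0_v3228))
theorem s0_f35477 : ed sl_jf s0_v3228 = s0_v3228 :=
  gap_rel s0_rot6 (path_edge (s0_f35476 IH) (path_edge (s0_f35474 IH) (path_edge (s0_f35475r IH) (path_nil s0_v3228))))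
theorem s0_f35478 : ed sl_ft s0_v3228 = s0_v3229 :=
  rfl
theorem s0_f35478r : ed sl_ff s0_v3229 = s0_v3228 :=
  edge_flip (s0_f35478 IH)
theorem s0_f35479 : ed sl_ff s0_v3228 = s0_v3229 :=
  gap_rel s0_rot22 (path_edge (s0_f35478r IH) (path_nil s0_v3229))
theorem s0_f35480 : ed sl_jf s0_v3229 = s0_v3229 :=
  gap_rel s0_rot23 (path_edge (s0_f35479 IH) (path_edge (s0_f35477 IH) (path_edge (s0_f35478r IH) (path_nil s0_v3229))))
theorem s0_f35481 : ed sl_et s0_v3229 = s0_v3230 :=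
  rfl
theorem s0_f35481r : ed sl_ef s0_v3230 = s0_v3229 :=
  edge_flip (s0_f35481 IH)
theorem s0_f35482 : ed sl_ef s0_v3229 = s0_v3230 :=
  gap_rel s0_rot17 (path_edge (s0_f35481r IH) (path_nil s0_v3230))
theorem s0_f35483 : ed sl_jf s0_v3230 = s0_v3230 :=
  gap_rel s0_rot18 (path_edge (s0_f35482 IH) (path_edge (s0_f35480 IH) (path_edge (s0_f35481r IH) (path_nil s0_v3230))))
theorem s0_f35484 : ed sl_dt s0_v3230 = s0_v3231 :=
  rfl
theorem s0_f35484r : ed sl_df s0_v3231 = s0_v3230 :=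
  edge_flip (s0_f35484 IH)
theorem s0_f35485 : ed sl_df s0_v3230 = s0_v3231 :=
  gap_rel s0_rot4 (path_edge (s0_f35484r IH) (path_nil s0_v3231))
theorem s0_f35486 : ed sl_jf s0_v3231 = s0_v3231 :=
  gap_rel s0_rot6 (path_edge (s0_f35485 IH) (path_edge (s0_f35483 IH) (path_edge (s0_f35484r IH) (path_nil s0_v3231))))
theorem s0_f35487 : ed sl_bt s0_v3231 = s0_v3232 :=
  rfl
theorem s0_f35487r : ed sl_bf s0_v3232 = s0_v3231 :=
  edge_flip (s0_f35487 IH)
theorem s0_f35488 : ed sl_bf s0_v3231 = s0_v3232 :=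
  gap_rel s0_rot20 (path_edge (s0_f35487r IH) (path_nil s0_v3232))
theorem s0_f35489 : ed sl_jf s0_v3232 = s0_v3232 :=
  gap_rel s0_rot21 (path_edge (s0_f35488 IH) (path_edge (s0_f35486 IH) (path_edge (s0_f35487r IH) (path_nil s0_v3232))))
theorem s0_f35490 : ed sl_ct s0_v3232 = s0_v3233 :=
  rfl
theorem s0_f35490r : ed sl_cf s0_v3233 = s0_v3232 :=
  edge_flip (s0_f35490 IH)
theorem s0_f35491 : ed sl_cf s0_v3232 = s0_v3233 :=
  gap_rel s0_rot0 (path_edge (s0_f35490r IH) (path_nil s0_v3233))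
theorem s0_f35492 : ed sl_jf s0_v3233 = s0_v3233 :=
  gap_rel s0_rot2 (path_edge (s0_f35491 IH) (path_edge (s0_f35489 IH) (path_edge (s0_f35490r IH) (path_nil s0_v3233))))
theorem s0_f35493 : ed sl_dt s0_v3233 = s0_v3234 :=
  rfl
theorem s0_f35493r : ed sl_df s0_v3234 = s0_v3233 :=
  edge_flip (s0_f35493 IH)
theorem s0_f35494 : ed sl_df s0_v3233 = s0_v3234 :=
  gap_rel s0_rot4 (path_edge (s0_f35493r IH) (path_nil s0_v3234))
theorem s0_f35495 : ed sl_jf s0_v3234 = s0_v3234 :=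
  gap_rel s0_rot6 (path_edge (s0_f35494 IH) (path_edge (s0_f35492 IH) (path_edge (s0_f35493r IH) (path_nil s0_v3234))))
theorem s0_f35496 : ed sl_it s0_v3234 = s0_v3235 :=
  rfl
theorem s0_f35496r : ed sl_if s0_v3235 = s0_v3234 :=
  edge_flip (s0_f35496 IH)
theorem s0_f35497 : ed sl_if s0_v3234 = s0_v3235 :=
  gap_rel s0_rot9 (path_edge (s0_f35496r IH) (path_nil s0_v3235))
theorem s0_f35497r : ed sl_it s0_v3235 = s0_v3234 :=
  edge_flip (s0_f35497 IH)
theorem s0_f35495r : ed sl_jt s0_v3234 = s0_v3234 :=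
  edge_flip (s0_f35495 IH)
theorem s0_f35498 : ed sl_jt s0_v3235 = s0_v3235 :=
  gap_rel s0_rot12 (path_edge (s0_f35496 IH) (path_edge (s0_f35495r IH) (path_edge (s0_f35497r IH) (path_nil s0_v3235))))
theorem s0_f35499 : ed sl_ht s0_v3235 = s0_v3236 :=
  rfl
theorem s0_f35499r : ed sl_hf s0_v3236 = s0_v3235 :=
  edge_flip (s0_f35499 IH)
theorem s0_f35500 : ed sl_hf s0_v3235 = s0_v3236 :=
  gap_rel s0_rot13 (path_edge (s0_f35499r IH) (path_nil s0_v3236))
theorem s0_f35498r : ed sl_jf s0_v3235 = s0_v3235 :=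
  edge_flip (s0_f35498 IH)
theorem s0_f35501 : ed sl_jf s0_v3236 = s0_v3236 :=
  gap_rel s0_rot15 (path_edge (s0_f35500 IH) (path_edge (s0_f35498r IH) (path_edge (s0_f35499r IH) (path_nil s0_v3236))))
theorem s0_f35502 : ed sl_dt s0_v3236 = s0_v3237 :=
  rfl
theorem s0_f35502r : ed sl_df s0_v3237 = s0_v3236 :=
  edge_flip (s0_f35502 IH)
theorem s0_f35503 : ed sl_df s0_v3236 = s0_v3237 :=
  gap_rel s0_rot4 (path_edge (s0_f35502r IH) (path_nil s0_v3237))
theorem s0_f35504 : ed sl_jf s0_v3237 = s0_v3237 :=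
  gap_rel s0_rot6 (path_edge (s0_f35503 IH) (path_edge (s0_f35501 IH) (path_edge (s0_f35502r IH) (path_nil s0_v3237))))
theorem s0_f35505 : ed sl_ft s0_v3237 = s0_v3238 :=
  rfl
theorem s0_f35505r : ed sl_ff s0_v3238 = s0_v3237 :=
  edge_flip (s0_f35505 IH)
theorem s0_f35506 : ed sl_ff s0_v3237 = s0_v3238 :=
  gap_rel s0_rot22 (path_edge (s0_f35505r IH) (path_nil s0_v3238))
theorem s0_f35507 : ed sl_jf s0_v3238 = s0_v3238 :=
  gap_rel s0_rot23 (path_edge (s0_f35506 IH) (path_edge (s0_f35504 IH) (path_edge (s0_f35505r IH) (path_nil s0_v3238))))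
theorem s0_f35508 : ed sl_et s0_v3238 = s0_v3239 :=
  rfl
theorem s0_f35508r : ed sl_ef s0_v3239 = s0_v3238 :=
  edge_flip (s0_f35508 IH)
theorem s0_f35509 : ed sl_ef s0_v3238 = s0_v3239 :=
  gap_rel s0_rot17 (path_edge (s0_f35508r IH) (path_nil s0_v3239))
theorem s0_f35510 : ed sl_jf s0_v3239 = s0_v3239 :=
  gap_rel s0_rot18 (path_edge (s0_f35509 IH) (path_edge (s0_f35507 IH) (path_edge (s0_f35508r IH) (path_nil s0_v3239))))
theorem s0_f35511 : ed sl_dt s0_v3239 = s0_v3240 :=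
  rfl
theorem s0_f35511r : ed sl_df s0_v3240 = s0_v3239 :=
  edge_flip (s0_f35511 IH)
theorem s0_f35512 : ed sl_df s0_v3239 = s0_v3240 :=
  gap_rel s0_rot4 (path_edge (s0_f35511r IH) (path_nil s0_v3240))
theorem s0_f35513 : ed sl_jf s0_v3240 = s0_v3240 :=
  gap_rel s0_rot6 (path_edge (s0_f35512 IH) (path_edge (s0_f35510 IH) (path_edge (s0_f35511r IH) (path_nil s0_v3240))))
theorem s0_f35514 : ed sl_bt s0_v3240 = s0_v3241 :=
  rfl
theorem s0_f35514r : ed sl_bf s0_v3241 = s0_v3240 :=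
  edge_flip (s0_f35514 IH)
theorem s0_f35515 : ed sl_bf s0_v3240 = s0_v3241 :=
  gap_rel s0_rot20 (path_edge (s0_f35514r IH) (path_nil s0_v3241))
theorem s0_f35516 : ed sl_jf s0_v3241 = s0_v3241 :=
  gap_rel s0_rot21 (path_edge (s0_f35515 IH) (path_edge (s0_f35513 IH) (path_edge (s0_f35514r IH) (path_nil s0_v3241))))
theorem s0_f35517 : ed sl_ct s0_v3241 = s0_v3242 :=
  rfl
theorem s0_f35517r : ed sl_cf s0_v3242 = s0_v3241 :=
  edge_flip (s0_f35517 IH)
theorem s0_f35518 : ed sl_cf s0_v3241 = s0_v3242 :=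
  gap_rel s0_rot0 (path_edge (s0_f35517r IH) (path_nil s0_v3242))
theorem s0_f35519 : ed sl_jf s0_v3242 = s0_v3242 :=
  gap_rel s0_rot2 (path_edge (s0_f35518 IH) (path_edge (s0_f35516 IH) (path_edge (s0_f35517r IH) (path_nil s0_v3242))))
theorem s0_f35520 : ed sl_dt s0_v3242 = s0_v3243 :=
  rfl
theorem s0_f35520r : ed sl_df s0_v3243 = s0_v3242 :=
  edge_flip (s0_f35520 IH)
theorem s0_f35521 : ed sl_df s0_v3242 = s0_v3243 :=
  gap_rel s0_rot4 (path_edge (s0_f35520r IH) (path_nil s0_v3243))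
theorem s0_f35522 : ed sl_jf s0_v3243 = s0_v3243 :=
  gap_rel s0_rot6 (path_edge (s0_f35521 IH) (path_edge (s0_f35519 IH) (path_edge (s0_f35520r IH) (path_nil s0_v3243))))
theorem s0_f35523 : ed sl_it s0_v3243 = s0_v3244 :=
  rfl
theorem s0_f35523r : ed sl_if s0_v3244 = s0_v3243 :=
  edge_flip (s0_f35523 IH)
theorem s0_f35524 : ed sl_if s0_v3243 = s0_v3244 :=
  gap_rel s0_rot9 (path_edge (s0_f35523r IH) (path_nil s0_v3244))
theorem s0_f35524r : ed sl_it s0_v3244 = s0_v3243 :=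
  edge_flip (s0_f35524 IH)
theorem s0_f35522r : ed sl_jt s0_v3243 = s0_v3243 :=
  edge_flip (s0_f35522 IH)
theorem s0_f35525 : ed sl_jt s0_v3244 = s0_v3244 :=
  gap_rel s0_rot12 (path_edge (s0_f35523 IH) (path_edge (s0_f35522r IH) (path_edge (s0_f35524r IH) (path_nil s0_v3244))))
theorem s0_f35526 : ed sl_ht s0_v3244 = s0_v3245 :=
  rfl
theorem s0_f35526r : ed sl_hf s0_v3245 = s0_v3244 :=
  edge_flip (s0_f35526 IH)
theorem s0_f35527 : ed sl_hf s0_v3244 = s0_v3245 :=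
  gap_rel s0_rot13 (path_edge (s0_f35526r IH) (path_nil s0_v3245))
theorem s0_f35525r : ed sl_jf s0_v3244 = s0_v3244 :=
  edge_flip (s0_f35525 IH)
theorem s0_f35528 : ed sl_jf s0_v3245 = s0_v3245 :=
  gap_rel s0_rot15 (path_edge (s0_f35527 IH) (path_edge (s0_f35525r IH) (path_edge (s0_f35526r IH) (path_nil s0_v3245))))
theorem s0_f35529 : ed sl_dt s0_v3245 = s0_v3246 :=
  rfl
theorem s0_f35529r : ed sl_df s0_v3246 = s0_v3245 :=
  edge_flip (s0_f35529 IH)
theorem s0_f35530 : ed sl_df s0_v3245 = s0_v3246 :=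
  gap_rel s0_rot4 (path_edge (s0_f35529r IH) (path_nil s0_v3246))
theorem s0_f35531 : ed sl_jf s0_v3246 = s0_v3246 :=
  gap_rel s0_rot6 (path_edge (s0_f35530 IH) (path_edge (s0_f35528 IH) (path_edge (s0_f35529r IH) (path_nil s0_v3246))))
theorem s0_f35532 : ed sl_ft s0_v3246 = s0_v3247 :=
  rfl
theorem s0_f35532r : ed sl_ff s0_v3247 = s0_v3246 :=
  edge_flip (s0_f35532 IH)
theorem s0_f35533 : ed sl_ff s0_v3246 = s0_v3247 :=
  gap_rel s0_rot22 (path_edge (s0_f35532r IH) (path_nil s0_v3247))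
theorem s0_f35534 : ed sl_jf s0_v3247 = s0_v3247 :=
  gap_rel s0_rot23 (path_edge (s0_f35533 IH) (path_edge (s0_f35531 IH) (path_edge (s0_f35532r IH) (path_nil s0_v3247))))
theorem s0_f35535 : ed sl_et s0_v3247 = s0_v3248 :=
  rfl
theorem s0_f35535r : ed sl_ef s0_v3248 = s0_v3247 :=
  edge_flip (s0_f35535 IH)
theorem s0_f35536 : ed sl_ef s0_v3247 = s0_v3248 :=
  gap_rel s0_rot17 (path_edge (s0_f35535r IH) (path_nil s0_v3248))
theorem s0_f35537 : ed sl_jf s0_v3248 = s0_v3248 :=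
  gap_rel s0_rot18 (path_edge (s0_f35536 IH) (path_edge (s0_f35534 IH) (path_edge (s0_f35535r IH) (path_nil s0_v3248))))
theorem s0_f35538 : ed sl_dt s0_v3248 = s0_v3249 :=
  rfl
theorem s0_f35538r : ed sl_df s0_v3249 = s0_v3248 :=
  edge_flip (s0_f35538 IH)
theorem s0_f35539 : ed sl_df s0_v3248 = s0_v3249 :=
  gap_rel s0_rot4 (path_edge (s0_f35538r IH) (path_nil s0_v3249))
theorem s0_f35540 : ed sl_jf s0_v3249 = s0_v3249 :=
  gap_rel s0_rot6 (path_edge (s0_f35539 IH) (path_edge (s0_f35537 IH) (path_edge (s0_f35538r IH) (path_nil s0_v3249))))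
theorem s0_f35541 : ed sl_bt s0_v3249 = s0_v3250 :=
  rfl
theorem s0_f35541r : ed sl_bf s0_v3250 = s0_v3249 :=
  edge_flip (s0_f35541 IH)
theorem s0_f35542 : ed sl_bf s0_v3249 = s0_v3250 :=
  gap_rel s0_rot20 (path_edge (s0_f35541r IH) (path_nil s0_v3250))
theorem s0_f35543 : ed sl_jf s0_v3250 = s0_v3250 :=
  gap_rel s0_rot21 (path_edge (s0_f35542 IH) (path_edge (s0_f35540 IH) (path_edge (s0_f35541r IH) (path_nil s0_v3250))))
theorem s0_f35544 : ed sl_ct s0_v3250 = s0_v3251 :=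
  rfl
theorem s0_f35544r : ed sl_cf s0_v3251 = s0_v3250 :=
  edge_flip (s0_f35544 IH)
theorem s0_f35545 : ed sl_cf s0_v3250 = s0_v3251 :=
  gap_rel s0_rot0 (path_edge (s0_f35544r IH) (path_nil s0_v3251))
theorem s0_f35546 : ed sl_jf s0_v3251 = s0_v3251 :=
  gap_rel s0_rot2 (path_edge (s0_f35545 IH) (path_edge (s0_f35543 IH) (path_edge (s0_f35544r IH) (path_nil s0_v3251))))
theorem s0_f35547 : ed sl_dt s0_v3251 = s0_v3252 :=
  rfl
theorem s0_f35547r : ed sl_df s0_v3252 = s0_v3251 :=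
  edge_flip (s0_f35547 IH)
theorem s0_f35548 : ed sl_df s0_v3251 = s0_v3252 :=
  gap_rel s0_rot4 (path_edge (s0_f35547r IH) (path_nil s0_v3252))
theorem s0_f35549 : ed sl_jf s0_v3252 = s0_v3252 :=
  gap_rel s0_rot6 (path_edge (s0_f35548 IH) (path_edge (s0_f35546 IH) (path_edge (s0_f35547r IH) (path_nil s0_v3252))))
theorem s0_f35550 : ed sl_it s0_v3252 = s0_v3253 :=
  rfl
theorem s0_f35550r : ed sl_if s0_v3253 = s0_v3252 :=
  edge_flip (s0_f35550 IH)
theorem s0_f35551 : ed sl_if s0_v3252 = s0_v3253 :=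
  gap_rel s0_rot9 (path_edge (s0_f35550r IH) (path_nil s0_v3253))
theorem s0_f35551r : ed sl_it s0_v3253 = s0_v3252 :=
  edge_flip (s0_f35551 IH)
theorem s0_f35549r : ed sl_jt s0_v3252 = s0_v3252 :=
  edge_flip (s0_f35549 IH)
theorem s0_f35552 : ed sl_jt s0_v3253 = s0_v3253 :=
  gap_rel s0_rot12 (path_edge (s0_f35550 IH) (path_edge (s0_f35549r IH) (path_edge (s0_f35551r IH) (path_nil s0_v3253))))
theorem s0_f35553 : ed sl_ht s0_v3253 = s0_v3254 :=
  rfl
theorem s0_f35553r : ed sl_hf s0_v3254 = s0_v3253 :=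
  edge_flip (s0_f35553 IH)
theorem s0_f35554 : ed sl_hf s0_v3253 = s0_v3254 :=
  gap_rel s0_rot13 (path_edge (s0_f35553r IH) (path_nil s0_v3254))
theorem s0_f35552r : ed sl_jf s0_v3253 = s0_v3253 :=
  edge_flip (s0_f35552 IH)
theorem s0_f35555 : ed sl_jf s0_v3254 = s0_v3254 :=
  gap_rel s0_rot15 (path_edge (s0_f35554 IH) (path_edge (s0_f35552r IH) (path_edge (s0_f35553r IH) (path_nil s0_v3254))))
theorem s0_f35556 : ed sl_dt s0_v3254 = s0_v3255 :=
  rfl
theorem s0_f35556r : ed sl_df s0_v3255 = s0_v3254 :=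
  edge_flip (s0_f35556 IH)
theorem s0_f35557 : ed sl_df s0_v3254 = s0_v3255 :=
  gap_rel s0_rot4 (path_edge (s0_f35556r IH) (path_nil s0_v3255))
theorem s0_f35558 : ed sl_jf s0_v3255 = s0_v3255 :=
  gap_rel s0_rot6 (path_edge (s0_f35557 IH) (path_edge (s0_f35555 IH) (path_edge (s0_f35556r IH) (path_nil s0_v3255))))
theorem s0_f35559 : ed sl_ft s0_v3255 = s0_v3256 :=
  rfl
theorem s0_f35559r : ed sl_ff s0_v3256 = s0_v3255 :=
  edge_flip (s0_f35559 IH)
theorem s0_f35560 : ed sl_ff s0_v3255 = s0_v3256 :=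
  gap_rel s0_rot22 (path_edge (s0_f35559r IH) (path_nil s0_v3256))
theorem s0_f35561 : ed sl_jf s0_v3256 = s0_v3256 :=
  gap_rel s0_rot23 (path_edge (s0_f35560 IH) (path_edge (s0_f35558 IH) (path_edge (s0_f35559r IH) (path_nil s0_v3256))))
theorem s0_f35562 : ed sl_et s0_v3256 = s0_v3257 :=
  rfl
theorem s0_f35562r : ed sl_ef s0_v3257 = s0_v3256 :=
  edge_flip (s0_f35562 IH)
theorem s0_f35563 : ed sl_ef s0_v3256 = s0_v3257 :=
  gap_rel s0_rot17 (path_edge (s0_f35562r IH) (path_nil s0_v3257))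
theorem s0_f35564 : ed sl_jf s0_v3257 = s0_v3257 :=
  gap_rel s0_rot18 (path_edge (s0_f35563 IH) (path_edge (s0_f35561 IH) (path_edge (s0_f35562r IH) (path_nil s0_v3257))))
theorem s0_f35565 : ed sl_dt s0_v3257 = s0_v3258 :=
  rfl
theorem s0_f35565r : ed sl_df s0_v3258 = s0_v3257 :=
  edge_flip (s0_f35565 IH)
theorem s0_f35566 : ed sl_df s0_v3257 = s0_v3258 :=
  gap_rel s0_rot4 (path_edge (s0_f35565r IH) (path_nil s0_v3258))
theorem s0_f35567 : ed sl_jf s0_v3258 = s0_v3258 :=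
  gap_rel s0_rot6 (path_edge (s0_f35566 IH) (path_edge (s0_f35564 IH) (path_edge (s0_f35565r IH) (path_nil s0_v3258))))
theorem s0_f35568 : ed sl_bt s0_v3258 = s0_v3259 :=
  rfl
theorem s0_f35568r : ed sl_bf s0_v3259 = s0_v3258 :=
  edge_flip (s0_f35568 IH)
theorem s0_f35569 : ed sl_bf s0_v3258 = s0_v3259 :=
  gap_rel s0_rot20 (path_edge (s0_f35568r IH) (path_nil s0_v3259))
theorem s0_f35570 : ed sl_jf s0_v3259 = s0_v3259 :=
  gap_rel s0_rot21 (path_edge (s0_f35569 IH) (path_edge (s0_f35567 IH) (path_edge (s0_f35568r IH) (path_nil s0_v3259))))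
theorem s0_f35571 : ed sl_ct s0_v3259 = s0_v3260 :=
  rfl
theorem s0_f35571r : ed sl_cf s0_v3260 = s0_v3259 :=
  edge_flip (s0_f35571 IH)
theorem s0_f35572 : ed sl_cf s0_v3259 = s0_v3260 :=
  gap_rel s0_rot0 (path_edge (s0_f35571r IH) (path_nil s0_v3260))
theorem s0_f35573 : ed sl_jf s0_v3260 = s0_v3260 :=
  gap_rel s0_rot2 (path_edge (s0_f35572 IH) (path_edge (s0_f35570 IH) (path_edge (s0_f35571r IH) (path_nil s0_v3260))))
theorem s0_f35574 : ed sl_dt s0_v3260 = s0_v3261 :=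
  rfl
theorem s0_f35574r : ed sl_df s0_v3261 = s0_v3260 :=
  edge_flip (s0_f35574 IH)
theorem s0_f35575 : ed sl_df s0_v3260 = s0_v3261 :=
  gap_rel s0_rot4 (path_edge (s0_f35574r IH) (path_nil s0_v3261))
theorem s0_f35576 : ed sl_jf s0_v3261 = s0_v3261 :=
  gap_rel s0_rot6 (path_edge (s0_f35575 IH) (path_edge (s0_f35573 IH) (path_edge (s0_f35574r IH) (path_nil s0_v3261))))
theorem s0_f35422r : ed sl_ff sq17935 = sq15753 :=
  edge_flip (s0_f35422 IH)
theorem s0_f35421r : ed sl_df sq15753 = sq13476 :=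
  edge_flip (s0_f35421 IH)
theorem s0_f35420r : ed sl_hf sq13476 = sq11261 :=
  edge_flip (s0_f35420 IH)
theorem s0_f35419r : ed sl_if sq11261 = sq9258 :=
  edge_flip (s0_f35419 IH)
theorem s0_f24157r : ed sl_df sq9258 = sq7774 :=
  edge_flip (s0_f24157 IH)
theorem s0_f6326r : ed sl_cf sq7774 = sq6229 :=
  edge_flip (s0_f6326 IH)
theorem s0_f35418r : ed sl_bf sq6229 = sq6229 :=
  edge_flip (s0_f35418 IH)
theorem s0_f6325r : ed sl_df sq6229 = sq4911 :=
  edge_flip (s0_f6325 IH)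
theorem s0_f6324r : ed sl_ef sq4911 = sq3791 :=
  edge_flip (s0_f6324 IH)
theorem s0_f6323r : ed sl_ff sq3791 = sq2856 :=
  edge_flip (s0_f6323 IH)
theorem s0_f11167r : ed sl_df sq2856 = sq2102 :=
  edge_flip (s0_f11167 IH)
theorem s0_f23675r : ed sl_hf sq2102 = sq1529 :=
  edge_flip (s0_f23675 IH)
theorem s0_f35417r : ed sl_if sq1529 = sq1529 :=
  edge_flip (s0_f35417 IH)
theorem s0_f6133r : ed sl_df sq1529 = sq1211 :=
  edge_flip (s0_f6133 IH)
theorem s0_f6205r : ed sl_cf sq1211 = sq860 :=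
  edge_flip (s0_f6205 IH)
theorem s0_f4501r : ed sl_bf sq860 = sq603 :=
  edge_flip (s0_f4501 IH)
theorem s0_f4499r : ed sl_df sq603 = sq414 :=
  edge_flip (s0_f4499 IH)
theorem s0_f4498r : ed sl_ef sq414 = sq281 :=
  edge_flip (s0_f4498 IH)
theorem s0_f4497r : ed sl_ff sq281 = sq193 :=
  edge_flip (s0_f4497 IH)
theorem s0_f4976r : ed sl_df sq193 = sq137 :=
  edge_flip (s0_f4976 IH)
theorem s0_f27002r : ed sl_hf sq137 = sq137 :=
  edge_flip (s0_f27002 IH)
theorem s0_f27005r : ed sl_if sq137 = sq137 :=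
  edge_flip (s0_f27005 IH)
theorem s0_f19082r : ed sl_df sq137 = sq193 :=
  edge_flip (s0_f19082 IH)
theorem s0_f4112r : ed sl_cf sq193 = sq132 :=
  edge_flip (s0_f4112 IH)
theorem s0_f19237r : ed sl_bf sq132 = sq177 :=
  edge_flip (s0_f19237 IH)
theorem s0_f2387r : ed sl_df sq177 = sq121 :=
  edge_flip (s0_f2387 IH)
theorem s0_f2386r : ed sl_ef sq121 = sq83 :=
  edge_flip (s0_f2386 IH)
theorem s0_f2385r : ed sl_ff sq83 = sq83 :=
  edge_flip (s0_f2385 IH)
theorem s0_f4233r : ed sl_df sq83 = sq122 :=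
  edge_flip (s0_f4233 IH)
theorem s0_f15105r : ed sl_hf sq122 = sq122 :=
  edge_flip (s0_f15105 IH)
theorem s0_f24985r : ed sl_if sq122 = sq122 :=
  edge_flip (s0_f24985 IH)
theorem s0_f4232r : ed sl_cf sq83 = sq83 :=
  edge_flip (s0_f4232 IH)
theorem s0_f10044r : ed sl_bf sq83 = sq61 :=
  edge_flip (s0_f10044 IH)
theorem s0_f8697r : ed sl_df sq61 = sq90 :=
  edge_flip (s0_f8697 IH)
theorem s0_f8698r : ed sl_ef sq90 = sq133 :=
  edge_flip (s0_f8698 IH)
theorem s0_f8699r : ed sl_ff sq133 = sq195 :=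
  edge_flip (s0_f8699 IH)
theorem s0_f4240r : ed sl_df sq195 = sq285 :=
  edge_flip (s0_f4240 IH)
theorem s0_f15120r : ed sl_hf sq285 = sq409 :=
  edge_flip (s0_f15120 IH)
theorem s0_f35423r : ed sl_if sq409 = sq590 :=
  edge_flip (s0_f35423 IH)
theorem s0_f35424r : ed sl_df sq590 = sq590 :=
  edge_flip (s0_f35424 IH)
theorem s0_f35425r : ed sl_cf sq590 = sq843 :=
  edge_flip (s0_f35425 IH)
theorem s0_f35426r : ed sl_bf sq843 = sq1184 :=
  edge_flip (s0_f35426 IH)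
theorem s0_f18726r : ed sl_df sq1184 = sq1647 :=
  edge_flip (s0_f18726 IH)
theorem s0_f35427r : ed sl_ef sq1647 = sq2266 :=
  edge_flip (s0_f35427 IH)
theorem s0_f35428r : ed sl_ff sq2266 = sq2266 :=
  edge_flip (s0_f35428 IH)
theorem s0_f35429r : ed sl_df sq2266 = sq3033 :=
  edge_flip (s0_f35429 IH)
theorem s0_f35430r : ed sl_hf sq3033 = sq4010 :=
  edge_flip (s0_f35430 IH)
theorem s0_f35577 : ed sl_if sq4010 = s0_v3261 :=
  gap_rel s0_rot88 (path_edge (s0_f35430r IH) (path_edge (s0_f35429r IH) (path_edge (s0_f35428r IH) (path_edge (s0_f35427r IH) (path_edge (s0_f18726r IH) (path_edge (s0_f35426r IH) (path_edge (s0_f35425r IH) (path_edge (s0_f35424r IH) (path_edge (s0_f35423r IH) (path_edge (s0_f15120r IH) (path_edge (s0_f4240r IH) (path_edge (s0_f8699r IH) (path_edge (s0_f8698r IH) (path_edge (s0_f8697r IH) (path_edge (s0_f10044r IH) (path_edge (s0_f4232r IH) (path_edge (s0_f2560r IH) (path_edge (s0_f24985r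 IH) (path_edge (s0_f15105r IH) (path_edge (s0_f4233r IH) (path_edge (s0_f2385r IH) (path_edge (s0_f2386r IH) (path_edge (s0_f2387r IH) (path_edge (s0_f19237r IH) (path_edge (s0_f4112r IH) (path_edge (s0_f19082r IH) (path_edge (s0_f27005r IH) (path_edge (s0_f27002r IH) (path_edge (s0_f4976r IH) (path_edge (s0_f4497r IH) (path_edge (s0_f4498r IH) (path_edge (s0_f4499r IH) (path_edge (s0_f4501r IH) (path_edge (s0_f6205r IH) (path_edge (s0_f6133r IH) (path_edge (s0_f35417r IH) (path_edge (s0_f23675r IH) (path_edge (s0_f11167r IH) (path_edge (s0_f6323r IH) (path_edge (s0_f6324r IH) (path_edge (s0_f6325r IH) (path_edge (s0_f35418r IH) (path_edge (s0_f6326r IH) (path_edge (s0_f24157r IH) (path_edge (s0_f35419r IH) (path_edge (s0_f35420r IH) (path_edge (s0_f35421r IH) (path_edge (s0_f35422r IH) (path_edge (s0_f35431r IH) (path_edge (s0_f35435 IH) (path_edge (s0_f35458r IH) (path_edge (s0_f35462r IH) (path_edge (s0_f35466r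 IH) (path_edge (s0_f35469r IH) (path_edge (s0_f35472r IH) (path_edge (s0_f35475r IH) (path_edge (s0_f35478r IH) (path_edge (s0_f35481r IH) (path_edge (s0_f35484r IH) (path_edge (s0_f35487r IH) (path_edge (s0_f35490r IH) (path_edge (s0_f35493r IH) (path_edge (s0_f35496r IH) (path_edge (s0_f35499r IH) (path_edge (s0_f35502r IH) (path_edge (s0_f35505r IH) (path_edge (s0_f35508r IH) (path_edge (s0_f35511r IH) (path_edge (s0_f35514r IH) (path_edge (s0_f35517r IH) (path_edge (s0_f35520r IH) (path_edge (s0_f35523r IH) (path_edge (s0_f35526r IH) (path_edge (s0_f35529r IH) (path_edge (s0_f35532r IH) (path_edge (s0_f35535r IH) (path_edge (s0_f35538r IH) (path_edge (s0_f35541r IH) (path_edge (s0_f35544r IH) (path_edge (s0_f35547r IH) (path_edge (s0_f35550r IH) (path_edge (s0_f35553r IH) (path_edge (s0_f35556r IH) (path_edge (s0_f35559r IH) (path_edge (s0_f35562r IH) (path_edge (s0_f35565r IH) (path_edge (s0_f35568r IH) (path_edge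 (s0_f35571r IH) (path_edge (s0_f35574r IH) (path_nil s0_v3261))))))))))))))))))))))))))))))))))))))))))))))))))))))))))))))))))))))))))))))))))))))))))
theorem s0_f35577r : ed sl_it s0_v3261 = sq4010 :=
  edge_flip (s0_f35577 IH)
theorem s0_f35580 : ed sl_it sq5141 = s0_v3260 :=
  gap_rel s0_rot70 (path_edge (s0_f35196 IH) (path_edge (s0_f35577r IH) (path_edge (s0_f35574 IH) (path_nil s0_v3260))))
theorem s0_f35585 : ed sl_jt sq4010 = sq4010 :=
  real_edge rels S fwd inv o lvl plet idx 47 IH Gen.j sp4010 sp4010 rfl rfl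
theorem s0_f35576r : ed sl_jt s0_v3261 = s0_v3261 :=
  edge_flip (s0_f35576 IH)
theorem s0_f35586 : ed sl_it sq4010 = s0_v3261 :=
  gap_rel s0_rot89 (path_edge (s0_f35585 IH) (path_edge (s0_f35577r IH) (path_edge (s0_f35576r IH) (path_nil s0_v3261))))
theorem s0_f35586r : ed sl_if s0_v3261 = sq4010 :=
  edge_flip (s0_f35586 IH)
theorem s0_f35199r : ed sl_df sq4010 = sq5141 :=
  edge_flip (s0_f35199 IH)
theorem s0_f35589 : ed sl_if sq5141 = s0_v3260 :=
  gap_rel s0_rot33 (path_edge (s0_f35199r IH) (path_edge (s0_f35586r IH) (path_edge (s0_f35575 IH) (path_nil s0_v3260))))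
theorem s0_f35589r : ed sl_it s0_v3260 = sq5141 :=
  edge_flip (s0_f35589 IH)
theorem s0_f35607 : ed sl_it sq6421 = s0_v3259 :=
  gap_rel s0_rot66 (path_edge (s0_f7652 IH) (path_edge (s0_f35589r IH) (path_edge (s0_f35571 IH) (path_nil s0_v3259))))
theorem s0_f35608 : ed sl_ht sq5141 = sq4051 :=
  real_edge rels S fwd inv o lvl plet idx 47 IH Gen.h sp5141 sp4051 rfl rfl
theorem s0_f35609 : ed sl_it sq4051 = sq4051 :=
  real_edge rels S fwd inv o lvl plet idx 47 IH Gen.i sp4051 sp4051 rfl rfl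
theorem s0_f35610 : ed sl_ht sq4051 = sq5141 :=
  real_edge rels S fwd inv o lvl plet idx 47 IH Gen.h sp4051 sp5141 rfl rfl
theorem s0_f35611 : ed sl_ht s0_v3260 = s0_v3260 :=
  gap_rel s0_rot45 (path_edge (s0_f35580 IH) (path_edge (s0_f35610 IH) (path_edge (s0_f35609 IH) (path_edge (s0_f35608 IH) (path_edge (s0_f35589r IH) (path_nil s0_v3260))))))
theorem s0_f35626 : ed sl_dt sq1469 = sq1062 :=
  real_edge rels S fwd inv o lvl plet idx 47 IH Gen.d sp1469 sp1062 rfl rfl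
theorem s0_f35611r : ed sl_hf s0_v3260 = s0_v3260 :=
  edge_flip (s0_f35611 IH)
theorem s0_f35629 : ed sl_hf s0_v3259 = s0_v3259 :=
  gap_rel s0_rot39 (path_edge (s0_f35571r IH) (path_edge (s0_f35611r IH) (path_edge (s0_f35572 IH) (path_nil s0_v3259))))
theorem s0_f35631 : ed sl_ht sq5183 = sq6421 :=
  real_edge rels S fwd inv o lvl plet idx 47 IH Gen.h sp5183 sp6421 rfl rfl
theorem s0_f35632 : ed sl_it sq5183 = sq5183 :=
  real_edge rels S fwd inv o lvl plet idx 47 IH Gen.i sp5183 sp5183 rfl rfl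
theorem s0_f35633 : ed sl_ht sq6421 = sq5183 :=
  real_edge rels S fwd inv o lvl plet idx 47 IH Gen.h sp6421 sp5183 rfl rfl
theorem s0_f35629r : ed sl_ht s0_v3259 = s0_v3259 :=
  edge_flip (s0_f35629 IH)
theorem s0_f35634 : ed sl_it s0_v3259 = sq6421 :=
  gap_rel s0_rot122 (path_edge (s0_f35629r IH) (path_edge (s0_f35607 IH) (path_edge (s0_f35631 IH) (path_edge (s0_f35632 IH) (path_edge (s0_f35633 IH) (path_nil sq6421))))))
theorem s0_f35687 : ed sl_at sq186 = sq144 :=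
  real_edge rels S fwd inv o lvl plet idx 47 IH Gen.a sp186 sp144 rfl rfl
theorem s0_f35693 : ed sl_dt s0_v882 = s0_v3262 :=
  rfl
theorem s0_f35693r : ed sl_df s0_v3262 = s0_v882 :=
  edge_flip (s0_f35693 IH)
theorem s0_f35694 : ed sl_df s0_v882 = s0_v3262 :=
  gap_rel s0_rot4 (path_edge (s0_f35693r IH) (path_nil s0_v3262))
theorem s0_f35695 : ed sl_ef s0_v1272 = s0_v3262 :=
  gap_rel s0_rot95 (path_edge (s0_f17093 IH) (path_edge (s0_f17088 IH) (path_edge (s0_f12677 IH) (path_edge (s0_f12674 IH) (path_edge (s0_f35693r IH) (path_nil s0_v3262))))))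
theorem s0_f35696 : ed sl_ff s0_v880 = s0_v3262 :=
  gap_rel s0_rot5 (path_edge (s0_f12665r IH) (path_edge (s0_f12670r IH) (path_edge (s0_f35693r IH) (path_nil s0_v3262))))
theorem s0_f35697 : ed sl_jf s0_v3262 = s0_v3262 :=
  gap_rel s0_rot6 (path_edge (s0_f35694 IH) (path_edge (s0_f12672 IH) (path_edge (s0_f35693r IH) (path_nil s0_v3262))))
theorem s0_f35697r : ed sl_jt s0_v3262 = s0_v3262 :=
  edge_flip (s0_f35697 IH)
theorem s0_f35696r : ed sl_ft s0_v3262 = s0_v880 :=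
  edge_flip (s0_f35696 IH)
theorem s0_f12663r : ed sl_jt s0_v880 = s0_v880 :=
  edge_flip (s0_f12663 IH)
theorem s0_f35699 : ed sl_ft s0_v880 = s0_v3262 :=
  gap_rel s0_rot128 (path_edge (s0_f12663r IH) (path_edge (s0_f35696r IH) (path_edge (s0_f35697r IH) (path_nil s0_v3262))))
theorem s0_f35700 : ed sl_it s0_v3262 = s0_v3263 :=
  rfl
theorem s0_f35700r : ed sl_if s0_v3263 = s0_v3262 :=
  edge_flip (s0_f35700 IH)
theorem s0_f35702 : ed sl_if s0_v3262 = s0_v3263 :=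
  gap_rel s0_rot9 (path_edge (s0_f35700r IH) (path_nil s0_v3263))
theorem s0_f35702r : ed sl_it s0_v3263 = s0_v3262 :=
  edge_flip (s0_f35702 IH)
theorem s0_f35695r : ed sl_et s0_v3262 = s0_v1272 :=
  edge_flip (s0_f35695 IH)
theorem s0_f35703 : ed sl_et s0_v1273 = s0_v3263 :=
  gap_rel s0_rot10 (path_edge (s0_f17095 IH) (path_edge (s0_f35695r IH) (path_edge (s0_f35702r IH) (path_nil s0_v3263))))
theorem s0_f35705 : ed sl_ht s0_v3263 = s0_v3264 :=
  rfl
theorem s0_f35705r : ed sl_hf s0_v3264 = s0_v3263 :=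
  edge_flip (s0_f35705 IH)
theorem s0_f35703r : ed sl_ef s0_v3263 = s0_v1273 :=
  edge_flip (s0_f35703 IH)
theorem s0_f35706 : ed sl_ef s0_v1274 = s0_v3264 :=
  gap_rel s0_rot94 (path_edge (s0_f17099 IH) (path_edge (s0_f35703r IH) (path_edge (s0_f35705r IH) (path_nil s0_v3264))))
theorem s0_f35707 : ed sl_hf s0_v3263 = s0_v3264 :=
  gap_rel s0_rot13 (path_edge (s0_f35705r IH) (path_nil s0_v3264))
theorem s0_f35841 : ed sl_dt sq4479 = sq5644 :=
  real_edge rels S fwd inv o lvl plet idx 47 IH Gen.d sp4479 sp5644 rfl rfl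
theorem s0_f35853 : ed sl_ht sq5560 = sq4415 :=
  real_edge rels S fwd inv o lvl plet idx 47 IH Gen.h sp5560 sp4415 rfl rfl
theorem s0_f35929 : ed sl_bt sq5634 = s0_v3300 :=
  rfl
theorem s0_f35929r : ed sl_bf s0_v3300 = sq5634 :=
  edge_flip (s0_f35929 IH)
theorem s0_f35931 : ed sl_bf sq5634 = s0_v3300 :=
  gap_rel s0_rot20 (path_edge (s0_f35929r IH) (path_nil s0_v3300))
theorem s0_f35933 : ed sl_bt sq5644 = sq4485 :=
  real_edge rels S fwd inv o lvl plet idx 47 IH Gen.b sp5644 sp4485 rfl rfl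
theorem s0_f11292r : ed sl_ef sq5634 = sq4485 :=
  edge_flip (s0_f11292 IH)
theorem s0_f35933r : ed sl_bf sq4485 = sq5644 :=
  edge_flip (s0_f35933 IH)
theorem s0_f35934 : ed sl_ef sq5644 = s0_v3300 :=
  gap_rel s0_rot100 (path_edge (s0_f35933r IH) (path_edge (s0_f11292r IH) (path_edge (s0_f35929r IH) (path_nil s0_v3300))))
theorem s0_f35936 : ed sl_ft sq5634 = sq5634 :=
  real_edge rels S fwd inv o lvl plet idx 47 IH Gen.f sp5634 sp5634 rfl rfl
theorem s0_f35936r : ed sl_ff sq5634 = sq5634 :=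
  edge_flip (s0_f35936 IH)
theorem s0_f35937 : ed sl_ff s0_v3300 = s0_v3300 :=
  gap_rel s0_rot54 (path_edge (s0_f35931 IH) (path_edge (s0_f35936r IH) (path_edge (s0_f35929r IH) (path_nil s0_v3300))))
theorem s0_f35939 : ed sl_jt sq5634 = sq5634 :=
  real_edge rels S fwd inv o lvl plet idx 47 IH Gen.j sp5634 sp5634 rfl rfl
theorem s0_f35939r : ed sl_jf sq5634 = sq5634 :=
  edge_flip (s0_f35939 IH)
theorem s0_f35940 : ed sl_jf s0_v3300 = s0_v3300 :=
  gap_rel s0_rot21 (path_edge (s0_f35931 IH) (path_edge (s0_f35939r IH) (path_edge (s0_f35929r IH) (path_nil s0_v3300))))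
theorem s0_f35941 : ed sl_jt sq5644 = sq5644 :=
  real_edge rels S fwd inv o lvl plet idx 47 IH Gen.j sp5644 sp5644 rfl rfl
theorem s0_f35940r : ed sl_jt s0_v3300 = s0_v3300 :=
  edge_flip (s0_f35940 IH)
theorem s0_f35934r : ed sl_et s0_v3300 = sq5644 :=
  edge_flip (s0_f35934 IH)
theorem s0_f35942 : ed sl_et sq5644 = s0_v3300 :=
  gap_rel s0_rot101 (path_edge (s0_f35941 IH) (path_edge (s0_f35934r IH) (path_edge (s0_f35940r IH) (path_nil s0_v3300))))
theorem s0_f35945 : ed sl_ct sq7048 = sq5644 :=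
  real_edge rels S fwd inv o lvl plet idx 47 IH Gen.c sp7048 sp5644 rfl rfl
theorem s0_f35965 : ed sl_ct sq5644 = sq7048 :=
  real_edge rels S fwd inv o lvl plet idx 47 IH Gen.c sp5644 sp7048 rfl rfl
theorem s0_f35974 : ed sl_ct s0_v3300 = s0_v3301 :=
  rfl
theorem s0_f35974r : ed sl_cf s0_v3301 = s0_v3300 :=
  edge_flip (s0_f35974 IH)
theorem s0_f35942r : ed sl_ef s0_v3300 = sq5644 :=
  edge_flip (s0_f35942 IH)
theorem s0_f35945r : ed sl_cf sq5644 = sq7048 :=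
  edge_flip (s0_f35945 IH)
theorem s0_f35976 : ed sl_ef sq7048 = s0_v3301 :=
  gap_rel s0_rot8 (path_edge (s0_f35945r IH) (path_edge (s0_f35942r IH) (path_edge (s0_f35974r IH) (path_nil s0_v3301))))
theorem s0_f35985 : ed sl_dt s0_v3301 = s0_v3302 :=
  rfl
theorem s0_f35985r : ed sl_df s0_v3302 = s0_v3301 :=
  edge_flip (s0_f35985 IH)
theorem s0_f35986 : ed sl_df s0_v3301 = s0_v3302 :=
  gap_rel s0_rot4 (path_edge (s0_f35985r IH) (path_nil s0_v3302))
theorem s0_f36121 : ed sl_at sq274 = sq212 :=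
  real_edge rels S fwd inv o lvl plet idx 47 IH Gen.a sp274 sp212 rfl rfl
theorem s0_f36122 : ed sl_at sq1930 = sq1930 :=
  real_edge rels S fwd inv o lvl plet idx 47 IH Gen.a sp1930 sp1930 rfl rfl
theorem s0_f36123 : ed sl_bt sq1930 = sq1930 :=
  real_edge rels S fwd inv o lvl plet idx 47 IH Gen.b sp1930 sp1930 rfl rfl
theorem s0_f36124 : ed sl_dt sq3440 = sq2604 :=
  real_edge rels S fwd inv o lvl plet idx 47 IH Gen.d sp3440 sp2604 rfl rfl
theorem s0_f36125 : ed sl_et sq4415 = sq3440 :=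
  real_edge rels S fwd inv o lvl plet idx 47 IH Gen.e sp4415 sp3440 rfl rfl
theorem s0_f36126 : ed sl_ft sq4415 = sq4415 :=
  real_edge rels S fwd inv o lvl plet idx 47 IH Gen.f sp4415 sp4415 rfl rfl
theorem s0_f36127 : ed sl_at sq5560 = sq5560 :=
  real_edge rels S fwd inv o lvl plet idx 47 IH Gen.a sp5560 sp5560 rfl rfl
theorem s0_f36128 : ed sl_bt sq6929 = sq5560 :=
  real_edge rels S fwd inv o lvl plet idx 47 IH Gen.b sp6929 sp5560 rfl rfl
theorem s0_f36129 : ed sl_ct sq8471 = sq6929 :=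
  real_edge rels S fwd inv o lvl plet idx 47 IH Gen.c sp8471 sp6929 rfl rfl
theorem s0_f36130 : ed sl_dt sq10309 = sq8471 :=
  real_edge rels S fwd inv o lvl plet idx 47 IH Gen.d sp10309 sp8471 rfl rfl
theorem s0_f36131 : ed sl_et sq12393 = sq10309 :=
  real_edge rels S fwd inv o lvl plet idx 47 IH Gen.e sp12393 sp10309 rfl rfl
theorem s0_f36132 : ed sl_at sq1149 = s0_v3336 :=
  rfl
theorem s0_f36132r : ed sl_af s0_v3336 = sq1149 :=
  edge_flip (s0_f36132 IH)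
theorem s0_f36133 : ed sl_af sq1149 = s0_v3336 :=
  gap_rel s0_rot105 (path_edge (s0_f36132r IH) (path_nil s0_v3336))
theorem s0_f36135 : ed sl_df s0_v3336 = s0_v3336 :=
  gap_rel s0_rot114 (path_edge (s0_f36133 IH) (path_edge (s0_f25019r IH) (path_edge (s0_f36132r IH) (path_nil s0_v3336))))
theorem s0_f36136 : ed sl_ft sq1149 = sq1149 :=
  real_edge rels S fwd inv o lvl plet idx 47 IH Gen.f sp1149 sp1149 rfl rfl
theorem s0_f36136r : ed sl_ff sq1149 = sq1149 :=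
  edge_flip (s0_f36136 IH)
theorem s0_f36137 : ed sl_ff s0_v3336 = s0_v3336 :=
  gap_rel s0_rot116 (path_edge (s0_f36133 IH) (path_edge (s0_f36136r IH) (path_edge (s0_f36132r IH) (path_nil s0_v3336))))
theorem s0_f36138 : ed sl_jt sq1149 = sq1149 :=
  real_edge rels S fwd inv o lvl plet idx 47 IH Gen.j sp1149 sp1149 rfl rfl
theorem s0_f36138r : ed sl_jf sq1149 = sq1149 :=
  edge_flip (s0_f36138 IH)
theorem s0_f36139 : ed sl_jf s0_v3336 = s0_v3336 :=
  gap_rel s0_rot109 (path_edge (s0_f36133 IH) (path_edge (s0_f36138r IH) (path_edge (s0_f36132r IH) (path_nil s0_v3336))))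
theorem s0_f36140 : ed sl_it sq821 = sq1149 :=
  real_edge rels S fwd inv o lvl plet idx 47 IH Gen.i sp821 sp1149 rfl rfl
theorem s0_f36140r : ed sl_if sq1149 = sq821 :=
  edge_flip (s0_f36140 IH)
theorem s0_f36141 : ed sl_if sq1152 = s0_v3336 :=
  gap_rel s0_rot117 (path_edge (s0_f19145r IH) (path_edge (s0_f36140r IH) (path_edge (s0_f36132r IH) (path_nil s0_v3336))))
theorem s0_f36141r : ed sl_it s0_v3336 = sq1152 :=
  edge_flip (s0_f36141 IH)
theorem s0_f36142 : ed sl_bt s0_v2376 = s0_v3336 :=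
  gap_rel s0_rot74 (path_edge (s0_f28427 IH) (path_edge (s0_f19153 IH) (path_edge (s0_f36141r IH) (path_nil s0_v3336))))
theorem s0_f36135r : ed sl_dt s0_v3336 = s0_v3336 :=
  edge_flip (s0_f36135 IH)
theorem s0_f36143 : ed sl_it sq1152 = s0_v3336 :=
  gap_rel s0_rot70 (path_edge (s0_f19158 IH) (path_edge (s0_f36141r IH) (path_edge (s0_f36135r IH) (path_nil s0_v3336))))
theorem s0_f36149 : ed sl_ht s0_v3336 = s0_v3337 :=
  rfl
theorem s0_f36149r : ed sl_hf s0_v3337 = s0_v3336 :=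
  edge_flip (s0_f36149 IH)
theorem s0_f36142r : ed sl_bf s0_v3336 = s0_v2376 :=
  edge_flip (s0_f36142 IH)
theorem s0_f36150 : ed sl_bf s0_v2377 = s0_v3337 :=
  gap_rel s0_rot73 (path_edge (s0_f28430 IH) (path_edge (s0_f36142r IH) (path_edge (s0_f36149r IH) (path_nil s0_v3337))))
theorem s0_f36151 : ed sl_hf s0_v3336 = s0_v3337 :=
  gap_rel s0_rot13 (path_edge (s0_f36149r IH) (path_nil s0_v3337))
theorem s0_f36143r : ed sl_if s0_v3336 = sq1152 :=
  edge_flip (s0_f36143 IH)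
theorem s0_f4217r : ed sl_hf sq1152 = sq1152 :=
  edge_flip (s0_f4217 IH)
theorem s0_f36152 : ed sl_if s0_v3337 = s0_v3337 :=
  gap_rel s0_rot31 (path_edge (s0_f36151 IH) (path_edge (s0_f36141 IH) (path_edge (s0_f4217r IH) (path_edge (s0_f36143r IH) (path_edge (s0_f36149r IH) (path_nil s0_v3337))))))
theorem s0_f36153 : ed sl_ff s0_v3337 = s0_v3337 :=
  gap_rel s0_rot14 (path_edge (s0_f36151 IH) (path_edge (s0_f36137 IH) (path_edge (s0_f36149r IH) (path_nil s0_v3337))))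
theorem s0_f36154 : ed sl_jf s0_v3337 = s0_v3337 :=
  gap_rel s0_rot15 (path_edge (s0_f36151 IH) (path_edge (s0_f36139 IH) (path_edge (s0_f36149r IH) (path_nil s0_v3337))))
theorem s0_f36154r : ed sl_jt s0_v3337 = s0_v3337 :=
  edge_flip (s0_f36154 IH)
theorem s0_f36150r : ed sl_bt s0_v3337 = s0_v2377 :=
  edge_flip (s0_f36150 IH)
theorem s0_f28433r : ed sl_jt s0_v2377 = s0_v2377 :=
  edge_flip (s0_f28433 IH)
theorem s0_f36155 : ed sl_bt s0_v2377 = s0_v3337 :=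
  gap_rel s0_rot110 (path_edge (s0_f28433r IH) (path_edge (s0_f36150r IH) (path_edge (s0_f36154r IH) (path_nil s0_v3337))))
theorem s0_f36156 : ed sl_et s0_v3337 = s0_v3338 :=
  rfl
theorem s0_f36156r : ed sl_ef s0_v3338 = s0_v3337 :=
  edge_flip (s0_f36156 IH)
theorem s0_f36155r : ed sl_bf s0_v3337 = s0_v2377 :=
  edge_flip (s0_f36155 IH)
theorem s0_f36157 : ed sl_bf s0_v2378 = s0_v3338 :=
  gap_rel s0_rot84 (path_edge (s0_f28437 IH) (path_edge (s0_f36155r IH) (path_edge (s0_f36156r IH) (path_nil s0_v3338))))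
theorem s0_f36158 : ed sl_ef s0_v3337 = s0_v3338 :=
  gap_rel s0_rot17 (path_edge (s0_f36156r IH) (path_nil s0_v3338))
theorem s0_f36159 : ed sl_jf s0_v3338 = s0_v3338 :=
  gap_rel s0_rot18 (path_edge (s0_f36158 IH) (path_edge (s0_f36154 IH) (path_edge (s0_f36156r IH) (path_nil s0_v3338))))
theorem s0_f36160 : ed sl_if s0_v3338 = s0_v3338 :=
  gap_rel s0_rot35 (path_edge (s0_f36158 IH) (path_edge (s0_f36152 IH) (path_edge (s0_f36156r IH) (path_nil s0_v3338))))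
theorem s0_f36160r : ed sl_it s0_v3338 = s0_v3338 :=
  edge_flip (s0_f36160 IH)
theorem s0_f36157r : ed sl_bt s0_v3338 = s0_v2378 :=
  edge_flip (s0_f36157 IH)
theorem s0_f28439r : ed sl_it s0_v2378 = s0_v2378 :=
  edge_flip (s0_f28439 IH)
theorem s0_f36161 : ed sl_bt s0_v2378 = s0_v3338 :=
  gap_rel s0_rot74 (path_edge (s0_f28439r IH) (path_edge (s0_f36157r IH) (path_edge (s0_f36160r IH) (path_nil s0_v3338))))
theorem s0_f36162 : ed sl_dt s0_v3338 = s0_v3339 :=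
  rfl
theorem s0_f36162r : ed sl_df s0_v3339 = s0_v3338 :=
  edge_flip (s0_f36162 IH)
theorem s0_f36161r : ed sl_bf s0_v3338 = s0_v2378 :=
  edge_flip (s0_f36161 IH)
theorem s0_f36163 : ed sl_bf s0_v2379 = s0_v3339 :=
  gap_rel s0_rot75 (path_edge (s0_f28442 IH) (path_edge (s0_f36161r IH) (path_edge (s0_f36162r IH) (path_nil s0_v3339))))
theorem s0_f36164 : ed sl_df s0_v3338 = s0_v3339 :=
  gap_rel s0_rot4 (path_edge (s0_f36162r IH) (path_nil s0_v3339))
theorem s0_f36165 : ed sl_jf s0_v3339 = s0_v3339 :=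
  gap_rel s0_rot6 (path_edge (s0_f36164 IH) (path_edge (s0_f36159 IH) (path_edge (s0_f36162r IH) (path_nil s0_v3339))))
theorem s0_f36166 : ed sl_if s0_v3339 = s0_v3339 :=
  gap_rel s0_rot33 (path_edge (s0_f36164 IH) (path_edge (s0_f36160 IH) (path_edge (s0_f36162r IH) (path_nil s0_v3339))))
theorem s0_f36166r : ed sl_it s0_v3339 = s0_v3339 :=
  edge_flip (s0_f36166 IH)
theorem s0_f36163r : ed sl_bt s0_v3339 = s0_v2379 :=
  edge_flip (s0_f36163 IH)
theorem s0_f28444r : ed sl_it s0_v2379 = s0_v2379 :=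
  edge_flip (s0_f28444 IH)
theorem s0_f36167 : ed sl_bt s0_v2379 = s0_v3339 :=
  gap_rel s0_rot74 (path_edge (s0_f28444r IH) (path_edge (s0_f36163r IH) (path_edge (s0_f36166r IH) (path_nil s0_v3339))))
theorem s0_f36168 : ed sl_ct s0_v3339 = s0_v3340 :=
  rfl
theorem s0_f36168r : ed sl_cf s0_v3340 = s0_v3339 :=
  edge_flip (s0_f36168 IH)
theorem s0_f36169 : ed sl_cf s0_v3339 = s0_v3340 :=
  gap_rel s0_rot0 (path_edge (s0_f36168r IH) (path_nil s0_v3340))
theorem s0_f36170 : ed sl_jf s0_v3340 = s0_v3340 :=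
  gap_rel s0_rot2 (path_edge (s0_f36169 IH) (path_edge (s0_f36165 IH) (path_edge (s0_f36168r IH) (path_nil s0_v3340))))
theorem s0_f36171 : ed sl_if s0_v3340 = s0_v3340 :=
  gap_rel s0_rot40 (path_edge (s0_f36169 IH) (path_edge (s0_f36166 IH) (path_edge (s0_f36168r IH) (path_nil s0_v3340))))
theorem s0_f36172 : ed sl_bt s0_v3340 = s0_v3341 :=
  rfl
theorem s0_f36172r : ed sl_bf s0_v3341 = s0_v3340 :=
  edge_flip (s0_f36172 IH)
theorem s0_f36173 : ed sl_bf s0_v3340 = s0_v3341 :=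
  gap_rel s0_rot20 (path_edge (s0_f36172r IH) (path_nil s0_v3341))
theorem s0_f36167r : ed sl_bf s0_v3339 = s0_v2379 :=
  edge_flip (s0_f36167 IH)
theorem s0_f36174 : ed sl_cf s0_v2381 = s0_v3341 :=
  gap_rel s0_rot129 (path_edge (s0_f28451 IH) (path_edge (s0_f28446 IH) (path_edge (s0_f36167r IH) (path_edge (s0_f36168r IH) (path_edge (s0_f36172r IH) (path_nil s0_v3341))))))
theorem s0_f36175 : ed sl_jf s0_v3341 = s0_v3341 :=
  gap_rel s0_rot21 (path_edge (s0_f36173 IH) (path_edge (s0_f36170 IH) (path_edge (s0_f36172r IH) (path_nil s0_v3341))))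
theorem s0_f36176 : ed sl_if s0_v3341 = s0_v3341 :=
  gap_rel s0_rot38 (path_edge (s0_f36173 IH) (path_edge (s0_f36171 IH) (path_edge (s0_f36172r IH) (path_nil s0_v3341))))
theorem s0_f36176r : ed sl_it s0_v3341 = s0_v3341 :=
  edge_flip (s0_f36176 IH)
theorem s0_f36174r : ed sl_ct s0_v3341 = s0_v2381 :=
  edge_flip (s0_f36174 IH)
theorem s0_f28454r : ed sl_it s0_v2381 = s0_v2381 :=
  edge_flip (s0_f28454 IH)
theorem s0_f36177 : ed sl_ct s0_v2381 = s0_v3341 :=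
  gap_rel s0_rot86 (path_edge (s0_f28454r IH) (path_edge (s0_f36174r IH) (path_edge (s0_f36176r IH) (path_nil s0_v3341))))
theorem s0_f36178 : ed sl_at s0_v3341 = s0_v3342 :=
  rfl
theorem s0_f36178r : ed sl_af s0_v3342 = s0_v3341 :=
  edge_flip (s0_f36178 IH)
theorem s0_f36179 : ed sl_af s0_v3341 = s0_v3342 :=
  gap_rel s0_rot105 (path_edge (s0_f36178r IH) (path_nil s0_v3342))
theorem s0_f36177r : ed sl_cf s0_v3341 = s0_v2381 :=
  edge_flip (s0_f36177 IH)
theorem s0_f36180 : ed sl_cf s0_v2382 = s0_v3342 :=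
  gap_rel s0_rot107 (path_edge (s0_f28456 IH) (path_edge (s0_f36177r IH) (path_edge (s0_f36178r IH) (path_nil s0_v3342))))
theorem s0_f36181 : ed sl_jf s0_v3342 = s0_v3342 :=
  gap_rel s0_rot109 (path_edge (s0_f36179 IH) (path_edge (s0_f36175 IH) (path_edge (s0_f36178r IH) (path_nil s0_v3342))))
theorem s0_f36182 : ed sl_if s0_v3342 = s0_v3342 :=
  gap_rel s0_rot117 (path_edge (s0_f36179 IH) (path_edge (s0_f36176 IH) (path_edge (s0_f36178r IH) (path_nil s0_v3342))))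
theorem s0_f36182r : ed sl_it s0_v3342 = s0_v3342 :=
  edge_flip (s0_f36182 IH)
theorem s0_f36180r : ed sl_ct s0_v3342 = s0_v2382 :=
  edge_flip (s0_f36180 IH)
theorem s0_f28459r : ed sl_it s0_v2382 = s0_v2382 :=
  edge_flip (s0_f28459 IH)
theorem s0_f36183 : ed sl_ct s0_v2382 = s0_v3342 :=
  gap_rel s0_rot86 (path_edge (s0_f28459r IH) (path_edge (s0_f36180r IH) (path_edge (s0_f36182r IH) (path_nil s0_v3342))))
theorem s0_f36184 : ed sl_ht s0_v3342 = s0_v3343 :=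
  rfl
theorem s0_f36184r : ed sl_hf s0_v3343 = s0_v3342 :=
  edge_flip (s0_f36184 IH)
theorem s0_f36183r : ed sl_cf s0_v3342 = s0_v2382 :=
  edge_flip (s0_f36183 IH)
theorem s0_f36185 : ed sl_cf s0_v2383 = s0_v3343 :=
  gap_rel s0_rot30 (path_edge (s0_f28461 IH) (path_edge (s0_f36183r IH) (path_edge (s0_f36184r IH) (path_nil s0_v3343))))
theorem s0_f36186 : ed sl_hf s0_v3342 = s0_v3343 :=
  gap_rel s0_rot13 (path_edge (s0_f36184r IH) (path_nil s0_v3343))
theorem s0_f36187 : ed sl_jf s0_v3343 = s0_v3343 :=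
  gap_rel s0_rot15 (path_edge (s0_f36186 IH) (path_edge (s0_f36181 IH) (path_edge (s0_f36184r IH) (path_nil s0_v3343))))
theorem s0_f36187r : ed sl_jt s0_v3343 = s0_v3343 :=
  edge_flip (s0_f36187 IH)
theorem s0_f36185r : ed sl_ct s0_v3343 = s0_v2383 :=
  edge_flip (s0_f36185 IH)
theorem s0_f28462r : ed sl_jt s0_v2383 = s0_v2383 :=
  edge_flip (s0_f28462 IH)
theorem s0_f36188 : ed sl_ct s0_v2383 = s0_v3343 :=
  gap_rel s0_rot7 (path_edge (s0_f28462r IH) (path_edge (s0_f36185r IH) (path_edge (s0_f36187r IH) (path_nil s0_v3343))))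
theorem s0_f36189 : ed sl_ft s0_v3343 = s0_v3344 :=
  rfl
theorem s0_f36189r : ed sl_ff s0_v3344 = s0_v3343 :=
  edge_flip (s0_f36189 IH)
theorem s0_f36188r : ed sl_cf s0_v3343 = s0_v2383 :=
  edge_flip (s0_f36188 IH)
theorem s0_f36190 : ed sl_cf s0_v2384 = s0_v3344 :=
  gap_rel s0_rot113 (path_edge (s0_f28464 IH) (path_edge (s0_f36188r IH) (path_edge (s0_f36189r IH) (path_nil s0_v3344))))
theorem s0_f36191 : ed sl_ff s0_v3343 = s0_v3344 :=
  gap_rel s0_rot22 (path_edge (s0_f36189r IH) (path_nil s0_v3344))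
theorem s0_f36192 : ed sl_jf s0_v3344 = s0_v3344 :=
  gap_rel s0_rot23 (path_edge (s0_f36191 IH) (path_edge (s0_f36187 IH) (path_edge (s0_f36189r IH) (path_nil s0_v3344))))
theorem s0_f36192r : ed sl_jt s0_v3344 = s0_v3344 :=
  edge_flip (s0_f36192 IH)
theorem s0_f36190r : ed sl_ct s0_v3344 = s0_v2384 :=
  edge_flip (s0_f36190 IH)
theorem s0_f28465r : ed sl_jt s0_v2384 = s0_v2384 :=
  edge_flip (s0_f28465 IH)
theorem s0_f36193 : ed sl_ct s0_v2384 = s0_v3344 :=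
  gap_rel s0_rot7 (path_edge (s0_f28465r IH) (path_edge (s0_f36190r IH) (path_edge (s0_f36192r IH) (path_nil s0_v3344))))
theorem s0_f36194 : ed sl_et s0_v3344 = s0_v3345 :=
  rfl
theorem s0_f36194r : ed sl_ef s0_v3345 = s0_v3344 :=
  edge_flip (s0_f36194 IH)
theorem s0_f36193r : ed sl_cf s0_v3344 = s0_v2384 :=
  edge_flip (s0_f36193 IH)
theorem s0_f36195 : ed sl_cf s0_v2385 = s0_v3345 :=
  gap_rel s0_rot85 (path_edge (s0_f28467 IH) (path_edge (s0_f36193r IH) (path_edge (s0_f36194r IH) (path_nil s0_v3345))))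
theorem s0_f36196 : ed sl_ef s0_v3344 = s0_v3345 :=
  gap_rel s0_rot17 (path_edge (s0_f36194r IH) (path_nil s0_v3345))
theorem s0_f36197 : ed sl_jf s0_v3345 = s0_v3345 :=
  gap_rel s0_rot18 (path_edge (s0_f36196 IH) (path_edge (s0_f36192 IH) (path_edge (s0_f36194r IH) (path_nil s0_v3345))))
theorem s0_f36197r : ed sl_jt s0_v3345 = s0_v3345 :=
  edge_flip (s0_f36197 IH)
theorem s0_f36195r : ed sl_ct s0_v3345 = s0_v2385 :=
  edge_flip (s0_f36195 IH)
theorem s0_f28468r : ed sl_jt s0_v2385 = s0_v2385 :=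
  edge_flip (s0_f28468 IH)
theorem s0_f36198 : ed sl_ct s0_v2385 = s0_v3345 :=
  gap_rel s0_rot7 (path_edge (s0_f28468r IH) (path_edge (s0_f36195r IH) (path_edge (s0_f36197r IH) (path_nil s0_v3345))))
theorem s0_f36199 : ed sl_dt s0_v3345 = s0_v3346 :=
  rfl
theorem s0_f36199r : ed sl_df s0_v3346 = s0_v3345 :=
  edge_flip (s0_f36199 IH)
theorem s0_f36200 : ed sl_df s0_v3345 = s0_v3346 :=
  gap_rel s0_rot4 (path_edge (s0_f36199r IH) (path_nil s0_v3346))
theorem s0_f36201 : ed sl_jf s0_v3346 = s0_v3346 :=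
  gap_rel s0_rot6 (path_edge (s0_f36200 IH) (path_edge (s0_f36197 IH) (path_edge (s0_f36199r IH) (path_nil s0_v3346))))
theorem s0_f36202 : ed sl_ct s0_v3346 = s0_v3347 :=
  rfl
theorem s0_f36202r : ed sl_cf s0_v3347 = s0_v3346 :=
  edge_flip (s0_f36202 IH)
theorem s0_f36203 : ed sl_cf s0_v3346 = s0_v3347 :=
  gap_rel s0_rot0 (path_edge (s0_f36202r IH) (path_nil s0_v3347))
theorem s0_f36198r : ed sl_cf s0_v3345 = s0_v2385 :=
  edge_flip (s0_f36198 IH)
theorem s0_f36204 : ed sl_df s0_v2387 = s0_v3347 :=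
  gap_rel s0_rot80 (path_edge (s0_f28473 IH) (path_edge (s0_f28470 IH) (path_edge (s0_f36198r IH) (path_edge (s0_f36199r IH) (path_edge (s0_f36202r IH) (path_nil s0_v3347))))))
theorem s0_f36205 : ed sl_jf s0_v3347 = s0_v3347 :=
  gap_rel s0_rot2 (path_edge (s0_f36203 IH) (path_edge (s0_f36201 IH) (path_edge (s0_f36202r IH) (path_nil s0_v3347))))
theorem s0_f36205r : ed sl_jt s0_v3347 = s0_v3347 :=
  edge_flip (s0_f36205 IH)
theorem s0_f36204r : ed sl_dt s0_v3347 = s0_v2387 :=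
  edge_flip (s0_f36204 IH)
theorem s0_f28474r : ed sl_jt s0_v2387 = s0_v2387 :=
  edge_flip (s0_f28474 IH)
theorem s0_f36206 : ed sl_dt s0_v2387 = s0_v3347 :=
  gap_rel s0_rot104 (path_edge (s0_f28474r IH) (path_edge (s0_f36204r IH) (path_edge (s0_f36205r IH) (path_nil s0_v3347))))
theorem s0_f36207 : ed sl_bt s0_v3347 = s0_v3348 :=
  rfl
theorem s0_f36207r : ed sl_bf s0_v3348 = s0_v3347 :=
  edge_flip (s0_f36207 IH)
theorem s0_f36208 : ed sl_bf s0_v3347 = s0_v3348 :=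
  gap_rel s0_rot20 (path_edge (s0_f36207r IH) (path_nil s0_v3348))
theorem s0_f36206r : ed sl_df s0_v3347 = s0_v2387 :=
  edge_flip (s0_f36206 IH)
theorem s0_f36209 : ed sl_df s0_v2388 = s0_v3348 :=
  gap_rel s0_rot36 (path_edge (s0_f28476 IH) (path_edge (s0_f36206r IH) (path_edge (s0_f36207r IH) (path_nil s0_v3348))))
theorem s0_f36210 : ed sl_jf s0_v3348 = s0_v3348 :=
  gap_rel s0_rot21 (path_edge (s0_f36208 IH) (path_edge (s0_f36205 IH) (path_edge (s0_f36207r IH) (path_nil s0_v3348))))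
theorem s0_f36210r : ed sl_jt s0_v3348 = s0_v3348 :=
  edge_flip (s0_f36210 IH)
theorem s0_f36209r : ed sl_dt s0_v3348 = s0_v2388 :=
  edge_flip (s0_f36209 IH)
theorem s0_f28477r : ed sl_jt s0_v2388 = s0_v2388 :=
  edge_flip (s0_f28477 IH)
theorem s0_f36211 : ed sl_dt s0_v2388 = s0_v3348 :=
  gap_rel s0_rot104 (path_edge (s0_f28477r IH) (path_edge (s0_f36209r IH) (path_edge (s0_f36210r IH) (path_nil s0_v3348))))
theorem s0_f36212 : ed sl_at s0_v3348 = s0_v3349 :=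
  rfl
theorem s0_f36212r : ed sl_af s0_v3349 = s0_v3348 :=
  edge_flip (s0_f36212 IH)
theorem s0_f36213 : ed sl_af s0_v3348 = s0_v3349 :=
  gap_rel s0_rot105 (path_edge (s0_f36212r IH) (path_nil s0_v3349))
theorem s0_f36211r : ed sl_df s0_v3348 = s0_v2388 :=
  edge_flip (s0_f36211 IH)
theorem s0_f36214 : ed sl_df s0_v2389 = s0_v3349 :=
  gap_rel s0_rot114 (path_edge (s0_f28479 IH) (path_edge (s0_f36211r IH) (path_edge (s0_f36212r IH) (path_nil s0_v3349))))
theorem s0_f36215 : ed sl_jf s0_v3349 = s0_v3349 :=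
  gap_rel s0_rot109 (path_edge (s0_f36213 IH) (path_edge (s0_f36210 IH) (path_edge (s0_f36212r IH) (path_nil s0_v3349))))
theorem s0_f36215r : ed sl_jt s0_v3349 = s0_v3349 :=
  edge_flip (s0_f36215 IH)
theorem s0_f36214r : ed sl_dt s0_v3349 = s0_v2389 :=
  edge_flip (s0_f36214 IH)
theorem s0_f28480r : ed sl_jt s0_v2389 = s0_v2389 :=
  edge_flip (s0_f28480 IH)
theorem s0_f36216 : ed sl_dt s0_v2389 = s0_v3349 :=
  gap_rel s0_rot104 (path_edge (s0_f28480r IH) (path_edge (s0_f36214r IH) (path_edge (s0_f36215r IH) (path_nil s0_v3349))))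
theorem s0_f36217 : ed sl_ht s0_v3349 = s0_v3350 :=
  rfl
theorem s0_f36217r : ed sl_hf s0_v3350 = s0_v3349 :=
  edge_flip (s0_f36217 IH)
theorem s0_f36218 : ed sl_hf s0_v3349 = s0_v3350 :=
  gap_rel s0_rot13 (path_edge (s0_f36217r IH) (path_nil s0_v3350))
theorem s0_f36219 : ed sl_jf s0_v3350 = s0_v3350 :=
  gap_rel s0_rot15 (path_edge (s0_f36218 IH) (path_edge (s0_f36215 IH) (path_edge (s0_f36217r IH) (path_nil s0_v3350))))
theorem s0_f36220 : ed sl_ft s0_v3350 = s0_v3351 :=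
  rfl
theorem s0_f36220r : ed sl_ff s0_v3351 = s0_v3350 :=
  edge_flip (s0_f36220 IH)
theorem s0_f36221 : ed sl_ff s0_v3350 = s0_v3351 :=
  gap_rel s0_rot22 (path_edge (s0_f36220r IH) (path_nil s0_v3351))
theorem s0_f36222 : ed sl_jf s0_v3351 = s0_v3351 :=
  gap_rel s0_rot23 (path_edge (s0_f36221 IH) (path_edge (s0_f36219 IH) (path_edge (s0_f36220r IH) (path_nil s0_v3351))))
theorem s0_f36223 : ed sl_et s0_v3351 = s0_v3352 :=
  rfl
theorem s0_f36223r : ed sl_ef s0_v3352 = s0_v3351 :=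
  edge_flip (s0_f36223 IH)
theorem s0_f36224 : ed sl_ef s0_v3351 = s0_v3352 :=
  gap_rel s0_rot17 (path_edge (s0_f36223r IH) (path_nil s0_v3352))
theorem s0_f36225 : ed sl_jf s0_v3352 = s0_v3352 :=
  gap_rel s0_rot18 (path_edge (s0_f36224 IH) (path_edge (s0_f36222 IH) (path_edge (s0_f36223r IH) (path_nil s0_v3352))))
theorem s0_f36226 : ed sl_dt s0_v3352 = s0_v3353 :=
  rfl
theorem s0_f36226r : ed sl_df s0_v3353 = s0_v3352 :=
  edge_flip (s0_f36226 IH)
theorem s0_f36227 : ed sl_df s0_v3352 = s0_v3353 :=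
  gap_rel s0_rot4 (path_edge (s0_f36226r IH) (path_nil s0_v3353))
theorem s0_f36228 : ed sl_jf s0_v3353 = s0_v3353 :=
  gap_rel s0_rot6 (path_edge (s0_f36227 IH) (path_edge (s0_f36225 IH) (path_edge (s0_f36226r IH) (path_nil s0_v3353))))
theorem s0_f36229 : ed sl_ct s0_v3353 = s0_v3354 :=
  rfl
theorem s0_f36229r : ed sl_cf s0_v3354 = s0_v3353 :=
  edge_flip (s0_f36229 IH)
theorem s0_f36230 : ed sl_cf s0_v3353 = s0_v3354 :=
  gap_rel s0_rot0 (path_edge (s0_f36229r IH) (path_nil s0_v3354))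
theorem s0_f36231 : ed sl_jf s0_v3354 = s0_v3354 :=
  gap_rel s0_rot2 (path_edge (s0_f36230 IH) (path_edge (s0_f36228 IH) (path_edge (s0_f36229r IH) (path_nil s0_v3354))))
theorem s0_f36232 : ed sl_bt s0_v3354 = s0_v3355 :=
  rfl
theorem s0_f36232r : ed sl_bf s0_v3355 = s0_v3354 :=
  edge_flip (s0_f36232 IH)
theorem s0_f36233 : ed sl_bf s0_v3354 = s0_v3355 :=
  gap_rel s0_rot20 (path_edge (s0_f36232r IH) (path_nil s0_v3355))
theorem s0_f36234 : ed sl_jf s0_v3355 = s0_v3355 :=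
  gap_rel s0_rot21 (path_edge (s0_f36233 IH) (path_edge (s0_f36231 IH) (path_edge (s0_f36232r IH) (path_nil s0_v3355))))
theorem s0_f36235 : ed sl_at s0_v3355 = s0_v3356 :=
  rfl
theorem s0_f36235r : ed sl_af s0_v3356 = s0_v3355 :=
  edge_flip (s0_f36235 IH)
theorem s0_f36236 : ed sl_af s0_v3355 = s0_v3356 :=
  gap_rel s0_rot105 (path_edge (s0_f36235r IH) (path_nil s0_v3356))
theorem s0_f36237 : ed sl_jf s0_v3356 = s0_v3356 :=
  gap_rel s0_rot109 (path_edge (s0_f36236 IH) (path_edge (s0_f36234 IH) (path_edge (s0_f36235r IH) (path_nil s0_v3356))))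
theorem s0_f36238 : ed sl_ht s0_v3356 = s0_v3357 :=
  rfl
theorem s0_f36238r : ed sl_hf s0_v3357 = s0_v3356 :=
  edge_flip (s0_f36238 IH)
theorem s0_f36239 : ed sl_hf s0_v3356 = s0_v3357 :=
  gap_rel s0_rot13 (path_edge (s0_f36238r IH) (path_nil s0_v3357))
theorem s0_f36240 : ed sl_jf s0_v3357 = s0_v3357 :=
  gap_rel s0_rot15 (path_edge (s0_f36239 IH) (path_edge (s0_f36237 IH) (path_edge (s0_f36238r IH) (path_nil s0_v3357))))
theorem s0_f36241 : ed sl_ft s0_v3357 = s0_v3358 :=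
  rfl
theorem s0_f36241r : ed sl_ff s0_v3358 = s0_v3357 :=
  edge_flip (s0_f36241 IH)
theorem s0_f36242 : ed sl_ff s0_v3357 = s0_v3358 :=
  gap_rel s0_rot22 (path_edge (s0_f36241r IH) (path_nil s0_v3358))
theorem s0_f36243 : ed sl_jf s0_v3358 = s0_v3358 :=
  gap_rel s0_rot23 (path_edge (s0_f36242 IH) (path_edge (s0_f36240 IH) (path_edge (s0_f36241r IH) (path_nil s0_v3358))))
theorem s0_f36244 : ed sl_et s0_v3358 = s0_v3359 :=
  rfl
theorem s0_f36244r : ed sl_ef s0_v3359 = s0_v3358 :=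
  edge_flip (s0_f36244 IH)
theorem s0_f36245 : ed sl_ef s0_v3358 = s0_v3359 :=
  gap_rel s0_rot17 (path_edge (s0_f36244r IH) (path_nil s0_v3359))
theorem s0_f36246 : ed sl_jf s0_v3359 = s0_v3359 :=
  gap_rel s0_rot18 (path_edge (s0_f36245 IH) (path_edge (s0_f36243 IH) (path_edge (s0_f36244r IH) (path_nil s0_v3359))))
theorem s0_f36247 : ed sl_dt s0_v3359 = s0_v3360 :=
  rfl
theorem s0_f36247r : ed sl_df s0_v3360 = s0_v3359 :=
  edge_flip (s0_f36247 IH)
theorem s0_f36248 : ed sl_df s0_v3359 = s0_v3360 :=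
  gap_rel s0_rot4 (path_edge (s0_f36247r IH) (path_nil s0_v3360))
theorem s0_f36249 : ed sl_jf s0_v3360 = s0_v3360 :=
  gap_rel s0_rot6 (path_edge (s0_f36248 IH) (path_edge (s0_f36246 IH) (path_edge (s0_f36247r IH) (path_nil s0_v3360))))
theorem s0_f36250 : ed sl_ct s0_v3360 = s0_v3361 :=
  rfl
theorem s0_f36250r : ed sl_cf s0_v3361 = s0_v3360 :=
  edge_flip (s0_f36250 IH)
theorem s0_f36251 : ed sl_cf s0_v3360 = s0_v3361 :=
  gap_rel s0_rot0 (path_edge (s0_f36250r IH) (path_nil s0_v3361))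
theorem s0_f36252 : ed sl_jf s0_v3361 = s0_v3361 :=
  gap_rel s0_rot2 (path_edge (s0_f36251 IH) (path_edge (s0_f36249 IH) (path_edge (s0_f36250r IH) (path_nil s0_v3361))))
theorem s0_f36253 : ed sl_bt s0_v3361 = s0_v3362 :=
  rfl
theorem s0_f36253r : ed sl_bf s0_v3362 = s0_v3361 :=
  edge_flip (s0_f36253 IH)
theorem s0_f36254 : ed sl_bf s0_v3361 = s0_v3362 :=
  gap_rel s0_rot20 (path_edge (s0_f36253r IH) (path_nil s0_v3362))
theorem s0_f36255 : ed sl_jf s0_v3362 = s0_v3362 :=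
  gap_rel s0_rot21 (path_edge (s0_f36254 IH) (path_edge (s0_f36252 IH) (path_edge (s0_f36253r IH) (path_nil s0_v3362))))
theorem s0_f36256 : ed sl_at s0_v3362 = s0_v3363 :=
  rfl
theorem s0_f36256r : ed sl_af s0_v3363 = s0_v3362 :=
  edge_flip (s0_f36256 IH)
theorem s0_f36257 : ed sl_af s0_v3362 = s0_v3363 :=
  gap_rel s0_rot105 (path_edge (s0_f36256r IH) (path_nil s0_v3363))
theorem s0_f36258 : ed sl_jf s0_v3363 = s0_v3363 :=
  gap_rel s0_rot109 (path_edge (s0_f36257 IH) (path_edge (s0_f36255 IH) (path_edge (s0_f36256r IH) (path_nil s0_v3363))))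
theorem s0_f36259 : ed sl_ht s0_v3363 = s0_v3364 :=
  rfl
theorem s0_f36259r : ed sl_hf s0_v3364 = s0_v3363 :=
  edge_flip (s0_f36259 IH)
theorem s0_f36260 : ed sl_hf s0_v3363 = s0_v3364 :=
  gap_rel s0_rot13 (path_edge (s0_f36259r IH) (path_nil s0_v3364))
theorem s0_f36261 : ed sl_jf s0_v3364 = s0_v3364 :=
  gap_rel s0_rot15 (path_edge (s0_f36260 IH) (path_edge (s0_f36258 IH) (path_edge (s0_f36259r IH) (path_nil s0_v3364))))
theorem s0_f1298r : ed sl_bf sq1149 = sq819 :=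
  edge_flip (s0_f1298 IH)
theorem s0_f24059r : ed sl_cf sq819 = sq575 :=
  edge_flip (s0_f24059 IH)
theorem s0_f9621r : ed sl_df sq575 = sq396 :=
  edge_flip (s0_f9621 IH)
theorem s0_f9622r : ed sl_ef sq396 = sq274 :=
  edge_flip (s0_f9622 IH)
theorem s0_f9623r : ed sl_ff sq274 = sq188 :=
  edge_flip (s0_f9623 IH)
theorem s0_f19118r : ed sl_af sq127 = sq99 :=
  edge_flip (s0_f19118 IH)
theorem s0_f13112r : ed sl_bf sq99 = sq99 :=
  edge_flip (s0_f13112 IH)
theorem s0_f13111r : ed sl_cf sq99 = sq99 :=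
  edge_flip (s0_f13111 IH)
theorem s0_f8449r : ed sl_df sq99 = sq99 :=
  edge_flip (s0_f8449 IH)
theorem s0_f13113r : ed sl_ef sq99 = sq99 :=
  edge_flip (s0_f13113 IH)
theorem s0_f13114r : ed sl_ff sq99 = sq144 :=
  edge_flip (s0_f13114 IH)
theorem s0_f13115r : ed sl_hf sq144 = sq212 :=
  edge_flip (s0_f13115 IH)
theorem s0_f36121r : ed sl_af sq212 = sq274 :=
  edge_flip (s0_f36121 IH)
theorem s0_f10769r : ed sl_bf sq274 = sq371 :=
  edge_flip (s0_f10769 IH)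
theorem s0_f17640r : ed sl_cf sq371 = sq515 :=
  edge_flip (s0_f17640 IH)
theorem s0_f17641r : ed sl_ef sq733 = sq1027 :=
  edge_flip (s0_f17641 IH)
theorem s0_f17642r : ed sl_ff sq1027 = sq1417 :=
  edge_flip (s0_f17642 IH)
theorem s0_f24678r : ed sl_hf sq1417 = sq1930 :=
  edge_flip (s0_f24678 IH)
theorem s0_f36122r : ed sl_af sq1930 = sq1930 :=
  edge_flip (s0_f36122 IH)
theorem s0_f36123r : ed sl_bf sq1930 = sq1930 :=
  edge_flip (s0_f36123 IH)
theorem s0_f24681r : ed sl_cf sq1930 = sq2604 :=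
  edge_flip (s0_f24681 IH)
theorem s0_f36124r : ed sl_df sq2604 = sq3440 :=
  edge_flip (s0_f36124 IH)
theorem s0_f36125r : ed sl_ef sq3440 = sq4415 :=
  edge_flip (s0_f36125 IH)
theorem s0_f36126r : ed sl_ff sq4415 = sq4415 :=
  edge_flip (s0_f36126 IH)
theorem s0_f35853r : ed sl_hf sq4415 = sq5560 :=
  edge_flip (s0_f35853 IH)
theorem s0_f36127r : ed sl_af sq5560 = sq5560 :=
  edge_flip (s0_f36127 IH)
theorem s0_f36128r : ed sl_bf sq5560 = sq6929 :=
  edge_flip (s0_f36128 IH)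
theorem s0_f36129r : ed sl_cf sq6929 = sq8471 :=
  edge_flip (s0_f36129 IH)
theorem s0_f36130r : ed sl_df sq8471 = sq10309 :=
  edge_flip (s0_f36130 IH)
theorem s0_f36131r : ed sl_ef sq10309 = sq12393 :=
  edge_flip (s0_f36131 IH)
theorem s0_f36262 : ed sl_ff sq12393 = s0_v3364 :=
  gap_rel s0_rot130 (path_edge (s0_f36131r IH) (path_edge (s0_f36130r IH) (path_edge (s0_f36129r IH) (path_edge (s0_f36128r IH) (path_edge (s0_f36127r IH) (path_edge (s0_f35853r IH) (path_edge (s0_f36126r IH) (path_edge (s0_f36125r IH) (path_edge (s0_f36124r IH) (path_edge (s0_f24681r IH) (path_edge (s0_f36123r IH) (path_edge (s0_f36122r IH) (path_edge (s0_f24678r IH) (path_edge (s0_f17642r IH) (path_edge (s0_f17641r IH) (path_edge (s0_f11451r IH) (path_edge (s0_f17640r IH) (path_edge (s0_f10769r IH) (path_edge (s0_f36121r IH) (path_edge (s0_f13115r IH) (path_edge (s0_f13114r IH) (path_edge (s0_f13113r IH) (path_edge (s0_f8449r IH) (path_edge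 (s0_f13111r IH) (path_edge (s0_f13112r IH) (path_edge (s0_f19118r IH) (path_edge (s0_f25003r IH) (path_edge (s0_f9623r IH) (path_edge (s0_f9622r IH) (path_edge (s0_f9621r IH) (path_edge (s0_f24059r IH) (path_edge (s0_f1298r IH) (path_edge (s0_f36132r IH) (path_edge (s0_f36149r IH) (path_edge (s0_f36153 IH) (path_edge (s0_f36156r IH) (path_edge (s0_f36162r IH) (path_edge (s0_f36168r IH) (path_edge (s0_f36172r IH) (path_edge (s0_f36178r IH) (path_edge (s0_f36184r IH) (path_edge (s0_f36189r IH) (path_edge (s0_f36194r IH) (path_edge (s0_f36199r IH) (path_edge (s0_f36202r IH) (path_edge (s0_f36207r IH) (path_edge (s0_f36212r IH) (path_edge (s0_f36217r IH) (path_edge (s0_f36220r IH) (path_edge (s0_f36223r IH) (path_edge (s0_f36226r IH) (path_edge (s0_f36229r IH) (path_edge (s0_f36232r IH) (path_edge (s0_f36235r IH) (path_edge (s0_f36238r IH) (path_edge (s0_f36241r IH) (path_edge (s0_f36244r IH) (path_edge (s0_f36247r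 IH) (path_edge (s0_f36250r IH) (path_edge (s0_f36253r IH) (path_edge (s0_f36256r IH) (path_edge (s0_f36259r IH) (path_nil s0_v3364)))))))))))))))))))))))))))))))))))))))))))))))))))))))))))))))
theorem s0_f36264 : ed sl_dt sq12393 = sq10314 :=
  real_edge rels S fwd inv o lvl plet idx 47 IH Gen.d sp12393 sp10314 rfl rfl
theorem s0_f36265 : ed sl_ft sq10314 = sq12399 :=
  real_edge rels S fwd inv o lvl plet idx 47 IH Gen.f sp10314 sp12399 rfl rfl
theorem s0_f36262r : ed sl_ft s0_v3364 = sq12393 :=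
  edge_flip (s0_f36262 IH)
theorem s0_f36266 : ed sl_dt sq12399 = s0_v3364 :=
  gap_rel s0_rot131 (path_edge (s0_f36265 IH) (path_edge (s0_f36264 IH) (path_edge (s0_f36262r IH) (path_nil s0_v3364))))
theorem s0_f36271 : ed sl_it s0_v192 = s0_v3364 :=
  gap_rel s0_rot132 (path_edge (s0_f2936 IH) (path_edge (s0_f2950 IH) (path_edge (s0_f36262r IH) (path_nil s0_v3364))))
theorem s0_f36271r : ed sl_if s0_v3364 = s0_v192 :=
  edge_flip (s0_f36271 IH)
theorem s0_f2929r : ed sl_df s0_v192 = sq14635 :=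
  edge_flip (s0_f2929 IH)
theorem s0_f2982r : ed sl_if sq14635 = sq12399 :=
  edge_flip (s0_f2982 IH)
theorem s0_f36273 : ed sl_df sq12399 = s0_v3364 :=
  gap_rel s0_rot51 (path_edge (s0_f2982r IH) (path_edge (s0_f2929r IH) (path_edge (s0_f36271r IH) (path_nil s0_v3364))))
theorem s0_f36274 : ed sl_if s0_v192 = s0_v3364 :=
  gap_rel s0_rot90 (path_edge (s0_f2924 IH) (path_edge (s0_f36271r IH) (path_edge (s0_f36261 IH) (path_nil s0_v3364))))
theorem s0_f36274r : ed sl_it s0_v3364 = s0_v192 :=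
  edge_flip (s0_f36274 IH)
theorem s0_f36275 : ed sl_bt s0_v3364 = s0_v3364 :=
  gap_rel s0_rot74 (path_edge (s0_f36271 IH) (path_edge (s0_f2951 IH) (path_edge (s0_f36274r IH) (path_nil s0_v3364))))
theorem s0_f36275r : ed sl_bf s0_v3364 = s0_v3364 :=
  edge_flip (s0_f36275 IH)
theorem s0_f36296 : ed sl_bf s0_v3363 = s0_v3363 :=
  gap_rel s0_rot73 (path_edge (s0_f36259r IH) (path_edge (s0_f36275r IH) (path_edge (s0_f36260 IH) (path_nil s0_v3363))))
theorem s0_f36296r : ed sl_bt s0_v3363 = s0_v3363 :=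
  edge_flip (s0_f36296 IH)
theorem s0_f36257r : ed sl_at s0_v3363 = s0_v3362 :=
  edge_flip (s0_f36257 IH)
theorem s0_f36254r : ed sl_bt s0_v3362 = s0_v3361 :=
  edge_flip (s0_f36254 IH)
theorem s0_f36301 : ed sl_at s0_v3361 = s0_v3361 :=
  gap_rel s0_rot133 (path_edge (s0_f36254r IH) (path_edge (s0_f36257r IH) (path_edge (s0_f36296r IH) (path_edge (s0_f36256 IH) (path_edge (s0_f36253 IH) (path_nil s0_v3361))))))
theorem s0_f36301r : ed sl_af s0_v3361 = s0_v3361 :=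
  edge_flip (s0_f36301 IH)
theorem s0_f36302 : ed sl_af s0_v3360 = s0_v3360 :=
  gap_rel s0_rot126 (path_edge (s0_f36250r IH) (path_edge (s0_f36301r IH) (path_edge (s0_f36251 IH) (path_nil s0_v3360))))
theorem s0_f36302r : ed sl_at s0_v3360 = s0_v3360 :=
  edge_flip (s0_f36302 IH)
theorem s0_f36248r : ed sl_dt s0_v3360 = s0_v3359 :=
  edge_flip (s0_f36248 IH)
theorem s0_f36303 : ed sl_at s0_v3359 = s0_v3359 :=
  gap_rel s0_rot124 (path_edge (s0_f36248r IH) (path_edge (s0_f36302r IH) (path_edge (s0_f36247 IH) (path_nil s0_v3359))))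
theorem s0_f36303r : ed sl_af s0_v3359 = s0_v3359 :=
  edge_flip (s0_f36303 IH)
theorem s0_f36304 : ed sl_af s0_v3358 = s0_v3358 :=
  gap_rel s0_rot125 (path_edge (s0_f36244r IH) (path_edge (s0_f36303r IH) (path_edge (s0_f36245 IH) (path_nil s0_v3358))))
theorem s0_f36304r : ed sl_at s0_v3358 = s0_v3358 :=
  edge_flip (s0_f36304 IH)
theorem s0_f36242r : ed sl_ft s0_v3358 = s0_v3357 :=
  edge_flip (s0_f36242 IH)
theorem s0_f36305 : ed sl_at s0_v3357 = s0_v3357 :=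
  gap_rel s0_rot134 (path_edge (s0_f36242r IH) (path_edge (s0_f36304r IH) (path_edge (s0_f36241 IH) (path_nil s0_v3357))))
theorem s0_f36305r : ed sl_af s0_v3357 = s0_v3357 :=
  edge_flip (s0_f36305 IH)
theorem s0_f36306 : s0_v3355 = s0_v3356 :=
  (loop_rel s0_rot118 (path_edge (s0_f36235r IH) (path_edge (s0_f36238r IH) (path_edge (s0_f36305r IH) (path_edge (s0_f36239 IH) (path_nil s0_v3356)))))).symm
theorem s0_f36273r : ed sl_dt s0_v3364 = sq12399 :=
  edge_flip (s0_f36273 IH)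
theorem s0_f36260r : ed sl_ht s0_v3364 = s0_v3363 :=
  edge_flip (s0_f36260 IH)
theorem s0_f36307 : ed sl_dt s0_v3363 = s0_v3363 :=
  gap_rel s0_rot41 (path_edge (s0_f36260r IH) (path_edge (s0_f36266 IH) (path_edge (s0_f2940 IH) (path_edge (s0_f36273r IH) (path_edge (s0_f36259 IH) (path_nil s0_v3363))))))
theorem s0_f36307r : ed sl_df s0_v3363 = s0_v3363 :=
  edge_flip (s0_f36307 IH)
theorem s0_f36327 : ed sl_df s0_v3362 = s0_v3362 :=
  gap_rel s0_rot114 (path_edge (s0_f36256r IH) (path_edge (s0_f36307r IH) (path_edge (s0_f36257 IH) (path_nil s0_v3362))))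
theorem s0_f36327r : ed sl_dt s0_v3362 = s0_v3362 :=
  edge_flip (s0_f36327 IH)
theorem s0_f36328 : ed sl_dt s0_v3361 = s0_v3361 :=
  gap_rel s0_rot29 (path_edge (s0_f36254r IH) (path_edge (s0_f36327r IH) (path_edge (s0_f36253 IH) (path_nil s0_v3361))))
theorem s0_f36328r : ed sl_df s0_v3361 = s0_v3361 :=
  edge_flip (s0_f36328 IH)
theorem s0_f36329 : ed sl_cf s0_v3359 = s0_v3359 :=
  gap_rel s0_rot3 (path_edge (s0_f36247r IH) (path_edge (s0_f36250r IH) (path_edge (s0_f36328r IH) (path_edge (s0_f36251 IH) (path_edge (s0_f36248 IH) (path_nil s0_v3359))))))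
theorem s0_f36329r : ed sl_ct s0_v3359 = s0_v3359 :=
  edge_flip (s0_f36329 IH)
theorem s0_f36245r : ed sl_et s0_v3359 = s0_v3358 :=
  edge_flip (s0_f36245 IH)
theorem s0_f36330 : ed sl_ct s0_v3358 = s0_v3358 :=
  gap_rel s0_rot76 (path_edge (s0_f36245r IH) (path_edge (s0_f36329r IH) (path_edge (s0_f36244 IH) (path_nil s0_v3358))))
theorem s0_f36330r : ed sl_cf s0_v3358 = s0_v3358 :=
  edge_flip (s0_f36330 IH)
theorem s0_f36331 : ed sl_cf s0_v3357 = s0_v3357 :=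
  gap_rel s0_rot113 (path_edge (s0_f36241r IH) (path_edge (s0_f36330r IH) (path_edge (s0_f36242 IH) (path_nil s0_v3357))))
theorem s0_f36331r : ed sl_ct s0_v3357 = s0_v3357 :=
  edge_flip (s0_f36331 IH)
theorem s0_f36239r : ed sl_ht s0_v3357 = s0_v3356 :=
  edge_flip (s0_f36239 IH)
theorem s0_f36332 : ed sl_ct s0_v3356 = s0_v3356 :=
  gap_rel s0_rot68 (path_edge (s0_f36239r IH) (path_edge (s0_f36331r IH) (path_edge (s0_f36238 IH) (path_nil s0_v3356))))
theorem s0_f36332r : ed sl_cf s0_v3356 = s0_v3356 :=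
  edge_flip (s0_f36332 IH)
theorem s0_f36333 : ed sl_bf s0_v3353 = s0_v3353 :=
  gap_rel s0_rot135 (path_edge (s0_f36229r IH) (path_edge (s0_f36232r IH) (path_eq (s0_f36306 IH).symm (path_edge (s0_f36332r IH) (path_eq (s0_f36306 IH) (path_edge (s0_f36233 IH) (path_edge (s0_f36230 IH) (path_nil s0_v3353))))))))
theorem s0_f36333r : ed sl_bt s0_v3353 = s0_v3353 :=
  edge_flip (s0_f36333 IH)
theorem s0_f36227r : ed sl_dt s0_v3353 = s0_v3352 :=
  edge_flip (s0_f36227 IH)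
theorem s0_f36334 : ed sl_bt s0_v3352 = s0_v3352 :=
  gap_rel s0_rot79 (path_edge (s0_f36227r IH) (path_edge (s0_f36333r IH) (path_edge (s0_f36226 IH) (path_nil s0_v3352))))
theorem s0_f36334r : ed sl_bf s0_v3352 = s0_v3352 :=
  edge_flip (s0_f36334 IH)
theorem s0_f36335 : ed sl_bf s0_v3351 = s0_v3351 :=
  gap_rel s0_rot84 (path_edge (s0_f36223r IH) (path_edge (s0_f36334r IH) (path_edge (s0_f36224 IH) (path_nil s0_v3351))))
theorem s0_f36335r : ed sl_bt s0_v3351 = s0_v3351 :=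
  edge_flip (s0_f36335 IH)
theorem s0_f36221r : ed sl_ft s0_v3351 = s0_v3350 :=
  edge_flip (s0_f36221 IH)
theorem s0_f36336 : ed sl_bt s0_v3350 = s0_v3350 :=
  gap_rel s0_rot62 (path_edge (s0_f36221r IH) (path_edge (s0_f36335r IH) (path_edge (s0_f36220 IH) (path_nil s0_v3350))))
theorem s0_f36336r : ed sl_bf s0_v3350 = s0_v3350 :=
  edge_flip (s0_f36336 IH)
theorem s0_f36337 : ed sl_bf s0_v3349 = s0_v3349 :=
  gap_rel s0_rot73 (path_edge (s0_f36217r IH) (path_edge (s0_f36336r IH) (path_edge (s0_f36218 IH) (path_nil s0_v3349))))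
theorem s0_f36337r : ed sl_bt s0_v3349 = s0_v3349 :=
  edge_flip (s0_f36337 IH)
theorem s0_f36339 : ed sl_bt s0_v2389 = s0_v2389 :=
  gap_rel s0_rot79 (path_edge (s0_f36214r IH) (path_edge (s0_f36337r IH) (path_edge (s0_f36216 IH) (path_nil s0_v2389))))
theorem s0_f36339r : ed sl_bf s0_v2389 = s0_v2389 :=
  edge_flip (s0_f36339 IH)
theorem s0_f36340 : ed sl_af s0_v2387 = s0_v2387 :=
  gap_rel s0_rot136 (path_edge (s0_f28475r IH) (path_edge (s0_f28478r IH) (path_edge (s0_f36339r IH) (path_edge (s0_f28479 IH) (path_edge (s0_f28476 IH) (path_nil s0_v2387))))))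
theorem s0_f36340r : ed sl_at s0_v2387 = s0_v2387 :=
  edge_flip (s0_f36340 IH)
theorem s0_f28473r : ed sl_ct s0_v2387 = s0_v2386 :=
  edge_flip (s0_f28473 IH)
theorem s0_f36353 : ed sl_at s0_v2386 = s0_v2386 :=
  gap_rel s0_rot137 (path_edge (s0_f28473r IH) (path_edge (s0_f36340r IH) (path_edge (s0_f28472 IH) (path_nil s0_v2386))))
theorem s0_f36353r : ed sl_af s0_v2386 = s0_v2386 :=
  edge_flip (s0_f36353 IH)
theorem s0_f36354 : ed sl_af s0_v2385 = s0_v2385 :=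
  gap_rel s0_rot127 (path_edge (s0_f28469r IH) (path_edge (s0_f36353r IH) (path_edge (s0_f28470 IH) (path_nil s0_v2385))))
theorem s0_f36354r : ed sl_at s0_v2385 = s0_v2385 :=
  edge_flip (s0_f36354 IH)
theorem s0_f28467r : ed sl_et s0_v2385 = s0_v2384 :=
  edge_flip (s0_f28467 IH)
theorem s0_f36356 : ed sl_at s0_v2384 = s0_v2384 :=
  gap_rel s0_rot138 (path_edge (s0_f28467r IH) (path_edge (s0_f36354r IH) (path_edge (s0_f28466 IH) (path_nil s0_v2384))))
theorem s0_f36356r : ed sl_af s0_v2384 = s0_v2384 :=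
  edge_flip (s0_f36356 IH)
theorem s0_f36358 : ed sl_af s0_v2383 = s0_v2383 :=
  gap_rel s0_rot139 (path_edge (s0_f28463r IH) (path_edge (s0_f36356r IH) (path_edge (s0_f28464 IH) (path_nil s0_v2383))))
theorem s0_f36358r : ed sl_at s0_v2383 = s0_v2383 :=
  edge_flip (s0_f36358 IH)
theorem s0_f28461r : ed sl_ht s0_v2383 = s0_v2382 :=
  edge_flip (s0_f28461 IH)
theorem s0_f28456r : ed sl_at s0_v2382 = s0_v2381 :=
  edge_flip (s0_f28456 IH)
theorem s0_f36360 : s0_v2381 = s0_v2382 :=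
  (loop_rel s0_rot121 (path_edge (s0_f28456r IH) (path_edge (s0_f28461r IH) (path_edge (s0_f36358r IH) (path_edge (s0_f28460 IH) (path_nil s0_v2382)))))).symm
theorem s0_f37047 : ed sl_ht sq1036 = sq1427 :=
  real_edge rels S fwd inv o lvl plet idx 47 IH Gen.h sp1036 sp1427 rfl rfl
theorem s0_f37057 : ed sl_dt sq195 = sq285 :=
  real_edge rels S fwd inv o lvl plet idx 47 IH Gen.d sp195 sp285 rfl rfl
theorem s0_f37062 : ed sl_it sq195 = sq195 :=
  real_edge rels S fwd inv o lvl plet idx 47 IH Gen.i sp195 sp195 rfl rfl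
theorem s0_f38346 : ed sl_et sq1909 = sq1469 :=
  real_edge rels S fwd inv o lvl plet idx 47 IH Gen.e sp1909 sp1469 rfl rfl
theorem s0_f38347 : ed sl_ft sq2572 = sq1909 :=
  real_edge rels S fwd inv o lvl plet idx 47 IH Gen.f sp2572 sp1909 rfl rfl
theorem s0_f38371 : ed sl_dt sq860 = sq602 :=
  real_edge rels S fwd inv o lvl plet idx 47 IH Gen.d sp860 sp602 rfl rfl
theorem s0_f38385 : ed sl_jt sq1213 = sq1213 :=
  real_edge rels S fwd inv o lvl plet idx 47 IH Gen.j sp1213 sp1213 rfl rfl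
theorem s0_f38463 : ed sl_jt sq2250 = sq2250 :=
  real_edge rels S fwd inv o lvl plet idx 47 IH Gen.j sp2250 sp2250 rfl rfl
theorem s0_f39614 : ed sl_at sq458 = sq662 :=
  real_edge rels S fwd inv o lvl plet idx 47 IH Gen.a sp458 sp662 rfl rfl
theorem s0_f39615 : ed sl_ht sq662 = sq662 :=
  real_edge rels S fwd inv o lvl plet idx 47 IH Gen.h sp662 sp662 rfl rfl
theorem s0_f39616 : ed sl_ft sq662 = sq931 :=
  real_edge rels S fwd inv o lvl plet idx 47 IH Gen.f sp662 sp931 rfl rfl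
theorem s0_f39617 : ed sl_et sq931 = sq1303 :=
  real_edge rels S fwd inv o lvl plet idx 47 IH Gen.e sp931 sp1303 rfl rfl
theorem s0_f39618 : ed sl_at sq518 = sq518 :=
  real_edge rels S fwd inv o lvl plet idx 47 IH Gen.a sp518 sp518 rfl rfl
theorem s0_f39619 : ed sl_bt sq518 = sq518 :=
  real_edge rels S fwd inv o lvl plet idx 47 IH Gen.b sp518 sp518 rfl rfl
theorem s0_f39620 : ed sl_ct sq518 = sq518 :=
  real_edge rels S fwd inv o lvl plet idx 47 IH Gen.c sp518 sp518 rfl rfl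
theorem s0_f39621 : ed sl_et sq1033 = sq737 :=
  real_edge rels S fwd inv o lvl plet idx 47 IH Gen.e sp1033 sp737 rfl rfl
theorem s0_f39622 : ed sl_ft sq1427 = sq1033 :=
  real_edge rels S fwd inv o lvl plet idx 47 IH Gen.f sp1427 sp1033 rfl rfl
theorem s0_f39623 : ed sl_at sq1036 = sq1036 :=
  real_edge rels S fwd inv o lvl plet idx 47 IH Gen.a sp1036 sp1036 rfl rfl
theorem s0_f39624 : ed sl_bt sq1036 = sq1036 :=
  real_edge rels S fwd inv o lvl plet idx 47 IH Gen.b sp1036 sp1036 rfl rfl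
theorem s0_f39625 : ed sl_at sq2795 = sq2795 :=
  real_edge rels S fwd inv o lvl plet idx 47 IH Gen.a sp2795 sp2795 rfl rfl
theorem s0_f39626 : ed sl_bt sq3702 = sq2795 :=
  real_edge rels S fwd inv o lvl plet idx 47 IH Gen.b sp3702 sp2795 rfl rfl
theorem s0_f39627 : ed sl_ct sq1798 = s0_v3735 :=
  rfl
theorem s0_f39627r : ed sl_cf s0_v3735 = sq1798 :=
  edge_flip (s0_f39627 IH)
theorem s0_f39629 : ed sl_cf sq1798 = s0_v3735 :=
  gap_rel s0_rot0 (path_edge (s0_f39627r IH) (path_nil s0_v3735))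
theorem s0_f20887r : ed sl_ef sq1798 = sq1798 :=
  edge_flip (s0_f20887 IH)
theorem s0_f39631 : ed sl_ef s0_v3735 = s0_v3735 :=
  gap_rel s0_rot8 (path_edge (s0_f39629 IH) (path_edge (s0_f20887r IH) (path_edge (s0_f39627r IH) (path_nil s0_v3735))))
theorem s0_f39651 : ed sl_bt s0_v3735 = s0_v3736 :=
  rfl
theorem s0_f39651r : ed sl_bf s0_v3736 = s0_v3735 :=
  edge_flip (s0_f39651 IH)
theorem s0_f39652 : ed sl_bf s0_v3735 = s0_v3736 :=
  gap_rel s0_rot20 (path_edge (s0_f39651r IH) (path_nil s0_v3736))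
theorem s0_f39654 : ed sl_ef s0_v3736 = s0_v3736 :=
  gap_rel s0_rot100 (path_edge (s0_f39652 IH) (path_edge (s0_f39631 IH) (path_edge (s0_f39651r IH) (path_nil s0_v3736))))
theorem s0_f39658 : ed sl_at s0_v3736 = s0_v3737 :=
  rfl
theorem s0_f39658r : ed sl_af s0_v3737 = s0_v3736 :=
  edge_flip (s0_f39658 IH)
theorem s0_f39659 : ed sl_af s0_v3736 = s0_v3737 :=
  gap_rel s0_rot105 (path_edge (s0_f39658r IH) (path_nil s0_v3737))
theorem s0_f39661 : ed sl_ef s0_v3737 = s0_v3737 :=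
  gap_rel s0_rot140 (path_edge (s0_f39659 IH) (path_edge (s0_f39654 IH) (path_edge (s0_f39658r IH) (path_nil s0_v3737))))
theorem s0_f39665 : ed sl_ht s0_v3737 = s0_v3738 :=
  rfl
theorem s0_f39665r : ed sl_hf s0_v3738 = s0_v3737 :=
  edge_flip (s0_f39665 IH)
theorem s0_f39666 : ed sl_hf s0_v3737 = s0_v3738 :=
  gap_rel s0_rot13 (path_edge (s0_f39665r IH) (path_nil s0_v3738))
theorem s0_f39666r : ed sl_ht s0_v3738 = s0_v3737 :=
  edge_flip (s0_f39666 IH)
theorem s0_f39661r : ed sl_et s0_v3737 = s0_v3737 :=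
  edge_flip (s0_f39661 IH)
theorem s0_f39668 : ed sl_et s0_v3738 = s0_v3738 :=
  gap_rel s0_rot16 (path_edge (s0_f39665 IH) (path_edge (s0_f39661r IH) (path_edge (s0_f39666r IH) (path_nil s0_v3738))))
theorem s0_f39669 : ed sl_ft s0_v3738 = s0_v3739 :=
  rfl
theorem s0_f39669r : ed sl_ff s0_v3739 = s0_v3738 :=
  edge_flip (s0_f39669 IH)
theorem s0_f39670 : ed sl_ff s0_v3738 = s0_v3739 :=
  gap_rel s0_rot22 (path_edge (s0_f39669r IH) (path_nil s0_v3739))
theorem s0_f39672 : ed sl_et s0_v3739 = s0_v3740 :=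
  rfl
theorem s0_f39672r : ed sl_ef s0_v3740 = s0_v3739 :=
  edge_flip (s0_f39672 IH)
theorem s0_f39673 : ed sl_ef s0_v3739 = s0_v3740 :=
  gap_rel s0_rot17 (path_edge (s0_f39672r IH) (path_nil s0_v3740))
theorem s0_f39668r : ed sl_ef s0_v3738 = s0_v3738 :=
  edge_flip (s0_f39668 IH)
theorem s0_f39674 : ed sl_ff s0_v3740 = s0_v3740 :=
  gap_rel s0_rot61 (path_edge (s0_f39673 IH) (path_edge (s0_f39670 IH) (path_edge (s0_f39668r IH) (path_edge (s0_f39669r IH) (path_edge (s0_f39672r IH) (path_nil s0_v3740))))))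
theorem s0_f39676 : ed sl_dt s0_v3740 = s0_v3741 :=
  rfl
theorem s0_f39676r : ed sl_df s0_v3741 = s0_v3740 :=
  edge_flip (s0_f39676 IH)
theorem s0_f39677 : ed sl_df s0_v3740 = s0_v3741 :=
  gap_rel s0_rot4 (path_edge (s0_f39676r IH) (path_nil s0_v3741))
theorem s0_f39678 : ed sl_ff s0_v3741 = s0_v3741 :=
  gap_rel s0_rot5 (path_edge (s0_f39677 IH) (path_edge (s0_f39674 IH) (path_edge (s0_f39676r IH) (path_nil s0_v3741))))
theorem s0_f39680 : ed sl_ct s0_v3741 = s0_v3742 :=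
  rfl
theorem s0_f39680r : ed sl_cf s0_v3742 = s0_v3741 :=
  edge_flip (s0_f39680 IH)
theorem s0_f39681 : ed sl_cf s0_v3741 = s0_v3742 :=
  gap_rel s0_rot0 (path_edge (s0_f39680r IH) (path_nil s0_v3742))
theorem s0_f39682 : ed sl_ff s0_v3742 = s0_v3742 :=
  gap_rel s0_rot1 (path_edge (s0_f39681 IH) (path_edge (s0_f39678 IH) (path_edge (s0_f39680r IH) (path_nil s0_v3742))))
theorem s0_f39684 : ed sl_bt s0_v3742 = s0_v3743 :=
  rfl
theorem s0_f39684r : ed sl_bf s0_v3743 = s0_v3742 :=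
  edge_flip (s0_f39684 IH)
theorem s0_f39685 : ed sl_bf s0_v3742 = s0_v3743 :=
  gap_rel s0_rot20 (path_edge (s0_f39684r IH) (path_nil s0_v3743))
theorem s0_f39686 : ed sl_ff s0_v3743 = s0_v3743 :=
  gap_rel s0_rot54 (path_edge (s0_f39685 IH) (path_edge (s0_f39682 IH) (path_edge (s0_f39684r IH) (path_nil s0_v3743))))
theorem s0_f39688 : ed sl_at s0_v3743 = s0_v3744 :=
  rfl
theorem s0_f39688r : ed sl_af s0_v3744 = s0_v3743 :=
  edge_flip (s0_f39688 IH)
theorem s0_f39689 : ed sl_af s0_v3743 = s0_v3744 :=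
  gap_rel s0_rot105 (path_edge (s0_f39688r IH) (path_nil s0_v3744))
theorem s0_f39690 : ed sl_ff s0_v3744 = s0_v3744 :=
  gap_rel s0_rot116 (path_edge (s0_f39689 IH) (path_edge (s0_f39686 IH) (path_edge (s0_f39688r IH) (path_nil s0_v3744))))
theorem s0_f39692 : ed sl_ht s0_v3744 = s0_v3745 :=
  rfl
theorem s0_f39692r : ed sl_hf s0_v3745 = s0_v3744 :=
  edge_flip (s0_f39692 IH)
theorem s0_f39693 : ed sl_hf s0_v3744 = s0_v3745 :=
  gap_rel s0_rot13 (path_edge (s0_f39692r IH) (path_nil s0_v3745))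
theorem s0_f39694 : ed sl_ff s0_v3745 = s0_v3745 :=
  gap_rel s0_rot14 (path_edge (s0_f39693 IH) (path_edge (s0_f39690 IH) (path_edge (s0_f39692r IH) (path_nil s0_v3745))))
theorem s0_f39696 : ed sl_et s0_v3745 = s0_v3746 :=
  rfl
theorem s0_f39699 : ed sl_dt s0_v3746 = s0_v3747 :=
  rfl
theorem s0_f39702 : ed sl_ct s0_v3747 = s0_v3748 :=
  rfl
theorem s0_f39705 : ed sl_bt s0_v3748 = s0_v3749 :=
  rfl
theorem s0_f39708 : ed sl_at s0_v3749 = s0_v3750 :=
  rfl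
theorem s0_f39711 : ed sl_ht s0_v3750 = s0_v3751 :=
  rfl
theorem s0_f39714 : ed sl_ft s0_v3751 = s0_v3752 :=
  rfl
theorem s0_f39717 : ed sl_et s0_v3752 = s0_v3753 :=
  rfl
theorem s0_f39720 : ed sl_dt s0_v3753 = s0_v3754 :=
  rfl
theorem s0_f39723 : ed sl_ct s0_v3754 = s0_v3755 :=
  rfl
theorem s0_f39726 : ed sl_bt s0_v3755 = s0_v3756 :=
  rfl
theorem s0_f39729 : ed sl_at s0_v3756 = s0_v3757 :=
  rfl
theorem s0_f39732 : ed sl_ht s0_v3757 = s0_v3758 :=
  rfl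
theorem s0_f39732r : ed sl_hf s0_v3758 = s0_v3757 :=
  edge_flip (s0_f39732 IH)
theorem s0_f39733 : ed sl_hf s0_v3757 = s0_v3758 :=
  gap_rel s0_rot13 (path_edge (s0_f39732r IH) (path_nil s0_v3758))
theorem s0_f39735 : ed sl_ft s0_v3758 = s0_v3759 :=
  rfl
theorem s0_f39735r : ed sl_ff s0_v3759 = s0_v3758 :=
  edge_flip (s0_f39735 IH)
theorem s0_f39736 : ed sl_ff s0_v3758 = s0_v3759 :=
  gap_rel s0_rot22 (path_edge (s0_f39735r IH) (path_nil s0_v3759))
theorem s0_f39738 : ed sl_et s0_v3759 = s0_v3760 :=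
  rfl
theorem s0_f39738r : ed sl_ef s0_v3760 = s0_v3759 :=
  edge_flip (s0_f39738 IH)
theorem s0_f39739 : ed sl_ef s0_v3759 = s0_v3760 :=
  gap_rel s0_rot17 (path_edge (s0_f39738r IH) (path_nil s0_v3760))
theorem s0_f39741 : ed sl_dt s0_v3760 = s0_v3761 :=
  rfl
theorem s0_f39741r : ed sl_df s0_v3761 = s0_v3760 :=
  edge_flip (s0_f39741 IH)
theorem s0_f39742 : ed sl_df s0_v3760 = s0_v3761 :=
  gap_rel s0_rot4 (path_edge (s0_f39741r IH) (path_nil s0_v3761))
theorem s0_f39729r : ed sl_af s0_v3757 = s0_v3756 :=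
  edge_flip (s0_f39729 IH)
theorem s0_f39726r : ed sl_bf s0_v3756 = s0_v3755 :=
  edge_flip (s0_f39726 IH)
theorem s0_f39723r : ed sl_cf s0_v3755 = s0_v3754 :=
  edge_flip (s0_f39723 IH)
theorem s0_f39720r : ed sl_df s0_v3754 = s0_v3753 :=
  edge_flip (s0_f39720 IH)
theorem s0_f39717r : ed sl_ef s0_v3753 = s0_v3752 :=
  edge_flip (s0_f39717 IH)
theorem s0_f39714r : ed sl_ff s0_v3752 = s0_v3751 :=
  edge_flip (s0_f39714 IH)
theorem s0_f39711r : ed sl_hf s0_v3751 = s0_v3750 :=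
  edge_flip (s0_f39711 IH)
theorem s0_f39708r : ed sl_af s0_v3750 = s0_v3749 :=
  edge_flip (s0_f39708 IH)
theorem s0_f39705r : ed sl_bf s0_v3749 = s0_v3748 :=
  edge_flip (s0_f39705 IH)
theorem s0_f39702r : ed sl_cf s0_v3748 = s0_v3747 :=
  edge_flip (s0_f39702 IH)
theorem s0_f39699r : ed sl_df s0_v3747 = s0_v3746 :=
  edge_flip (s0_f39699 IH)
theorem s0_f39696r : ed sl_ef s0_v3746 = s0_v3745 :=
  edge_flip (s0_f39696 IH)
theorem s0_f8076r : ed sl_df sq1798 = sq1303 :=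
  edge_flip (s0_f8076 IH)
theorem s0_f39617r : ed sl_ef sq1303 = sq931 :=
  edge_flip (s0_f39617 IH)
theorem s0_f39616r : ed sl_ff sq931 = sq662 :=
  edge_flip (s0_f39616 IH)
theorem s0_f39615r : ed sl_hf sq662 = sq662 :=
  edge_flip (s0_f39615 IH)
theorem s0_f39614r : ed sl_af sq662 = sq458 :=
  edge_flip (s0_f39614 IH)

end

end

end Cfsg.Agent.Helper28.S1689
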