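import Cfsg.Agent.Lib.Helper28.S1689.Seeds7

set_option autoImplicit false
set_option maxRecDepth 100000
set_option linter.all false

namespace Cfsg.Agent.Helper28.S1689

open Cfsg.Agent.Helper28
open Cfsg.Spor.Fi23 (Gen)

noncomputable section

section
variable (IH : ∀ y q, lvl y q < 47 → EntryOK rels S fwd inv o plet idx y q)
include IH

theorem s0_f13475r : ed sl_bf sq458 = sq312 :=
  edge_flip (s0_f13475 IH)
theorem s0_f3053r : ed sl_cf sq312 = sq214 :=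
  edge_flip (s0_f3053 IH)
theorem s0_f3051r : ed sl_df sq214 = sq146 :=
  edge_flip (s0_f3051 IH)
theorem s0_f3050r : ed sl_ef sq146 = sq146 :=
  edge_flip (s0_f3050 IH)
theorem s0_f3049r : ed sl_ff sq146 = sq212 :=
  edge_flip (s0_f3049 IH)
theorem s0_f10009r : ed sl_hf sq212 = sq144 :=
  edge_flip (s0_f10009 IH)
theorem s0_f35687r : ed sl_af sq144 = sq186 :=
  edge_flip (s0_f35687 IH)
theorem s0_f3488r : ed sl_cf sq252 = sq354 :=
  edge_flip (s0_f3488 IH)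
theorem s0_f3490r : ed sl_df sq354 = sq514 :=
  edge_flip (s0_f3490 IH)
theorem s0_f3491r : ed sl_ef sq514 = sq514 :=
  edge_flip (s0_f3491 IH)
theorem s0_f3492r : ed sl_ff sq514 = sq357 :=
  edge_flip (s0_f3492 IH)
theorem s0_f24569r : ed sl_hf sq357 = sq518 :=
  edge_flip (s0_f24569 IH)
theorem s0_f39618r : ed sl_af sq518 = sq518 :=
  edge_flip (s0_f39618 IH)
theorem s0_f39619r : ed sl_bf sq518 = sq518 :=
  edge_flip (s0_f39619 IH)
theorem s0_f39620r : ed sl_cf sq518 = sq518 :=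
  edge_flip (s0_f39620 IH)
theorem s0_f24571r : ed sl_df sq518 = sq737 :=
  edge_flip (s0_f24571 IH)
theorem s0_f39621r : ed sl_ef sq737 = sq1033 :=
  edge_flip (s0_f39621 IH)
theorem s0_f39622r : ed sl_ff sq1033 = sq1427 :=
  edge_flip (s0_f39622 IH)
theorem s0_f37047r : ed sl_hf sq1427 = sq1036 :=
  edge_flip (s0_f37047 IH)
theorem s0_f39623r : ed sl_af sq1036 = sq1036 :=
  edge_flip (s0_f39623 IH)
theorem s0_f39624r : ed sl_bf sq1036 = sq1036 :=
  edge_flip (s0_f39624 IH)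
theorem s0_f24069r : ed sl_cf sq1036 = sq1431 :=
  edge_flip (s0_f24069 IH)
theorem s0_f25070r : ed sl_df sq1431 = sq1954 :=
  edge_flip (s0_f25070 IH)
theorem s0_f25071r : ed sl_ef sq1954 = sq2642 :=
  edge_flip (s0_f25071 IH)
theorem s0_f25072r : ed sl_ff sq2642 = sq2058 :=
  edge_flip (s0_f25072 IH)
theorem s0_f3610r : ed sl_hf sq2058 = sq2795 :=
  edge_flip (s0_f3610 IH)
theorem s0_f39625r : ed sl_af sq2795 = sq2795 :=
  edge_flip (s0_f39625 IH)
theorem s0_f39626r : ed sl_bf sq2795 = sq3702 :=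
  edge_flip (s0_f39626 IH)
theorem s0_f39744 : ed sl_cf sq3702 = s0_v3761 :=
  gap_rel s0_rot141 (path_edge (s0_f39626r IH) (path_edge (s0_f39625r IH) (path_edge (s0_f3610r IH) (path_edge (s0_f25072r IH) (path_edge (s0_f25071r IH) (path_edge (s0_f25070r IH) (path_edge (s0_f24069r IH) (path_edge (s0_f39624r IH) (path_edge (s0_f39623r IH) (path_edge (s0_f37047r IH) (path_edge (s0_f39622r IH) (path_edge (s0_f39621r IH) (path_edge (s0_f24571r IH) (path_edge (s0_f39620r IH) (path_edge (s0_f39619r IH) (path_edge (s0_f39618r IH) (path_edge (s0_f24569r IH) (path_edge (s0_f3492r IH) (path_edge (s0_f3491r IH) (path_edge (s0_f3490r IH) (path_edge (s0_f3488r IH) (path_edge (s0_f10343r IH) (path_edge (s0_f35687r IH) (path_edge (s0_f10009r IH) (path_edge (s0_f3049r IH) (path_edge (s0_f3050r IH) (path_edge (s0_f3051r IH) (path_edge (s0_f3053r IH) (path_edge (s0_f13475r IH) (path_edge (s0_f39614r IH) (path_edge (s0_f39615r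 IH) (path_edge (s0_f39616r IH) (path_edge (s0_f39617r IH) (path_edge (s0_f8076r IH) (path_edge (s0_f39627r IH) (path_edge (s0_f39651r IH) (path_edge (s0_f39658r IH) (path_edge (s0_f39665r IH) (path_edge (s0_f39669r IH) (path_edge (s0_f39672r IH) (path_edge (s0_f39676r IH) (path_edge (s0_f39680r IH) (path_edge (s0_f39684r IH) (path_edge (s0_f39688r IH) (path_edge (s0_f39692r IH) (path_edge (s0_f39694 IH) (path_edge (s0_f39696r IH) (path_edge (s0_f39699r IH) (path_edge (s0_f39702r IH) (path_edge (s0_f39705r IH) (path_edge (s0_f39708r IH) (path_edge (s0_f39711r IH) (path_edge (s0_f39714r IH) (path_edge (s0_f39717r IH) (path_edge (s0_f39720r IH) (path_edge (s0_f39723r IH) (path_edge (s0_f39726r IH) (path_edge (s0_f39729r IH) (path_edge (s0_f39732r IH) (path_edge (s0_f39735r IH) (path_edge (s0_f39738r IH) (path_edge (s0_f39741r IH) (path_nil s0_v3761)))))))))))))))))))))))))))))))))))))))))))))))))))))))))))))))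
theorem s0_f39744r : ed sl_ct s0_v3761 = sq3702 :=
  edge_flip (s0_f39744 IH)
theorem s0_f39747 : ed sl_ct sq3702 = s0_v3761 :=
  gap_rel s0_rot64 (path_edge (s0_f39744r IH) (path_nil s0_v3761))
theorem s0_f39750 : ed sl_ht sq3702 = sq2790 :=
  real_edge rels S fwd inv o lvl plet idx 47 IH Gen.h sp3702 sp2790 rfl rfl
theorem s0_f39751 : ed sl_ht sq3699 = s0_v3761 :=
  gap_rel s0_rot65 (path_edge (s0_f10257 IH) (path_edge (s0_f39750 IH) (path_edge (s0_f39744r IH) (path_nil s0_v3761))))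
theorem s0_f39754 : ed sl_bt sq3699 = sq3699 :=
  real_edge rels S fwd inv o lvl plet idx 47 IH Gen.b sp3699 sp3699 rfl rfl
theorem s0_f39751r : ed sl_hf s0_v3761 = sq3699 :=
  edge_flip (s0_f39751 IH)
theorem s0_f39756 : ed sl_hf sq3699 = s0_v3761 :=
  gap_rel s0_rot13 (path_edge (s0_f39751r IH) (path_nil s0_v3761))
theorem s0_f39756r : ed sl_ht s0_v3761 = sq3699 :=
  edge_flip (s0_f39756 IH)
theorem s0_f39759 : ed sl_bt s0_v3761 = s0_v3761 :=
  gap_rel s0_rot43 (path_edge (s0_f39751 IH) (path_edge (s0_f39754 IH) (path_edge (s0_f39756r IH) (path_nil s0_v3761))))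
theorem s0_f39759r : ed sl_bf s0_v3761 = s0_v3761 :=
  edge_flip (s0_f39759 IH)
theorem s0_f39770 : ed sl_bf s0_v3760 = s0_v3760 :=
  gap_rel s0_rot75 (path_edge (s0_f39741r IH) (path_edge (s0_f39759r IH) (path_edge (s0_f39742 IH) (path_nil s0_v3760))))
theorem s0_f39770r : ed sl_bt s0_v3760 = s0_v3760 :=
  edge_flip (s0_f39770 IH)
theorem s0_f39739r : ed sl_et s0_v3760 = s0_v3759 :=
  edge_flip (s0_f39739 IH)
theorem s0_f39771 : ed sl_bt s0_v3759 = s0_v3759 :=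
  gap_rel s0_rot77 (path_edge (s0_f39739r IH) (path_edge (s0_f39770r IH) (path_edge (s0_f39738 IH) (path_nil s0_v3759))))
theorem s0_f39771r : ed sl_bf s0_v3759 = s0_v3759 :=
  edge_flip (s0_f39771 IH)
theorem s0_f39772 : ed sl_bf s0_v3758 = s0_v3758 :=
  gap_rel s0_rot93 (path_edge (s0_f39735r IH) (path_edge (s0_f39771r IH) (path_edge (s0_f39736 IH) (path_nil s0_v3758))))
theorem s0_f39772r : ed sl_bt s0_v3758 = s0_v3758 :=
  edge_flip (s0_f39772 IH)
theorem s0_f39733r : ed sl_ht s0_v3758 = s0_v3757 :=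
  edge_flip (s0_f39733 IH)
theorem s0_f39773 : ed sl_bt s0_v3757 = s0_v3757 :=
  gap_rel s0_rot43 (path_edge (s0_f39733r IH) (path_edge (s0_f39772r IH) (path_edge (s0_f39732 IH) (path_nil s0_v3757))))
theorem s0_f39782 : ed sl_ft sq4479 = sq3702 :=
  real_edge rels S fwd inv o lvl plet idx 47 IH Gen.f sp4479 sp3702 rfl rfl
theorem s0_f39810 : ed sl_at s0_v634 = s0_v3762 :=
  rfl
theorem s0_f39810r : ed sl_af s0_v3762 = s0_v634 :=
  edge_flip (s0_f39810 IH)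
theorem s0_f39811 : ed sl_af s0_v634 = s0_v3762 :=
  gap_rel s0_rot105 (path_edge (s0_f39810r IH) (path_nil s0_v3762))
theorem s0_f39813 : ed sl_df s0_v3762 = s0_v3762 :=
  gap_rel s0_rot114 (path_edge (s0_f39811 IH) (path_eq (s0_f8487 IH).symm (path_edge (s0_f8397 IH) (path_edge (s0_f39810r IH) (path_nil s0_v3762)))))
theorem s0_f39814 : ed sl_hf s0_v3762 = s0_v3762 :=
  gap_rel s0_rot108 (path_edge (s0_f39811 IH) (path_eq (s0_f8487 IH).symm (path_edge (s0_f8485r IH) (path_eq (s0_f8487 IH) (path_edge (s0_f39810r IH) (path_nil s0_v3762))))))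
theorem s0_f39815 : ed sl_ff s0_v3762 = s0_v3762 :=
  gap_rel s0_rot116 (path_edge (s0_f39811 IH) (path_edge (s0_f8475 IH) (path_edge (s0_f39810r IH) (path_nil s0_v3762))))
theorem s0_f39818 : ed sl_et s0_v3762 = s0_v3763 :=
  rfl
theorem s0_f39818r : ed sl_ef s0_v3763 = s0_v3762 :=
  edge_flip (s0_f39818 IH)
theorem s0_f39820 : ed sl_ef s0_v3762 = s0_v3763 :=
  gap_rel s0_rot17 (path_edge (s0_f39818r IH) (path_nil s0_v3763))
theorem s0_f39826 : ed sl_dt s0_v3763 = s0_v3764 :=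
  rfl
theorem s0_f39826r : ed sl_df s0_v3764 = s0_v3763 :=
  edge_flip (s0_f39826 IH)
theorem s0_f39827 : ed sl_df s0_v3763 = s0_v3764 :=
  gap_rel s0_rot4 (path_edge (s0_f39826r IH) (path_nil s0_v3764))
theorem s0_f39828 : ed sl_ef s0_v3764 = s0_v3764 :=
  gap_rel s0_rot95 (path_edge (s0_f39827 IH) (path_edge (s0_f39820 IH) (path_edge (s0_f39813 IH) (path_edge (s0_f39818r IH) (path_edge (s0_f39826r IH) (path_nil s0_v3764))))))
theorem s0_f39832 : ed sl_ct s0_v3764 = s0_v3765 :=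
  rfl
theorem s0_f39832r : ed sl_cf s0_v3765 = s0_v3764 :=
  edge_flip (s0_f39832 IH)
theorem s0_f39833 : ed sl_cf s0_v3764 = s0_v3765 :=
  gap_rel s0_rot0 (path_edge (s0_f39832r IH) (path_nil s0_v3765))
theorem s0_f39834 : ed sl_ef s0_v3765 = s0_v3765 :=
  gap_rel s0_rot8 (path_edge (s0_f39833 IH) (path_edge (s0_f39828 IH) (path_edge (s0_f39832r IH) (path_nil s0_v3765))))
theorem s0_f39837 : ed sl_bt s0_v3765 = s0_v3766 :=
  rfl
theorem s0_f39837r : ed sl_bf s0_v3766 = s0_v3765 :=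
  edge_flip (s0_f39837 IH)
theorem s0_f39838 : ed sl_bf s0_v3765 = s0_v3766 :=
  gap_rel s0_rot20 (path_edge (s0_f39837r IH) (path_nil s0_v3766))
theorem s0_f39840 : ed sl_ef s0_v3766 = s0_v3766 :=
  gap_rel s0_rot100 (path_edge (s0_f39838 IH) (path_edge (s0_f39834 IH) (path_edge (s0_f39837r IH) (path_nil s0_v3766))))
theorem s0_f39843 : ed sl_at s0_v3766 = s0_v3767 :=
  rfl
theorem s0_f39843r : ed sl_af s0_v3767 = s0_v3766 :=
  edge_flip (s0_f39843 IH)
theorem s0_f39844 : ed sl_af s0_v3766 = s0_v3767 :=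
  gap_rel s0_rot105 (path_edge (s0_f39843r IH) (path_nil s0_v3767))
theorem s0_f39846 : ed sl_ef s0_v3767 = s0_v3767 :=
  gap_rel s0_rot140 (path_edge (s0_f39844 IH) (path_edge (s0_f39840 IH) (path_edge (s0_f39843r IH) (path_nil s0_v3767))))
theorem s0_f39849 : ed sl_ht s0_v3767 = s0_v3768 :=
  rfl
theorem s0_f39849r : ed sl_hf s0_v3768 = s0_v3767 :=
  edge_flip (s0_f39849 IH)
theorem s0_f39850 : ed sl_hf s0_v3767 = s0_v3768 :=
  gap_rel s0_rot13 (path_edge (s0_f39849r IH) (path_nil s0_v3768))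
theorem s0_f39850r : ed sl_ht s0_v3768 = s0_v3767 :=
  edge_flip (s0_f39850 IH)
theorem s0_f39846r : ed sl_et s0_v3767 = s0_v3767 :=
  edge_flip (s0_f39846 IH)
theorem s0_f39853 : ed sl_et s0_v3768 = s0_v3768 :=
  gap_rel s0_rot16 (path_edge (s0_f39849 IH) (path_edge (s0_f39846r IH) (path_edge (s0_f39850r IH) (path_nil s0_v3768))))
theorem s0_f39854 : ed sl_ft s0_v3768 = s0_v3769 :=
  rfl
theorem s0_f39854r : ed sl_ff s0_v3769 = s0_v3768 :=
  edge_flip (s0_f39854 IH)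
theorem s0_f39855 : ed sl_ff s0_v3768 = s0_v3769 :=
  gap_rel s0_rot22 (path_edge (s0_f39854r IH) (path_nil s0_v3769))
theorem s0_f39858 : ed sl_et s0_v3769 = s0_v3770 :=
  rfl
theorem s0_f39858r : ed sl_ef s0_v3770 = s0_v3769 :=
  edge_flip (s0_f39858 IH)
theorem s0_f39859 : ed sl_ef s0_v3769 = s0_v3770 :=
  gap_rel s0_rot17 (path_edge (s0_f39858r IH) (path_nil s0_v3770))
theorem s0_f39853r : ed sl_ef s0_v3768 = s0_v3768 :=
  edge_flip (s0_f39853 IH)
theorem s0_f39860 : ed sl_ff s0_v3770 = s0_v3770 :=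
  gap_rel s0_rot61 (path_edge (s0_f39859 IH) (path_edge (s0_f39855 IH) (path_edge (s0_f39853r IH) (path_edge (s0_f39854r IH) (path_edge (s0_f39858r IH) (path_nil s0_v3770))))))
theorem s0_f39863 : ed sl_dt s0_v3770 = s0_v3771 :=
  rfl
theorem s0_f39863r : ed sl_df s0_v3771 = s0_v3770 :=
  edge_flip (s0_f39863 IH)
theorem s0_f39864 : ed sl_df s0_v3770 = s0_v3771 :=
  gap_rel s0_rot4 (path_edge (s0_f39863r IH) (path_nil s0_v3771))
theorem s0_f39865 : ed sl_ff s0_v3771 = s0_v3771 :=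
  gap_rel s0_rot5 (path_edge (s0_f39864 IH) (path_edge (s0_f39860 IH) (path_edge (s0_f39863r IH) (path_nil s0_v3771))))
theorem s0_f39867 : ed sl_ct s0_v3771 = s0_v3772 :=
  rfl
theorem s0_f39867r : ed sl_cf s0_v3772 = s0_v3771 :=
  edge_flip (s0_f39867 IH)
theorem s0_f39868 : ed sl_cf s0_v3771 = s0_v3772 :=
  gap_rel s0_rot0 (path_edge (s0_f39867r IH) (path_nil s0_v3772))
theorem s0_f39870 : ed sl_ff s0_v3772 = s0_v3772 :=
  gap_rel s0_rot1 (path_edge (s0_f39868 IH) (path_edge (s0_f39865 IH) (path_edge (s0_f39867r IH) (path_nil s0_v3772))))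
theorem s0_f39872 : ed sl_bt s0_v3772 = s0_v3773 :=
  rfl
theorem s0_f39872r : ed sl_bf s0_v3773 = s0_v3772 :=
  edge_flip (s0_f39872 IH)
theorem s0_f39873 : ed sl_bf s0_v3772 = s0_v3773 :=
  gap_rel s0_rot20 (path_edge (s0_f39872r IH) (path_nil s0_v3773))
theorem s0_f39875 : ed sl_ff s0_v3773 = s0_v3773 :=
  gap_rel s0_rot54 (path_edge (s0_f39873 IH) (path_edge (s0_f39870 IH) (path_edge (s0_f39872r IH) (path_nil s0_v3773))))
theorem s0_f39877 : ed sl_at s0_v3773 = s0_v3774 :=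
  rfl
theorem s0_f39877r : ed sl_af s0_v3774 = s0_v3773 :=
  edge_flip (s0_f39877 IH)
theorem s0_f39878 : ed sl_af s0_v3773 = s0_v3774 :=
  gap_rel s0_rot105 (path_edge (s0_f39877r IH) (path_nil s0_v3774))
theorem s0_f39880 : ed sl_ff s0_v3774 = s0_v3774 :=
  gap_rel s0_rot116 (path_edge (s0_f39878 IH) (path_edge (s0_f39875 IH) (path_edge (s0_f39877r IH) (path_nil s0_v3774))))
theorem s0_f39882 : ed sl_ht s0_v3774 = s0_v3775 :=
  rfl
theorem s0_f39882r : ed sl_hf s0_v3775 = s0_v3774 :=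
  edge_flip (s0_f39882 IH)
theorem s0_f39883 : ed sl_hf s0_v3774 = s0_v3775 :=
  gap_rel s0_rot13 (path_edge (s0_f39882r IH) (path_nil s0_v3775))
theorem s0_f39884 : ed sl_ff s0_v3775 = s0_v3775 :=
  gap_rel s0_rot14 (path_edge (s0_f39883 IH) (path_edge (s0_f39880 IH) (path_edge (s0_f39882r IH) (path_nil s0_v3775))))
theorem s0_f39886 : ed sl_et s0_v3775 = s0_v3776 :=
  rfl
theorem s0_f39889 : ed sl_dt s0_v3776 = s0_v3777 :=
  rfl
theorem s0_f39892 : ed sl_ct s0_v3777 = s0_v3778 :=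
  rfl
theorem s0_f39895 : ed sl_bt s0_v3778 = s0_v3779 :=
  rfl
theorem s0_f39898 : ed sl_at s0_v3779 = s0_v3780 :=
  rfl
theorem s0_f39901 : ed sl_ht s0_v3780 = s0_v3781 :=
  rfl
theorem s0_f39904 : ed sl_ft s0_v3781 = s0_v3782 :=
  rfl
theorem s0_f39907 : ed sl_et s0_v3782 = s0_v3783 :=
  rfl
theorem s0_f39910 : ed sl_dt s0_v3783 = s0_v3784 :=
  rfl
theorem s0_f39913 : ed sl_ct s0_v3784 = s0_v3785 :=
  rfl
theorem s0_f39916 : ed sl_bt s0_v3785 = s0_v3786 :=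
  rfl
theorem s0_f39919 : ed sl_at s0_v3786 = s0_v3787 :=
  rfl
theorem s0_f39922 : ed sl_ht s0_v3787 = s0_v3788 :=
  rfl
theorem s0_f39925 : ed sl_ft s0_v3788 = s0_v3789 :=
  rfl
theorem s0_f39928 : ed sl_et s0_v3789 = s0_v3790 :=
  rfl
theorem s0_f39928r : ed sl_ef s0_v3790 = s0_v3789 :=
  edge_flip (s0_f39928 IH)
theorem s0_f39929 : ed sl_ef s0_v3789 = s0_v3790 :=
  gap_rel s0_rot17 (path_edge (s0_f39928r IH) (path_nil s0_v3790))
theorem s0_f39931 : ed sl_dt s0_v3790 = s0_v3791 :=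
  rfl
theorem s0_f39934 : ed sl_ct s0_v3791 = s0_v3792 :=
  rfl
theorem s0_f39934r : ed sl_cf s0_v3792 = s0_v3791 :=
  edge_flip (s0_f39934 IH)
theorem s0_f39935 : ed sl_cf s0_v3791 = s0_v3792 :=
  gap_rel s0_rot0 (path_edge (s0_f39934r IH) (path_nil s0_v3792))
theorem s0_f39931r : ed sl_df s0_v3791 = s0_v3790 :=
  edge_flip (s0_f39931 IH)
theorem s0_f39925r : ed sl_ff s0_v3789 = s0_v3788 :=
  edge_flip (s0_f39925 IH)
theorem s0_f39922r : ed sl_hf s0_v3788 = s0_v3787 :=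
  edge_flip (s0_f39922 IH)
theorem s0_f39919r : ed sl_af s0_v3787 = s0_v3786 :=
  edge_flip (s0_f39919 IH)
theorem s0_f39916r : ed sl_bf s0_v3786 = s0_v3785 :=
  edge_flip (s0_f39916 IH)
theorem s0_f39913r : ed sl_cf s0_v3785 = s0_v3784 :=
  edge_flip (s0_f39913 IH)
theorem s0_f39910r : ed sl_df s0_v3784 = s0_v3783 :=
  edge_flip (s0_f39910 IH)
theorem s0_f39907r : ed sl_ef s0_v3783 = s0_v3782 :=
  edge_flip (s0_f39907 IH)
theorem s0_f39904r : ed sl_ff s0_v3782 = s0_v3781 :=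
  edge_flip (s0_f39904 IH)
theorem s0_f39901r : ed sl_hf s0_v3781 = s0_v3780 :=
  edge_flip (s0_f39901 IH)
theorem s0_f39898r : ed sl_af s0_v3780 = s0_v3779 :=
  edge_flip (s0_f39898 IH)
theorem s0_f39895r : ed sl_bf s0_v3779 = s0_v3778 :=
  edge_flip (s0_f39895 IH)
theorem s0_f39892r : ed sl_cf s0_v3778 = s0_v3777 :=
  edge_flip (s0_f39892 IH)
theorem s0_f39889r : ed sl_df s0_v3777 = s0_v3776 :=
  edge_flip (s0_f39889 IH)
theorem s0_f39886r : ed sl_ef s0_v3776 = s0_v3775 :=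
  edge_flip (s0_f39886 IH)
theorem s0_f8511r : ed sl_af s0_v640 = s0_v644 :=
  edge_flip (s0_f8511 IH)
theorem s0_f8446r : ed sl_df sq302 = sq206 :=
  edge_flip (s0_f8446 IH)
theorem s0_f8447r : ed sl_ef sq206 = sq144 :=
  edge_flip (s0_f8447 IH)
theorem s0_f8448r : ed sl_ff sq144 = sq99 :=
  edge_flip (s0_f8448 IH)
theorem s0_f8450r : ed sl_hf sq99 = sq146 :=
  edge_flip (s0_f8450 IH)
theorem s0_f8522r : ed sl_af sq146 = sq188 :=
  edge_flip (s0_f8522 IH)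
theorem s0_f8523r : ed sl_bf sq188 = sq254 :=
  edge_flip (s0_f8523 IH)
theorem s0_f8524r : ed sl_cf sq254 = sq358 :=
  edge_flip (s0_f8524 IH)
theorem s0_f8525r : ed sl_df sq358 = sq519 :=
  edge_flip (s0_f8525 IH)
theorem s0_f8526r : ed sl_ef sq519 = sq739 :=
  edge_flip (s0_f8526 IH)
theorem s0_f8527r : ed sl_ff sq739 = sq1036 :=
  edge_flip (s0_f8527 IH)
theorem s0_f8528r : ed sl_hf sq1036 = sq1427 :=
  edge_flip (s0_f8528 IH)
theorem s0_f8529r : ed sl_af sq1427 = sq1427 :=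
  edge_flip (s0_f8529 IH)
theorem s0_f8530r : ed sl_bf sq1427 = sq1427 :=
  edge_flip (s0_f8530 IH)
theorem s0_f8531r : ed sl_cf sq1427 = sq1949 :=
  edge_flip (s0_f8531 IH)
theorem s0_f8532r : ed sl_df sq1949 = sq2632 :=
  edge_flip (s0_f8532 IH)
theorem s0_f8533r : ed sl_ef sq2632 = sq3478 :=
  edge_flip (s0_f8533 IH)
theorem s0_f8534r : ed sl_ff sq3478 = sq3478 :=
  edge_flip (s0_f8534 IH)
theorem s0_f8535r : ed sl_hf sq3478 = sq4470 :=
  edge_flip (s0_f8535 IH)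
theorem s0_f8536r : ed sl_af sq4470 = sq4470 :=
  edge_flip (s0_f8536 IH)
theorem s0_f39937 : ed sl_bf sq4470 = s0_v3792 :=
  gap_rel s0_rot142 (path_edge (s0_f8536r IH) (path_edge (s0_f8535r IH) (path_edge (s0_f8534r IH) (path_edge (s0_f8533r IH) (path_edge (s0_f8532r IH) (path_edge (s0_f8531r IH) (path_edge (s0_f8530r IH) (path_edge (s0_f8529r IH) (path_edge (s0_f8528r IH) (path_edge (s0_f8527r IH) (path_edge (s0_f8526r IH) (path_edge (s0_f8525r IH) (path_edge (s0_f8524r IH) (path_edge (s0_f8523r IH) (path_edge (s0_f8522r IH) (path_edge (s0_f8450r IH) (path_edge (s0_f8448r IH) (path_edge (s0_f8447r IH) (path_edge (s0_f8446r IH) (path_edge (s0_f1993r IH) (path_edge (s0_f8427r IH) (path_edge (s0_f8511r IH) (path_edge (s0_f8412 IH) (path_eq (s0_f8457 IH) (path_edge (s0_f8470 IH) (path_eq (s0_f8457 IH) (path_edge (s0_f8469 IH) (path_eq (s0_f8457 IH) (path_edge (s0_f8406 IH) (path_edge (s0_f8403 IH) (path_edge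 (s0_f8400 IH) (path_eq (s0_f8487 IH) (path_edge (s0_f39810r IH) (path_edge (s0_f39814 IH) (path_edge (s0_f39815 IH) (path_edge (s0_f39818r IH) (path_edge (s0_f39826r IH) (path_edge (s0_f39832r IH) (path_edge (s0_f39837r IH) (path_edge (s0_f39843r IH) (path_edge (s0_f39849r IH) (path_edge (s0_f39854r IH) (path_edge (s0_f39858r IH) (path_edge (s0_f39863r IH) (path_edge (s0_f39867r IH) (path_edge (s0_f39872r IH) (path_edge (s0_f39877r IH) (path_edge (s0_f39882r IH) (path_edge (s0_f39884 IH) (path_edge (s0_f39886r IH) (path_edge (s0_f39889r IH) (path_edge (s0_f39892r IH) (path_edge (s0_f39895r IH) (path_edge (s0_f39898r IH) (path_edge (s0_f39901r IH) (path_edge (s0_f39904r IH) (path_edge (s0_f39907r IH) (path_edge (s0_f39910r IH) (path_edge (s0_f39913r IH) (path_edge (s0_f39916r IH) (path_edge (s0_f39919r IH) (path_edge (s0_f39922r IH) (path_edge (s0_f39925r IH) (path_edge (s0_f39928r IH) (path_edge (s0_f39931r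 IH) (path_edge (s0_f39934r IH) (path_nil s0_v3792)))))))))))))))))))))))))))))))))))))))))))))))))))))))))))))))))))
theorem s0_f39937r : ed sl_bt s0_v3792 = sq4470 :=
  edge_flip (s0_f39937 IH)
theorem s0_f39938 : ed sl_bt sq4470 = s0_v3792 :=
  gap_rel s0_rot25 (path_edge (s0_f39937r IH) (path_nil s0_v3792))
theorem s0_f28539r : ed sl_bt s0_v2409 = s0_v2408 :=
  edge_flip (s0_f28539 IH)
theorem s0_f39939 : ed sl_bt s0_v2407 = s0_v3791 :=
  gap_rel s0_rot71 (path_edge (s0_f28536r IH) (path_edge (s0_f28539r IH) (path_eq (s0_f28553 IH).symm (path_edge (s0_f28549 IH) (path_edge (s0_f39937r IH) (path_edge (s0_f39934 IH) (path_nil s0_v3791)))))))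
theorem s0_f39940 : ed sl_dt s0_v3300 = s0_v3792 :=
  gap_rel s0_rot29 (path_edge (s0_f35929 IH) (path_edge (s0_f28556 IH) (path_edge (s0_f39937r IH) (path_nil s0_v3792))))
theorem s0_f39943 : ed sl_ft s0_v3792 = s0_v3792 :=
  gap_rel s0_rot27 (path_edge (s0_f39938 IH) (path_edge (s0_f28559 IH) (path_edge (s0_f39937r IH) (path_nil s0_v3792))))
theorem s0_f39943r : ed sl_ff s0_v3792 = s0_v3792 :=
  edge_flip (s0_f39943 IH)
theorem s0_f39944 : ed sl_ff s0_v3791 = s0_v3791 :=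
  gap_rel s0_rot1 (path_edge (s0_f39934r IH) (path_edge (s0_f39943r IH) (path_edge (s0_f39935 IH) (path_nil s0_v3791))))
theorem s0_f39940r : ed sl_df s0_v3792 = s0_v3300 :=
  edge_flip (s0_f39940 IH)
theorem s0_f39945 : ed sl_df s0_v3300 = s0_v3792 :=
  gap_rel s0_rot103 (path_edge (s0_f35937 IH) (path_edge (s0_f39940r IH) (path_edge (s0_f39943r IH) (path_nil s0_v3792))))
theorem s0_f39945r : ed sl_dt s0_v3792 = s0_v3300 :=
  edge_flip (s0_f39945 IH)
theorem s0_f39951 : ed sl_ct s0_v3302 = s0_v3790 :=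
  gap_rel s0_rot87 (path_edge (s0_f35985 IH) (path_edge (s0_f35974 IH) (path_edge (s0_f39945r IH) (path_edge (s0_f39934 IH) (path_edge (s0_f39931 IH) (path_nil s0_v3790))))))
theorem s0_f39944r : ed sl_ft s0_v3791 = s0_v3791 :=
  edge_flip (s0_f39944 IH)
theorem s0_f39964 : ed sl_bt s0_v3791 = s0_v2407 :=
  gap_rel s0_rot62 (path_edge (s0_f39944r IH) (path_edge (s0_f39939 IH) (path_edge (s0_f28563 IH) (path_nil s0_v2407))))
theorem s0_f39964r : ed sl_bf s0_v2407 = s0_v3791 :=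
  edge_flip (s0_f39964 IH)
theorem s0_f39965 : ed sl_bf s0_v3790 = s0_v2406 :=
  gap_rel s0_rot75 (path_edge (s0_f39931r IH) (path_edge (s0_f39964r IH) (path_edge (s0_f28533 IH) (path_nil s0_v2406))))
theorem s0_f39965r : ed sl_bt s0_v2406 = s0_v3790 :=
  edge_flip (s0_f39965 IH)
theorem s0_f39929r : ed sl_et s0_v3790 = s0_v3789 :=
  edge_flip (s0_f39929 IH)
theorem s0_f39967 : ed sl_bt s0_v3789 = s0_v2405 :=
  gap_rel s0_rot77 (path_edge (s0_f39929r IH) (path_edge (s0_f39965r IH) (path_edge (s0_f28529 IH) (path_nil s0_v2405))))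
theorem s0_f39967r : ed sl_bf s0_v2405 = s0_v3789 :=
  edge_flip (s0_f39967 IH)
theorem s0_f39968 : ed sl_bf s0_v3789 = s0_v2405 :=
  gap_rel s0_rot20 (path_edge (s0_f39967r IH) (path_nil s0_v2405))
theorem s0_f45878 : ed sl_it s0_v2317 = s0_v4540 :=
  rfl
theorem s0_f45878r : ed sl_if s0_v4540 = s0_v2317 :=
  edge_flip (s0_f45878 IH)
theorem s0_f45880 : ed sl_if s0_v2317 = s0_v4540 :=
  gap_rel s0_rot9 (path_edge (s0_f45878r IH) (path_nil s0_v4540))
theorem s0_f45880r : ed sl_it s0_v4540 = s0_v2317 :=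
  edge_flip (s0_f45880 IH)
theorem s0_f27850r : ed sl_ft s0_v2317 = s0_v2317 :=
  edge_flip (s0_f27850 IH)
theorem s0_f45882 : ed sl_ft s0_v4540 = s0_v4540 :=
  gap_rel s0_rot11 (path_edge (s0_f45878 IH) (path_edge (s0_f27850r IH) (path_edge (s0_f45880r IH) (path_nil s0_v4540))))
theorem s0_f45957 : ed sl_ht s0_v4540 = s0_v4541 :=
  rfl
theorem s0_f45957r : ed sl_hf s0_v4541 = s0_v4540 :=
  edge_flip (s0_f45957 IH)
theorem s0_f45958 : ed sl_hf s0_v4540 = s0_v4541 :=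
  gap_rel s0_rot13 (path_edge (s0_f45957r IH) (path_nil s0_v4541))
theorem s0_f45882r : ed sl_ff s0_v4540 = s0_v4540 :=
  edge_flip (s0_f45882 IH)
theorem s0_f45959 : ed sl_ff s0_v4541 = s0_v4541 :=
  gap_rel s0_rot14 (path_edge (s0_f45958 IH) (path_edge (s0_f45882r IH) (path_edge (s0_f45957r IH) (path_nil s0_v4541))))
theorem s0_f45961 : ed sl_dt s0_v4541 = s0_v4542 :=
  rfl
theorem s0_f45961r : ed sl_df s0_v4542 = s0_v4541 :=
  edge_flip (s0_f45961 IH)
theorem s0_f45962 : ed sl_df s0_v4541 = s0_v4542 :=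
  gap_rel s0_rot4 (path_edge (s0_f45961r IH) (path_nil s0_v4542))
theorem s0_f45963 : ed sl_ff s0_v4542 = s0_v4542 :=
  gap_rel s0_rot5 (path_edge (s0_f45962 IH) (path_edge (s0_f45959 IH) (path_edge (s0_f45961r IH) (path_nil s0_v4542))))
theorem s0_f45965 : ed sl_et s0_v4542 = s0_v4543 :=
  rfl
theorem s0_f45968 : ed sl_dt s0_v4543 = s0_v4544 :=
  rfl
theorem s0_f45971 : ed sl_bt s0_v4544 = s0_v4545 :=
  rfl
theorem s0_f45974 : ed sl_ct s0_v4545 = s0_v4546 :=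
  rfl
theorem s0_f45977 : ed sl_dt s0_v4546 = s0_v4547 :=
  rfl
theorem s0_f45980 : ed sl_it s0_v4547 = s0_v4548 :=
  rfl
theorem s0_f45983 : ed sl_ht s0_v4548 = s0_v4549 :=
  rfl
theorem s0_f45986 : ed sl_dt s0_v4549 = s0_v4550 :=
  rfl
theorem s0_f45989 : ed sl_ft s0_v4550 = s0_v4551 :=
  rfl
theorem s0_f45992 : ed sl_et s0_v4551 = s0_v4552 :=
  rfl
theorem s0_f45995 : ed sl_dt s0_v4552 = s0_v4553 :=
  rfl
theorem s0_f45998 : ed sl_bt s0_v4553 = s0_v4554 :=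
  rfl
theorem s0_f46001 : ed sl_ct s0_v4554 = s0_v4555 :=
  rfl
theorem s0_f46004 : ed sl_dt s0_v4555 = s0_v4556 :=
  rfl
theorem s0_f46007 : ed sl_it s0_v4556 = s0_v4557 :=
  rfl
theorem s0_f46010 : ed sl_ht s0_v4557 = s0_v4558 :=
  rfl
theorem s0_f46013 : ed sl_dt s0_v4558 = s0_v4559 :=
  rfl
theorem s0_f46016 : ed sl_ft s0_v4559 = s0_v4560 :=
  rfl
theorem s0_f46019 : ed sl_et s0_v4560 = s0_v4561 :=
  rfl
theorem s0_f46022 : ed sl_dt s0_v4561 = s0_v4562 :=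
  rfl
theorem s0_f46025 : ed sl_bt s0_v4562 = s0_v4563 :=
  rfl
theorem s0_f46028 : ed sl_ct s0_v4563 = s0_v4564 :=
  rfl
theorem s0_f46031 : ed sl_dt s0_v4564 = s0_v4565 :=
  rfl
theorem s0_f46034 : ed sl_it s0_v4565 = s0_v4566 :=
  rfl
theorem s0_f46037 : ed sl_ht s0_v4566 = s0_v4567 :=
  rfl
theorem s0_f46040 : ed sl_dt s0_v4567 = s0_v4568 :=
  rfl
theorem s0_f46043 : ed sl_ft s0_v4568 = s0_v4569 :=
  rfl
theorem s0_f46046 : ed sl_et s0_v4569 = s0_v4570 :=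
  rfl
theorem s0_f46049 : ed sl_dt s0_v4570 = s0_v4571 :=
  rfl
theorem s0_f46052 : ed sl_bt s0_v4571 = s0_v4572 :=
  rfl
theorem s0_f46055 : ed sl_ct s0_v4572 = s0_v4573 :=
  rfl
theorem s0_f46058 : ed sl_dt s0_v4573 = s0_v4574 :=
  rfl
theorem s0_f46061 : ed sl_it s0_v4574 = s0_v4575 :=
  rfl
theorem s0_f46064 : ed sl_ht s0_v4575 = s0_v4576 :=
  rfl
theorem s0_f46067 : ed sl_dt s0_v4576 = s0_v4577 :=
  rfl
theorem s0_f46070 : ed sl_ft s0_v4577 = s0_v4578 :=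
  rfl
theorem s0_f46073 : ed sl_et s0_v4578 = s0_v4579 :=
  rfl
theorem s0_f46076 : ed sl_dt s0_v4579 = s0_v4580 :=
  rfl
theorem s0_f46079 : ed sl_bt s0_v4580 = s0_v4581 :=
  rfl
theorem s0_f46082 : ed sl_ct s0_v4581 = s0_v4582 :=
  rfl
theorem s0_f46085 : ed sl_dt s0_v4582 = s0_v4583 :=
  rfl
theorem s0_f46088 : ed sl_it s0_v4583 = s0_v4584 :=
  rfl
theorem s0_f46091 : ed sl_ht s0_v4584 = s0_v4585 :=
  rfl
theorem s0_f46094 : ed sl_dt s0_v4585 = s0_v4586 :=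
  rfl
theorem s0_f46097 : ed sl_ft s0_v4586 = s0_v4587 :=
  rfl
theorem s0_f46100 : ed sl_et s0_v4587 = s0_v4588 :=
  rfl
theorem s0_f46100r : ed sl_ef s0_v4588 = s0_v4587 :=
  edge_flip (s0_f46100 IH)
theorem s0_f46101 : ed sl_ef s0_v4587 = s0_v4588 :=
  gap_rel s0_rot17 (path_edge (s0_f46100r IH) (path_nil s0_v4588))
theorem s0_f46103 : ed sl_dt s0_v4588 = s0_v4589 :=
  rfl
theorem s0_f46103r : ed sl_df s0_v4589 = s0_v4588 :=
  edge_flip (s0_f46103 IH)
theorem s0_f46104 : ed sl_df s0_v4588 = s0_v4589 :=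
  gap_rel s0_rot4 (path_edge (s0_f46103r IH) (path_nil s0_v4589))
theorem s0_f46106 : ed sl_bt s0_v4589 = s0_v4590 :=
  rfl
theorem s0_f46106r : ed sl_bf s0_v4590 = s0_v4589 :=
  edge_flip (s0_f46106 IH)
theorem s0_f46097r : ed sl_ff s0_v4587 = s0_v4586 :=
  edge_flip (s0_f46097 IH)
theorem s0_f46094r : ed sl_df s0_v4586 = s0_v4585 :=
  edge_flip (s0_f46094 IH)
theorem s0_f46091r : ed sl_hf s0_v4585 = s0_v4584 :=
  edge_flip (s0_f46091 IH)
theorem s0_f46088r : ed sl_if s0_v4584 = s0_v4583 :=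
  edge_flip (s0_f46088 IH)
theorem s0_f46085r : ed sl_df s0_v4583 = s0_v4582 :=
  edge_flip (s0_f46085 IH)
theorem s0_f46082r : ed sl_cf s0_v4582 = s0_v4581 :=
  edge_flip (s0_f46082 IH)
theorem s0_f46079r : ed sl_bf s0_v4581 = s0_v4580 :=
  edge_flip (s0_f46079 IH)
theorem s0_f46076r : ed sl_df s0_v4580 = s0_v4579 :=
  edge_flip (s0_f46076 IH)
theorem s0_f46073r : ed sl_ef s0_v4579 = s0_v4578 :=
  edge_flip (s0_f46073 IH)
theorem s0_f46070r : ed sl_ff s0_v4578 = s0_v4577 :=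
  edge_flip (s0_f46070 IH)
theorem s0_f46067r : ed sl_df s0_v4577 = s0_v4576 :=
  edge_flip (s0_f46067 IH)
theorem s0_f46064r : ed sl_hf s0_v4576 = s0_v4575 :=
  edge_flip (s0_f46064 IH)
theorem s0_f46061r : ed sl_if s0_v4575 = s0_v4574 :=
  edge_flip (s0_f46061 IH)
theorem s0_f46058r : ed sl_df s0_v4574 = s0_v4573 :=
  edge_flip (s0_f46058 IH)
theorem s0_f46055r : ed sl_cf s0_v4573 = s0_v4572 :=
  edge_flip (s0_f46055 IH)
theorem s0_f46052r : ed sl_bf s0_v4572 = s0_v4571 :=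
  edge_flip (s0_f46052 IH)
theorem s0_f46049r : ed sl_df s0_v4571 = s0_v4570 :=
  edge_flip (s0_f46049 IH)
theorem s0_f46046r : ed sl_ef s0_v4570 = s0_v4569 :=
  edge_flip (s0_f46046 IH)
theorem s0_f46043r : ed sl_ff s0_v4569 = s0_v4568 :=
  edge_flip (s0_f46043 IH)
theorem s0_f46040r : ed sl_df s0_v4568 = s0_v4567 :=
  edge_flip (s0_f46040 IH)
theorem s0_f46037r : ed sl_hf s0_v4567 = s0_v4566 :=
  edge_flip (s0_f46037 IH)
theorem s0_f46034r : ed sl_if s0_v4566 = s0_v4565 :=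
  edge_flip (s0_f46034 IH)
theorem s0_f46031r : ed sl_df s0_v4565 = s0_v4564 :=
  edge_flip (s0_f46031 IH)
theorem s0_f46028r : ed sl_cf s0_v4564 = s0_v4563 :=
  edge_flip (s0_f46028 IH)
theorem s0_f46025r : ed sl_bf s0_v4563 = s0_v4562 :=
  edge_flip (s0_f46025 IH)
theorem s0_f46022r : ed sl_df s0_v4562 = s0_v4561 :=
  edge_flip (s0_f46022 IH)
theorem s0_f46019r : ed sl_ef s0_v4561 = s0_v4560 :=
  edge_flip (s0_f46019 IH)
theorem s0_f46016r : ed sl_ff s0_v4560 = s0_v4559 :=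
  edge_flip (s0_f46016 IH)
theorem s0_f46013r : ed sl_df s0_v4559 = s0_v4558 :=
  edge_flip (s0_f46013 IH)
theorem s0_f46010r : ed sl_hf s0_v4558 = s0_v4557 :=
  edge_flip (s0_f46010 IH)
theorem s0_f46007r : ed sl_if s0_v4557 = s0_v4556 :=
  edge_flip (s0_f46007 IH)
theorem s0_f46004r : ed sl_df s0_v4556 = s0_v4555 :=
  edge_flip (s0_f46004 IH)
theorem s0_f46001r : ed sl_cf s0_v4555 = s0_v4554 :=
  edge_flip (s0_f46001 IH)
theorem s0_f45998r : ed sl_bf s0_v4554 = s0_v4553 :=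
  edge_flip (s0_f45998 IH)
theorem s0_f45995r : ed sl_df s0_v4553 = s0_v4552 :=
  edge_flip (s0_f45995 IH)
theorem s0_f45992r : ed sl_ef s0_v4552 = s0_v4551 :=
  edge_flip (s0_f45992 IH)
theorem s0_f45989r : ed sl_ff s0_v4551 = s0_v4550 :=
  edge_flip (s0_f45989 IH)
theorem s0_f45986r : ed sl_df s0_v4550 = s0_v4549 :=
  edge_flip (s0_f45986 IH)
theorem s0_f45983r : ed sl_hf s0_v4549 = s0_v4548 :=
  edge_flip (s0_f45983 IH)
theorem s0_f45980r : ed sl_if s0_v4548 = s0_v4547 :=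
  edge_flip (s0_f45980 IH)
theorem s0_f45977r : ed sl_df s0_v4547 = s0_v4546 :=
  edge_flip (s0_f45977 IH)
theorem s0_f45974r : ed sl_cf s0_v4546 = s0_v4545 :=
  edge_flip (s0_f45974 IH)
theorem s0_f45971r : ed sl_bf s0_v4545 = s0_v4544 :=
  edge_flip (s0_f45971 IH)
theorem s0_f45968r : ed sl_df s0_v4544 = s0_v4543 :=
  edge_flip (s0_f45968 IH)
theorem s0_f45965r : ed sl_ef s0_v4543 = s0_v4542 :=
  edge_flip (s0_f45965 IH)
theorem s0_f27858r : ed sl_df s0_v2317 = sq9756 :=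
  edge_flip (s0_f27858 IH)
theorem s0_f9545r : ed sl_cf sq9756 = sq8043 :=
  edge_flip (s0_f9545 IH)
theorem s0_f6385r : ed sl_bf sq8043 = sq6619 :=
  edge_flip (s0_f6385 IH)
theorem s0_f10146r : ed sl_df sq6619 = sq5343 :=
  edge_flip (s0_f10146 IH)
theorem s0_f10145r : ed sl_ef sq5343 = sq4272 :=
  edge_flip (s0_f10145 IH)
theorem s0_f10144r : ed sl_ff sq4272 = sq3344 :=
  edge_flip (s0_f10144 IH)
theorem s0_f4596r : ed sl_df sq3344 = sq2573 :=
  edge_flip (s0_f4596 IH)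
theorem s0_f6514r : ed sl_hf sq2573 = sq1909 :=
  edge_flip (s0_f6514 IH)
theorem s0_f27863r : ed sl_if sq1909 = sq2566 :=
  edge_flip (s0_f27863 IH)
theorem s0_f10740r : ed sl_df sq2566 = sq1905 :=
  edge_flip (s0_f10740 IH)
theorem s0_f27864r : ed sl_cf sq1905 = sq1399 :=
  edge_flip (s0_f27864 IH)
theorem s0_f27865r : ed sl_bf sq1399 = sq1399 :=
  edge_flip (s0_f27865 IH)
theorem s0_f24305r : ed sl_df sq1399 = sq1027 :=
  edge_flip (s0_f24305 IH)
theorem s0_f27866r : ed sl_ef sq1027 = sq733 :=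
  edge_flip (s0_f27866 IH)
theorem s0_f27867r : ed sl_ff sq733 = sq519 :=
  edge_flip (s0_f27867 IH)
theorem s0_f13668r : ed sl_df sq519 = sq358 :=
  edge_flip (s0_f13668 IH)
theorem s0_f27868r : ed sl_hf sq358 = sq244 :=
  edge_flip (s0_f27868 IH)
theorem s0_f27869r : ed sl_if sq244 = sq166 :=
  edge_flip (s0_f27869 IH)
theorem s0_f7433r : ed sl_df sq166 = sq243 :=
  edge_flip (s0_f7433 IH)
theorem s0_f966r : ed sl_cf sq243 = sq243 :=
  edge_flip (s0_f966 IH)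
theorem s0_f967r : ed sl_bf sq243 = sq243 :=
  edge_flip (s0_f967 IH)
theorem s0_f965r : ed sl_df sq243 = sq166 :=
  edge_flip (s0_f965 IH)
theorem s0_f964r : ed sl_ef sq166 = sq166 :=
  edge_flip (s0_f964 IH)
theorem s0_f963r : ed sl_ff sq166 = sq241 :=
  edge_flip (s0_f963 IH)
theorem s0_f972r : ed sl_df sq241 = sq353 :=
  edge_flip (s0_f972 IH)
theorem s0_f7998r : ed sl_hf sq353 = sq353 :=
  edge_flip (s0_f7998 IH)
theorem s0_f27870r : ed sl_if sq353 = sq514 :=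
  edge_flip (s0_f27870 IH)
theorem s0_f16721r : ed sl_df sq514 = sq354 :=
  edge_flip (s0_f16721 IH)
theorem s0_f13663r : ed sl_cf sq354 = sq252 :=
  edge_flip (s0_f13663 IH)
theorem s0_f27871r : ed sl_bf sq252 = sq186 :=
  edge_flip (s0_f27871 IH)
theorem s0_f27872r : ed sl_ef sq186 = sq268 :=
  edge_flip (s0_f27872 IH)
theorem s0_f27873r : ed sl_ff sq268 = sq268 :=
  edge_flip (s0_f27873 IH)
theorem s0_f2096r : ed sl_hf sq395 = sq574 :=
  edge_flip (s0_f2096 IH)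
theorem s0_f27874r : ed sl_if sq574 = sq574 :=
  edge_flip (s0_f27874 IH)
theorem s0_f18300r : ed sl_df sq574 = sq818 :=
  edge_flip (s0_f18300 IH)
theorem s0_f46109 : ed sl_cf sq818 = s0_v4590 :=
  gap_rel s0_rot63 (path_edge (s0_f18300r IH) (path_edge (s0_f27874r IH) (path_edge (s0_f2096r IH) (path_edge (s0_f2099r IH) (path_edge (s0_f27873r IH) (path_edge (s0_f27872r IH) (path_edge (s0_f7426r IH) (path_edge (s0_f27871r IH) (path_edge (s0_f13663r IH) (path_edge (s0_f16721r IH) (path_edge (s0_f27870r IH) (path_edge (s0_f7998r IH) (path_edge (s0_f972r IH) (path_edge (s0_f963r IH) (path_edge (s0_f964r IH) (path_edge (s0_f965r IH) (path_edge (s0_f967r IH) (path_edge (s0_f966r IH) (path_edge (s0_f7433r IH) (path_edge (s0_f27869r IH) (path_edge (s0_f27868r IH) (path_edge (s0_f13668r IH) (path_edge (s0_f27867r IH) (path_edge (s0_f27866r IH) (path_edge (s0_f24305r IH) (path_edge (s0_f27865r IH) (path_edge (s0_f27864r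 IH) (path_edge (s0_f10740r IH) (path_edge (s0_f27863r IH) (path_edge (s0_f6514r IH) (path_edge (s0_f4596r IH) (path_edge (s0_f10144r IH) (path_edge (s0_f10145r IH) (path_edge (s0_f10146r IH) (path_edge (s0_f6385r IH) (path_edge (s0_f9545r IH) (path_edge (s0_f27858r IH) (path_edge (s0_f45878r IH) (path_edge (s0_f45957r IH) (path_edge (s0_f45961r IH) (path_edge (s0_f45963 IH) (path_edge (s0_f45965r IH) (path_edge (s0_f45968r IH) (path_edge (s0_f45971r IH) (path_edge (s0_f45974r IH) (path_edge (s0_f45977r IH) (path_edge (s0_f45980r IH) (path_edge (s0_f45983r IH) (path_edge (s0_f45986r IH) (path_edge (s0_f45989r IH) (path_edge (s0_f45992r IH) (path_edge (s0_f45995r IH) (path_edge (s0_f45998r IH) (path_edge (s0_f46001r IH) (path_edge (s0_f46004r IH) (path_edge (s0_f46007r IH) (path_edge (s0_f46010r IH) (path_edge (s0_f46013r IH) (path_edge (s0_f46016r IH) (path_edge (s0_f46019r IH) (path_edge (s0_f46022r IH) (path_edge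 (s0_f46025r IH) (path_edge (s0_f46028r IH) (path_edge (s0_f46031r IH) (path_edge (s0_f46034r IH) (path_edge (s0_f46037r IH) (path_edge (s0_f46040r IH) (path_edge (s0_f46043r IH) (path_edge (s0_f46046r IH) (path_edge (s0_f46049r IH) (path_edge (s0_f46052r IH) (path_edge (s0_f46055r IH) (path_edge (s0_f46058r IH) (path_edge (s0_f46061r IH) (path_edge (s0_f46064r IH) (path_edge (s0_f46067r IH) (path_edge (s0_f46070r IH) (path_edge (s0_f46073r IH) (path_edge (s0_f46076r IH) (path_edge (s0_f46079r IH) (path_edge (s0_f46082r IH) (path_edge (s0_f46085r IH) (path_edge (s0_f46088r IH) (path_edge (s0_f46091r IH) (path_edge (s0_f46094r IH) (path_edge (s0_f46097r IH) (path_edge (s0_f46100r IH) (path_edge (s0_f46103r IH) (path_edge (s0_f46106r IH) (path_nil s0_v4590))))))))))))))))))))))))))))))))))))))))))))))))))))))))))))))))))))))))))))))))))))))))))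
theorem s0_f46109r : ed sl_ct s0_v4590 = sq818 :=
  edge_flip (s0_f46109 IH)
theorem s0_f46111 : ed sl_ct s0_v812 = s0_v4589 :=
  gap_rel s0_rot26 (path_edge (s0_f10606 IH) (path_edge (s0_f12139 IH) (path_edge (s0_f12140 IH) (path_edge (s0_f46109r IH) (path_edge (s0_f46106 IH) (path_nil s0_v4589))))))
theorem s0_f46112 : ed sl_ct sq818 = s0_v4590 :=
  gap_rel s0_rot64 (path_edge (s0_f46109r IH) (path_nil s0_v4590))
theorem s0_f33906r : ed sl_dt s0_v3045 = s0_v3044 :=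
  edge_flip (s0_f33906 IH)
theorem s0_f46113 : ed sl_dt s0_v3043 = s0_v4590 :=
  gap_rel s0_rot97 (path_edge (s0_f33903r IH) (path_edge (s0_f33906r IH) (path_eq (s0_f33920 IH).symm (path_edge (s0_f33912 IH) (path_edge (s0_f18300 IH) (path_edge (s0_f46109r IH) (path_nil s0_v4590)))))))
theorem s0_f46114 : ed sl_ht sq819 = s0_v4590 :=
  gap_rel s0_rot65 (path_edge (s0_f24059 IH) (path_edge (s0_f3178 IH) (path_edge (s0_f46109r IH) (path_nil s0_v4590))))
theorem s0_f46116 : ed sl_gt s0_v1409 = s0_v4590 :=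
  gap_rel s0_rot143 (path_edge (s0_f18542 IH) (path_edge (s0_f18673 IH) (path_edge (s0_f46109r IH) (path_nil s0_v4590))))
theorem s0_f46118 : ed sl_it s0_v4590 = s0_v4590 :=
  gap_rel s0_rot66 (path_edge (s0_f46112 IH) (path_edge (s0_f33937 IH) (path_edge (s0_f46109r IH) (path_nil s0_v4590))))
theorem s0_f46118r : ed sl_if s0_v4590 = s0_v4590 :=
  edge_flip (s0_f46118 IH)
theorem s0_f46113r : ed sl_df s0_v4590 = s0_v3043 :=
  edge_flip (s0_f46113 IH)
theorem s0_f33924r : ed sl_if s0_v3043 = s0_v3043 :=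
  edge_flip (s0_f33924 IH)
theorem s0_f46128 : ed sl_df s0_v3043 = s0_v4590 :=
  gap_rel s0_rot51 (path_edge (s0_f33924r IH) (path_edge (s0_f46113r IH) (path_edge (s0_f46118r IH) (path_nil s0_v4590))))
theorem s0_f46129 : ed sl_it sq576 = sq819 :=
  real_edge rels S fwd inv o lvl plet idx 47 IH Gen.i sp576 sp819 rfl rfl
theorem s0_f46116r : ed sl_gf s0_v4590 = s0_v1409 :=
  edge_flip (s0_f46116 IH)
theorem s0_f46131 : ed sl_gf s0_v1409 = s0_v4590 :=
  gap_rel s0_rot144 (path_edge (s0_f18551r IH) (path_edge (s0_f46116r IH) (path_edge (s0_f46118r IH) (path_nil s0_v4590))))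
theorem s0_f46131r : ed sl_gt s0_v4590 = s0_v1409 :=
  edge_flip (s0_f46131 IH)
theorem s0_f18538r : ed sl_bt s0_v1409 = s0_v1408 :=
  edge_flip (s0_f18538 IH)
theorem s0_f46140 : ed sl_gt s0_v1408 = s0_v4589 :=
  gap_rel s0_rot145 (path_edge (s0_f18538r IH) (path_edge (s0_f46131r IH) (path_edge (s0_f46106 IH) (path_nil s0_v4589))))
theorem s0_f46140r : ed sl_gf s0_v4589 = s0_v1408 :=
  edge_flip (s0_f46140 IH)
theorem s0_f46141 : ed sl_gf s0_v1407 = s0_v4588 :=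
  gap_rel s0_rot146 (path_edge (s0_f18535r IH) (path_edge (s0_f46140r IH) (path_edge (s0_f46104 IH) (path_nil s0_v4588))))
theorem s0_f46143 : ed sl_gf s0_v1408 = s0_v4589 :=
  gap_rel s0_rot147 (path_edge (s0_f46140r IH) (path_nil s0_v4589))
theorem s0_f46143r : ed sl_gt s0_v4589 = s0_v1408 :=
  edge_flip (s0_f46143 IH)
theorem s0_f46144 : ed sl_gt s0_v1407 = s0_v4588 :=
  gap_rel s0_rot148 (path_edge (s0_f18536r IH) (path_edge (s0_f46143r IH) (path_edge (s0_f46103 IH) (path_nil s0_v4588))))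
theorem s0_f18584r : ed sl_ht s0_v1408 = sq1586 :=
  edge_flip (s0_f18584 IH)
theorem s0_f46145 : ed sl_ht sq1149 = s0_v4589 :=
  gap_rel s0_rot149 (path_edge (s0_f18614 IH) (path_edge (s0_f18584r IH) (path_edge (s0_f46143r IH) (path_nil s0_v4589))))
theorem s0_f46145r : ed sl_hf s0_v4589 = sq1149 :=
  edge_flip (s0_f46145 IH)
theorem s0_f3210r : ed sl_cf sq1149 = sq1464 :=
  edge_flip (s0_f3210 IH)
theorem s0_f46147 : ed sl_cf s0_v811 = s0_v4589 :=
  gap_rel s0_rot30 (path_edge (s0_f10632 IH) (path_edge (s0_f3210r IH) (path_edge (s0_f46145r IH) (path_nil s0_v4589))))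
theorem s0_f46147r : ed sl_ct s0_v4589 = s0_v811 :=
  edge_flip (s0_f46147 IH)
theorem s0_f46104r : ed sl_dt s0_v4589 = s0_v4588 :=
  edge_flip (s0_f46104 IH)
theorem s0_f46171 : ed sl_ct s0_v4588 = s0_v4588 :=
  gap_rel s0_rot87 (path_edge (s0_f46104r IH) (path_edge (s0_f46111 IH) (path_edge (s0_f10601 IH) (path_edge (s0_f46147r IH) (path_edge (s0_f46103 IH) (path_nil s0_v4588))))))
theorem s0_f46171r : ed sl_cf s0_v4588 = s0_v4588 :=
  edge_flip (s0_f46171 IH)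
theorem s0_f46172 : ed sl_cf s0_v4587 = s0_v4587 :=
  gap_rel s0_rot85 (path_edge (s0_f46100r IH) (path_edge (s0_f46171r IH) (path_edge (s0_f46101 IH) (path_nil s0_v4587))))
theorem s0_f46144r : ed sl_gf s0_v4588 = s0_v1407 :=
  edge_flip (s0_f46144 IH)
theorem s0_f18636r : ed sl_if s0_v1407 = s0_v1407 :=
  edge_flip (s0_f18636 IH)
theorem s0_f46191 : ed sl_if s0_v4588 = s0_v4588 :=
  gap_rel s0_rot150 (path_edge (s0_f46141 IH) (path_edge (s0_f18636r IH) (path_edge (s0_f46144r IH) (path_nil s0_v4588))))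
theorem s0_f46191r : ed sl_it s0_v4588 = s0_v4588 :=
  edge_flip (s0_f46191 IH)
theorem s0_f46101r : ed sl_et s0_v4588 = s0_v4587 :=
  edge_flip (s0_f46101 IH)
theorem s0_f46192 : ed sl_it s0_v4587 = s0_v4587 :=
  gap_rel s0_rot72 (path_edge (s0_f46101r IH) (path_edge (s0_f46191r IH) (path_edge (s0_f46100 IH) (path_nil s0_v4587))))
theorem s0_f46207 : ed sl_et sq861 = sq607 :=
  real_edge rels S fwd inv o lvl plet idx 47 IH Gen.e sp861 sp607 rfl rfl
theorem s0_f46208 : ed sl_ft sq602 = sq861 :=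
  real_edge rels S fwd inv o lvl plet idx 47 IH Gen.f sp602 sp861 rfl rfl
theorem s0_f46128r : ed sl_dt s0_v4590 = s0_v3043 :=
  edge_flip (s0_f46128 IH)
theorem s0_f33900r : ed sl_bt s0_v3043 = s0_v3042 :=
  edge_flip (s0_f33900 IH)
theorem s0_f33897r : ed sl_dt s0_v3042 = s0_v3041 :=
  edge_flip (s0_f33897 IH)
theorem s0_f46209 : s0_v3041 = s0_v4589 :=
  (loop_rel s0_rot29 (path_edge (s0_f33897r IH) (path_edge (s0_f33900r IH) (path_edge (s0_f46128r IH) (path_edge (s0_f46106 IH) (path_nil s0_v4589)))))).symm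
theorem s0_f46210 : s0_v4588 = s0_v3042 :=
  edge_fun (edge_congr (s0_f46104r IH) (s0_f46209 IH).symm) (s0_f33896 IH)
theorem s0_f34201r : ed sl_ef s0_v3081 = s0_v3043 :=
  edge_flip (s0_f34201 IH)
theorem s0_f46211 : ed sl_bf s0_v4587 = s0_v3081 :=
  gap_rel s0_rot84 (path_edge (s0_f46100r IH) (path_eq (s0_f46210 IH).symm (path_edge (s0_f33899r IH) (path_edge (s0_f34201r IH) (path_nil s0_v3081)))))
theorem s0_f46211r : ed sl_bt s0_v3081 = s0_v4587 :=
  edge_flip (s0_f46211 IH)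
theorem s0_f46212 : ed sl_bt s0_v4587 = s0_v3081 :=
  gap_rel s0_rot25 (path_edge (s0_f46211r IH) (path_nil s0_v3081))
theorem s0_f46331 : ed sl_it sq7914 = s0_v4591 :=
  rfl
theorem s0_f46331r : ed sl_if s0_v4591 = sq7914 :=
  edge_flip (s0_f46331 IH)
theorem s0_f7653r : ed sl_df sq7914 = sq6421 :=
  edge_flip (s0_f7653 IH)
theorem s0_f35634r : ed sl_if sq6421 = s0_v3259 :=
  edge_flip (s0_f35634 IH)
theorem s0_f46332 : ed sl_df s0_v3259 = s0_v4591 :=
  gap_rel s0_rot51 (path_edge (s0_f35634r IH) (path_edge (s0_f7653r IH) (path_edge (s0_f46331r IH) (path_nil s0_v4591))))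
theorem s0_f46333 : ed sl_ft sq7914 = sq7914 :=
  real_edge rels S fwd inv o lvl plet idx 47 IH Gen.f sp7914 sp7914 rfl rfl
theorem s0_f46335 : ed sl_jt sq7914 = sq7914 :=
  real_edge rels S fwd inv o lvl plet idx 47 IH Gen.j sp7914 sp7914 rfl rfl
theorem s0_f46336 : ed sl_if sq7914 = s0_v4591 :=
  gap_rel s0_rot9 (path_edge (s0_f46331r IH) (path_nil s0_v4591))
theorem s0_f46336r : ed sl_it s0_v4591 = sq7914 :=
  edge_flip (s0_f46336 IH)
theorem s0_f46338 : ed sl_dt s0_v3259 = s0_v4591 :=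
  gap_rel s0_rot91 (path_edge (s0_f35607 IH) (path_edge (s0_f18981 IH) (path_edge (s0_f46336r IH) (path_nil s0_v4591))))
theorem s0_f46339 : ed sl_ft s0_v4591 = s0_v4591 :=
  gap_rel s0_rot11 (path_edge (s0_f46331 IH) (path_edge (s0_f46333 IH) (path_edge (s0_f46336r IH) (path_nil s0_v4591))))
theorem s0_f46341 : ed sl_jt s0_v4591 = s0_v4591 :=
  gap_rel s0_rot12 (path_edge (s0_f46331 IH) (path_edge (s0_f46335 IH) (path_edge (s0_f46336r IH) (path_nil s0_v4591))))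
theorem s0_f46345 : ed sl_ht s0_v4591 = s0_v4592 :=
  rfl
theorem s0_f46345r : ed sl_hf s0_v4592 = s0_v4591 :=
  edge_flip (s0_f46345 IH)
theorem s0_f46346 : ed sl_hf s0_v4591 = s0_v4592 :=
  gap_rel s0_rot13 (path_edge (s0_f46345r IH) (path_nil s0_v4592))
theorem s0_f46339r : ed sl_ff s0_v4591 = s0_v4591 :=
  edge_flip (s0_f46339 IH)
theorem s0_f46347 : ed sl_ff s0_v4592 = s0_v4592 :=
  gap_rel s0_rot14 (path_edge (s0_f46346 IH) (path_edge (s0_f46339r IH) (path_edge (s0_f46345r IH) (path_nil s0_v4592))))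
theorem s0_f46341r : ed sl_jf s0_v4591 = s0_v4591 :=
  edge_flip (s0_f46341 IH)
theorem s0_f46348 : ed sl_jf s0_v4592 = s0_v4592 :=
  gap_rel s0_rot15 (path_edge (s0_f46346 IH) (path_edge (s0_f46341r IH) (path_edge (s0_f46345r IH) (path_nil s0_v4592))))
theorem s0_f46346r : ed sl_ht s0_v4592 = s0_v4591 :=
  edge_flip (s0_f46346 IH)
theorem s0_f46332r : ed sl_dt s0_v4591 = s0_v3259 :=
  edge_flip (s0_f46332 IH)
theorem s0_f46349 : ed sl_dt s0_v4592 = s0_v4592 :=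
  gap_rel s0_rot41 (path_edge (s0_f46345 IH) (path_edge (s0_f46338 IH) (path_edge (s0_f35629r IH) (path_edge (s0_f46332r IH) (path_edge (s0_f46346r IH) (path_nil s0_v4592))))))
theorem s0_f46350 : ed sl_et s0_v4592 = s0_v4593 :=
  rfl
theorem s0_f46350r : ed sl_ef s0_v4593 = s0_v4592 :=
  edge_flip (s0_f46350 IH)
theorem s0_f46351 : ed sl_ef s0_v4592 = s0_v4593 :=
  gap_rel s0_rot17 (path_edge (s0_f46350r IH) (path_nil s0_v4593))
theorem s0_f46352 : ed sl_jf s0_v4593 = s0_v4593 :=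
  gap_rel s0_rot18 (path_edge (s0_f46351 IH) (path_edge (s0_f46348 IH) (path_edge (s0_f46350r IH) (path_nil s0_v4593))))
theorem s0_f46353 : ed sl_dt s0_v4593 = s0_v4594 :=
  rfl
theorem s0_f46353r : ed sl_df s0_v4594 = s0_v4593 :=
  edge_flip (s0_f46353 IH)
theorem s0_f46354 : ed sl_df s0_v4593 = s0_v4594 :=
  gap_rel s0_rot4 (path_edge (s0_f46353r IH) (path_nil s0_v4594))
theorem s0_f46356 : ed sl_jf s0_v4594 = s0_v4594 :=
  gap_rel s0_rot6 (path_edge (s0_f46354 IH) (path_edge (s0_f46352 IH) (path_edge (s0_f46353r IH) (path_nil s0_v4594))))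
theorem s0_f46357 : ed sl_bt s0_v4594 = s0_v4595 :=
  rfl
theorem s0_f46357r : ed sl_bf s0_v4595 = s0_v4594 :=
  edge_flip (s0_f46357 IH)
theorem s0_f46358 : ed sl_bf s0_v4594 = s0_v4595 :=
  gap_rel s0_rot20 (path_edge (s0_f46357r IH) (path_nil s0_v4595))
theorem s0_f46360 : ed sl_jf s0_v4595 = s0_v4595 :=
  gap_rel s0_rot21 (path_edge (s0_f46358 IH) (path_edge (s0_f46356 IH) (path_edge (s0_f46357r IH) (path_nil s0_v4595))))
theorem s0_f46361 : ed sl_ct s0_v4595 = s0_v4596 :=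
  rfl
theorem s0_f46361r : ed sl_cf s0_v4596 = s0_v4595 :=
  edge_flip (s0_f46361 IH)
theorem s0_f46362 : ed sl_cf s0_v4595 = s0_v4596 :=
  gap_rel s0_rot0 (path_edge (s0_f46361r IH) (path_nil s0_v4596))
theorem s0_f46364 : ed sl_jf s0_v4596 = s0_v4596 :=
  gap_rel s0_rot2 (path_edge (s0_f46362 IH) (path_edge (s0_f46360 IH) (path_edge (s0_f46361r IH) (path_nil s0_v4596))))
theorem s0_f46365 : ed sl_dt s0_v4596 = s0_v4597 :=
  rfl
theorem s0_f46365r : ed sl_df s0_v4597 = s0_v4596 :=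
  edge_flip (s0_f46365 IH)
theorem s0_f46366 : ed sl_df s0_v4596 = s0_v4597 :=
  gap_rel s0_rot4 (path_edge (s0_f46365r IH) (path_nil s0_v4597))
theorem s0_f46367 : ed sl_jf s0_v4597 = s0_v4597 :=
  gap_rel s0_rot6 (path_edge (s0_f46366 IH) (path_edge (s0_f46364 IH) (path_edge (s0_f46365r IH) (path_nil s0_v4597))))
theorem s0_f46368 : ed sl_it s0_v4597 = s0_v4598 :=
  rfl
theorem s0_f46368r : ed sl_if s0_v4598 = s0_v4597 :=
  edge_flip (s0_f46368 IH)
theorem s0_f46369 : ed sl_if s0_v4597 = s0_v4598 :=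
  gap_rel s0_rot9 (path_edge (s0_f46368r IH) (path_nil s0_v4598))
theorem s0_f46369r : ed sl_it s0_v4598 = s0_v4597 :=
  edge_flip (s0_f46369 IH)
theorem s0_f46367r : ed sl_jt s0_v4597 = s0_v4597 :=
  edge_flip (s0_f46367 IH)
theorem s0_f46370 : ed sl_jt s0_v4598 = s0_v4598 :=
  gap_rel s0_rot12 (path_edge (s0_f46368 IH) (path_edge (s0_f46367r IH) (path_edge (s0_f46369r IH) (path_nil s0_v4598))))
theorem s0_f46371 : ed sl_ht s0_v4598 = s0_v4599 :=
  rfl
theorem s0_f46371r : ed sl_hf s0_v4599 = s0_v4598 :=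
  edge_flip (s0_f46371 IH)
theorem s0_f46372 : ed sl_hf s0_v4598 = s0_v4599 :=
  gap_rel s0_rot13 (path_edge (s0_f46371r IH) (path_nil s0_v4599))
theorem s0_f46370r : ed sl_jf s0_v4598 = s0_v4598 :=
  edge_flip (s0_f46370 IH)
theorem s0_f46373 : ed sl_jf s0_v4599 = s0_v4599 :=
  gap_rel s0_rot15 (path_edge (s0_f46372 IH) (path_edge (s0_f46370r IH) (path_edge (s0_f46371r IH) (path_nil s0_v4599))))
theorem s0_f46374 : ed sl_dt s0_v4599 = s0_v4600 :=
  rfl
theorem s0_f46374r : ed sl_df s0_v4600 = s0_v4599 :=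
  edge_flip (s0_f46374 IH)
theorem s0_f46375 : ed sl_df s0_v4599 = s0_v4600 :=
  gap_rel s0_rot4 (path_edge (s0_f46374r IH) (path_nil s0_v4600))
theorem s0_f46376 : ed sl_jf s0_v4600 = s0_v4600 :=
  gap_rel s0_rot6 (path_edge (s0_f46375 IH) (path_edge (s0_f46373 IH) (path_edge (s0_f46374r IH) (path_nil s0_v4600))))
theorem s0_f46377 : ed sl_ft s0_v4600 = s0_v4601 :=
  rfl
theorem s0_f46377r : ed sl_ff s0_v4601 = s0_v4600 :=
  edge_flip (s0_f46377 IH)
theorem s0_f46378 : ed sl_ff s0_v4600 = s0_v4601 :=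
  gap_rel s0_rot22 (path_edge (s0_f46377r IH) (path_nil s0_v4601))
theorem s0_f46379 : ed sl_jf s0_v4601 = s0_v4601 :=
  gap_rel s0_rot23 (path_edge (s0_f46378 IH) (path_edge (s0_f46376 IH) (path_edge (s0_f46377r IH) (path_nil s0_v4601))))
theorem s0_f46380 : ed sl_et s0_v4601 = s0_v4602 :=
  rfl
theorem s0_f46380r : ed sl_ef s0_v4602 = s0_v4601 :=
  edge_flip (s0_f46380 IH)
theorem s0_f46381 : ed sl_ef s0_v4601 = s0_v4602 :=
  gap_rel s0_rot17 (path_edge (s0_f46380r IH) (path_nil s0_v4602))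
theorem s0_f46382 : ed sl_jf s0_v4602 = s0_v4602 :=
  gap_rel s0_rot18 (path_edge (s0_f46381 IH) (path_edge (s0_f46379 IH) (path_edge (s0_f46380r IH) (path_nil s0_v4602))))
theorem s0_f46383 : ed sl_dt s0_v4602 = s0_v4603 :=
  rfl
theorem s0_f46383r : ed sl_df s0_v4603 = s0_v4602 :=
  edge_flip (s0_f46383 IH)
theorem s0_f46384 : ed sl_df s0_v4602 = s0_v4603 :=
  gap_rel s0_rot4 (path_edge (s0_f46383r IH) (path_nil s0_v4603))
theorem s0_f46385 : ed sl_jf s0_v4603 = s0_v4603 :=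
  gap_rel s0_rot6 (path_edge (s0_f46384 IH) (path_edge (s0_f46382 IH) (path_edge (s0_f46383r IH) (path_nil s0_v4603))))
theorem s0_f46386 : ed sl_bt s0_v4603 = s0_v4604 :=
  rfl
theorem s0_f46386r : ed sl_bf s0_v4604 = s0_v4603 :=
  edge_flip (s0_f46386 IH)
theorem s0_f46387 : ed sl_bf s0_v4603 = s0_v4604 :=
  gap_rel s0_rot20 (path_edge (s0_f46386r IH) (path_nil s0_v4604))
theorem s0_f46388 : ed sl_jf s0_v4604 = s0_v4604 :=
  gap_rel s0_rot21 (path_edge (s0_f46387 IH) (path_edge (s0_f46385 IH) (path_edge (s0_f46386r IH) (path_nil s0_v4604))))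
theorem s0_f46389 : ed sl_ct s0_v4604 = s0_v4605 :=
  rfl
theorem s0_f46389r : ed sl_cf s0_v4605 = s0_v4604 :=
  edge_flip (s0_f46389 IH)
theorem s0_f46390 : ed sl_cf s0_v4604 = s0_v4605 :=
  gap_rel s0_rot0 (path_edge (s0_f46389r IH) (path_nil s0_v4605))
theorem s0_f46391 : ed sl_jf s0_v4605 = s0_v4605 :=
  gap_rel s0_rot2 (path_edge (s0_f46390 IH) (path_edge (s0_f46388 IH) (path_edge (s0_f46389r IH) (path_nil s0_v4605))))
theorem s0_f46392 : ed sl_dt s0_v4605 = s0_v4606 :=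
  rfl
theorem s0_f46392r : ed sl_df s0_v4606 = s0_v4605 :=
  edge_flip (s0_f46392 IH)
theorem s0_f46393 : ed sl_df s0_v4605 = s0_v4606 :=
  gap_rel s0_rot4 (path_edge (s0_f46392r IH) (path_nil s0_v4606))
theorem s0_f46394 : ed sl_jf s0_v4606 = s0_v4606 :=
  gap_rel s0_rot6 (path_edge (s0_f46393 IH) (path_edge (s0_f46391 IH) (path_edge (s0_f46392r IH) (path_nil s0_v4606))))
theorem s0_f46395 : ed sl_it s0_v4606 = s0_v4607 :=
  rfl
theorem s0_f46395r : ed sl_if s0_v4607 = s0_v4606 :=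
  edge_flip (s0_f46395 IH)
theorem s0_f46396 : ed sl_if s0_v4606 = s0_v4607 :=
  gap_rel s0_rot9 (path_edge (s0_f46395r IH) (path_nil s0_v4607))
theorem s0_f46396r : ed sl_it s0_v4607 = s0_v4606 :=
  edge_flip (s0_f46396 IH)
theorem s0_f46394r : ed sl_jt s0_v4606 = s0_v4606 :=
  edge_flip (s0_f46394 IH)
theorem s0_f46397 : ed sl_jt s0_v4607 = s0_v4607 :=
  gap_rel s0_rot12 (path_edge (s0_f46395 IH) (path_edge (s0_f46394r IH) (path_edge (s0_f46396r IH) (path_nil s0_v4607))))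
theorem s0_f46398 : ed sl_ht s0_v4607 = s0_v4608 :=
  rfl
theorem s0_f46398r : ed sl_hf s0_v4608 = s0_v4607 :=
  edge_flip (s0_f46398 IH)
theorem s0_f46399 : ed sl_hf s0_v4607 = s0_v4608 :=
  gap_rel s0_rot13 (path_edge (s0_f46398r IH) (path_nil s0_v4608))
theorem s0_f46397r : ed sl_jf s0_v4607 = s0_v4607 :=
  edge_flip (s0_f46397 IH)
theorem s0_f46400 : ed sl_jf s0_v4608 = s0_v4608 :=
  gap_rel s0_rot15 (path_edge (s0_f46399 IH) (path_edge (s0_f46397r IH) (path_edge (s0_f46398r IH) (path_nil s0_v4608))))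
theorem s0_f46401 : ed sl_dt s0_v4608 = s0_v4609 :=
  rfl
theorem s0_f46401r : ed sl_df s0_v4609 = s0_v4608 :=
  edge_flip (s0_f46401 IH)
theorem s0_f46402 : ed sl_df s0_v4608 = s0_v4609 :=
  gap_rel s0_rot4 (path_edge (s0_f46401r IH) (path_nil s0_v4609))
theorem s0_f46403 : ed sl_jf s0_v4609 = s0_v4609 :=
  gap_rel s0_rot6 (path_edge (s0_f46402 IH) (path_edge (s0_f46400 IH) (path_edge (s0_f46401r IH) (path_nil s0_v4609))))
theorem s0_f46404 : ed sl_ft s0_v4609 = s0_v4610 :=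
  rfl
theorem s0_f46404r : ed sl_ff s0_v4610 = s0_v4609 :=
  edge_flip (s0_f46404 IH)
theorem s0_f46405 : ed sl_ff s0_v4609 = s0_v4610 :=
  gap_rel s0_rot22 (path_edge (s0_f46404r IH) (path_nil s0_v4610))
theorem s0_f46406 : ed sl_jf s0_v4610 = s0_v4610 :=
  gap_rel s0_rot23 (path_edge (s0_f46405 IH) (path_edge (s0_f46403 IH) (path_edge (s0_f46404r IH) (path_nil s0_v4610))))
theorem s0_f46407 : ed sl_et s0_v4610 = s0_v4611 :=
  rfl
theorem s0_f46407r : ed sl_ef s0_v4611 = s0_v4610 :=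
  edge_flip (s0_f46407 IH)
theorem s0_f46408 : ed sl_ef s0_v4610 = s0_v4611 :=
  gap_rel s0_rot17 (path_edge (s0_f46407r IH) (path_nil s0_v4611))
theorem s0_f46409 : ed sl_jf s0_v4611 = s0_v4611 :=
  gap_rel s0_rot18 (path_edge (s0_f46408 IH) (path_edge (s0_f46406 IH) (path_edge (s0_f46407r IH) (path_nil s0_v4611))))
theorem s0_f46410 : ed sl_dt s0_v4611 = s0_v4612 :=
  rfl
theorem s0_f46410r : ed sl_df s0_v4612 = s0_v4611 :=
  edge_flip (s0_f46410 IH)
theorem s0_f46411 : ed sl_df s0_v4611 = s0_v4612 :=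
  gap_rel s0_rot4 (path_edge (s0_f46410r IH) (path_nil s0_v4612))
theorem s0_f46412 : ed sl_jf s0_v4612 = s0_v4612 :=
  gap_rel s0_rot6 (path_edge (s0_f46411 IH) (path_edge (s0_f46409 IH) (path_edge (s0_f46410r IH) (path_nil s0_v4612))))
theorem s0_f46413 : ed sl_bt s0_v4612 = s0_v4613 :=
  rfl
theorem s0_f46413r : ed sl_bf s0_v4613 = s0_v4612 :=
  edge_flip (s0_f46413 IH)
theorem s0_f46414 : ed sl_bf s0_v4612 = s0_v4613 :=
  gap_rel s0_rot20 (path_edge (s0_f46413r IH) (path_nil s0_v4613))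
theorem s0_f46415 : ed sl_jf s0_v4613 = s0_v4613 :=
  gap_rel s0_rot21 (path_edge (s0_f46414 IH) (path_edge (s0_f46412 IH) (path_edge (s0_f46413r IH) (path_nil s0_v4613))))
theorem s0_f46416 : ed sl_ct s0_v4613 = s0_v4614 :=
  rfl
theorem s0_f46416r : ed sl_cf s0_v4614 = s0_v4613 :=
  edge_flip (s0_f46416 IH)
theorem s0_f46417 : ed sl_cf s0_v4613 = s0_v4614 :=
  gap_rel s0_rot0 (path_edge (s0_f46416r IH) (path_nil s0_v4614))
theorem s0_f46418 : ed sl_jf s0_v4614 = s0_v4614 :=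
  gap_rel s0_rot2 (path_edge (s0_f46417 IH) (path_edge (s0_f46415 IH) (path_edge (s0_f46416r IH) (path_nil s0_v4614))))
theorem s0_f46419 : ed sl_dt s0_v4614 = s0_v4615 :=
  rfl
theorem s0_f46419r : ed sl_df s0_v4615 = s0_v4614 :=
  edge_flip (s0_f46419 IH)
theorem s0_f46420 : ed sl_df s0_v4614 = s0_v4615 :=
  gap_rel s0_rot4 (path_edge (s0_f46419r IH) (path_nil s0_v4615))
theorem s0_f46421 : ed sl_jf s0_v4615 = s0_v4615 :=
  gap_rel s0_rot6 (path_edge (s0_f46420 IH) (path_edge (s0_f46418 IH) (path_edge (s0_f46419r IH) (path_nil s0_v4615))))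
theorem s0_f46422 : ed sl_it s0_v4615 = s0_v4616 :=
  rfl
theorem s0_f46422r : ed sl_if s0_v4616 = s0_v4615 :=
  edge_flip (s0_f46422 IH)
theorem s0_f46423 : ed sl_if s0_v4615 = s0_v4616 :=
  gap_rel s0_rot9 (path_edge (s0_f46422r IH) (path_nil s0_v4616))
theorem s0_f46423r : ed sl_it s0_v4616 = s0_v4615 :=
  edge_flip (s0_f46423 IH)
theorem s0_f46421r : ed sl_jt s0_v4615 = s0_v4615 :=
  edge_flip (s0_f46421 IH)
theorem s0_f46424 : ed sl_jt s0_v4616 = s0_v4616 :=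
  gap_rel s0_rot12 (path_edge (s0_f46422 IH) (path_edge (s0_f46421r IH) (path_edge (s0_f46423r IH) (path_nil s0_v4616))))
theorem s0_f46425 : ed sl_ht s0_v4616 = s0_v4617 :=
  rfl
theorem s0_f46425r : ed sl_hf s0_v4617 = s0_v4616 :=
  edge_flip (s0_f46425 IH)
theorem s0_f46426 : ed sl_hf s0_v4616 = s0_v4617 :=
  gap_rel s0_rot13 (path_edge (s0_f46425r IH) (path_nil s0_v4617))
theorem s0_f46424r : ed sl_jf s0_v4616 = s0_v4616 :=
  edge_flip (s0_f46424 IH)
theorem s0_f46427 : ed sl_jf s0_v4617 = s0_v4617 :=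
  gap_rel s0_rot15 (path_edge (s0_f46426 IH) (path_edge (s0_f46424r IH) (path_edge (s0_f46425r IH) (path_nil s0_v4617))))
theorem s0_f46428 : ed sl_dt s0_v4617 = s0_v4618 :=
  rfl
theorem s0_f46428r : ed sl_df s0_v4618 = s0_v4617 :=
  edge_flip (s0_f46428 IH)
theorem s0_f46429 : ed sl_df s0_v4617 = s0_v4618 :=
  gap_rel s0_rot4 (path_edge (s0_f46428r IH) (path_nil s0_v4618))
theorem s0_f46430 : ed sl_jf s0_v4618 = s0_v4618 :=
  gap_rel s0_rot6 (path_edge (s0_f46429 IH) (path_edge (s0_f46427 IH) (path_edge (s0_f46428r IH) (path_nil s0_v4618))))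
theorem s0_f46431 : ed sl_ft s0_v4618 = s0_v4619 :=
  rfl
theorem s0_f46431r : ed sl_ff s0_v4619 = s0_v4618 :=
  edge_flip (s0_f46431 IH)
theorem s0_f46432 : ed sl_ff s0_v4618 = s0_v4619 :=
  gap_rel s0_rot22 (path_edge (s0_f46431r IH) (path_nil s0_v4619))
theorem s0_f46433 : ed sl_jf s0_v4619 = s0_v4619 :=
  gap_rel s0_rot23 (path_edge (s0_f46432 IH) (path_edge (s0_f46430 IH) (path_edge (s0_f46431r IH) (path_nil s0_v4619))))
theorem s0_f46434 : ed sl_et s0_v4619 = s0_v4620 :=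
  rfl
theorem s0_f46434r : ed sl_ef s0_v4620 = s0_v4619 :=
  edge_flip (s0_f46434 IH)
theorem s0_f46435 : ed sl_ef s0_v4619 = s0_v4620 :=
  gap_rel s0_rot17 (path_edge (s0_f46434r IH) (path_nil s0_v4620))
theorem s0_f46436 : ed sl_jf s0_v4620 = s0_v4620 :=
  gap_rel s0_rot18 (path_edge (s0_f46435 IH) (path_edge (s0_f46433 IH) (path_edge (s0_f46434r IH) (path_nil s0_v4620))))
theorem s0_f46437 : ed sl_dt s0_v4620 = s0_v4621 :=
  rfl
theorem s0_f46437r : ed sl_df s0_v4621 = s0_v4620 :=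
  edge_flip (s0_f46437 IH)
theorem s0_f46438 : ed sl_df s0_v4620 = s0_v4621 :=
  gap_rel s0_rot4 (path_edge (s0_f46437r IH) (path_nil s0_v4621))
theorem s0_f46439 : ed sl_jf s0_v4621 = s0_v4621 :=
  gap_rel s0_rot6 (path_edge (s0_f46438 IH) (path_edge (s0_f46436 IH) (path_edge (s0_f46437r IH) (path_nil s0_v4621))))
theorem s0_f46440 : ed sl_bt s0_v4621 = s0_v4622 :=
  rfl
theorem s0_f46440r : ed sl_bf s0_v4622 = s0_v4621 :=
  edge_flip (s0_f46440 IH)
theorem s0_f46441 : ed sl_bf s0_v4621 = s0_v4622 :=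
  gap_rel s0_rot20 (path_edge (s0_f46440r IH) (path_nil s0_v4622))
theorem s0_f46442 : ed sl_jf s0_v4622 = s0_v4622 :=
  gap_rel s0_rot21 (path_edge (s0_f46441 IH) (path_edge (s0_f46439 IH) (path_edge (s0_f46440r IH) (path_nil s0_v4622))))
theorem s0_f46443 : ed sl_ct s0_v4622 = s0_v4623 :=
  rfl
theorem s0_f46443r : ed sl_cf s0_v4623 = s0_v4622 :=
  edge_flip (s0_f46443 IH)
theorem s0_f46444 : ed sl_cf s0_v4622 = s0_v4623 :=
  gap_rel s0_rot0 (path_edge (s0_f46443r IH) (path_nil s0_v4623))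
theorem s0_f46445 : ed sl_jf s0_v4623 = s0_v4623 :=
  gap_rel s0_rot2 (path_edge (s0_f46444 IH) (path_edge (s0_f46442 IH) (path_edge (s0_f46443r IH) (path_nil s0_v4623))))
theorem s0_f46446 : ed sl_dt s0_v4623 = s0_v4624 :=
  rfl
theorem s0_f46446r : ed sl_df s0_v4624 = s0_v4623 :=
  edge_flip (s0_f46446 IH)
theorem s0_f46447 : ed sl_df s0_v4623 = s0_v4624 :=
  gap_rel s0_rot4 (path_edge (s0_f46446r IH) (path_nil s0_v4624))
theorem s0_f46448 : ed sl_jf s0_v4624 = s0_v4624 :=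
  gap_rel s0_rot6 (path_edge (s0_f46447 IH) (path_edge (s0_f46445 IH) (path_edge (s0_f46446r IH) (path_nil s0_v4624))))
theorem s0_f46449 : ed sl_it s0_v4624 = s0_v4625 :=
  rfl
theorem s0_f46449r : ed sl_if s0_v4625 = s0_v4624 :=
  edge_flip (s0_f46449 IH)
theorem s0_f46450 : ed sl_if s0_v4624 = s0_v4625 :=
  gap_rel s0_rot9 (path_edge (s0_f46449r IH) (path_nil s0_v4625))
theorem s0_f46450r : ed sl_it s0_v4625 = s0_v4624 :=
  edge_flip (s0_f46450 IH)
theorem s0_f46448r : ed sl_jt s0_v4624 = s0_v4624 :=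
  edge_flip (s0_f46448 IH)
theorem s0_f46451 : ed sl_jt s0_v4625 = s0_v4625 :=
  gap_rel s0_rot12 (path_edge (s0_f46449 IH) (path_edge (s0_f46448r IH) (path_edge (s0_f46450r IH) (path_nil s0_v4625))))
theorem s0_f46452 : ed sl_ht s0_v4625 = s0_v4626 :=
  rfl
theorem s0_f46452r : ed sl_hf s0_v4626 = s0_v4625 :=
  edge_flip (s0_f46452 IH)
theorem s0_f46453 : ed sl_hf s0_v4625 = s0_v4626 :=
  gap_rel s0_rot13 (path_edge (s0_f46452r IH) (path_nil s0_v4626))
theorem s0_f46451r : ed sl_jf s0_v4625 = s0_v4625 :=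
  edge_flip (s0_f46451 IH)
theorem s0_f46454 : ed sl_jf s0_v4626 = s0_v4626 :=
  gap_rel s0_rot15 (path_edge (s0_f46453 IH) (path_edge (s0_f46451r IH) (path_edge (s0_f46452r IH) (path_nil s0_v4626))))
theorem s0_f46455 : ed sl_dt s0_v4626 = s0_v4627 :=
  rfl
theorem s0_f46455r : ed sl_df s0_v4627 = s0_v4626 :=
  edge_flip (s0_f46455 IH)
theorem s0_f46456 : ed sl_df s0_v4626 = s0_v4627 :=
  gap_rel s0_rot4 (path_edge (s0_f46455r IH) (path_nil s0_v4627))
theorem s0_f46457 : ed sl_jf s0_v4627 = s0_v4627 :=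
  gap_rel s0_rot6 (path_edge (s0_f46456 IH) (path_edge (s0_f46454 IH) (path_edge (s0_f46455r IH) (path_nil s0_v4627))))
theorem s0_f46349r : ed sl_df s0_v4592 = s0_v4592 :=
  edge_flip (s0_f46349 IH)
theorem s0_f7652r : ed sl_cf sq6421 = sq5141 :=
  edge_flip (s0_f7652 IH)
theorem s0_f7651r : ed sl_bf sq5141 = sq4016 :=
  edge_flip (s0_f7651 IH)
theorem s0_f626r : ed sl_df sq4016 = sq3038 :=
  edge_flip (s0_f626 IH)
theorem s0_f625r : ed sl_ef sq3038 = sq2243 :=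
  edge_flip (s0_f625 IH)
theorem s0_f624r : ed sl_ff sq2243 = sq1630 :=
  edge_flip (s0_f624 IH)
theorem s0_f7650r : ed sl_df sq1630 = sq1630 :=
  edge_flip (s0_f7650 IH)
theorem s0_f623r : ed sl_hf sq1630 = sq1172 :=
  edge_flip (s0_f623 IH)
theorem s0_f7649r : ed sl_if sq1172 = sq837 :=
  edge_flip (s0_f7649 IH)
theorem s0_f4982r : ed sl_df sq837 = sq586 :=
  edge_flip (s0_f4982 IH)
theorem s0_f7648r : ed sl_cf sq586 = sq404 :=
  edge_flip (s0_f7648 IH)
theorem s0_f7647r : ed sl_bf sq404 = sq539 :=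
  edge_flip (s0_f7647 IH)
theorem s0_f7646r : ed sl_df sq539 = sq758 :=
  edge_flip (s0_f7646 IH)
theorem s0_f7645r : ed sl_ef sq758 = sq532 :=
  edge_flip (s0_f7645 IH)
theorem s0_f7644r : ed sl_ff sq532 = sq532 :=
  edge_flip (s0_f7644 IH)
theorem s0_f7643r : ed sl_df sq532 = sq366 :=
  edge_flip (s0_f7643 IH)
theorem s0_f7642r : ed sl_hf sq366 = sq248 :=
  edge_flip (s0_f7642 IH)
theorem s0_f7641r : ed sl_if sq248 = sq168 :=
  edge_flip (s0_f7641 IH)
theorem s0_f4086r : ed sl_cf sq168 = sq239 :=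
  edge_flip (s0_f4086 IH)
theorem s0_f7639r : ed sl_bf sq239 = sq239 :=
  edge_flip (s0_f7639 IH)
theorem s0_f4085r : ed sl_df sq239 = sq346 :=
  edge_flip (s0_f4085 IH)
theorem s0_f4084r : ed sl_ef sq346 = sq346 :=
  edge_flip (s0_f4084 IH)
theorem s0_f4083r : ed sl_ff sq346 = sq346 :=
  edge_flip (s0_f4083 IH)
theorem s0_f4078r : ed sl_df sq346 = sq239 :=
  edge_flip (s0_f4078 IH)
theorem s0_f7638r : ed sl_hf sq239 = sq348 :=
  edge_flip (s0_f7638 IH)
theorem s0_f7637r : ed sl_if sq348 = sq507 :=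
  edge_flip (s0_f7637 IH)
theorem s0_f7636r : ed sl_df sq507 = sq507 :=
  edge_flip (s0_f7636 IH)
theorem s0_f7635r : ed sl_cf sq507 = sq365 :=
  edge_flip (s0_f7635 IH)
theorem s0_f2101r : ed sl_bf sq365 = sq268 :=
  edge_flip (s0_f2101 IH)
theorem s0_f2098r : ed sl_ef sq395 = sq395 :=
  edge_flip (s0_f2098 IH)
theorem s0_f2097r : ed sl_ff sq395 = sq395 :=
  edge_flip (s0_f2097 IH)
theorem s0_f7634r : ed sl_hf sq268 = sq396 :=
  edge_flip (s0_f7634 IH)
theorem s0_f7633r : ed sl_if sq396 = sq269 :=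
  edge_flip (s0_f7633 IH)
theorem s0_f7632r : ed sl_df sq269 = sq397 :=
  edge_flip (s0_f7632 IH)
theorem s0_f7631r : ed sl_cf sq397 = sq576 :=
  edge_flip (s0_f7631 IH)
theorem s0_f7629r : ed sl_df sq821 = sq821 :=
  edge_flip (s0_f7629 IH)
theorem s0_f7628r : ed sl_ef sq821 = sq1153 :=
  edge_flip (s0_f7628 IH)
theorem s0_f7627r : ed sl_ff sq1153 = sq1601 :=
  edge_flip (s0_f7627 IH)
theorem s0_f7626r : ed sl_df sq1601 = sq2197 :=
  edge_flip (s0_f7626 IH)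
theorem s0_f7625r : ed sl_hf sq2197 = sq2977 :=
  edge_flip (s0_f7625 IH)
theorem s0_f7620r : ed sl_df sq3945 = sq3945 :=
  edge_flip (s0_f7620 IH)
theorem s0_f46458 : ed sl_ff s0_v879 = s0_v4627 :=
  gap_rel s0_rot151 (path_edge (s0_f12646 IH) (path_edge (s0_f7472r IH) (path_edge (s0_f7376 IH) (path_edge (s0_f7601 IH) (path_edge (s0_f7620r IH) (path_edge (s0_f7600r IH) (path_edge (s0_f7625r IH) (path_edge (s0_f7626r IH) (path_edge (s0_f7627r IH) (path_edge (s0_f7628r IH) (path_edge (s0_f7629r IH) (path_edge (s0_f7630r IH) (path_edge (s0_f7631r IH) (path_edge (s0_f7632r IH) (path_edge (s0_f7633r IH) (path_edge (s0_f7634r IH) (path_edge (s0_f2009r IH) (path_edge (s0_f2097r IH) (path_edge (s0_f2098r IH) (path_edge (s0_f2099r IH) (path_edge (s0_f2101r IH) (path_edge (s0_f7635r IH) (path_edge (s0_f7636r IH) (path_edge (s0_f7637r IH) (path_edge (s0_f7638r IH) (path_edge (s0_f4078r IH) (path_edge (s0_f4083r IH) (path_edge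 (s0_f4084r IH) (path_edge (s0_f4085r IH) (path_edge (s0_f7639r IH) (path_edge (s0_f4086r IH) (path_edge (s0_f7640r IH) (path_edge (s0_f7641r IH) (path_edge (s0_f7642r IH) (path_edge (s0_f7643r IH) (path_edge (s0_f7644r IH) (path_edge (s0_f7645r IH) (path_edge (s0_f7646r IH) (path_edge (s0_f7647r IH) (path_edge (s0_f7648r IH) (path_edge (s0_f4982r IH) (path_edge (s0_f7649r IH) (path_edge (s0_f623r IH) (path_edge (s0_f7650r IH) (path_edge (s0_f624r IH) (path_edge (s0_f625r IH) (path_edge (s0_f626r IH) (path_edge (s0_f7651r IH) (path_edge (s0_f7652r IH) (path_edge (s0_f7653r IH) (path_edge (s0_f46331r IH) (path_edge (s0_f46345r IH) (path_edge (s0_f46349r IH) (path_edge (s0_f46347 IH) (path_edge (s0_f46350r IH) (path_edge (s0_f46353r IH) (path_edge (s0_f46357r IH) (path_edge (s0_f46361r IH) (path_edge (s0_f46365r IH) (path_edge (s0_f46368r IH) (path_edge (s0_f46371r IH) (path_edge (s0_f46374r IH) (path_edge (s0_f46377r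 IH) (path_edge (s0_f46380r IH) (path_edge (s0_f46383r IH) (path_edge (s0_f46386r IH) (path_edge (s0_f46389r IH) (path_edge (s0_f46392r IH) (path_edge (s0_f46395r IH) (path_edge (s0_f46398r IH) (path_edge (s0_f46401r IH) (path_edge (s0_f46404r IH) (path_edge (s0_f46407r IH) (path_edge (s0_f46410r IH) (path_edge (s0_f46413r IH) (path_edge (s0_f46416r IH) (path_edge (s0_f46419r IH) (path_edge (s0_f46422r IH) (path_edge (s0_f46425r IH) (path_edge (s0_f46428r IH) (path_edge (s0_f46431r IH) (path_edge (s0_f46434r IH) (path_edge (s0_f46437r IH) (path_edge (s0_f46440r IH) (path_edge (s0_f46443r IH) (path_edge (s0_f46446r IH) (path_edge (s0_f46449r IH) (path_edge (s0_f46452r IH) (path_edge (s0_f46455r IH) (path_nil s0_v4627))))))))))))))))))))))))))))))))))))))))))))))))))))))))))))))))))))))))))))))))))))))))))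
theorem s0_f46458r : ed sl_ft s0_v4627 = s0_v879 :=
  edge_flip (s0_f46458 IH)
theorem s0_f46460 : ed sl_ht s0_v3262 = s0_v4627 :=
  gap_rel s0_rot152 (path_edge (s0_f35699 IH) (path_edge (s0_f12660 IH) (path_edge (s0_f46458r IH) (path_nil s0_v4627))))
theorem s0_f46462 : ed sl_it sq6435 = s0_v4627 :=
  gap_rel s0_rot132 (path_edge (s0_f12657 IH) (path_edge (s0_f12651r IH) (path_edge (s0_f46458r IH) (path_nil s0_v4627))))
theorem s0_f46466 : ed sl_jt sq6435 = sq6435 :=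
  real_edge rels S fwd inv o lvl plet idx 47 IH Gen.j sp6435 sp6435 rfl rfl
theorem s0_f46462r : ed sl_if s0_v4627 = sq6435 :=
  edge_flip (s0_f46462 IH)
theorem s0_f46466r : ed sl_jf sq6435 = sq6435 :=
  edge_flip (s0_f46466 IH)
theorem s0_f46467 : ed sl_if sq6435 = s0_v4627 :=
  gap_rel s0_rot90 (path_edge (s0_f46466r IH) (path_edge (s0_f46462r IH) (path_edge (s0_f46457 IH) (path_nil s0_v4627))))
theorem s0_f35707r : ed sl_ht s0_v3264 = s0_v3263 :=
  edge_flip (s0_f35707 IH)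
theorem s0_f46467r : ed sl_it s0_v4627 = sq6435 :=
  edge_flip (s0_f46467 IH)
theorem s0_f46483 : sq9268 = s0_v3264 :=
  (loop_rel s0_rot122 (path_edge (s0_f13907 IH) (path_edge (s0_f13909 IH) (path_edge (s0_f46467r IH) (path_edge (s0_f46460 IH) (path_edge (s0_f35702r IH) (path_edge (s0_f35707r IH) (path_nil s0_v3264)))))))).symm
theorem s0_f46484 : ed sl_et sq9268 = sq7554 :=
  real_edge rels S fwd inv o lvl plet idx 47 IH Gen.e sp9268 sp7554 rfl rfl
theorem s0_f35706r : ed sl_et s0_v3264 = s0_v1274 :=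
  edge_flip (s0_f35706 IH)
theorem s0_f46502 : s0_v1274 = sq7554 :=
  edge_fun (edge_congr (s0_f35706r IH) (s0_f46483 IH).symm) (s0_f46484 IH)
theorem s0_f46503 : ed sl_dt sq7554 = sq8591 :=
  real_edge rels S fwd inv o lvl plet idx 47 IH Gen.d sp7554 sp8591 rfl rfl
theorem s0_f46517 : s0_v1275 = sq8591 :=
  edge_fun (edge_congr (s0_f17101 IH) (s0_f46502 IH)) (s0_f46503 IH)
theorem s0_f46518 : ed sl_ft sq8591 = sq7008 :=
  real_edge rels S fwd inv o lvl plet idx 47 IH Gen.f sp8591 sp7008 rfl rfl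
theorem s0_f46540 : s0_v1276 = sq7008 :=
  edge_fun (edge_congr (s0_f17104 IH) (s0_f46517 IH)) (s0_f46518 IH)
theorem s0_f46541 : ed sl_et sq7008 = sq5609 :=
  real_edge rels S fwd inv o lvl plet idx 47 IH Gen.e sp7008 sp5609 rfl rfl
theorem s0_f46560 : s0_v1277 = sq5609 :=
  edge_fun (edge_congr (s0_f17107 IH) (s0_f46540 IH)) (s0_f46541 IH)
theorem s0_f46580 : s0_v1278 = sq4448 :=
  edge_fun (edge_congr (s0_f17110 IH) (s0_f46560 IH)) (s0_f5049 IH)
theorem s0_f46581 : ed sl_bt sq4448 = sq5449 :=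
  real_edge rels S fwd inv o lvl plet idx 47 IH Gen.b sp4448 sp5449 rfl rfl
theorem s0_f46603 : s0_v1279 = sq5449 :=
  edge_fun (edge_congr (s0_f17113 IH) (s0_f46580 IH)) (s0_f46581 IH)
theorem s0_f46604 : ed sl_ct sq5449 = sq4345 :=
  real_edge rels S fwd inv o lvl plet idx 47 IH Gen.c sp5449 sp4345 rfl rfl
theorem s0_f46628 : s0_v1280 = sq4345 :=
  edge_fun (edge_congr (s0_f17116 IH) (s0_f46603 IH)) (s0_f46604 IH)
theorem s0_f46650 : s0_v1281 = sq5340 :=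
  edge_fun (edge_congr (s0_f17119 IH) (s0_f46628 IH)) (s0_f11662 IH)
theorem s0_f46652 : ed sl_it sq5340 = sq4268 :=
  real_edge rels S fwd inv o lvl plet idx 47 IH Gen.i sp5340 sp4268 rfl rfl
theorem s0_f46663 : s0_v1282 = sq4268 :=
  edge_fun (edge_congr (s0_f17122 IH) (s0_f46650 IH)) (s0_f46652 IH)
theorem s0_f46665 : ed sl_ht sq4268 = sq3341 :=
  real_edge rels S fwd inv o lvl plet idx 47 IH Gen.h sp4268 sp3341 rfl rfl
theorem s0_f46684 : s0_v1283 = sq3341 :=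
  edge_fun (edge_congr (s0_f17125 IH) (s0_f46663 IH)) (s0_f46665 IH)
theorem s0_f46699 : s0_v1284 = sq2538 :=
  edge_fun (edge_congr (s0_f17128 IH) (s0_f46684 IH)) (s0_f25467 IH)
theorem s0_f46712 : s0_v1285 = sq3342 :=
  edge_fun (edge_congr (s0_f17131 IH) (s0_f46699 IH)) (s0_f25488 IH)
theorem s0_f46722 : s0_v1286 = sq3342 :=
  edge_fun (edge_congr (s0_f17134 IH) (s0_f46712 IH)) (s0_f25489 IH)
theorem s0_f46729 : s0_v1287 = sq4267 :=
  edge_fun (edge_congr (s0_f17137 IH) (s0_f46722 IH)) (s0_f12721 IH)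
theorem s0_f46730 : ed sl_bt sq4267 = sq3343 :=
  real_edge rels S fwd inv o lvl plet idx 47 IH Gen.b sp4267 sp3343 rfl rfl
theorem s0_f46738 : s0_v1288 = sq3343 :=
  edge_fun (edge_congr (s0_f17140 IH) (s0_f46729 IH)) (s0_f46730 IH)
theorem s0_f46739 : ed sl_ct sq3343 = sq3343 :=
  real_edge rels S fwd inv o lvl plet idx 47 IH Gen.c sp3343 sp3343 rfl rfl
theorem s0_f46750 : s0_v1289 = sq3343 :=
  edge_fun (edge_congr (s0_f17143 IH) (s0_f46738 IH)) (s0_f46739 IH)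
theorem s0_f46761 : s0_v1290 = sq2540 :=
  edge_fun (edge_congr (s0_f17146 IH) (s0_f46750 IH)) (s0_f9381 IH)
theorem s0_f46763 : ed sl_it sq2540 = sq2540 :=
  real_edge rels S fwd inv o lvl plet idx 47 IH Gen.i sp2540 sp2540 rfl rfl
theorem s0_f46781 : s0_v1291 = sq2540 :=
  edge_fun (edge_congr (s0_f17149 IH) (s0_f46761 IH)) (s0_f46763 IH)
theorem s0_f46783 : s0_v1292 = sq1910 :=
  edge_fun (edge_congr (s0_f17152 IH) (s0_f46781 IH)) (s0_f27663 IH)
theorem s0_f46800 : s0_v1293 = sq2572 :=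
  edge_fun (edge_congr (s0_f17155 IH) (s0_f46783 IH)) (s0_f11670 IH)
theorem s0_f46812 : s0_v1294 = sq1909 :=
  edge_fun (edge_congr (s0_f17158 IH) (s0_f46800 IH)) (s0_f38347 IH)
theorem s0_f46823 : s0_v1295 = sq1469 :=
  edge_fun (edge_congr (s0_f17161 IH) (s0_f46812 IH)) (s0_f38346 IH)
theorem s0_f46827 : s0_v1296 = sq1062 :=
  edge_fun (edge_congr (s0_f17164 IH) (s0_f46823 IH)) (s0_f35626 IH)
theorem s0_f46832 : s0_v1297 = sq1468 :=
  edge_fun (edge_congr (s0_f17167 IH) (s0_f46827 IH)) (s0_f14516 IH)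
theorem s0_f46833 : ed sl_ct sq1468 = sq1153 :=
  real_edge rels S fwd inv o lvl plet idx 47 IH Gen.c sp1468 sp1153 rfl rfl
theorem s0_f46837 : s0_v1298 = sq1153 :=
  edge_fun (edge_congr (s0_f17170 IH) (s0_f46832 IH)) (s0_f46833 IH)
theorem s0_f46841 : s0_v1299 = sq1600 :=
  edge_fun (edge_congr (s0_f17173 IH) (s0_f46837 IH)) (s0_f19185 IH)
theorem s0_f46843 : ed sl_it sq1600 = sq2189 :=
  real_edge rels S fwd inv o lvl plet idx 47 IH Gen.i sp1600 sp2189 rfl rfl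
theorem s0_f46847 : s0_v1300 = sq2189 :=
  edge_fun (edge_congr (s0_f17176 IH) (s0_f46841 IH)) (s0_f46843 IH)
theorem s0_f46855 : ed sl_it sq2981 = sq3950 :=
  real_edge rels S fwd inv o lvl plet idx 47 IH Gen.i sp2981 sp3950 rfl rfl
theorem s0_f97r : ed sl_bf sq1596 = sq2189 :=
  edge_flip (s0_f97 IH)
theorem s0_f46858 : ed sl_bf s0_v1301 = s0_v1942 :=
  gap_rel s0_rot73 (path_edge (s0_f17180 IH) (path_eq (s0_f46847 IH).symm (path_edge (s0_f97r IH) (path_edge (s0_f23710r IH) (path_nil s0_v1942)))))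
theorem s0_f10864r : ed sl_ef sq2189 = sq2189 :=
  edge_flip (s0_f10864 IH)
theorem s0_f46859 : ed sl_ef s0_v1301 = s0_v1301 :=
  gap_rel s0_rot94 (path_edge (s0_f17180 IH) (path_eq (s0_f46847 IH).symm (path_edge (s0_f10864r IH) (path_eq (s0_f46847 IH) (path_edge (s0_f17179r IH) (path_nil s0_v1301))))))
theorem s0_f23727r : ed sl_et s0_v1942 = s0_v1942 :=
  edge_flip (s0_f23727 IH)
theorem s0_f46858r : ed sl_bt s0_v1942 = s0_v1301 :=
  edge_flip (s0_f46858 IH)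
theorem s0_f46859r : ed sl_et s0_v1301 = s0_v1301 :=
  edge_flip (s0_f46859 IH)
theorem s0_f46868 : ed sl_bt s0_v1301 = s0_v1942 :=
  gap_rel s0_rot77 (path_edge (s0_f46859r IH) (path_edge (s0_f46858r IH) (path_edge (s0_f23727r IH) (path_nil s0_v1942))))
theorem s0_f46868r : ed sl_bf s0_v1942 = s0_v1301 :=
  edge_flip (s0_f46868 IH)
theorem s0_f46869 : ed sl_bf s0_v1302 = s0_v1943 :=
  gap_rel s0_rot75 (path_edge (s0_f17183 IH) (path_edge (s0_f46868r IH) (path_edge (s0_f23761r IH) (path_nil s0_v1943))))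
theorem s0_f23769r : ed sl_ft s0_v1944 = s0_v1943 :=
  edge_flip (s0_f23769 IH)
theorem s0_f46869r : ed sl_bt s0_v1943 = s0_v1302 :=
  edge_flip (s0_f46869 IH)
theorem s0_f46871 : ed sl_bt s0_v1303 = s0_v1944 :=
  gap_rel s0_rot62 (path_edge (s0_f17185 IH) (path_edge (s0_f46869r IH) (path_edge (s0_f23769r IH) (path_nil s0_v1944))))
theorem s0_f46871r : ed sl_bf s0_v1944 = s0_v1303 :=
  edge_flip (s0_f46871 IH)
theorem s0_f46873 : ed sl_bf s0_v1304 = s0_v1945 :=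
  gap_rel s0_rot84 (path_edge (s0_f17189 IH) (path_edge (s0_f46871r IH) (path_edge (s0_f23773r IH) (path_nil s0_v1945))))
theorem s0_f23781r : ed sl_dt s0_v1946 = s0_v1945 :=
  edge_flip (s0_f23781 IH)
theorem s0_f46873r : ed sl_bt s0_v1945 = s0_v1304 :=
  edge_flip (s0_f46873 IH)
theorem s0_f46875 : s0_v1306 = s0_v1946 :=
  (loop_rel s0_rot79 (path_edge (s0_f17194 IH) (path_edge (s0_f17191 IH) (path_edge (s0_f46873r IH) (path_edge (s0_f23781r IH) (path_nil s0_v1946)))))).symm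
theorem s0_f47593 : ed sl_et sq2966 = sq2191 :=
  real_edge rels S fwd inv o lvl plet idx 47 IH Gen.e sp2966 sp2191 rfl rfl
theorem s0_f50492 : ed sl_it sq2966 = sq2200 :=
  real_edge rels S fwd inv o lvl plet idx 47 IH Gen.i sp2966 sp2200 rfl rfl
theorem s0_f50493 : ed sl_ht sq2200 = sq2981 :=
  real_edge rels S fwd inv o lvl plet idx 47 IH Gen.h sp2200 sp2981 rfl rfl
theorem s0_f51283 : ed sl_bt s0_v3082 = s0_v4861 :=
  rfl
theorem s0_f51283r : ed sl_bf s0_v4861 = s0_v3082 :=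
  edge_flip (s0_f51283 IH)
theorem s0_f51284 : ed sl_bf s0_v3082 = s0_v4861 :=
  gap_rel s0_rot20 (path_edge (s0_f51283r IH) (path_nil s0_v4861))
theorem s0_f46212r : ed sl_bf s0_v3081 = s0_v4587 :=
  edge_flip (s0_f46212 IH)
theorem s0_f51285 : ed sl_df s0_v4587 = s0_v4861 :=
  gap_rel s0_rot36 (path_edge (s0_f46212r IH) (path_edge (s0_f34202r IH) (path_edge (s0_f51283r IH) (path_nil s0_v4861))))
theorem s0_f51286 : ed sl_jf s0_v4861 = s0_v4861 :=
  gap_rel s0_rot21 (path_edge (s0_f51284 IH) (path_edge (s0_f34205 IH) (path_edge (s0_f51283r IH) (path_nil s0_v4861))))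
theorem s0_f51287 : ed sl_if s0_v4861 = s0_v4861 :=
  gap_rel s0_rot38 (path_edge (s0_f51284 IH) (path_edge (s0_f34206 IH) (path_edge (s0_f51283r IH) (path_nil s0_v4861))))
theorem s0_f51287r : ed sl_it s0_v4861 = s0_v4861 :=
  edge_flip (s0_f51287 IH)
theorem s0_f51285r : ed sl_dt s0_v4861 = s0_v4587 :=
  edge_flip (s0_f51285 IH)
theorem s0_f51288 : ed sl_dt s0_v4587 = s0_v4861 :=
  gap_rel s0_rot91 (path_edge (s0_f46192 IH) (path_edge (s0_f51285r IH) (path_edge (s0_f51287r IH) (path_nil s0_v4861))))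
theorem s0_f51291 : ed sl_ct s0_v4861 = s0_v4862 :=
  rfl
theorem s0_f51291r : ed sl_cf s0_v4862 = s0_v4861 :=
  edge_flip (s0_f51291 IH)
theorem s0_f51292 : ed sl_cf s0_v4861 = s0_v4862 :=
  gap_rel s0_rot0 (path_edge (s0_f51291r IH) (path_nil s0_v4862))
theorem s0_f51288r : ed sl_df s0_v4861 = s0_v4587 :=
  edge_flip (s0_f51288 IH)
theorem s0_f51293 : ed sl_df s0_v4862 = s0_v4862 :=
  gap_rel s0_rot80 (path_edge (s0_f51292 IH) (path_edge (s0_f51285 IH) (path_edge (s0_f46172 IH) (path_edge (s0_f51288r IH) (path_edge (s0_f51291r IH) (path_nil s0_v4862))))))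
theorem s0_f51294 : ed sl_jf s0_v4862 = s0_v4862 :=
  gap_rel s0_rot2 (path_edge (s0_f51292 IH) (path_edge (s0_f51286 IH) (path_edge (s0_f51291r IH) (path_nil s0_v4862))))
theorem s0_f51295 : ed sl_if s0_v4862 = s0_v4862 :=
  gap_rel s0_rot40 (path_edge (s0_f51292 IH) (path_edge (s0_f51287 IH) (path_edge (s0_f51291r IH) (path_nil s0_v4862))))
theorem s0_f51292r : ed sl_ct s0_v4862 = s0_v4861 :=
  edge_flip (s0_f51292 IH)
theorem s0_f51284r : ed sl_bt s0_v4861 = s0_v3082 :=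
  edge_flip (s0_f51284 IH)
theorem s0_f34208r : ed sl_ct s0_v3082 = s0_v3082 :=
  edge_flip (s0_f34208 IH)
theorem s0_f51296 : ed sl_bt s0_v4862 = s0_v4862 :=
  gap_rel s0_rot71 (path_edge (s0_f51291 IH) (path_edge (s0_f51283 IH) (path_edge (s0_f34208r IH) (path_edge (s0_f51284r IH) (path_edge (s0_f51292r IH) (path_nil s0_v4862))))))
theorem s0_f51297 : ed sl_ht s0_v4862 = s0_v4863 :=
  rfl
theorem s0_f51297r : ed sl_hf s0_v4863 = s0_v4862 :=
  edge_flip (s0_f51297 IH)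
theorem s0_f51298 : ed sl_hf s0_v4862 = s0_v4863 :=
  gap_rel s0_rot13 (path_edge (s0_f51297r IH) (path_nil s0_v4863))
theorem s0_f51299 : ed sl_jf s0_v4863 = s0_v4863 :=
  gap_rel s0_rot15 (path_edge (s0_f51298 IH) (path_edge (s0_f51294 IH) (path_edge (s0_f51297r IH) (path_nil s0_v4863))))
theorem s0_f51298r : ed sl_ht s0_v4863 = s0_v4862 :=
  edge_flip (s0_f51298 IH)

end

end

end Cfsg.Agent.Helper28.S1689
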