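import Cfsg.Agent.Lib.Helper28.S1689.Seeds8

set_option autoImplicit false
set_option maxRecDepth 100000
set_option linter.all false

namespace Cfsg.Agent.Helper28.S1689

open Cfsg.Agent.Helper28
open Cfsg.Spor.Fi23 (Gen)

noncomputable section

section
variable (IH : ∀ y q, lvl y q < 47 → EntryOK rels S fwd inv o plet idx y q)
include IH

theorem s0_f51300 : ed sl_bt s0_v4863 = s0_v4863 :=
  gap_rel s0_rot43 (path_edge (s0_f51297 IH) (path_edge (s0_f51296 IH) (path_edge (s0_f51298r IH) (path_nil s0_v4863))))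
theorem s0_f51301 : ed sl_dt s0_v4863 = s0_v4864 :=
  rfl
theorem s0_f51301r : ed sl_df s0_v4864 = s0_v4863 :=
  edge_flip (s0_f51301 IH)
theorem s0_f51302 : ed sl_df s0_v4863 = s0_v4864 :=
  gap_rel s0_rot4 (path_edge (s0_f51301r IH) (path_nil s0_v4864))
theorem s0_f51304 : ed sl_jf s0_v4864 = s0_v4864 :=
  gap_rel s0_rot6 (path_edge (s0_f51302 IH) (path_edge (s0_f51299 IH) (path_edge (s0_f51301r IH) (path_nil s0_v4864))))
theorem s0_f51302r : ed sl_dt s0_v4864 = s0_v4863 :=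
  edge_flip (s0_f51302 IH)
theorem s0_f51305 : ed sl_bt s0_v4864 = s0_v4864 :=
  gap_rel s0_rot79 (path_edge (s0_f51301 IH) (path_edge (s0_f51300 IH) (path_edge (s0_f51302r IH) (path_nil s0_v4864))))
theorem s0_f51306 : ed sl_ft s0_v4864 = s0_v4865 :=
  rfl
theorem s0_f51306r : ed sl_ff s0_v4865 = s0_v4864 :=
  edge_flip (s0_f51306 IH)
theorem s0_f51307 : ed sl_ff s0_v4864 = s0_v4865 :=
  gap_rel s0_rot22 (path_edge (s0_f51306r IH) (path_nil s0_v4865))
theorem s0_f51308 : ed sl_jf s0_v4865 = s0_v4865 :=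
  gap_rel s0_rot23 (path_edge (s0_f51307 IH) (path_edge (s0_f51304 IH) (path_edge (s0_f51306r IH) (path_nil s0_v4865))))
theorem s0_f51307r : ed sl_ft s0_v4865 = s0_v4864 :=
  edge_flip (s0_f51307 IH)
theorem s0_f51309 : ed sl_bt s0_v4865 = s0_v4865 :=
  gap_rel s0_rot62 (path_edge (s0_f51306 IH) (path_edge (s0_f51305 IH) (path_edge (s0_f51307r IH) (path_nil s0_v4865))))
theorem s0_f51311 : ed sl_et s0_v4865 = s0_v4866 :=
  rfl
theorem s0_f51311r : ed sl_ef s0_v4866 = s0_v4865 :=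
  edge_flip (s0_f51311 IH)
theorem s0_f51312 : ed sl_ef s0_v4865 = s0_v4866 :=
  gap_rel s0_rot17 (path_edge (s0_f51311r IH) (path_nil s0_v4866))
theorem s0_f51314 : ed sl_jf s0_v4866 = s0_v4866 :=
  gap_rel s0_rot18 (path_edge (s0_f51312 IH) (path_edge (s0_f51308 IH) (path_edge (s0_f51311r IH) (path_nil s0_v4866))))
theorem s0_f51312r : ed sl_et s0_v4866 = s0_v4865 :=
  edge_flip (s0_f51312 IH)
theorem s0_f51315 : ed sl_bt s0_v4866 = s0_v4866 :=
  gap_rel s0_rot77 (path_edge (s0_f51311 IH) (path_edge (s0_f51309 IH) (path_edge (s0_f51312r IH) (path_nil s0_v4866))))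
theorem s0_f51316 : ed sl_dt s0_v4866 = s0_v4867 :=
  rfl
theorem s0_f51316r : ed sl_df s0_v4867 = s0_v4866 :=
  edge_flip (s0_f51316 IH)
theorem s0_f51317 : ed sl_df s0_v4866 = s0_v4867 :=
  gap_rel s0_rot4 (path_edge (s0_f51316r IH) (path_nil s0_v4867))
theorem s0_f51318 : ed sl_jf s0_v4867 = s0_v4867 :=
  gap_rel s0_rot6 (path_edge (s0_f51317 IH) (path_edge (s0_f51314 IH) (path_edge (s0_f51316r IH) (path_nil s0_v4867))))
theorem s0_f51317r : ed sl_dt s0_v4867 = s0_v4866 :=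
  edge_flip (s0_f51317 IH)
theorem s0_f51319 : ed sl_bt s0_v4867 = s0_v4867 :=
  gap_rel s0_rot79 (path_edge (s0_f51316 IH) (path_edge (s0_f51315 IH) (path_edge (s0_f51317r IH) (path_nil s0_v4867))))
theorem s0_f51320 : ed sl_ct s0_v4867 = s0_v4868 :=
  rfl
theorem s0_f51320r : ed sl_cf s0_v4868 = s0_v4867 :=
  edge_flip (s0_f51320 IH)
theorem s0_f51321 : ed sl_cf s0_v4867 = s0_v4868 :=
  gap_rel s0_rot0 (path_edge (s0_f51320r IH) (path_nil s0_v4868))
theorem s0_f51322 : ed sl_jf s0_v4868 = s0_v4868 :=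
  gap_rel s0_rot2 (path_edge (s0_f51321 IH) (path_edge (s0_f51318 IH) (path_edge (s0_f51320r IH) (path_nil s0_v4868))))
theorem s0_f51323 : ed sl_dt s0_v4868 = s0_v4869 :=
  rfl
theorem s0_f51323r : ed sl_df s0_v4869 = s0_v4868 :=
  edge_flip (s0_f51323 IH)
theorem s0_f51324 : ed sl_df s0_v4868 = s0_v4869 :=
  gap_rel s0_rot4 (path_edge (s0_f51323r IH) (path_nil s0_v4869))
theorem s0_f51325 : ed sl_jf s0_v4869 = s0_v4869 :=
  gap_rel s0_rot6 (path_edge (s0_f51324 IH) (path_edge (s0_f51322 IH) (path_edge (s0_f51323r IH) (path_nil s0_v4869))))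
theorem s0_f51326 : ed sl_it s0_v4869 = s0_v4870 :=
  rfl
theorem s0_f51326r : ed sl_if s0_v4870 = s0_v4869 :=
  edge_flip (s0_f51326 IH)
theorem s0_f51327 : ed sl_if s0_v4869 = s0_v4870 :=
  gap_rel s0_rot9 (path_edge (s0_f51326r IH) (path_nil s0_v4870))
theorem s0_f51327r : ed sl_it s0_v4870 = s0_v4869 :=
  edge_flip (s0_f51327 IH)
theorem s0_f51325r : ed sl_jt s0_v4869 = s0_v4869 :=
  edge_flip (s0_f51325 IH)
theorem s0_f51328 : ed sl_jt s0_v4870 = s0_v4870 :=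
  gap_rel s0_rot12 (path_edge (s0_f51326 IH) (path_edge (s0_f51325r IH) (path_edge (s0_f51327r IH) (path_nil s0_v4870))))
theorem s0_f51329 : ed sl_ht s0_v4870 = s0_v4871 :=
  rfl
theorem s0_f51329r : ed sl_hf s0_v4871 = s0_v4870 :=
  edge_flip (s0_f51329 IH)
theorem s0_f51330 : ed sl_hf s0_v4870 = s0_v4871 :=
  gap_rel s0_rot13 (path_edge (s0_f51329r IH) (path_nil s0_v4871))
theorem s0_f51328r : ed sl_jf s0_v4870 = s0_v4870 :=
  edge_flip (s0_f51328 IH)
theorem s0_f51331 : ed sl_jf s0_v4871 = s0_v4871 :=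
  gap_rel s0_rot15 (path_edge (s0_f51330 IH) (path_edge (s0_f51328r IH) (path_edge (s0_f51329r IH) (path_nil s0_v4871))))
theorem s0_f51332 : ed sl_dt s0_v4871 = s0_v4872 :=
  rfl
theorem s0_f51332r : ed sl_df s0_v4872 = s0_v4871 :=
  edge_flip (s0_f51332 IH)
theorem s0_f51333 : ed sl_df s0_v4871 = s0_v4872 :=
  gap_rel s0_rot4 (path_edge (s0_f51332r IH) (path_nil s0_v4872))
theorem s0_f51334 : ed sl_jf s0_v4872 = s0_v4872 :=
  gap_rel s0_rot6 (path_edge (s0_f51333 IH) (path_edge (s0_f51331 IH) (path_edge (s0_f51332r IH) (path_nil s0_v4872))))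
theorem s0_f51335 : ed sl_ft s0_v4872 = s0_v4873 :=
  rfl
theorem s0_f51335r : ed sl_ff s0_v4873 = s0_v4872 :=
  edge_flip (s0_f51335 IH)
theorem s0_f51336 : ed sl_ff s0_v4872 = s0_v4873 :=
  gap_rel s0_rot22 (path_edge (s0_f51335r IH) (path_nil s0_v4873))
theorem s0_f51337 : ed sl_jf s0_v4873 = s0_v4873 :=
  gap_rel s0_rot23 (path_edge (s0_f51336 IH) (path_edge (s0_f51334 IH) (path_edge (s0_f51335r IH) (path_nil s0_v4873))))
theorem s0_f51338 : ed sl_et s0_v4873 = s0_v4874 :=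
  rfl
theorem s0_f51338r : ed sl_ef s0_v4874 = s0_v4873 :=
  edge_flip (s0_f51338 IH)
theorem s0_f51339 : ed sl_ef s0_v4873 = s0_v4874 :=
  gap_rel s0_rot17 (path_edge (s0_f51338r IH) (path_nil s0_v4874))
theorem s0_f51340 : ed sl_jf s0_v4874 = s0_v4874 :=
  gap_rel s0_rot18 (path_edge (s0_f51339 IH) (path_edge (s0_f51337 IH) (path_edge (s0_f51338r IH) (path_nil s0_v4874))))
theorem s0_f51341 : ed sl_dt s0_v4874 = s0_v4875 :=
  rfl
theorem s0_f51341r : ed sl_df s0_v4875 = s0_v4874 :=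
  edge_flip (s0_f51341 IH)
theorem s0_f51342 : ed sl_df s0_v4874 = s0_v4875 :=
  gap_rel s0_rot4 (path_edge (s0_f51341r IH) (path_nil s0_v4875))
theorem s0_f51343 : ed sl_jf s0_v4875 = s0_v4875 :=
  gap_rel s0_rot6 (path_edge (s0_f51342 IH) (path_edge (s0_f51340 IH) (path_edge (s0_f51341r IH) (path_nil s0_v4875))))
theorem s0_f51344 : ed sl_bt s0_v4875 = s0_v4876 :=
  rfl
theorem s0_f51344r : ed sl_bf s0_v4876 = s0_v4875 :=
  edge_flip (s0_f51344 IH)
theorem s0_f51345 : ed sl_bf s0_v4875 = s0_v4876 :=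
  gap_rel s0_rot20 (path_edge (s0_f51344r IH) (path_nil s0_v4876))
theorem s0_f51346 : ed sl_jf s0_v4876 = s0_v4876 :=
  gap_rel s0_rot21 (path_edge (s0_f51345 IH) (path_edge (s0_f51343 IH) (path_edge (s0_f51344r IH) (path_nil s0_v4876))))
theorem s0_f51347 : ed sl_ct s0_v4876 = s0_v4877 :=
  rfl
theorem s0_f51347r : ed sl_cf s0_v4877 = s0_v4876 :=
  edge_flip (s0_f51347 IH)
theorem s0_f51348 : ed sl_cf s0_v4876 = s0_v4877 :=
  gap_rel s0_rot0 (path_edge (s0_f51347r IH) (path_nil s0_v4877))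
theorem s0_f51349 : ed sl_jf s0_v4877 = s0_v4877 :=
  gap_rel s0_rot2 (path_edge (s0_f51348 IH) (path_edge (s0_f51346 IH) (path_edge (s0_f51347r IH) (path_nil s0_v4877))))
theorem s0_f51350 : ed sl_dt s0_v4877 = s0_v4878 :=
  rfl
theorem s0_f51350r : ed sl_df s0_v4878 = s0_v4877 :=
  edge_flip (s0_f51350 IH)
theorem s0_f51351 : ed sl_df s0_v4877 = s0_v4878 :=
  gap_rel s0_rot4 (path_edge (s0_f51350r IH) (path_nil s0_v4878))
theorem s0_f51352 : ed sl_jf s0_v4878 = s0_v4878 :=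
  gap_rel s0_rot6 (path_edge (s0_f51351 IH) (path_edge (s0_f51349 IH) (path_edge (s0_f51350r IH) (path_nil s0_v4878))))
theorem s0_f51353 : ed sl_it s0_v4878 = s0_v4879 :=
  rfl
theorem s0_f51353r : ed sl_if s0_v4879 = s0_v4878 :=
  edge_flip (s0_f51353 IH)
theorem s0_f51354 : ed sl_if s0_v4878 = s0_v4879 :=
  gap_rel s0_rot9 (path_edge (s0_f51353r IH) (path_nil s0_v4879))
theorem s0_f51354r : ed sl_it s0_v4879 = s0_v4878 :=
  edge_flip (s0_f51354 IH)
theorem s0_f51352r : ed sl_jt s0_v4878 = s0_v4878 :=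
  edge_flip (s0_f51352 IH)
theorem s0_f51355 : ed sl_jt s0_v4879 = s0_v4879 :=
  gap_rel s0_rot12 (path_edge (s0_f51353 IH) (path_edge (s0_f51352r IH) (path_edge (s0_f51354r IH) (path_nil s0_v4879))))
theorem s0_f51356 : ed sl_ht s0_v4879 = s0_v4880 :=
  rfl
theorem s0_f51356r : ed sl_hf s0_v4880 = s0_v4879 :=
  edge_flip (s0_f51356 IH)
theorem s0_f51357 : ed sl_hf s0_v4879 = s0_v4880 :=
  gap_rel s0_rot13 (path_edge (s0_f51356r IH) (path_nil s0_v4880))
theorem s0_f51355r : ed sl_jf s0_v4879 = s0_v4879 :=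
  edge_flip (s0_f51355 IH)
theorem s0_f51358 : ed sl_jf s0_v4880 = s0_v4880 :=
  gap_rel s0_rot15 (path_edge (s0_f51357 IH) (path_edge (s0_f51355r IH) (path_edge (s0_f51356r IH) (path_nil s0_v4880))))
theorem s0_f51359 : ed sl_dt s0_v4880 = s0_v4881 :=
  rfl
theorem s0_f51359r : ed sl_df s0_v4881 = s0_v4880 :=
  edge_flip (s0_f51359 IH)
theorem s0_f51360 : ed sl_df s0_v4880 = s0_v4881 :=
  gap_rel s0_rot4 (path_edge (s0_f51359r IH) (path_nil s0_v4881))
theorem s0_f51361 : ed sl_jf s0_v4881 = s0_v4881 :=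
  gap_rel s0_rot6 (path_edge (s0_f51360 IH) (path_edge (s0_f51358 IH) (path_edge (s0_f51359r IH) (path_nil s0_v4881))))
theorem s0_f51362 : ed sl_ft s0_v4881 = s0_v4882 :=
  rfl
theorem s0_f51362r : ed sl_ff s0_v4882 = s0_v4881 :=
  edge_flip (s0_f51362 IH)
theorem s0_f51363 : ed sl_ff s0_v4881 = s0_v4882 :=
  gap_rel s0_rot22 (path_edge (s0_f51362r IH) (path_nil s0_v4882))
theorem s0_f51364 : ed sl_jf s0_v4882 = s0_v4882 :=
  gap_rel s0_rot23 (path_edge (s0_f51363 IH) (path_edge (s0_f51361 IH) (path_edge (s0_f51362r IH) (path_nil s0_v4882))))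
theorem s0_f51365 : ed sl_et s0_v4882 = s0_v4883 :=
  rfl
theorem s0_f51365r : ed sl_ef s0_v4883 = s0_v4882 :=
  edge_flip (s0_f51365 IH)
theorem s0_f51366 : ed sl_ef s0_v4882 = s0_v4883 :=
  gap_rel s0_rot17 (path_edge (s0_f51365r IH) (path_nil s0_v4883))
theorem s0_f51367 : ed sl_jf s0_v4883 = s0_v4883 :=
  gap_rel s0_rot18 (path_edge (s0_f51366 IH) (path_edge (s0_f51364 IH) (path_edge (s0_f51365r IH) (path_nil s0_v4883))))
theorem s0_f51368 : ed sl_dt s0_v4883 = s0_v4884 :=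
  rfl
theorem s0_f51368r : ed sl_df s0_v4884 = s0_v4883 :=
  edge_flip (s0_f51368 IH)
theorem s0_f51369 : ed sl_df s0_v4883 = s0_v4884 :=
  gap_rel s0_rot4 (path_edge (s0_f51368r IH) (path_nil s0_v4884))
theorem s0_f51370 : ed sl_jf s0_v4884 = s0_v4884 :=
  gap_rel s0_rot6 (path_edge (s0_f51369 IH) (path_edge (s0_f51367 IH) (path_edge (s0_f51368r IH) (path_nil s0_v4884))))
theorem s0_f51371 : ed sl_bt s0_v4884 = s0_v4885 :=
  rfl
theorem s0_f51371r : ed sl_bf s0_v4885 = s0_v4884 :=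
  edge_flip (s0_f51371 IH)
theorem s0_f51372 : ed sl_bf s0_v4884 = s0_v4885 :=
  gap_rel s0_rot20 (path_edge (s0_f51371r IH) (path_nil s0_v4885))
theorem s0_f51373 : ed sl_jf s0_v4885 = s0_v4885 :=
  gap_rel s0_rot21 (path_edge (s0_f51372 IH) (path_edge (s0_f51370 IH) (path_edge (s0_f51371r IH) (path_nil s0_v4885))))
theorem s0_f51374 : ed sl_ct s0_v4885 = s0_v4886 :=
  rfl
theorem s0_f51374r : ed sl_cf s0_v4886 = s0_v4885 :=
  edge_flip (s0_f51374 IH)
theorem s0_f51375 : ed sl_cf s0_v4885 = s0_v4886 :=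
  gap_rel s0_rot0 (path_edge (s0_f51374r IH) (path_nil s0_v4886))
theorem s0_f51376 : ed sl_jf s0_v4886 = s0_v4886 :=
  gap_rel s0_rot2 (path_edge (s0_f51375 IH) (path_edge (s0_f51373 IH) (path_edge (s0_f51374r IH) (path_nil s0_v4886))))
theorem s0_f51377 : ed sl_dt s0_v4886 = s0_v4887 :=
  rfl
theorem s0_f51377r : ed sl_df s0_v4887 = s0_v4886 :=
  edge_flip (s0_f51377 IH)
theorem s0_f51378 : ed sl_df s0_v4886 = s0_v4887 :=
  gap_rel s0_rot4 (path_edge (s0_f51377r IH) (path_nil s0_v4887))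
theorem s0_f51379 : ed sl_jf s0_v4887 = s0_v4887 :=
  gap_rel s0_rot6 (path_edge (s0_f51378 IH) (path_edge (s0_f51376 IH) (path_edge (s0_f51377r IH) (path_nil s0_v4887))))
theorem s0_f51380 : ed sl_it s0_v4887 = s0_v4888 :=
  rfl
theorem s0_f51380r : ed sl_if s0_v4888 = s0_v4887 :=
  edge_flip (s0_f51380 IH)
theorem s0_f51381 : ed sl_if s0_v4887 = s0_v4888 :=
  gap_rel s0_rot9 (path_edge (s0_f51380r IH) (path_nil s0_v4888))
theorem s0_f51381r : ed sl_it s0_v4888 = s0_v4887 :=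
  edge_flip (s0_f51381 IH)
theorem s0_f51379r : ed sl_jt s0_v4887 = s0_v4887 :=
  edge_flip (s0_f51379 IH)
theorem s0_f51382 : ed sl_jt s0_v4888 = s0_v4888 :=
  gap_rel s0_rot12 (path_edge (s0_f51380 IH) (path_edge (s0_f51379r IH) (path_edge (s0_f51381r IH) (path_nil s0_v4888))))
theorem s0_f51383 : ed sl_ht s0_v4888 = s0_v4889 :=
  rfl
theorem s0_f51383r : ed sl_hf s0_v4889 = s0_v4888 :=
  edge_flip (s0_f51383 IH)
theorem s0_f51384 : ed sl_hf s0_v4888 = s0_v4889 :=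
  gap_rel s0_rot13 (path_edge (s0_f51383r IH) (path_nil s0_v4889))
theorem s0_f51382r : ed sl_jf s0_v4888 = s0_v4888 :=
  edge_flip (s0_f51382 IH)
theorem s0_f51385 : ed sl_jf s0_v4889 = s0_v4889 :=
  gap_rel s0_rot15 (path_edge (s0_f51384 IH) (path_edge (s0_f51382r IH) (path_edge (s0_f51383r IH) (path_nil s0_v4889))))
theorem s0_f51386 : ed sl_dt s0_v4889 = s0_v4890 :=
  rfl
theorem s0_f51386r : ed sl_df s0_v4890 = s0_v4889 :=
  edge_flip (s0_f51386 IH)
theorem s0_f51387 : ed sl_df s0_v4889 = s0_v4890 :=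
  gap_rel s0_rot4 (path_edge (s0_f51386r IH) (path_nil s0_v4890))
theorem s0_f51388 : ed sl_jf s0_v4890 = s0_v4890 :=
  gap_rel s0_rot6 (path_edge (s0_f51387 IH) (path_edge (s0_f51385 IH) (path_edge (s0_f51386r IH) (path_nil s0_v4890))))
theorem s0_f51389 : ed sl_ft s0_v4890 = s0_v4891 :=
  rfl
theorem s0_f51389r : ed sl_ff s0_v4891 = s0_v4890 :=
  edge_flip (s0_f51389 IH)
theorem s0_f51390 : ed sl_ff s0_v4890 = s0_v4891 :=
  gap_rel s0_rot22 (path_edge (s0_f51389r IH) (path_nil s0_v4891))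
theorem s0_f51391 : ed sl_jf s0_v4891 = s0_v4891 :=
  gap_rel s0_rot23 (path_edge (s0_f51390 IH) (path_edge (s0_f51388 IH) (path_edge (s0_f51389r IH) (path_nil s0_v4891))))
theorem s0_f51392 : ed sl_et s0_v4891 = s0_v4892 :=
  rfl
theorem s0_f51392r : ed sl_ef s0_v4892 = s0_v4891 :=
  edge_flip (s0_f51392 IH)
theorem s0_f51393 : ed sl_ef s0_v4891 = s0_v4892 :=
  gap_rel s0_rot17 (path_edge (s0_f51392r IH) (path_nil s0_v4892))
theorem s0_f51394 : ed sl_jf s0_v4892 = s0_v4892 :=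
  gap_rel s0_rot18 (path_edge (s0_f51393 IH) (path_edge (s0_f51391 IH) (path_edge (s0_f51392r IH) (path_nil s0_v4892))))
theorem s0_f51395 : ed sl_dt s0_v4892 = s0_v4893 :=
  rfl
theorem s0_f51395r : ed sl_df s0_v4893 = s0_v4892 :=
  edge_flip (s0_f51395 IH)
theorem s0_f51396 : ed sl_df s0_v4892 = s0_v4893 :=
  gap_rel s0_rot4 (path_edge (s0_f51395r IH) (path_nil s0_v4893))
theorem s0_f51397 : ed sl_jf s0_v4893 = s0_v4893 :=
  gap_rel s0_rot6 (path_edge (s0_f51396 IH) (path_edge (s0_f51394 IH) (path_edge (s0_f51395r IH) (path_nil s0_v4893))))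
theorem s0_f51398 : ed sl_bt s0_v4893 = s0_v4894 :=
  rfl
theorem s0_f51398r : ed sl_bf s0_v4894 = s0_v4893 :=
  edge_flip (s0_f51398 IH)
theorem s0_f51399 : ed sl_bf s0_v4893 = s0_v4894 :=
  gap_rel s0_rot20 (path_edge (s0_f51398r IH) (path_nil s0_v4894))
theorem s0_f51400 : ed sl_jf s0_v4894 = s0_v4894 :=
  gap_rel s0_rot21 (path_edge (s0_f51399 IH) (path_edge (s0_f51397 IH) (path_edge (s0_f51398r IH) (path_nil s0_v4894))))
theorem s0_f51401 : ed sl_ct s0_v4894 = s0_v4895 :=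
  rfl
theorem s0_f51401r : ed sl_cf s0_v4895 = s0_v4894 :=
  edge_flip (s0_f51401 IH)
theorem s0_f51402 : ed sl_cf s0_v4894 = s0_v4895 :=
  gap_rel s0_rot0 (path_edge (s0_f51401r IH) (path_nil s0_v4895))
theorem s0_f51403 : ed sl_jf s0_v4895 = s0_v4895 :=
  gap_rel s0_rot2 (path_edge (s0_f51402 IH) (path_edge (s0_f51400 IH) (path_edge (s0_f51401r IH) (path_nil s0_v4895))))
theorem s0_f51404 : ed sl_dt s0_v4895 = s0_v4896 :=
  rfl
theorem s0_f51404r : ed sl_df s0_v4896 = s0_v4895 :=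
  edge_flip (s0_f51404 IH)
theorem s0_f51405 : ed sl_df s0_v4895 = s0_v4896 :=
  gap_rel s0_rot4 (path_edge (s0_f51404r IH) (path_nil s0_v4896))
theorem s0_f51406 : ed sl_jf s0_v4896 = s0_v4896 :=
  gap_rel s0_rot6 (path_edge (s0_f51405 IH) (path_edge (s0_f51403 IH) (path_edge (s0_f51404r IH) (path_nil s0_v4896))))
theorem s0_f51407 : ed sl_it s0_v4896 = s0_v4897 :=
  rfl
theorem s0_f51407r : ed sl_if s0_v4897 = s0_v4896 :=
  edge_flip (s0_f51407 IH)
theorem s0_f51408 : ed sl_if s0_v4896 = s0_v4897 :=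
  gap_rel s0_rot9 (path_edge (s0_f51407r IH) (path_nil s0_v4897))
theorem s0_f51408r : ed sl_it s0_v4897 = s0_v4896 :=
  edge_flip (s0_f51408 IH)
theorem s0_f51406r : ed sl_jt s0_v4896 = s0_v4896 :=
  edge_flip (s0_f51406 IH)
theorem s0_f51409 : ed sl_jt s0_v4897 = s0_v4897 :=
  gap_rel s0_rot12 (path_edge (s0_f51407 IH) (path_edge (s0_f51406r IH) (path_edge (s0_f51408r IH) (path_nil s0_v4897))))
theorem s0_f51410 : ed sl_ht s0_v4897 = s0_v4898 :=
  rfl
theorem s0_f51410r : ed sl_hf s0_v4898 = s0_v4897 :=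
  edge_flip (s0_f51410 IH)
theorem s0_f51411 : ed sl_hf s0_v4897 = s0_v4898 :=
  gap_rel s0_rot13 (path_edge (s0_f51410r IH) (path_nil s0_v4898))
theorem s0_f51409r : ed sl_jf s0_v4897 = s0_v4897 :=
  edge_flip (s0_f51409 IH)
theorem s0_f51412 : ed sl_jf s0_v4898 = s0_v4898 :=
  gap_rel s0_rot15 (path_edge (s0_f51411 IH) (path_edge (s0_f51409r IH) (path_edge (s0_f51410r IH) (path_nil s0_v4898))))
theorem s0_f51413 : ed sl_dt s0_v4898 = s0_v4899 :=
  rfl
theorem s0_f51413r : ed sl_df s0_v4899 = s0_v4898 :=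
  edge_flip (s0_f51413 IH)
theorem s0_f51414 : ed sl_df s0_v4898 = s0_v4899 :=
  gap_rel s0_rot4 (path_edge (s0_f51413r IH) (path_nil s0_v4899))
theorem s0_f51415 : ed sl_jf s0_v4899 = s0_v4899 :=
  gap_rel s0_rot6 (path_edge (s0_f51414 IH) (path_edge (s0_f51412 IH) (path_edge (s0_f51413r IH) (path_nil s0_v4899))))
theorem s0_f51416 : ed sl_ft s0_v4899 = s0_v4900 :=
  rfl
theorem s0_f51416r : ed sl_ff s0_v4900 = s0_v4899 :=
  edge_flip (s0_f51416 IH)
theorem s0_f51417 : ed sl_ff s0_v4899 = s0_v4900 :=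
  gap_rel s0_rot22 (path_edge (s0_f51416r IH) (path_nil s0_v4900))
theorem s0_f51418 : ed sl_jf s0_v4900 = s0_v4900 :=
  gap_rel s0_rot23 (path_edge (s0_f51417 IH) (path_edge (s0_f51415 IH) (path_edge (s0_f51416r IH) (path_nil s0_v4900))))
theorem s0_f51419 : ed sl_et s0_v4900 = s0_v4901 :=
  rfl
theorem s0_f51419r : ed sl_ef s0_v4901 = s0_v4900 :=
  edge_flip (s0_f51419 IH)
theorem s0_f51420 : ed sl_ef s0_v4900 = s0_v4901 :=
  gap_rel s0_rot17 (path_edge (s0_f51419r IH) (path_nil s0_v4901))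
theorem s0_f51421 : ed sl_jf s0_v4901 = s0_v4901 :=
  gap_rel s0_rot18 (path_edge (s0_f51420 IH) (path_edge (s0_f51418 IH) (path_edge (s0_f51419r IH) (path_nil s0_v4901))))
theorem s0_f51422 : ed sl_dt s0_v4901 = s0_v4902 :=
  rfl
theorem s0_f51422r : ed sl_df s0_v4902 = s0_v4901 :=
  edge_flip (s0_f51422 IH)
theorem s0_f51423 : ed sl_df s0_v4901 = s0_v4902 :=
  gap_rel s0_rot4 (path_edge (s0_f51422r IH) (path_nil s0_v4902))
theorem s0_f51424 : ed sl_jf s0_v4902 = s0_v4902 :=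
  gap_rel s0_rot6 (path_edge (s0_f51423 IH) (path_edge (s0_f51421 IH) (path_edge (s0_f51422r IH) (path_nil s0_v4902))))
theorem s0_f51425 : ed sl_bt s0_v4902 = s0_v4903 :=
  rfl
theorem s0_f51425r : ed sl_bf s0_v4903 = s0_v4902 :=
  edge_flip (s0_f51425 IH)
theorem s0_f51426 : ed sl_bf s0_v4902 = s0_v4903 :=
  gap_rel s0_rot20 (path_edge (s0_f51425r IH) (path_nil s0_v4903))
theorem s0_f51427 : ed sl_jf s0_v4903 = s0_v4903 :=
  gap_rel s0_rot21 (path_edge (s0_f51426 IH) (path_edge (s0_f51424 IH) (path_edge (s0_f51425r IH) (path_nil s0_v4903))))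
theorem s0_f51428 : ed sl_ct s0_v4903 = s0_v4904 :=
  rfl
theorem s0_f51428r : ed sl_cf s0_v4904 = s0_v4903 :=
  edge_flip (s0_f51428 IH)
theorem s0_f51429 : ed sl_cf s0_v4903 = s0_v4904 :=
  gap_rel s0_rot0 (path_edge (s0_f51428r IH) (path_nil s0_v4904))
theorem s0_f51430 : ed sl_jf s0_v4904 = s0_v4904 :=
  gap_rel s0_rot2 (path_edge (s0_f51429 IH) (path_edge (s0_f51427 IH) (path_edge (s0_f51428r IH) (path_nil s0_v4904))))
theorem s0_f51431 : ed sl_dt s0_v4904 = s0_v4905 :=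
  rfl
theorem s0_f51431r : ed sl_df s0_v4905 = s0_v4904 :=
  edge_flip (s0_f51431 IH)
theorem s0_f51432 : ed sl_df s0_v4904 = s0_v4905 :=
  gap_rel s0_rot4 (path_edge (s0_f51431r IH) (path_nil s0_v4905))
theorem s0_f51433 : ed sl_jf s0_v4905 = s0_v4905 :=
  gap_rel s0_rot6 (path_edge (s0_f51432 IH) (path_edge (s0_f51430 IH) (path_edge (s0_f51431r IH) (path_nil s0_v4905))))
theorem s0_f51434 : ed sl_it s0_v4905 = s0_v4906 :=
  rfl
theorem s0_f51434r : ed sl_if s0_v4906 = s0_v4905 :=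
  edge_flip (s0_f51434 IH)
theorem s0_f51435 : ed sl_if s0_v4905 = s0_v4906 :=
  gap_rel s0_rot9 (path_edge (s0_f51434r IH) (path_nil s0_v4906))
theorem s0_f51435r : ed sl_it s0_v4906 = s0_v4905 :=
  edge_flip (s0_f51435 IH)
theorem s0_f51433r : ed sl_jt s0_v4905 = s0_v4905 :=
  edge_flip (s0_f51433 IH)
theorem s0_f51436 : ed sl_jt s0_v4906 = s0_v4906 :=
  gap_rel s0_rot12 (path_edge (s0_f51434 IH) (path_edge (s0_f51433r IH) (path_edge (s0_f51435r IH) (path_nil s0_v4906))))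
theorem s0_f51437 : ed sl_ht s0_v4906 = s0_v4907 :=
  rfl
theorem s0_f51437r : ed sl_hf s0_v4907 = s0_v4906 :=
  edge_flip (s0_f51437 IH)
theorem s0_f51438 : ed sl_hf s0_v4906 = s0_v4907 :=
  gap_rel s0_rot13 (path_edge (s0_f51437r IH) (path_nil s0_v4907))
theorem s0_f51436r : ed sl_jf s0_v4906 = s0_v4906 :=
  edge_flip (s0_f51436 IH)
theorem s0_f51439 : ed sl_jf s0_v4907 = s0_v4907 :=
  gap_rel s0_rot15 (path_edge (s0_f51438 IH) (path_edge (s0_f51436r IH) (path_edge (s0_f51437r IH) (path_nil s0_v4907))))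
theorem s0_f51440 : ed sl_dt s0_v4907 = s0_v4908 :=
  rfl
theorem s0_f51440r : ed sl_df s0_v4908 = s0_v4907 :=
  edge_flip (s0_f51440 IH)
theorem s0_f51441 : ed sl_df s0_v4907 = s0_v4908 :=
  gap_rel s0_rot4 (path_edge (s0_f51440r IH) (path_nil s0_v4908))
theorem s0_f51442 : ed sl_jf s0_v4908 = s0_v4908 :=
  gap_rel s0_rot6 (path_edge (s0_f51441 IH) (path_edge (s0_f51439 IH) (path_edge (s0_f51440r IH) (path_nil s0_v4908))))
theorem s0_f51443 : ed sl_ft s0_v4908 = s0_v4909 :=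
  rfl
theorem s0_f51443r : ed sl_ff s0_v4909 = s0_v4908 :=
  edge_flip (s0_f51443 IH)
theorem s0_f51444 : ed sl_ff s0_v4908 = s0_v4909 :=
  gap_rel s0_rot22 (path_edge (s0_f51443r IH) (path_nil s0_v4909))
theorem s0_f51445 : ed sl_jf s0_v4909 = s0_v4909 :=
  gap_rel s0_rot23 (path_edge (s0_f51444 IH) (path_edge (s0_f51442 IH) (path_edge (s0_f51443r IH) (path_nil s0_v4909))))
theorem s0_f51446 : ed sl_et s0_v4909 = s0_v4910 :=
  rfl
theorem s0_f51446r : ed sl_ef s0_v4910 = s0_v4909 :=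
  edge_flip (s0_f51446 IH)
theorem s0_f51447 : ed sl_ef s0_v4909 = s0_v4910 :=
  gap_rel s0_rot17 (path_edge (s0_f51446r IH) (path_nil s0_v4910))
theorem s0_f51448 : ed sl_jf s0_v4910 = s0_v4910 :=
  gap_rel s0_rot18 (path_edge (s0_f51447 IH) (path_edge (s0_f51445 IH) (path_edge (s0_f51446r IH) (path_nil s0_v4910))))
theorem s0_f51449 : ed sl_dt s0_v4910 = s0_v4911 :=
  rfl
theorem s0_f51449r : ed sl_df s0_v4911 = s0_v4910 :=
  edge_flip (s0_f51449 IH)
theorem s0_f51450 : ed sl_df s0_v4910 = s0_v4911 :=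
  gap_rel s0_rot4 (path_edge (s0_f51449r IH) (path_nil s0_v4911))
theorem s0_f51451 : ed sl_jf s0_v4911 = s0_v4911 :=
  gap_rel s0_rot6 (path_edge (s0_f51450 IH) (path_edge (s0_f51448 IH) (path_edge (s0_f51449r IH) (path_nil s0_v4911))))
theorem s0_f51452 : ed sl_bt s0_v4911 = s0_v4912 :=
  rfl
theorem s0_f51452r : ed sl_bf s0_v4912 = s0_v4911 :=
  edge_flip (s0_f51452 IH)
theorem s0_f51453 : ed sl_bf s0_v4911 = s0_v4912 :=
  gap_rel s0_rot20 (path_edge (s0_f51452r IH) (path_nil s0_v4912))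
theorem s0_f51454 : ed sl_jf s0_v4912 = s0_v4912 :=
  gap_rel s0_rot21 (path_edge (s0_f51453 IH) (path_edge (s0_f51451 IH) (path_edge (s0_f51452r IH) (path_nil s0_v4912))))
theorem s0_f51455 : ed sl_ct s0_v4912 = s0_v4913 :=
  rfl
theorem s0_f51455r : ed sl_cf s0_v4913 = s0_v4912 :=
  edge_flip (s0_f51455 IH)
theorem s0_f51456 : ed sl_cf s0_v4912 = s0_v4913 :=
  gap_rel s0_rot0 (path_edge (s0_f51455r IH) (path_nil s0_v4913))
theorem s0_f51457 : ed sl_jf s0_v4913 = s0_v4913 :=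
  gap_rel s0_rot2 (path_edge (s0_f51456 IH) (path_edge (s0_f51454 IH) (path_edge (s0_f51455r IH) (path_nil s0_v4913))))
theorem s0_f51458 : ed sl_dt s0_v4913 = s0_v4914 :=
  rfl
theorem s0_f51458r : ed sl_df s0_v4914 = s0_v4913 :=
  edge_flip (s0_f51458 IH)
theorem s0_f51459 : ed sl_df s0_v4913 = s0_v4914 :=
  gap_rel s0_rot4 (path_edge (s0_f51458r IH) (path_nil s0_v4914))
theorem s0_f51460 : ed sl_jf s0_v4914 = s0_v4914 :=
  gap_rel s0_rot6 (path_edge (s0_f51459 IH) (path_edge (s0_f51457 IH) (path_edge (s0_f51458r IH) (path_nil s0_v4914))))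
theorem s0_f51319r : ed sl_bf s0_v4867 = s0_v4867 :=
  edge_flip (s0_f51319 IH)
theorem s0_f33963r : ed sl_ff s0_v3043 = s0_v3043 :=
  edge_flip (s0_f33963 IH)
theorem s0_f46114r : ed sl_hf s0_v4590 = sq819 :=
  edge_flip (s0_f46114 IH)
theorem s0_f46129r : ed sl_if sq819 = sq576 :=
  edge_flip (s0_f46129 IH)
theorem s0_f7679r : ed sl_df sq576 = sq576 :=
  edge_flip (s0_f7679 IH)
theorem s0_f4220r : ed sl_cf sq576 = sq397 :=
  edge_flip (s0_f4220 IH)
theorem s0_f27658r : ed sl_bf sq397 = sq532 :=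
  edge_flip (s0_f27658 IH)
theorem s0_f14371r : ed sl_ef sq366 = sq253 :=
  edge_flip (s0_f14371 IH)
theorem s0_f14370r : ed sl_ff sq253 = sq173 :=
  edge_flip (s0_f14370 IH)
theorem s0_f9627r : ed sl_df sq173 = sq255 :=
  edge_flip (s0_f9627 IH)
theorem s0_f14520r : ed sl_hf sq255 = sq177 :=
  edge_flip (s0_f14520 IH)
theorem s0_f34978r : ed sl_if sq177 = sq177 :=
  edge_flip (s0_f34978 IH)
theorem s0_f18697r : ed sl_cf sq121 = sq121 :=
  edge_flip (s0_f18697 IH)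
theorem s0_f254r : ed sl_bf sq121 = sq89 :=
  edge_flip (s0_f254 IH)
theorem s0_f15117r : ed sl_df sq89 = sq132 :=
  edge_flip (s0_f15117 IH)
theorem s0_f15118r : ed sl_ef sq132 = sq194 :=
  edge_flip (s0_f15118 IH)
theorem s0_f15119r : ed sl_ff sq194 = sq285 :=
  edge_flip (s0_f15119 IH)
theorem s0_f37057r : ed sl_df sq285 = sq195 :=
  edge_flip (s0_f37057 IH)
theorem s0_f8700r : ed sl_hf sq195 = sq195 :=
  edge_flip (s0_f8700 IH)
theorem s0_f37062r : ed sl_if sq195 = sq195 :=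
  edge_flip (s0_f37062 IH)
theorem s0_f13298r : ed sl_cf sq285 = sq418 :=
  edge_flip (s0_f13298 IH)
theorem s0_f9452r : ed sl_bf sq418 = sq607 :=
  edge_flip (s0_f9452 IH)
theorem s0_f18723r : ed sl_df sq607 = sq607 :=
  edge_flip (s0_f18723 IH)
theorem s0_f46207r : ed sl_ef sq607 = sq861 :=
  edge_flip (s0_f46207 IH)
theorem s0_f46208r : ed sl_ff sq861 = sq602 :=
  edge_flip (s0_f46208 IH)
theorem s0_f38371r : ed sl_df sq602 = sq860 :=
  edge_flip (s0_f38371 IH)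
theorem s0_f6588r : ed sl_hf sq860 = sq1213 :=
  edge_flip (s0_f6588 IH)
theorem s0_f51461 : ed sl_if sq1213 = s0_v4914 :=
  gap_rel s0_rot88 (path_edge (s0_f6588r IH) (path_edge (s0_f38371r IH) (path_edge (s0_f46208r IH) (path_edge (s0_f46207r IH) (path_edge (s0_f18723r IH) (path_edge (s0_f9452r IH) (path_edge (s0_f13298r IH) (path_edge (s0_f4240r IH) (path_edge (s0_f37062r IH) (path_edge (s0_f8700r IH) (path_edge (s0_f37057r IH) (path_edge (s0_f15119r IH) (path_edge (s0_f15118r IH) (path_edge (s0_f15117r IH) (path_edge (s0_f254r IH) (path_edge (s0_f18697r IH) (path_edge (s0_f2387r IH) (path_edge (s0_f34978r IH) (path_edge (s0_f14520r IH) (path_edge (s0_f9627r IH) (path_edge (s0_f14370r IH) (path_edge (s0_f14371r IH) (path_edge (s0_f7643r IH) (path_edge (s0_f27658r IH) (path_edge (s0_f4220r IH) (path_edge (s0_f7679r IH) (path_edge (s0_f46129r IH) (path_edge (s0_f46114r IH) (path_edge (s0_f46128 IH) (path_edge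 (s0_f33963r IH) (path_edge (s0_f34201r IH) (path_edge (s0_f34202r IH) (path_edge (s0_f51283r IH) (path_edge (s0_f51291r IH) (path_edge (s0_f51293 IH) (path_edge (s0_f51295 IH) (path_edge (s0_f51297r IH) (path_edge (s0_f51301r IH) (path_edge (s0_f51306r IH) (path_edge (s0_f51311r IH) (path_edge (s0_f51316r IH) (path_edge (s0_f51319r IH) (path_edge (s0_f51320r IH) (path_edge (s0_f51323r IH) (path_edge (s0_f51326r IH) (path_edge (s0_f51329r IH) (path_edge (s0_f51332r IH) (path_edge (s0_f51335r IH) (path_edge (s0_f51338r IH) (path_edge (s0_f51341r IH) (path_edge (s0_f51344r IH) (path_edge (s0_f51347r IH) (path_edge (s0_f51350r IH) (path_edge (s0_f51353r IH) (path_edge (s0_f51356r IH) (path_edge (s0_f51359r IH) (path_edge (s0_f51362r IH) (path_edge (s0_f51365r IH) (path_edge (s0_f51368r IH) (path_edge (s0_f51371r IH) (path_edge (s0_f51374r IH) (path_edge (s0_f51377r IH) (path_edge (s0_f51380r IH) (path_edge (s0_f51383r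 IH) (path_edge (s0_f51386r IH) (path_edge (s0_f51389r IH) (path_edge (s0_f51392r IH) (path_edge (s0_f51395r IH) (path_edge (s0_f51398r IH) (path_edge (s0_f51401r IH) (path_edge (s0_f51404r IH) (path_edge (s0_f51407r IH) (path_edge (s0_f51410r IH) (path_edge (s0_f51413r IH) (path_edge (s0_f51416r IH) (path_edge (s0_f51419r IH) (path_edge (s0_f51422r IH) (path_edge (s0_f51425r IH) (path_edge (s0_f51428r IH) (path_edge (s0_f51431r IH) (path_edge (s0_f51434r IH) (path_edge (s0_f51437r IH) (path_edge (s0_f51440r IH) (path_edge (s0_f51443r IH) (path_edge (s0_f51446r IH) (path_edge (s0_f51449r IH) (path_edge (s0_f51452r IH) (path_edge (s0_f51455r IH) (path_edge (s0_f51458r IH) (path_nil s0_v4914))))))))))))))))))))))))))))))))))))))))))))))))))))))))))))))))))))))))))))))))))))))))))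
theorem s0_f51460r : ed sl_jt s0_v4914 = s0_v4914 :=
  edge_flip (s0_f51460 IH)
theorem s0_f51461r : ed sl_it s0_v4914 = sq1213 :=
  edge_flip (s0_f51461 IH)
theorem s0_f51467 : ed sl_it sq1213 = s0_v4914 :=
  gap_rel s0_rot89 (path_edge (s0_f38385 IH) (path_edge (s0_f51461r IH) (path_edge (s0_f51460r IH) (path_nil s0_v4914))))
theorem s0_f51467r : ed sl_if s0_v4914 = sq1213 :=
  edge_flip (s0_f51467 IH)
theorem s0_f6162r : ed sl_ff sq1213 = sq1687 :=
  edge_flip (s0_f6162 IH)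
theorem s0_f51472 : ed sl_ff s0_v546 = s0_v4914 :=
  gap_rel s0_rot52 (path_edge (s0_f7384 IH) (path_edge (s0_f6162r IH) (path_edge (s0_f51467r IH) (path_nil s0_v4914))))
theorem s0_f51472r : ed sl_ft s0_v4914 = s0_v546 :=
  edge_flip (s0_f51472 IH)
theorem s0_f7382r : ed sl_dt s0_v546 = s0_v545 :=
  edge_flip (s0_f7382 IH)
theorem s0_f51473 : ed sl_ft s0_v545 = s0_v4913 :=
  gap_rel s0_rot55 (path_edge (s0_f7382r IH) (path_edge (s0_f51472r IH) (path_edge (s0_f51458 IH) (path_nil s0_v4913))))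
theorem s0_f51473r : ed sl_ff s0_v4913 = s0_v545 :=
  edge_flip (s0_f51473 IH)
theorem s0_f51475 : ed sl_ff s0_v544 = s0_v4912 :=
  gap_rel s0_rot1 (path_edge (s0_f7378r IH) (path_edge (s0_f51473r IH) (path_edge (s0_f51456 IH) (path_nil s0_v4912))))
theorem s0_f51476 : ed sl_ff s0_v545 = s0_v4913 :=
  gap_rel s0_rot22 (path_edge (s0_f51473r IH) (path_nil s0_v4913))
theorem s0_f51476r : ed sl_ft s0_v4913 = s0_v545 :=
  edge_flip (s0_f51476 IH)
theorem s0_f51478 : ed sl_ft s0_v544 = s0_v4912 :=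
  gap_rel s0_rot53 (path_edge (s0_f7379r IH) (path_edge (s0_f51476r IH) (path_edge (s0_f51455 IH) (path_nil s0_v4912))))
theorem s0_f51478r : ed sl_ff s0_v4912 = s0_v544 :=
  edge_flip (s0_f51478 IH)
theorem s0_f4302r : ed sl_ff sq3048 = sq2250 :=
  edge_flip (s0_f4302 IH)
theorem s0_f51481 : ed sl_if sq2250 = s0_v4912 :=
  gap_rel s0_rot81 (path_edge (s0_f4302r IH) (path_edge (s0_f7410r IH) (path_edge (s0_f51478r IH) (path_nil s0_v4912))))
theorem s0_f51481r : ed sl_it s0_v4912 = sq2250 :=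
  edge_flip (s0_f51481 IH)
theorem s0_f51482 : ed sl_it sq2974 = s0_v4911 :=
  gap_rel s0_rot28 (path_edge (s0_f4321 IH) (path_edge (s0_f51481r IH) (path_edge (s0_f51452 IH) (path_nil s0_v4911))))
theorem s0_f51483 : ed sl_dt s0_v547 = s0_v4912 :=
  gap_rel s0_rot91 (path_edge (s0_f7824 IH) (path_edge (s0_f6340 IH) (path_edge (s0_f51481r IH) (path_nil s0_v4912))))
theorem s0_f51454r : ed sl_jt s0_v4912 = s0_v4912 :=
  edge_flip (s0_f51454 IH)
theorem s0_f51486 : ed sl_it sq2250 = s0_v4912 :=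
  gap_rel s0_rot89 (path_edge (s0_f38463 IH) (path_edge (s0_f51481r IH) (path_edge (s0_f51454r IH) (path_nil s0_v4912))))
theorem s0_f51486r : ed sl_if s0_v4912 = sq2250 :=
  edge_flip (s0_f51486 IH)
theorem s0_f4385r : ed sl_bf sq2250 = sq2974 :=
  edge_flip (s0_f4385 IH)
theorem s0_f51490 : ed sl_if sq2974 = s0_v4911 :=
  gap_rel s0_rot38 (path_edge (s0_f4385r IH) (path_edge (s0_f51486r IH) (path_edge (s0_f51453 IH) (path_nil s0_v4911))))
theorem s0_f6341r : ed sl_ef sq2250 = sq2250 :=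
  edge_flip (s0_f6341 IH)
theorem s0_f51491 : ed sl_ef s0_v4912 = s0_v4912 :=
  gap_rel s0_rot50 (path_edge (s0_f51481 IH) (path_edge (s0_f6341r IH) (path_edge (s0_f51486r IH) (path_nil s0_v4912))))
theorem s0_f51490r : ed sl_it s0_v4911 = sq2974 :=
  edge_flip (s0_f51490 IH)
theorem s0_f51500 : ed sl_ft s0_v543 = s0_v4911 :=
  gap_rel s0_rot11 (path_edge (s0_f7471 IH) (path_edge (s0_f7604 IH) (path_edge (s0_f51490r IH) (path_nil s0_v4911))))
theorem s0_f51500r : ed sl_ff s0_v4911 = s0_v543 :=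
  edge_flip (s0_f51500 IH)
theorem s0_f51504 : ed sl_ff s0_v542 = s0_v4910 :=
  gap_rel s0_rot5 (path_edge (s0_f7372r IH) (path_edge (s0_f51500r IH) (path_edge (s0_f51450 IH) (path_nil s0_v4910))))
theorem s0_f51504r : ed sl_ft s0_v4910 = s0_v542 :=
  edge_flip (s0_f51504 IH)
theorem s0_f51507 : ed sl_ft s0_v542 = s0_v4910 :=
  gap_rel s0_rot153 (path_edge (s0_f51504r IH) (path_nil s0_v4910))
theorem s0_f51507r : ed sl_ff s0_v4910 = s0_v542 :=
  edge_flip (s0_f51507 IH)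
theorem s0_f7501r : ed sl_bf s0_v542 = s0_v240 :=
  edge_flip (s0_f7501 IH)
theorem s0_f51508 : ed sl_bf s0_v547 = s0_v4910 :=
  gap_rel s0_rot93 (path_edge (s0_f7826 IH) (path_edge (s0_f7501r IH) (path_edge (s0_f51507r IH) (path_nil s0_v4910))))
theorem s0_f7520r : ed sl_cf s0_v542 = s0_v542 :=
  edge_flip (s0_f7520 IH)
theorem s0_f51509 : ed sl_cf s0_v4910 = s0_v4910 :=
  gap_rel s0_rot113 (path_edge (s0_f51504 IH) (path_edge (s0_f7520r IH) (path_edge (s0_f51507r IH) (path_nil s0_v4910))))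
theorem s0_f52847 : ed sl_ft s0_v1942 = s0_v5066 :=
  rfl
theorem s0_f52847r : ed sl_ff s0_v5066 = s0_v1942 :=
  edge_flip (s0_f52847 IH)
theorem s0_f52851 : ed sl_df s0_v1944 = s0_v5066 :=
  gap_rel s0_rot103 (path_edge (s0_f23769 IH) (path_edge (s0_f23763 IH) (path_edge (s0_f52847r IH) (path_nil s0_v5066))))
theorem s0_f12046r : ed sl_ff sq1596 = sq2191 :=
  edge_flip (s0_f12046 IH)
theorem s0_f52852 : ed sl_hf sq2191 = s0_v5066 :=
  gap_rel s0_rot111 (path_edge (s0_f12046r IH) (path_edge (s0_f23710r IH) (path_edge (s0_f52847r IH) (path_nil s0_v5066))))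
theorem s0_f52853 : ed sl_ff s0_v1942 = s0_v5066 :=
  gap_rel s0_rot22 (path_edge (s0_f52847r IH) (path_nil s0_v5066))
theorem s0_f52854 : ed sl_jf s0_v5066 = s0_v5066 :=
  gap_rel s0_rot23 (path_edge (s0_f52853 IH) (path_edge (s0_f23721 IH) (path_edge (s0_f52847r IH) (path_nil s0_v5066))))
theorem s0_f52854r : ed sl_jt s0_v5066 = s0_v5066 :=
  edge_flip (s0_f52854 IH)
theorem s0_f52851r : ed sl_dt s0_v5066 = s0_v1944 :=
  edge_flip (s0_f52851 IH)
theorem s0_f23770r : ed sl_jt s0_v1944 = s0_v1944 :=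
  edge_flip (s0_f23770 IH)
theorem s0_f52859 : ed sl_dt s0_v1944 = s0_v5066 :=
  gap_rel s0_rot104 (path_edge (s0_f23770r IH) (path_edge (s0_f52851r IH) (path_edge (s0_f52854r IH) (path_nil s0_v5066))))
theorem s0_f52860 : ed sl_jt sq2191 = sq2191 :=
  real_edge rels S fwd inv o lvl plet idx 47 IH Gen.j sp2191 sp2191 rfl rfl
theorem s0_f52852r : ed sl_ht s0_v5066 = sq2191 :=
  edge_flip (s0_f52852 IH)
theorem s0_f52861 : ed sl_ht sq2191 = s0_v5066 :=
  gap_rel s0_rot78 (path_edge (s0_f52860 IH) (path_edge (s0_f52852r IH) (path_edge (s0_f52854r IH) (path_nil s0_v5066))))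
theorem s0_f52877 : ed sl_et s0_v5066 = s0_v5067 :=
  rfl
theorem s0_f52877r : ed sl_ef s0_v5067 = s0_v5066 :=
  edge_flip (s0_f52877 IH)
theorem s0_f52880 : ed sl_ef s0_v5066 = s0_v5067 :=
  gap_rel s0_rot17 (path_edge (s0_f52877r IH) (path_nil s0_v5067))
theorem s0_f52861r : ed sl_hf s0_v5066 = sq2191 :=
  edge_flip (s0_f52861 IH)
theorem s0_f47593r : ed sl_ef sq2191 = sq2966 :=
  edge_flip (s0_f47593 IH)
theorem s0_f52881 : ed sl_hf sq2966 = s0_v5067 :=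
  gap_rel s0_rot34 (path_edge (s0_f47593r IH) (path_edge (s0_f52861r IH) (path_edge (s0_f52877r IH) (path_nil s0_v5067))))
theorem s0_f52882 : ed sl_ff s0_v5067 = s0_v5067 :=
  gap_rel s0_rot61 (path_edge (s0_f52880 IH) (path_edge (s0_f52853 IH) (path_edge (s0_f23727 IH) (path_edge (s0_f52847r IH) (path_edge (s0_f52877r IH) (path_nil s0_v5067))))))
theorem s0_f52883 : ed sl_jf s0_v5067 = s0_v5067 :=
  gap_rel s0_rot18 (path_edge (s0_f52880 IH) (path_edge (s0_f52854 IH) (path_edge (s0_f52877r IH) (path_nil s0_v5067))))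
theorem s0_f52901 : ed sl_dt s0_v5067 = s0_v5068 :=
  rfl
theorem s0_f52901r : ed sl_df s0_v5068 = s0_v5067 :=
  edge_flip (s0_f52901 IH)
theorem s0_f52903 : ed sl_df s0_v5067 = s0_v5068 :=
  gap_rel s0_rot4 (path_edge (s0_f52901r IH) (path_nil s0_v5068))
theorem s0_f52859r : ed sl_df s0_v5066 = s0_v1944 :=
  edge_flip (s0_f52859 IH)
theorem s0_f52904 : ed sl_ef s0_v1946 = s0_v5068 :=
  gap_rel s0_rot95 (path_edge (s0_f23781 IH) (path_edge (s0_f23775 IH) (path_edge (s0_f52859r IH) (path_edge (s0_f52877r IH) (path_edge (s0_f52901r IH) (path_nil s0_v5068))))))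
theorem s0_f52906 : ed sl_ff s0_v5068 = s0_v5068 :=
  gap_rel s0_rot5 (path_edge (s0_f52903 IH) (path_edge (s0_f52882 IH) (path_edge (s0_f52901r IH) (path_nil s0_v5068))))
theorem s0_f52907 : ed sl_jf s0_v5068 = s0_v5068 :=
  gap_rel s0_rot6 (path_edge (s0_f52903 IH) (path_edge (s0_f52883 IH) (path_edge (s0_f52901r IH) (path_nil s0_v5068))))
theorem s0_f52907r : ed sl_jt s0_v5068 = s0_v5068 :=
  edge_flip (s0_f52907 IH)
theorem s0_f52904r : ed sl_et s0_v5068 = s0_v1946 :=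
  edge_flip (s0_f52904 IH)
theorem s0_f17196r : ed sl_jt s0_v1306 = s0_v1306 :=
  edge_flip (s0_f17196 IH)
theorem s0_f52909 : ed sl_et s0_v1306 = s0_v5068 :=
  gap_rel s0_rot101 (path_edge (s0_f17196r IH) (path_eq (s0_f46875 IH).symm (path_edge (s0_f52904r IH) (path_edge (s0_f52907r IH) (path_nil s0_v5068)))))
theorem s0_f53169 : ed sl_dt sq7048 = s0_v5114 :=
  rfl
theorem s0_f53344 : ed sl_at s0_v224 = s0_v5154 :=
  rfl
theorem s0_f53344r : ed sl_af s0_v5154 = s0_v224 :=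
  edge_flip (s0_f53344 IH)
theorem s0_f53345 : ed sl_af s0_v224 = s0_v5154 :=
  gap_rel s0_rot105 (path_edge (s0_f53344r IH) (path_nil s0_v5154))
theorem s0_f53347 : ed sl_df s0_v2377 = s0_v5154 :=
  gap_rel s0_rot114 (path_edge (s0_f28429 IH) (path_edge (s0_f3163 IH) (path_edge (s0_f53344r IH) (path_nil s0_v5154))))
theorem s0_f53348 : ed sl_hf s0_v5154 = s0_v5154 :=
  gap_rel s0_rot108 (path_edge (s0_f53345 IH) (path_edge (s0_f3198r IH) (path_edge (s0_f53344r IH) (path_nil s0_v5154))))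
theorem s0_f3195r : ed sl_ff s0_v224 = s0_v224 :=
  edge_flip (s0_f3195 IH)
theorem s0_f53349 : ed sl_ff s0_v5154 = s0_v5154 :=
  gap_rel s0_rot116 (path_edge (s0_f53345 IH) (path_edge (s0_f3195r IH) (path_edge (s0_f53344r IH) (path_nil s0_v5154))))
theorem s0_f53350 : ed sl_jf s0_v5154 = s0_v5154 :=
  gap_rel s0_rot109 (path_edge (s0_f53345 IH) (path_edge (s0_f3161 IH) (path_edge (s0_f53344r IH) (path_nil s0_v5154))))
theorem s0_f3203r : ed sl_if s0_v224 = s0_v224 :=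
  edge_flip (s0_f3203 IH)
theorem s0_f53351 : ed sl_if s0_v5154 = s0_v5154 :=
  gap_rel s0_rot117 (path_edge (s0_f53345 IH) (path_edge (s0_f3203r IH) (path_edge (s0_f53344r IH) (path_nil s0_v5154))))
theorem s0_f53351r : ed sl_it s0_v5154 = s0_v5154 :=
  edge_flip (s0_f53351 IH)
theorem s0_f53347r : ed sl_dt s0_v5154 = s0_v2377 :=
  edge_flip (s0_f53347 IH)
theorem s0_f28431r : ed sl_it s0_v2377 = s0_v2377 :=
  edge_flip (s0_f28431 IH)
theorem s0_f53353 : ed sl_dt s0_v2377 = s0_v5154 :=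
  gap_rel s0_rot91 (path_edge (s0_f28431r IH) (path_edge (s0_f53347r IH) (path_edge (s0_f53351r IH) (path_nil s0_v5154))))
theorem s0_f53354 : ed sl_et s0_v5154 = s0_v5155 :=
  rfl
theorem s0_f53354r : ed sl_ef s0_v5155 = s0_v5154 :=
  edge_flip (s0_f53354 IH)
theorem s0_f53357 : ed sl_ef s0_v5154 = s0_v5155 :=
  gap_rel s0_rot17 (path_edge (s0_f53354r IH) (path_nil s0_v5155))
theorem s0_f53359 : ed sl_jf s0_v5155 = s0_v5155 :=
  gap_rel s0_rot18 (path_edge (s0_f53357 IH) (path_edge (s0_f53350 IH) (path_edge (s0_f53354r IH) (path_nil s0_v5155))))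
theorem s0_f53360 : ed sl_if s0_v5155 = s0_v5155 :=
  gap_rel s0_rot35 (path_edge (s0_f53357 IH) (path_edge (s0_f53351 IH) (path_edge (s0_f53354r IH) (path_nil s0_v5155))))
theorem s0_f53363 : ed sl_dt s0_v5155 = s0_v5156 :=
  rfl
theorem s0_f53363r : ed sl_df s0_v5156 = s0_v5155 :=
  edge_flip (s0_f53363 IH)
theorem s0_f53365 : ed sl_df s0_v5155 = s0_v5156 :=
  gap_rel s0_rot4 (path_edge (s0_f53363r IH) (path_nil s0_v5156))
theorem s0_f53353r : ed sl_df s0_v5154 = s0_v2377 :=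
  edge_flip (s0_f53353 IH)
theorem s0_f53366 : ed sl_ef s0_v2379 = s0_v5156 :=
  gap_rel s0_rot95 (path_edge (s0_f28442 IH) (path_edge (s0_f28437 IH) (path_edge (s0_f53353r IH) (path_edge (s0_f53354r IH) (path_edge (s0_f53363r IH) (path_nil s0_v5156))))))
theorem s0_f53367 : ed sl_jf s0_v5156 = s0_v5156 :=
  gap_rel s0_rot6 (path_edge (s0_f53365 IH) (path_edge (s0_f53359 IH) (path_edge (s0_f53363r IH) (path_nil s0_v5156))))
theorem s0_f53368 : ed sl_if s0_v5156 = s0_v5156 :=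
  gap_rel s0_rot33 (path_edge (s0_f53365 IH) (path_edge (s0_f53360 IH) (path_edge (s0_f53363r IH) (path_nil s0_v5156))))
theorem s0_f53368r : ed sl_it s0_v5156 = s0_v5156 :=
  edge_flip (s0_f53368 IH)
theorem s0_f53366r : ed sl_et s0_v5156 = s0_v2379 :=
  edge_flip (s0_f53366 IH)
theorem s0_f53370 : ed sl_et s0_v2379 = s0_v5156 :=
  gap_rel s0_rot10 (path_edge (s0_f28444r IH) (path_edge (s0_f53366r IH) (path_edge (s0_f53368r IH) (path_nil s0_v5156))))
theorem s0_f53371 : ed sl_ct s0_v5156 = s0_v5157 :=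
  rfl
theorem s0_f53371r : ed sl_cf s0_v5157 = s0_v5156 :=
  edge_flip (s0_f53371 IH)
theorem s0_f53373 : ed sl_cf s0_v5156 = s0_v5157 :=
  gap_rel s0_rot0 (path_edge (s0_f53371r IH) (path_nil s0_v5157))
theorem s0_f53370r : ed sl_ef s0_v5156 = s0_v2379 :=
  edge_flip (s0_f53370 IH)
theorem s0_f53375 : ed sl_ef s0_v2380 = s0_v5157 :=
  gap_rel s0_rot8 (path_edge (s0_f28446 IH) (path_edge (s0_f53370r IH) (path_edge (s0_f53371r IH) (path_nil s0_v5157))))
theorem s0_f53376 : ed sl_jf s0_v5157 = s0_v5157 :=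
  gap_rel s0_rot2 (path_edge (s0_f53373 IH) (path_edge (s0_f53367 IH) (path_edge (s0_f53371r IH) (path_nil s0_v5157))))
theorem s0_f53377 : ed sl_if s0_v5157 = s0_v5157 :=
  gap_rel s0_rot40 (path_edge (s0_f53373 IH) (path_edge (s0_f53368 IH) (path_edge (s0_f53371r IH) (path_nil s0_v5157))))
theorem s0_f53377r : ed sl_it s0_v5157 = s0_v5157 :=
  edge_flip (s0_f53377 IH)
theorem s0_f53375r : ed sl_et s0_v5157 = s0_v2380 :=
  edge_flip (s0_f53375 IH)
theorem s0_f28449r : ed sl_it s0_v2380 = s0_v2380 :=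
  edge_flip (s0_f28449 IH)
theorem s0_f53380 : ed sl_et s0_v2380 = s0_v5157 :=
  gap_rel s0_rot10 (path_edge (s0_f28449r IH) (path_edge (s0_f53375r IH) (path_edge (s0_f53377r IH) (path_nil s0_v5157))))
theorem s0_f53385 : ed sl_bt s0_v5157 = s0_v5158 :=
  rfl
theorem s0_f53385r : ed sl_bf s0_v5158 = s0_v5157 :=
  edge_flip (s0_f53385 IH)
theorem s0_f53386 : ed sl_bf s0_v5157 = s0_v5158 :=
  gap_rel s0_rot20 (path_edge (s0_f53385r IH) (path_nil s0_v5158))
theorem s0_f53380r : ed sl_ef s0_v5157 = s0_v2380 :=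
  edge_flip (s0_f53380 IH)
theorem s0_f53388 : ed sl_ef s0_v2381 = s0_v5158 :=
  gap_rel s0_rot100 (path_edge (s0_f28451 IH) (path_edge (s0_f53380r IH) (path_edge (s0_f53385r IH) (path_nil s0_v5158))))
theorem s0_f53389 : ed sl_jf s0_v5158 = s0_v5158 :=
  gap_rel s0_rot21 (path_edge (s0_f53386 IH) (path_edge (s0_f53376 IH) (path_edge (s0_f53385r IH) (path_nil s0_v5158))))
theorem s0_f53390 : ed sl_if s0_v5158 = s0_v5158 :=
  gap_rel s0_rot38 (path_edge (s0_f53386 IH) (path_edge (s0_f53377 IH) (path_edge (s0_f53385r IH) (path_nil s0_v5158))))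
theorem s0_f53390r : ed sl_it s0_v5158 = s0_v5158 :=
  edge_flip (s0_f53390 IH)
theorem s0_f53388r : ed sl_et s0_v5158 = s0_v2381 :=
  edge_flip (s0_f53388 IH)
theorem s0_f53392 : ed sl_et s0_v2381 = s0_v5158 :=
  gap_rel s0_rot10 (path_edge (s0_f28454r IH) (path_edge (s0_f53388r IH) (path_edge (s0_f53390r IH) (path_nil s0_v5158))))
theorem s0_f53392r : ed sl_ef s0_v5158 = s0_v2381 :=
  edge_flip (s0_f53392 IH)
theorem s0_f53393 : ed sl_af s0_v5158 = s0_v5158 :=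
  gap_rel s0_rot125 (path_edge (s0_f53388 IH) (path_eq (s0_f36360 IH).symm (path_edge (s0_f28456 IH) (path_edge (s0_f53392r IH) (path_nil s0_v5158)))))
theorem s0_f53394 : ed sl_ht s0_v5158 = s0_v5159 :=
  rfl
theorem s0_f53394r : ed sl_hf s0_v5159 = s0_v5158 :=
  edge_flip (s0_f53394 IH)
theorem s0_f53395 : ed sl_ef s0_v2383 = s0_v5159 :=
  gap_rel s0_rot94 (path_edge (s0_f28461 IH) (path_eq (s0_f36360 IH) (path_edge (s0_f53392r IH) (path_edge (s0_f53394r IH) (path_nil s0_v5159)))))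
theorem s0_f53396 : ed sl_hf s0_v5158 = s0_v5159 :=
  gap_rel s0_rot13 (path_edge (s0_f53394r IH) (path_nil s0_v5159))
theorem s0_f53397 : ed sl_jf s0_v5159 = s0_v5159 :=
  gap_rel s0_rot15 (path_edge (s0_f53396 IH) (path_edge (s0_f53389 IH) (path_edge (s0_f53394r IH) (path_nil s0_v5159))))
theorem s0_f53397r : ed sl_jt s0_v5159 = s0_v5159 :=
  edge_flip (s0_f53397 IH)
theorem s0_f53395r : ed sl_et s0_v5159 = s0_v2383 :=
  edge_flip (s0_f53395 IH)
theorem s0_f53398 : ed sl_et s0_v2383 = s0_v5159 :=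
  gap_rel s0_rot101 (path_edge (s0_f28462r IH) (path_edge (s0_f53395r IH) (path_edge (s0_f53397r IH) (path_nil s0_v5159))))
theorem s0_f53400 : ed sl_ft s0_v5159 = s0_v5160 :=
  rfl
theorem s0_f53400r : ed sl_ff s0_v5160 = s0_v5159 :=
  edge_flip (s0_f53400 IH)
theorem s0_f53401 : ed sl_ff s0_v5159 = s0_v5160 :=
  gap_rel s0_rot22 (path_edge (s0_f53400r IH) (path_nil s0_v5160))
theorem s0_f53402 : ed sl_jf s0_v5160 = s0_v5160 :=
  gap_rel s0_rot23 (path_edge (s0_f53401 IH) (path_edge (s0_f53397 IH) (path_edge (s0_f53400r IH) (path_nil s0_v5160))))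
theorem s0_f53404 : ed sl_et s0_v5160 = s0_v5161 :=
  rfl
theorem s0_f53404r : ed sl_ef s0_v5161 = s0_v5160 :=
  edge_flip (s0_f53404 IH)
theorem s0_f53405 : ed sl_ef s0_v5160 = s0_v5161 :=
  gap_rel s0_rot17 (path_edge (s0_f53404r IH) (path_nil s0_v5161))
theorem s0_f53398r : ed sl_ef s0_v5159 = s0_v2383 :=
  edge_flip (s0_f53398 IH)
theorem s0_f53406 : ed sl_ff s0_v2385 = s0_v5161 :=
  gap_rel s0_rot61 (path_edge (s0_f28467 IH) (path_edge (s0_f28464 IH) (path_edge (s0_f53398r IH) (path_edge (s0_f53400r IH) (path_edge (s0_f53404r IH) (path_nil s0_v5161))))))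
theorem s0_f53407 : ed sl_jf s0_v5161 = s0_v5161 :=
  gap_rel s0_rot18 (path_edge (s0_f53405 IH) (path_edge (s0_f53402 IH) (path_edge (s0_f53404r IH) (path_nil s0_v5161))))
theorem s0_f53407r : ed sl_jt s0_v5161 = s0_v5161 :=
  edge_flip (s0_f53407 IH)
theorem s0_f53406r : ed sl_ft s0_v5161 = s0_v2385 :=
  edge_flip (s0_f53406 IH)
theorem s0_f53408 : ed sl_ft s0_v2385 = s0_v5161 :=
  gap_rel s0_rot128 (path_edge (s0_f28468r IH) (path_edge (s0_f53406r IH) (path_edge (s0_f53407r IH) (path_nil s0_v5161))))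
theorem s0_f53410 : ed sl_dt s0_v5161 = s0_v5162 :=
  rfl
theorem s0_f53410r : ed sl_df s0_v5162 = s0_v5161 :=
  edge_flip (s0_f53410 IH)
theorem s0_f53411 : ed sl_df s0_v5161 = s0_v5162 :=
  gap_rel s0_rot4 (path_edge (s0_f53410r IH) (path_nil s0_v5162))
theorem s0_f53408r : ed sl_ff s0_v5161 = s0_v2385 :=
  edge_flip (s0_f53408 IH)
theorem s0_f53412 : ed sl_ff s0_v2386 = s0_v5162 :=
  gap_rel s0_rot5 (path_edge (s0_f28470 IH) (path_edge (s0_f53408r IH) (path_edge (s0_f53410r IH) (path_nil s0_v5162))))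
theorem s0_f53413 : ed sl_jf s0_v5162 = s0_v5162 :=
  gap_rel s0_rot6 (path_edge (s0_f53411 IH) (path_edge (s0_f53407 IH) (path_edge (s0_f53410r IH) (path_nil s0_v5162))))
theorem s0_f53413r : ed sl_jt s0_v5162 = s0_v5162 :=
  edge_flip (s0_f53413 IH)
theorem s0_f53412r : ed sl_ft s0_v5162 = s0_v2386 :=
  edge_flip (s0_f53412 IH)
theorem s0_f28471r : ed sl_jt s0_v2386 = s0_v2386 :=
  edge_flip (s0_f28471 IH)
theorem s0_f53414 : ed sl_ft s0_v2386 = s0_v5162 :=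
  gap_rel s0_rot128 (path_edge (s0_f28471r IH) (path_edge (s0_f53412r IH) (path_edge (s0_f53413r IH) (path_nil s0_v5162))))
theorem s0_f53416 : ed sl_ct s0_v5162 = s0_v5163 :=
  rfl
theorem s0_f53416r : ed sl_cf s0_v5163 = s0_v5162 :=
  edge_flip (s0_f53416 IH)
theorem s0_f53417 : ed sl_cf s0_v5162 = s0_v5163 :=
  gap_rel s0_rot0 (path_edge (s0_f53416r IH) (path_nil s0_v5163))
theorem s0_f53414r : ed sl_ff s0_v5162 = s0_v2386 :=
  edge_flip (s0_f53414 IH)
theorem s0_f53418 : ed sl_ff s0_v2387 = s0_v5163 :=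
  gap_rel s0_rot1 (path_edge (s0_f28473 IH) (path_edge (s0_f53414r IH) (path_edge (s0_f53416r IH) (path_nil s0_v5163))))
theorem s0_f53419 : ed sl_jf s0_v5163 = s0_v5163 :=
  gap_rel s0_rot2 (path_edge (s0_f53417 IH) (path_edge (s0_f53413 IH) (path_edge (s0_f53416r IH) (path_nil s0_v5163))))
theorem s0_f53419r : ed sl_jt s0_v5163 = s0_v5163 :=
  edge_flip (s0_f53419 IH)
theorem s0_f53418r : ed sl_ft s0_v5163 = s0_v2387 :=
  edge_flip (s0_f53418 IH)
theorem s0_f53420 : ed sl_ft s0_v2387 = s0_v5163 :=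
  gap_rel s0_rot128 (path_edge (s0_f28474r IH) (path_edge (s0_f53418r IH) (path_edge (s0_f53419r IH) (path_nil s0_v5163))))
theorem s0_f53422 : ed sl_bt s0_v5163 = s0_v5164 :=
  rfl
theorem s0_f53422r : ed sl_bf s0_v5164 = s0_v5163 :=
  edge_flip (s0_f53422 IH)
theorem s0_f53423 : ed sl_bf s0_v5163 = s0_v5164 :=
  gap_rel s0_rot20 (path_edge (s0_f53422r IH) (path_nil s0_v5164))
theorem s0_f53420r : ed sl_ff s0_v5163 = s0_v2387 :=
  edge_flip (s0_f53420 IH)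
theorem s0_f53424 : ed sl_ff s0_v2388 = s0_v5164 :=
  gap_rel s0_rot54 (path_edge (s0_f28476 IH) (path_edge (s0_f53420r IH) (path_edge (s0_f53422r IH) (path_nil s0_v5164))))
theorem s0_f53425 : ed sl_jf s0_v5164 = s0_v5164 :=
  gap_rel s0_rot21 (path_edge (s0_f53423 IH) (path_edge (s0_f53419 IH) (path_edge (s0_f53422r IH) (path_nil s0_v5164))))
theorem s0_f53425r : ed sl_jt s0_v5164 = s0_v5164 :=
  edge_flip (s0_f53425 IH)
theorem s0_f53424r : ed sl_ft s0_v5164 = s0_v2388 :=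
  edge_flip (s0_f53424 IH)
theorem s0_f53426 : ed sl_ft s0_v2388 = s0_v5164 :=
  gap_rel s0_rot128 (path_edge (s0_f28477r IH) (path_edge (s0_f53424r IH) (path_edge (s0_f53425r IH) (path_nil s0_v5164))))
theorem s0_f53427 : ed sl_at s0_v5164 = s0_v5165 :=
  rfl
theorem s0_f53427r : ed sl_af s0_v5165 = s0_v5164 :=
  edge_flip (s0_f53427 IH)
theorem s0_f53428 : ed sl_af s0_v5164 = s0_v5165 :=
  gap_rel s0_rot105 (path_edge (s0_f53427r IH) (path_nil s0_v5165))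
theorem s0_f53426r : ed sl_ff s0_v5164 = s0_v2388 :=
  edge_flip (s0_f53426 IH)
theorem s0_f53430 : ed sl_ff s0_v2389 = s0_v5165 :=
  gap_rel s0_rot116 (path_edge (s0_f28479 IH) (path_edge (s0_f53426r IH) (path_edge (s0_f53427r IH) (path_nil s0_v5165))))
theorem s0_f53431 : ed sl_jf s0_v5165 = s0_v5165 :=
  gap_rel s0_rot109 (path_edge (s0_f53428 IH) (path_edge (s0_f53425 IH) (path_edge (s0_f53427r IH) (path_nil s0_v5165))))
theorem s0_f53431r : ed sl_jt s0_v5165 = s0_v5165 :=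
  edge_flip (s0_f53431 IH)
theorem s0_f53430r : ed sl_ft s0_v5165 = s0_v2389 :=
  edge_flip (s0_f53430 IH)
theorem s0_f53432 : ed sl_ft s0_v2389 = s0_v5165 :=
  gap_rel s0_rot128 (path_edge (s0_f28480r IH) (path_edge (s0_f53430r IH) (path_edge (s0_f53431r IH) (path_nil s0_v5165))))
theorem s0_f53432r : ed sl_ff s0_v5165 = s0_v2389 :=
  edge_flip (s0_f53432 IH)
theorem s0_f53433 : ed sl_hf s0_v2391 = s0_v5165 :=
  gap_rel s0_rot111 (path_edge (s0_f28485 IH) (path_edge (s0_f28482 IH) (path_edge (s0_f53432r IH) (path_nil s0_v5165))))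
theorem s0_f53435 : ed sl_et s0_v2390 = s0_v5166 :=
  rfl
theorem s0_f53439 : ed sl_dt s0_v5166 = s0_v5167 :=
  rfl
theorem s0_f53443 : ed sl_ct s0_v5167 = s0_v5168 :=
  rfl
theorem s0_f53446 : ed sl_bt s0_v5168 = s0_v5169 :=
  rfl
theorem s0_f53450 : ed sl_at s0_v5169 = s0_v5170 :=
  rfl
theorem s0_f53454 : ed sl_ht s0_v5170 = s0_v5171 :=
  rfl
theorem s0_f53458 : ed sl_ft s0_v5171 = s0_v5172 :=
  rfl
theorem s0_f53462 : ed sl_et s0_v5172 = s0_v5173 :=
  rfl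
theorem s0_f53466 : ed sl_dt s0_v5173 = s0_v5174 :=
  rfl
theorem s0_f53469 : ed sl_ct s0_v5174 = s0_v5175 :=
  rfl
theorem s0_f53473 : ed sl_bt s0_v5175 = s0_v5176 :=
  rfl
theorem s0_f53477 : ed sl_at s0_v5176 = s0_v5177 :=
  rfl
theorem s0_f53481 : ed sl_ht s0_v5177 = s0_v5178 :=
  rfl
theorem s0_f53481r : ed sl_hf s0_v5178 = s0_v5177 :=
  edge_flip (s0_f53481 IH)
theorem s0_f53482 : ed sl_hf s0_v5177 = s0_v5178 :=
  gap_rel s0_rot13 (path_edge (s0_f53481r IH) (path_nil s0_v5178))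
theorem s0_f53484 : ed sl_ft s0_v5178 = s0_v5179 :=
  rfl
theorem s0_f53484r : ed sl_ff s0_v5179 = s0_v5178 :=
  edge_flip (s0_f53484 IH)
theorem s0_f53485 : ed sl_ff s0_v5178 = s0_v5179 :=
  gap_rel s0_rot22 (path_edge (s0_f53484r IH) (path_nil s0_v5179))
theorem s0_f53487 : ed sl_et s0_v5179 = s0_v5180 :=
  rfl
theorem s0_f53487r : ed sl_ef s0_v5180 = s0_v5179 :=
  edge_flip (s0_f53487 IH)
theorem s0_f53488 : ed sl_ef s0_v5179 = s0_v5180 :=
  gap_rel s0_rot17 (path_edge (s0_f53487r IH) (path_nil s0_v5180))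
theorem s0_f53490 : ed sl_dt s0_v5180 = s0_v5181 :=
  rfl
theorem s0_f53490r : ed sl_df s0_v5181 = s0_v5180 :=
  edge_flip (s0_f53490 IH)
theorem s0_f53491 : ed sl_df s0_v5180 = s0_v5181 :=
  gap_rel s0_rot4 (path_edge (s0_f53490r IH) (path_nil s0_v5181))
theorem s0_f53477r : ed sl_af s0_v5177 = s0_v5176 :=
  edge_flip (s0_f53477 IH)
theorem s0_f53473r : ed sl_bf s0_v5176 = s0_v5175 :=
  edge_flip (s0_f53473 IH)
theorem s0_f53469r : ed sl_cf s0_v5175 = s0_v5174 :=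
  edge_flip (s0_f53469 IH)
theorem s0_f53466r : ed sl_df s0_v5174 = s0_v5173 :=
  edge_flip (s0_f53466 IH)
theorem s0_f53462r : ed sl_ef s0_v5173 = s0_v5172 :=
  edge_flip (s0_f53462 IH)
theorem s0_f53458r : ed sl_ff s0_v5172 = s0_v5171 :=
  edge_flip (s0_f53458 IH)
theorem s0_f53454r : ed sl_hf s0_v5171 = s0_v5170 :=
  edge_flip (s0_f53454 IH)
theorem s0_f53450r : ed sl_af s0_v5170 = s0_v5169 :=
  edge_flip (s0_f53450 IH)
theorem s0_f53446r : ed sl_bf s0_v5169 = s0_v5168 :=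
  edge_flip (s0_f53446 IH)
theorem s0_f53443r : ed sl_cf s0_v5168 = s0_v5167 :=
  edge_flip (s0_f53443 IH)
theorem s0_f53439r : ed sl_df s0_v5167 = s0_v5166 :=
  edge_flip (s0_f53439 IH)
theorem s0_f53435r : ed sl_ef s0_v5166 = s0_v2390 :=
  edge_flip (s0_f53435 IH)
theorem s0_f1992r : ed sl_af sq443 = sq573 :=
  edge_flip (s0_f1992 IH)
theorem s0_f2008r : ed sl_cf sq573 = sq395 :=
  edge_flip (s0_f2008 IH)
theorem s0_f2013r : ed sl_af sq188 = sq146 :=
  edge_flip (s0_f2013 IH)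
theorem s0_f2014r : ed sl_bf sq146 = sq146 :=
  edge_flip (s0_f2014 IH)
theorem s0_f2015r : ed sl_cf sq146 = sq146 :=
  edge_flip (s0_f2015 IH)
theorem s0_f2016r : ed sl_ef sq214 = sq313 :=
  edge_flip (s0_f2016 IH)
theorem s0_f2017r : ed sl_ff sq313 = sq460 :=
  edge_flip (s0_f2017 IH)
theorem s0_f2018r : ed sl_hf sq460 = sq460 :=
  edge_flip (s0_f2018 IH)
theorem s0_f2019r : ed sl_af sq460 = sq590 :=
  edge_flip (s0_f2019 IH)
theorem s0_f2020r : ed sl_bf sq590 = sq771 :=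
  edge_flip (s0_f2020 IH)
theorem s0_f2021r : ed sl_cf sq771 = sq1083 :=
  edge_flip (s0_f2021 IH)
theorem s0_f2025r : ed sl_hf sq2642 = sq3490 :=
  edge_flip (s0_f2025 IH)
theorem s0_f2026r : ed sl_af sq3490 = sq3490 :=
  edge_flip (s0_f2026 IH)
theorem s0_f2027r : ed sl_bf sq3490 = sq4479 :=
  edge_flip (s0_f2027 IH)
theorem s0_f53493 : ed sl_cf sq4479 = s0_v5181 :=
  gap_rel s0_rot141 (path_edge (s0_f2027r IH) (path_edge (s0_f2026r IH) (path_edge (s0_f2025r IH) (path_edge (s0_f2024r IH) (path_edge (s0_f2023r IH) (path_edge (s0_f2022r IH) (path_edge (s0_f2021r IH) (path_edge (s0_f2020r IH) (path_edge (s0_f2019r IH) (path_edge (s0_f2018r IH) (path_edge (s0_f2017r IH) (path_edge (s0_f2016r IH) (path_edge (s0_f1526r IH) (path_edge (s0_f2015r IH) (path_edge (s0_f2014r IH) (path_edge (s0_f2013r IH) (path_edge (s0_f2012r IH) (path_edge (s0_f2011r IH) (path_edge (s0_f2010r IH) (path_edge (s0_f2009r IH) (path_edge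 (s0_f2008r IH) (path_edge (s0_f2007r IH) (path_edge (s0_f1992r IH) (path_edge (s0_f1991r IH) (path_edge (s0_f2003 IH) (path_edge (s0_f2032 IH) (path_edge (s0_f2114r IH) (path_edge (s0_f5839r IH) (path_edge (s0_f5831 IH) (path_edge (s0_f53344r IH) (path_edge (s0_f53348 IH) (path_edge (s0_f53349 IH) (path_edge (s0_f53354r IH) (path_edge (s0_f53363r IH) (path_edge (s0_f53371r IH) (path_edge (s0_f53385r IH) (path_edge (s0_f53393 IH) (path_edge (s0_f53394r IH) (path_edge (s0_f53400r IH) (path_edge (s0_f53404r IH) (path_edge (s0_f53410r IH) (path_edge (s0_f53416r IH) (path_edge (s0_f53422r IH) (path_edge (s0_f53427r IH) (path_edge (s0_f53433 IH) (path_edge (s0_f28485 IH) (path_edge (s0_f53435r IH) (path_edge (s0_f53439r IH) (path_edge (s0_f53443r IH) (path_edge (s0_f53446r IH) (path_edge (s0_f53450r IH) (path_edge (s0_f53454r IH) (path_edge (s0_f53458r IH) (path_edge (s0_f53462r IH) (path_edge (s0_f53466r IH) (path_edge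 (s0_f53469r IH) (path_edge (s0_f53473r IH) (path_edge (s0_f53477r IH) (path_edge (s0_f53481r IH) (path_edge (s0_f53484r IH) (path_edge (s0_f53487r IH) (path_edge (s0_f53490r IH) (path_nil s0_v5181)))))))))))))))))))))))))))))))))))))))))))))))))))))))))))))))
theorem s0_f53493r : ed sl_ct s0_v5181 = sq4479 :=
  edge_flip (s0_f53493 IH)
theorem s0_f53495 : ed sl_ct s0_v5114 = s0_v5180 :=
  gap_rel s0_rot87 (path_edge (s0_f53169 IH) (path_edge (s0_f35965 IH) (path_edge (s0_f35841 IH) (path_edge (s0_f53493r IH) (path_edge (s0_f53490 IH) (path_nil s0_v5180))))))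
theorem s0_f53498 : ed sl_ft s0_v3761 = s0_v5181 :=
  gap_rel s0_rot53 (path_edge (s0_f39747 IH) (path_edge (s0_f39782 IH) (path_edge (s0_f53493r IH) (path_nil s0_v5181))))
theorem s0_f53498r : ed sl_ff s0_v5181 = s0_v3761 :=
  edge_flip (s0_f53498 IH)
theorem s0_f53501 : ed sl_ff s0_v3760 = s0_v5180 :=
  gap_rel s0_rot5 (path_edge (s0_f39741r IH) (path_edge (s0_f53498r IH) (path_edge (s0_f53491 IH) (path_nil s0_v5180))))
theorem s0_f53503 : ed sl_ff s0_v3761 = s0_v5181 :=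
  gap_rel s0_rot22 (path_edge (s0_f53498r IH) (path_nil s0_v5181))
theorem s0_f53503r : ed sl_ft s0_v5181 = s0_v3761 :=
  edge_flip (s0_f53503 IH)
theorem s0_f39742r : ed sl_dt s0_v3761 = s0_v3760 :=
  edge_flip (s0_f39742 IH)
theorem s0_f53505 : ed sl_ft s0_v3760 = s0_v5180 :=
  gap_rel s0_rot55 (path_edge (s0_f39742r IH) (path_edge (s0_f53503r IH) (path_edge (s0_f53490 IH) (path_nil s0_v5180))))
theorem s0_f53505r : ed sl_ff s0_v5180 = s0_v3760 :=
  edge_flip (s0_f53505 IH)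
theorem s0_f53508 : ed sl_ef s0_v3758 = s0_v5178 :=
  gap_rel s0_rot154 (path_edge (s0_f39735r IH) (path_edge (s0_f39738r IH) (path_edge (s0_f53505r IH) (path_edge (s0_f53488 IH) (path_edge (s0_f53485 IH) (path_nil s0_v5178))))))
theorem s0_f53508r : ed sl_et s0_v5178 = s0_v3758 :=
  edge_flip (s0_f53508 IH)
theorem s0_f53510 : ed sl_et s0_v3757 = s0_v5177 :=
  gap_rel s0_rot16 (path_edge (s0_f39733r IH) (path_edge (s0_f53508r IH) (path_edge (s0_f53481 IH) (path_nil s0_v5177))))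
theorem s0_f53510r : ed sl_ef s0_v5177 = s0_v3757 :=
  edge_flip (s0_f53510 IH)
theorem s0_f53512 : ed sl_ef s0_v3757 = s0_v5177 :=
  gap_rel s0_rot17 (path_edge (s0_f53510r IH) (path_nil s0_v5177))
theorem s0_f53512r : ed sl_et s0_v5177 = s0_v3757 :=
  edge_flip (s0_f53512 IH)
theorem s0_f53514 : ed sl_bt s0_v5177 = s0_v5177 :=
  gap_rel s0_rot77 (path_edge (s0_f53510 IH) (path_edge (s0_f39773 IH) (path_edge (s0_f53512r IH) (path_nil s0_v5177))))
theorem s0_f53514r : ed sl_bf s0_v5177 = s0_v5177 :=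
  edge_flip (s0_f53514 IH)
theorem s0_f53516 : ed sl_bf s0_v5178 = s0_v5178 :=
  gap_rel s0_rot73 (path_edge (s0_f53482 IH) (path_edge (s0_f53514r IH) (path_edge (s0_f53481r IH) (path_nil s0_v5178))))
theorem s0_f53485r : ed sl_ft s0_v5179 = s0_v5178 :=
  edge_flip (s0_f53485 IH)
theorem s0_f53516r : ed sl_bt s0_v5178 = s0_v5178 :=
  edge_flip (s0_f53516 IH)
theorem s0_f53517 : ed sl_bt s0_v5179 = s0_v5179 :=
  gap_rel s0_rot62 (path_edge (s0_f53484 IH) (path_edge (s0_f53516r IH) (path_edge (s0_f53485r IH) (path_nil s0_v5179))))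
theorem s0_f53612 : ed sl_ct sq17477 = sq15262 :=
  real_edge rels S fwd inv o lvl plet idx 47 IH Gen.c sp17477 sp15262 rfl rfl
theorem s0_f56342 : ed sl_bt sq10602 = s0_v5529 :=
  rfl
theorem s0_f56359 : ed sl_ct s0_v5529 = s0_v5530 :=
  rfl
theorem s0_f56363 : ed sl_dt s0_v5530 = s0_v5531 :=
  rfl
theorem s0_f56367 : ed sl_it s0_v5531 = s0_v5532 :=
  rfl
theorem s0_f56371 : ed sl_ht s0_v5532 = s0_v5533 :=
  rfl
theorem s0_f56375 : ed sl_dt s0_v5533 = s0_v5534 :=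
  rfl
theorem s0_f56378 : ed sl_ft s0_v5534 = s0_v5535 :=
  rfl
theorem s0_f56381 : ed sl_et s0_v5535 = s0_v5536 :=
  rfl
theorem s0_f56384 : ed sl_dt s0_v5536 = s0_v5537 :=
  rfl
theorem s0_f56387 : ed sl_bt s0_v5537 = s0_v5538 :=
  rfl
theorem s0_f56390 : ed sl_ct s0_v5538 = s0_v5539 :=
  rfl
theorem s0_f56393 : ed sl_dt s0_v5539 = s0_v5540 :=
  rfl
theorem s0_f56396 : ed sl_it s0_v5540 = s0_v5541 :=
  rfl
theorem s0_f56399 : ed sl_ht s0_v5541 = s0_v5542 :=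
  rfl
theorem s0_f56402 : ed sl_dt s0_v5542 = s0_v5543 :=
  rfl
theorem s0_f56405 : ed sl_ft s0_v5543 = s0_v5544 :=
  rfl
theorem s0_f56408 : ed sl_et s0_v5544 = s0_v5545 :=
  rfl
theorem s0_f56411 : ed sl_dt s0_v5545 = s0_v5546 :=
  rfl
theorem s0_f56414 : ed sl_bt s0_v5546 = s0_v5547 :=
  rfl
theorem s0_f56417 : ed sl_ct s0_v5547 = s0_v5548 :=
  rfl
theorem s0_f56420 : ed sl_dt s0_v5548 = s0_v5549 :=
  rfl
theorem s0_f56423 : ed sl_it s0_v5549 = s0_v5550 :=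
  rfl
theorem s0_f56426 : ed sl_ht s0_v5550 = s0_v5551 :=
  rfl
theorem s0_f56429 : ed sl_dt s0_v5551 = s0_v5552 :=
  rfl
theorem s0_f56432 : ed sl_ft s0_v5552 = s0_v5553 :=
  rfl
theorem s0_f56435 : ed sl_et s0_v5553 = s0_v5554 :=
  rfl
theorem s0_f56438 : ed sl_dt s0_v5554 = s0_v5555 :=
  rfl
theorem s0_f56441 : ed sl_bt s0_v5555 = s0_v5556 :=
  rfl
theorem s0_f56444 : ed sl_ct s0_v5556 = s0_v5557 :=
  rfl
theorem s0_f56447 : ed sl_dt s0_v5557 = s0_v5558 :=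
  rfl
theorem s0_f56450 : ed sl_it s0_v5558 = s0_v5559 :=
  rfl
theorem s0_f56453 : ed sl_ht s0_v5559 = s0_v5560 :=
  rfl
theorem s0_f56456 : ed sl_dt s0_v5560 = s0_v5561 :=
  rfl
theorem s0_f56459 : ed sl_ft s0_v5561 = s0_v5562 :=
  rfl
theorem s0_f56462 : ed sl_et s0_v5562 = s0_v5563 :=
  rfl
theorem s0_f56465 : ed sl_dt s0_v5563 = s0_v5564 :=
  rfl
theorem s0_f56468 : ed sl_bt s0_v5564 = s0_v5565 :=
  rfl
theorem s0_f56471 : ed sl_ct s0_v5565 = s0_v5566 :=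
  rfl
theorem s0_f56474 : ed sl_dt s0_v5566 = s0_v5567 :=
  rfl
theorem s0_f56477 : ed sl_it s0_v5567 = s0_v5568 :=
  rfl
theorem s0_f56480 : ed sl_ht s0_v5568 = s0_v5569 :=
  rfl
theorem s0_f56480r : ed sl_hf s0_v5569 = s0_v5568 :=
  edge_flip (s0_f56480 IH)
theorem s0_f56481 : ed sl_hf s0_v5568 = s0_v5569 :=
  gap_rel s0_rot13 (path_edge (s0_f56480r IH) (path_nil s0_v5569))
theorem s0_f56483 : ed sl_dt s0_v5569 = s0_v5570 :=
  rfl
theorem s0_f56483r : ed sl_df s0_v5570 = s0_v5569 :=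
  edge_flip (s0_f56483 IH)
theorem s0_f56484 : ed sl_df s0_v5569 = s0_v5570 :=
  gap_rel s0_rot4 (path_edge (s0_f56483r IH) (path_nil s0_v5570))
theorem s0_f56486 : ed sl_ft s0_v5570 = s0_v5571 :=
  rfl
theorem s0_f56486r : ed sl_ff s0_v5571 = s0_v5570 :=
  edge_flip (s0_f56486 IH)
theorem s0_f56487 : ed sl_ff s0_v5570 = s0_v5571 :=
  gap_rel s0_rot22 (path_edge (s0_f56486r IH) (path_nil s0_v5571))
theorem s0_f56477r : ed sl_if s0_v5568 = s0_v5567 :=
  edge_flip (s0_f56477 IH)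
theorem s0_f56474r : ed sl_df s0_v5567 = s0_v5566 :=
  edge_flip (s0_f56474 IH)
theorem s0_f56471r : ed sl_cf s0_v5566 = s0_v5565 :=
  edge_flip (s0_f56471 IH)
theorem s0_f56468r : ed sl_bf s0_v5565 = s0_v5564 :=
  edge_flip (s0_f56468 IH)
theorem s0_f56465r : ed sl_df s0_v5564 = s0_v5563 :=
  edge_flip (s0_f56465 IH)
theorem s0_f56462r : ed sl_ef s0_v5563 = s0_v5562 :=
  edge_flip (s0_f56462 IH)
theorem s0_f56459r : ed sl_ff s0_v5562 = s0_v5561 :=
  edge_flip (s0_f56459 IH)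
theorem s0_f56456r : ed sl_df s0_v5561 = s0_v5560 :=
  edge_flip (s0_f56456 IH)
theorem s0_f56453r : ed sl_hf s0_v5560 = s0_v5559 :=
  edge_flip (s0_f56453 IH)
theorem s0_f56450r : ed sl_if s0_v5559 = s0_v5558 :=
  edge_flip (s0_f56450 IH)
theorem s0_f56447r : ed sl_df s0_v5558 = s0_v5557 :=
  edge_flip (s0_f56447 IH)
theorem s0_f56444r : ed sl_cf s0_v5557 = s0_v5556 :=
  edge_flip (s0_f56444 IH)
theorem s0_f56441r : ed sl_bf s0_v5556 = s0_v5555 :=
  edge_flip (s0_f56441 IH)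
theorem s0_f56438r : ed sl_df s0_v5555 = s0_v5554 :=
  edge_flip (s0_f56438 IH)
theorem s0_f56435r : ed sl_ef s0_v5554 = s0_v5553 :=
  edge_flip (s0_f56435 IH)
theorem s0_f56432r : ed sl_ff s0_v5553 = s0_v5552 :=
  edge_flip (s0_f56432 IH)
theorem s0_f56429r : ed sl_df s0_v5552 = s0_v5551 :=
  edge_flip (s0_f56429 IH)
theorem s0_f56426r : ed sl_hf s0_v5551 = s0_v5550 :=
  edge_flip (s0_f56426 IH)
theorem s0_f56423r : ed sl_if s0_v5550 = s0_v5549 :=
  edge_flip (s0_f56423 IH)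
theorem s0_f56420r : ed sl_df s0_v5549 = s0_v5548 :=
  edge_flip (s0_f56420 IH)
theorem s0_f56417r : ed sl_cf s0_v5548 = s0_v5547 :=
  edge_flip (s0_f56417 IH)
theorem s0_f56414r : ed sl_bf s0_v5547 = s0_v5546 :=
  edge_flip (s0_f56414 IH)
theorem s0_f56411r : ed sl_df s0_v5546 = s0_v5545 :=
  edge_flip (s0_f56411 IH)
theorem s0_f56408r : ed sl_ef s0_v5545 = s0_v5544 :=
  edge_flip (s0_f56408 IH)
theorem s0_f56405r : ed sl_ff s0_v5544 = s0_v5543 :=
  edge_flip (s0_f56405 IH)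
theorem s0_f56402r : ed sl_df s0_v5543 = s0_v5542 :=
  edge_flip (s0_f56402 IH)
theorem s0_f56399r : ed sl_hf s0_v5542 = s0_v5541 :=
  edge_flip (s0_f56399 IH)
theorem s0_f56396r : ed sl_if s0_v5541 = s0_v5540 :=
  edge_flip (s0_f56396 IH)
theorem s0_f56393r : ed sl_df s0_v5540 = s0_v5539 :=
  edge_flip (s0_f56393 IH)
theorem s0_f56390r : ed sl_cf s0_v5539 = s0_v5538 :=
  edge_flip (s0_f56390 IH)
theorem s0_f56387r : ed sl_bf s0_v5538 = s0_v5537 :=
  edge_flip (s0_f56387 IH)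
theorem s0_f56384r : ed sl_df s0_v5537 = s0_v5536 :=
  edge_flip (s0_f56384 IH)
theorem s0_f56381r : ed sl_ef s0_v5536 = s0_v5535 :=
  edge_flip (s0_f56381 IH)
theorem s0_f56378r : ed sl_ff s0_v5535 = s0_v5534 :=
  edge_flip (s0_f56378 IH)
theorem s0_f56375r : ed sl_df s0_v5534 = s0_v5533 :=
  edge_flip (s0_f56375 IH)
theorem s0_f56371r : ed sl_hf s0_v5533 = s0_v5532 :=
  edge_flip (s0_f56371 IH)
theorem s0_f56367r : ed sl_if s0_v5532 = s0_v5531 :=
  edge_flip (s0_f56367 IH)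
theorem s0_f56363r : ed sl_df s0_v5531 = s0_v5530 :=
  edge_flip (s0_f56363 IH)
theorem s0_f56359r : ed sl_cf s0_v5530 = s0_v5529 :=
  edge_flip (s0_f56359 IH)
theorem s0_f56342r : ed sl_bf s0_v5529 = sq10602 :=
  edge_flip (s0_f56342 IH)
theorem s0_f12744r : ed sl_df sq10602 = sq10602 :=
  edge_flip (s0_f12744 IH)
theorem s0_f12743r : ed sl_ef sq10602 = sq8705 :=
  edge_flip (s0_f12743 IH)
theorem s0_f12742r : ed sl_ff sq8705 = sq7659 :=
  edge_flip (s0_f12742 IH)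
theorem s0_f12815r : ed sl_df sq7659 = sq6128 :=
  edge_flip (s0_f12815 IH)
theorem s0_f17242r : ed sl_hf sq6128 = sq4832 :=
  edge_flip (s0_f17242 IH)
theorem s0_f17241r : ed sl_if sq4832 = sq3735 :=
  edge_flip (s0_f17241 IH)
theorem s0_f17240r : ed sl_df sq3735 = sq3735 :=
  edge_flip (s0_f17240 IH)
theorem s0_f16472r : ed sl_cf sq3735 = sq2815 :=
  edge_flip (s0_f16472 IH)
theorem s0_f17239r : ed sl_bf sq2815 = sq3726 :=
  edge_flip (s0_f17239 IH)
theorem s0_f11312r : ed sl_df sq3726 = sq2808 :=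
  edge_flip (s0_f11312 IH)
theorem s0_f17238r : ed sl_ef sq2808 = sq2071 :=
  edge_flip (s0_f17238 IH)
theorem s0_f17237r : ed sl_ff sq2071 = sq1508 :=
  edge_flip (s0_f17237 IH)
theorem s0_f7079r : ed sl_df sq1508 = sq1110 :=
  edge_flip (s0_f7079 IH)
theorem s0_f17236r : ed sl_hf sq1110 = sq788 :=
  edge_flip (s0_f17236 IH)
theorem s0_f17235r : ed sl_if sq788 = sq788 :=
  edge_flip (s0_f17235 IH)
theorem s0_f11905r : ed sl_df sq788 = sq552 :=
  edge_flip (s0_f11905 IH)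
theorem s0_f17234r : ed sl_cf sq552 = sq417 :=
  edge_flip (s0_f17234 IH)
theorem s0_f17233r : ed sl_bf sq417 = sq284 :=
  edge_flip (s0_f17233 IH)
theorem s0_f17232r : ed sl_ef sq284 = sq193 :=
  edge_flip (s0_f17232 IH)
theorem s0_f17231r : ed sl_ff sq193 = sq281 :=
  edge_flip (s0_f17231 IH)
theorem s0_f2271r : ed sl_df sq281 = sq198 :=
  edge_flip (s0_f2271 IH)
theorem s0_f14526r : ed sl_hf sq198 = sq198 :=
  edge_flip (s0_f14526 IH)
theorem s0_f17230r : ed sl_if sq198 = sq198 :=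
  edge_flip (s0_f17230 IH)
theorem s0_f4900r : ed sl_df sq198 = sq281 :=
  edge_flip (s0_f4900 IH)
theorem s0_f8682r : ed sl_cf sq281 = sq192 :=
  edge_flip (s0_f8682 IH)
theorem s0_f17229r : ed sl_bf sq192 = sq258 :=
  edge_flip (s0_f17229 IH)
theorem s0_f9362r : ed sl_df sq258 = sq176 :=
  edge_flip (s0_f9362 IH)
theorem s0_f9361r : ed sl_ef sq176 = sq176 :=
  edge_flip (s0_f9361 IH)
theorem s0_f9360r : ed sl_ff sq176 = sq121 :=
  edge_flip (s0_f9360 IH)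
theorem s0_f17228r : ed sl_df sq121 = sq177 :=
  edge_flip (s0_f17228 IH)
theorem s0_f17227r : ed sl_hf sq177 = sq255 :=
  edge_flip (s0_f17227 IH)
theorem s0_f17226r : ed sl_if sq255 = sq373 :=
  edge_flip (s0_f17226 IH)
theorem s0_f17225r : ed sl_df sq373 = sq254 :=
  edge_flip (s0_f17225 IH)
theorem s0_f17224r : ed sl_bf sq358 = sq358 :=
  edge_flip (s0_f17224 IH)
theorem s0_f17223r : ed sl_df sq1036 = sq1036 :=
  edge_flip (s0_f17223 IH)
theorem s0_f17222r : ed sl_if sq1427 = sq1427 :=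
  edge_flip (s0_f17222 IH)
theorem s0_f645r : ed sl_df sq1427 = sq1945 :=
  edge_flip (s0_f645 IH)
theorem s0_f17210r : ed sl_bf sq2627 = sq3471 :=
  edge_flip (s0_f17210 IH)
theorem s0_f56489 : ed sl_ef s0_v1310 = s0_v5571 :=
  gap_rel s0_rot82 (path_edge (s0_f17209 IH) (path_edge (s0_f17210r IH) (path_edge (s0_f1580r IH) (path_edge (s0_f645r IH) (path_edge (s0_f17222r IH) (path_edge (s0_f8528r IH) (path_edge (s0_f17223r IH) (path_edge (s0_f8527r IH) (path_edge (s0_f8526r IH) (path_edge (s0_f8525r IH) (path_edge (s0_f17224r IH) (path_edge (s0_f8524r IH) (path_edge (s0_f17225r IH) (path_edge (s0_f17226r IH) (path_edge (s0_f17227r IH) (path_edge (s0_f17228r IH) (path_edge (s0_f9360r IH) (path_edge (s0_f9361r IH) (path_edge (s0_f9362r IH) (path_edge (s0_f17229r IH) (path_edge (s0_f8682r IH) (path_edge (s0_f4900r IH) (path_edge (s0_f17230r IH) (path_edge (s0_f14526r IH) (path_edge (s0_f2271r IH) (path_edge (s0_f17231r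 IH) (path_edge (s0_f17232r IH) (path_edge (s0_f10331r IH) (path_edge (s0_f17233r IH) (path_edge (s0_f17234r IH) (path_edge (s0_f11905r IH) (path_edge (s0_f17235r IH) (path_edge (s0_f17236r IH) (path_edge (s0_f7079r IH) (path_edge (s0_f17237r IH) (path_edge (s0_f17238r IH) (path_edge (s0_f11312r IH) (path_edge (s0_f17239r IH) (path_edge (s0_f16472r IH) (path_edge (s0_f17240r IH) (path_edge (s0_f17241r IH) (path_edge (s0_f17242r IH) (path_edge (s0_f12815r IH) (path_edge (s0_f12742r IH) (path_edge (s0_f12743r IH) (path_edge (s0_f12744r IH) (path_edge (s0_f56342r IH) (path_edge (s0_f56359r IH) (path_edge (s0_f56363r IH) (path_edge (s0_f56367r IH) (path_edge (s0_f56371r IH) (path_edge (s0_f56375r IH) (path_edge (s0_f56378r IH) (path_edge (s0_f56381r IH) (path_edge (s0_f56384r IH) (path_edge (s0_f56387r IH) (path_edge (s0_f56390r IH) (path_edge (s0_f56393r IH) (path_edge (s0_f56396r IH) (path_edge (s0_f56399r IH)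 (path_edge (s0_f56402r IH) (path_edge (s0_f56405r IH) (path_edge (s0_f56408r IH) (path_edge (s0_f56411r IH) (path_edge (s0_f56414r IH) (path_edge (s0_f56417r IH) (path_edge (s0_f56420r IH) (path_edge (s0_f56423r IH) (path_edge (s0_f56426r IH) (path_edge (s0_f56429r IH) (path_edge (s0_f56432r IH) (path_edge (s0_f56435r IH) (path_edge (s0_f56438r IH) (path_edge (s0_f56441r IH) (path_edge (s0_f56444r IH) (path_edge (s0_f56447r IH) (path_edge (s0_f56450r IH) (path_edge (s0_f56453r IH) (path_edge (s0_f56456r IH) (path_edge (s0_f56459r IH) (path_edge (s0_f56462r IH) (path_edge (s0_f56465r IH) (path_edge (s0_f56468r IH) (path_edge (s0_f56471r IH) (path_edge (s0_f56474r IH) (path_edge (s0_f56477r IH) (path_edge (s0_f56480r IH) (path_edge (s0_f56483r IH) (path_edge (s0_f56486r IH) (path_nil s0_v5571))))))))))))))))))))))))))))))))))))))))))))))))))))))))))))))))))))))))))))))))))))))))))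
theorem s0_f56489r : ed sl_et s0_v5571 = s0_v1310 :=
  edge_flip (s0_f56489 IH)
theorem s0_f17264r : ed sl_bt s0_v1310 = sq3472 :=
  edge_flip (s0_f17264 IH)
theorem s0_f56490 : ed sl_bt sq4462 = s0_v5571 :=
  gap_rel s0_rot77 (path_edge (s0_f7753 IH) (path_edge (s0_f17264r IH) (path_edge (s0_f56489r IH) (path_nil s0_v5571))))
theorem s0_f56491 : ed sl_et s0_v1310 = s0_v5571 :=
  gap_rel s0_rot83 (path_edge (s0_f56489r IH) (path_nil s0_v5571))
theorem s0_f56492 : ed sl_it s0_v5571 = s0_v5571 :=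
  gap_rel s0_rot72 (path_edge (s0_f56491 IH) (path_edge (s0_f17221 IH) (path_edge (s0_f56489r IH) (path_nil s0_v5571))))
theorem s0_f56492r : ed sl_if s0_v5571 = s0_v5571 :=
  edge_flip (s0_f56492 IH)
theorem s0_f56490r : ed sl_bf s0_v5571 = sq4462 :=
  edge_flip (s0_f56490 IH)
theorem s0_f7579r : ed sl_if sq4462 = sq4462 :=
  edge_flip (s0_f7579 IH)
theorem s0_f56493 : ed sl_bf sq4462 = s0_v5571 :=
  gap_rel s0_rot102 (path_edge (s0_f7579r IH) (path_edge (s0_f56490r IH) (path_edge (s0_f56492r IH) (path_nil s0_v5571))))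
theorem s0_f56493r : ed sl_bt s0_v5571 = sq4462 :=
  edge_flip (s0_f56493 IH)
theorem s0_f56497 : ed sl_dt s0_v5571 = s0_v5571 :=
  gap_rel s0_rot29 (path_edge (s0_f56490 IH) (path_edge (s0_f7578 IH) (path_edge (s0_f56493r IH) (path_nil s0_v5571))))
theorem s0_f56498 : ed sl_ht s0_v2408 = s0_v5571 :=
  gap_rel s0_rot56 (path_edge (s0_f28539r IH) (path_edge (s0_f28546 IH) (path_edge (s0_f56493r IH) (path_nil s0_v5571))))
theorem s0_f56487r : ed sl_ft s0_v5571 = s0_v5570 :=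
  edge_flip (s0_f56487 IH)
theorem s0_f56505 : s0_v5570 = s0_v5571 :=
  (loop_rel s0_rot27 (path_edge (s0_f56487r IH) (path_edge (s0_f56490 IH) (path_edge (s0_f1583 IH) (path_edge (s0_f56493r IH) (path_nil s0_v5571)))))).symm
theorem s0_f56484r : ed sl_dt s0_v5570 = s0_v5569 :=
  edge_flip (s0_f56484 IH)
theorem s0_f56506 : s0_v5571 = s0_v5569 :=
  edge_fun (edge_congr (s0_f56497 IH) (s0_f56505 IH).symm) (s0_f56484r IH)
theorem s0_f56498r : ed sl_hf s0_v5571 = s0_v2408 :=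
  edge_flip (s0_f56498 IH)
theorem s0_f56507 : s0_v2408 = s0_v5568 :=
  edge_fun (edge_congr (s0_f56498r IH) (s0_f56506 IH)) (s0_f56480r IH)
theorem s0_f56491r : ed sl_ef s0_v5571 = s0_v1310 :=
  edge_flip (s0_f56491 IH)
theorem s0_f56514 : ed sl_ef s0_v1309 = s0_v2408 :=
  gap_rel s0_rot94 (path_edge (s0_f17206r IH) (path_edge (s0_f56491r IH) (path_eq (s0_f56506 IH).symm (path_edge (s0_f56481 IH) (path_eq (s0_f56507 IH) (path_nil s0_v2408))))))
theorem s0_f56514r : ed sl_et s0_v2408 = s0_v1309 :=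
  edge_flip (s0_f56514 IH)
theorem s0_f17204r : ed sl_it s0_v1309 = s0_v1308 :=
  edge_flip (s0_f17204 IH)
theorem s0_f56516 : ed sl_et s0_v1308 = s0_v5567 :=
  gap_rel s0_rot10 (path_edge (s0_f17204r IH) (path_edge (s0_f56514r IH) (path_eq (s0_f56507 IH).symm (path_edge (s0_f56477 IH) (path_nil s0_v5567)))))
theorem s0_f56516r : ed sl_ef s0_v5567 = s0_v1308 :=
  edge_flip (s0_f56516 IH)
theorem s0_f56518 : ed sl_ef s0_v1308 = s0_v5567 :=
  gap_rel s0_rot17 (path_edge (s0_f56516r IH) (path_nil s0_v5567))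
theorem s0_f56518r : ed sl_et s0_v5567 = s0_v1308 :=
  edge_flip (s0_f56518 IH)
theorem s0_f17198r : ed sl_ct s0_v1307 = s0_v1306 :=
  edge_flip (s0_f17198 IH)
theorem s0_f56519 : ed sl_ct s0_v5068 = s0_v5567 :=
  gap_rel s0_rot76 (path_edge (s0_f52909 IH) (path_edge (s0_f17198r IH) (path_eq (s0_f17281 IH).symm (path_edge (s0_f56518r IH) (path_nil s0_v5567)))))
theorem s0_f56519r : ed sl_cf s0_v5567 = s0_v5068 :=
  edge_flip (s0_f56519 IH)
theorem s0_f56527 : ed sl_if s0_v5068 = s0_v2407 :=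
  gap_rel s0_rot40 (path_edge (s0_f56519r IH) (path_edge (s0_f56477r IH) (path_eq (s0_f56507 IH) (path_edge (s0_f28536 IH) (path_nil s0_v2407)))))
theorem s0_f56527r : ed sl_it s0_v2407 = s0_v5068 :=
  edge_flip (s0_f56527 IH)
theorem s0_f52906r : ed sl_ft s0_v5068 = s0_v5068 :=
  edge_flip (s0_f52906 IH)
theorem s0_f57795 : ed sl_it s0_v5068 = s0_v2407 :=
  gap_rel s0_rot132 (path_edge (s0_f52906r IH) (path_edge (s0_f56527r IH) (path_edge (s0_f28563 IH) (path_nil s0_v2407))))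
theorem s0_f57795r : ed sl_if s0_v2407 = s0_v5068 :=
  edge_flip (s0_f57795 IH)
theorem s0_f57797 : ed sl_if s0_v5067 = s0_v2406 :=
  gap_rel s0_rot33 (path_edge (s0_f52901r IH) (path_edge (s0_f57795r IH) (path_edge (s0_f28533 IH) (path_nil s0_v2406))))
theorem s0_f57797r : ed sl_it s0_v2406 = s0_v5067 :=
  edge_flip (s0_f57797 IH)
theorem s0_f52881r : ed sl_ht s0_v5067 = sq2966 :=
  edge_flip (s0_f52881 IH)
theorem s0_f57800 : ed sl_ht sq3950 = s0_v2406 :=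
  gap_rel s0_rot45 (path_edge (s0_f46855 IH) (path_edge (s0_f50493 IH) (path_edge (s0_f50492 IH) (path_edge (s0_f52881r IH) (path_edge (s0_f57797r IH) (path_nil s0_v2406))))))
theorem s0_f57800r : ed sl_hf s0_v2406 = sq3950 :=
  edge_flip (s0_f57800 IH)
theorem s0_f57805 : ed sl_hf sq3950 = s0_v2406 :=
  gap_rel s0_rot13 (path_edge (s0_f57800r IH) (path_nil s0_v2406))
theorem s0_f57805r : ed sl_ht s0_v2406 = sq3950 :=
  edge_flip (s0_f57805 IH)
theorem s0_f57811 : ed sl_ht sq2984 = s0_v2405 :=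
  gap_rel s0_rot155 (path_edge (s0_f7663 IH) (path_edge (s0_f57805r IH) (path_edge (s0_f28529 IH) (path_nil s0_v2405))))
theorem s0_f57811r : ed sl_hf s0_v2405 = sq2984 :=
  edge_flip (s0_f57811 IH)
theorem s0_f7617r : ed sl_bf sq2984 = sq3945 :=
  edge_flip (s0_f7617 IH)
theorem s0_f57818 : s0_v2091 = s0_v3789 :=
  (loop_rel s0_rot37 (path_edge (s0_f25214 IH) (path_edge (s0_f7617r IH) (path_edge (s0_f57811r IH) (path_edge (s0_f39968 IH) (path_nil s0_v3789)))))).symm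
theorem s0_f39951r : ed sl_cf s0_v3790 = s0_v3302 :=
  edge_flip (s0_f39951 IH)
theorem s0_f57872 : ed sl_ef s0_v3302 = s0_v848 :=
  gap_rel s0_rot8 (path_edge (s0_f39951r IH) (path_edge (s0_f39929 IH) (path_eq (s0_f57818 IH) (path_edge (s0_f25213 IH) (path_nil s0_v848)))))
theorem s0_f57872r : ed sl_et s0_v848 = s0_v3302 :=
  edge_flip (s0_f57872 IH)
theorem s0_f35986r : ed sl_dt s0_v3302 = s0_v3301 :=
  edge_flip (s0_f35986 IH)
theorem s0_f35976r : ed sl_et s0_v3301 = sq7048 :=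
  edge_flip (s0_f35976 IH)
theorem s0_f57874 : s0_v5114 = s0_v846 :=
  (loop_rel s0_rot19 (path_edge (s0_f53169 IH) (path_edge (s0_f35976r IH) (path_edge (s0_f35986r IH) (path_edge (s0_f57872r IH) (path_edge (s0_f12326 IH) (path_edge (s0_f12323 IH) (path_nil s0_v846)))))))).symm
theorem s0_f53495r : ed sl_cf s0_v5180 = s0_v5114 :=
  edge_flip (s0_f53495 IH)
theorem s0_f59069 : ed sl_cf s0_v847 = s0_v5179 :=
  gap_rel s0_rot85 (path_edge (s0_f12324 IH) (path_eq (s0_f57874 IH) (path_edge (s0_f53495r IH) (path_edge (s0_f53488 IH) (path_nil s0_v5179)))))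
theorem s0_f59069r : ed sl_ct s0_v5179 = s0_v847 :=
  edge_flip (s0_f59069 IH)
theorem s0_f25200r : ed sl_dt s0_v2091 = s0_v2090 :=
  edge_flip (s0_f25200 IH)
theorem s0_f25197r : ed sl_ct s0_v2090 = s0_v2089 :=
  edge_flip (s0_f25197 IH)
theorem s0_f59071 : ed sl_dt s0_v2089 = s0_v5179 :=
  gap_rel s0_rot97 (path_edge (s0_f25197r IH) (path_edge (s0_f25200r IH) (path_edge (s0_f25224 IH) (path_edge (s0_f12326 IH) (path_edge (s0_f59069r IH) (path_nil s0_v5179))))))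
theorem s0_f53517r : ed sl_bf s0_v5179 = s0_v5179 :=
  edge_flip (s0_f53517 IH)

end

end

end Cfsg.Agent.Helper28.S1689
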