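import Cfsg.Agent.Lib.Helper28.S1689.Levels

set_option autoImplicit false
set_option maxRecDepth 100000
set_option linter.all false

namespace Cfsg.Agent.Helper28.S1689

open Cfsg.Agent.Helper28
open Cfsg.Spor.Fi23 (Gen)

noncomputable section

abbrev sl_at : Gen × Bool := (Gen.a, true)
abbrev sl_af : Gen × Bool := (Gen.a, false)
abbrev sl_bt : Gen × Bool := (Gen.b, true)
abbrev sl_bf : Gen × Bool := (Gen.b, false)
abbrev sl_ct : Gen × Bool := (Gen.c, true)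
abbrev sl_cf : Gen × Bool := (Gen.c, false)
abbrev sl_dt : Gen × Bool := (Gen.d, true)
abbrev sl_df : Gen × Bool := (Gen.d, false)
abbrev sl_et : Gen × Bool := (Gen.e, true)
abbrev sl_ef : Gen × Bool := (Gen.e, false)
abbrev sl_ft : Gen × Bool := (Gen.f, true)
abbrev sl_ff : Gen × Bool := (Gen.f, false)
abbrev sl_gt : Gen × Bool := (Gen.g, true)
abbrev sl_gf : Gen × Bool := (Gen.g, false)
abbrev sl_jt : Gen × Bool := (Gen.j, true)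
abbrev sl_jf : Gen × Bool := (Gen.j, false)
abbrev sl_ht : Gen × Bool := (Gen.h, true)
abbrev sl_hf : Gen × Bool := (Gen.h, false)
abbrev sl_it : Gen × Bool := (Gen.i, true)
abbrev sl_if : Gen × Bool := (Gen.i, false)
theorem relone_inv (rels : Set (FreeGroup Gen)) (w : Word Gen) (h : wG rels w = 1) :
    wG rels (FreeGroup.invRev w) = 1 := by
  rw [wG_invRev, h, inv_one]

abbrev ed (l : Gen × Bool) (c : Qt rels S) : Qt rels S := edge rels S l c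
abbrev sp7 : Pt := (Pt.mk D1.c0 D2.c0 D3.c7)
abbrev sq7 : Qt rels S := P sp7
abbrev sp9 : Pt := (Pt.mk D1.c0 D2.c0 D3.c9)
abbrev sq9 : Qt rels S := P sp9
abbrev sp10 : Pt := (Pt.mk D1.c0 D2.c0 D3.c10)
abbrev sq10 : Qt rels S := P sp10
abbrev sp11 : Pt := (Pt.mk D1.c0 D2.c0 D3.c11)
abbrev sq11 : Qt rels S := P sp11
abbrev sp12 : Pt := (Pt.mk D1.c0 D2.c0 D3.c12)
abbrev sq12 : Qt rels S := P sp12
abbrev sp13 : Pt := (Pt.mk D1.c0 D2.c0 D3.c13)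
abbrev sq13 : Qt rels S := P sp13
abbrev sp14 : Pt := (Pt.mk D1.c0 D2.c0 D3.c14)
abbrev sq14 : Qt rels S := P sp14
abbrev sp15 : Pt := (Pt.mk D1.c0 D2.c0 D3.c15)
abbrev sq15 : Qt rels S := P sp15
abbrev sp16 : Pt := (Pt.mk D1.c0 D2.c0 D3.c16)
abbrev sq16 : Qt rels S := P sp16
abbrev sp17 : Pt := (Pt.mk D1.c0 D2.c0 D3.c17)
abbrev sq17 : Qt rels S := P sp17
abbrev sp18 : Pt := (Pt.mk D1.c0 D2.c0 D3.c18)
abbrev sq18 : Qt rels S := P sp18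
abbrev sp19 : Pt := (Pt.mk D1.c0 D2.c0 D3.c19)
abbrev sq19 : Qt rels S := P sp19
abbrev sp20 : Pt := (Pt.mk D1.c0 D2.c0 D3.c20)
abbrev sq20 : Qt rels S := P sp20
abbrev sp21 : Pt := (Pt.mk D1.c0 D2.c0 D3.c21)
abbrev sq21 : Qt rels S := P sp21
abbrev sp22 : Pt := (Pt.mk D1.c0 D2.c0 D3.c22)
abbrev sq22 : Qt rels S := P sp22
abbrev sp23 : Pt := (Pt.mk D1.c0 D2.c0 D3.c23)
abbrev sq23 : Qt rels S := P sp23
abbrev sp24 : Pt := (Pt.mk D1.c0 D2.c0 D3.c24)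
abbrev sq24 : Qt rels S := P sp24
abbrev sp25 : Pt := (Pt.mk D1.c0 D2.c0 D3.c25)
abbrev sq25 : Qt rels S := P sp25
abbrev sp26 : Pt := (Pt.mk D1.c0 D2.c0 D3.c26)
abbrev sq26 : Qt rels S := P sp26
abbrev sp28 : Pt := (Pt.mk D1.c0 D2.c0 D3.c28)
abbrev sq28 : Qt rels S := P sp28
abbrev sp29 : Pt := (Pt.mk D1.c0 D2.c0 D3.c29)
abbrev sq29 : Qt rels S := P sp29
abbrev sp30 : Pt := (Pt.mk D1.c0 D2.c0 D3.c30)
abbrev sq30 : Qt rels S := P sp30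
abbrev sp31 : Pt := (Pt.mk D1.c0 D2.c0 D3.c31)
abbrev sq31 : Qt rels S := P sp31
abbrev sp32 : Pt := (Pt.mk D1.c0 D2.c0 D3.c32)
abbrev sq32 : Qt rels S := P sp32
abbrev sp33 : Pt := (Pt.mk D1.c0 D2.c0 D3.c33)
abbrev sq33 : Qt rels S := P sp33
abbrev sp34 : Pt := (Pt.mk D1.c0 D2.c0 D3.c34)
abbrev sq34 : Qt rels S := P sp34
abbrev sp37 : Pt := (Pt.mk D1.c0 D2.c0 D3.c37)
abbrev sq37 : Qt rels S := P sp37
abbrev sp38 : Pt := (Pt.mk D1.c0 D2.c0 D3.c38)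
abbrev sq38 : Qt rels S := P sp38
abbrev sp39 : Pt := (Pt.mk D1.c0 D2.c0 D3.c39)
abbrev sq39 : Qt rels S := P sp39
abbrev sp40 : Pt := (Pt.mk D1.c0 D2.c0 D3.c40)
abbrev sq40 : Qt rels S := P sp40
abbrev sp41 : Pt := (Pt.mk D1.c0 D2.c0 D3.c41)
abbrev sq41 : Qt rels S := P sp41
abbrev sp42 : Pt := (Pt.mk D1.c0 D2.c0 D3.c42)
abbrev sq42 : Qt rels S := P sp42
abbrev sp43 : Pt := (Pt.mk D1.c0 D2.c0 D3.c43)
abbrev sq43 : Qt rels S := P sp43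
abbrev sp45 : Pt := (Pt.mk D1.c0 D2.c0 D3.c45)
abbrev sq45 : Qt rels S := P sp45
abbrev sp46 : Pt := (Pt.mk D1.c0 D2.c0 D3.c46)
abbrev sq46 : Qt rels S := P sp46
abbrev sp47 : Pt := (Pt.mk D1.c0 D2.c0 D3.c47)
abbrev sq47 : Qt rels S := P sp47
abbrev sp48 : Pt := (Pt.mk D1.c0 D2.c0 D3.c48)
abbrev sq48 : Qt rels S := P sp48
abbrev sp50 : Pt := (Pt.mk D1.c0 D2.c0 D3.c50)
abbrev sq50 : Qt rels S := P sp50
abbrev sp51 : Pt := (Pt.mk D1.c0 D2.c1 D3.c0)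
abbrev sq51 : Qt rels S := P sp51
abbrev sp54 : Pt := (Pt.mk D1.c0 D2.c1 D3.c3)
abbrev sq54 : Qt rels S := P sp54
abbrev sp55 : Pt := (Pt.mk D1.c0 D2.c1 D3.c4)
abbrev sq55 : Qt rels S := P sp55
abbrev sp56 : Pt := (Pt.mk D1.c0 D2.c1 D3.c5)
abbrev sq56 : Qt rels S := P sp56
abbrev sp57 : Pt := (Pt.mk D1.c0 D2.c1 D3.c6)
abbrev sq57 : Qt rels S := P sp57
abbrev sp58 : Pt := (Pt.mk D1.c0 D2.c1 D3.c7)
abbrev sq58 : Qt rels S := P sp58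
abbrev sp59 : Pt := (Pt.mk D1.c0 D2.c1 D3.c8)
abbrev sq59 : Qt rels S := P sp59
abbrev sp60 : Pt := (Pt.mk D1.c0 D2.c1 D3.c9)
abbrev sq60 : Qt rels S := P sp60
abbrev sp61 : Pt := (Pt.mk D1.c0 D2.c1 D3.c10)
abbrev sq61 : Qt rels S := P sp61
abbrev sp62 : Pt := (Pt.mk D1.c0 D2.c1 D3.c11)
abbrev sq62 : Qt rels S := P sp62
abbrev sp63 : Pt := (Pt.mk D1.c0 D2.c1 D3.c12)
abbrev sq63 : Qt rels S := P sp63
abbrev sp64 : Pt := (Pt.mk D1.c0 D2.c1 D3.c13)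
abbrev sq64 : Qt rels S := P sp64
abbrev sp65 : Pt := (Pt.mk D1.c0 D2.c1 D3.c14)
abbrev sq65 : Qt rels S := P sp65
abbrev sp66 : Pt := (Pt.mk D1.c0 D2.c1 D3.c15)
abbrev sq66 : Qt rels S := P sp66
abbrev sp67 : Pt := (Pt.mk D1.c0 D2.c1 D3.c16)
abbrev sq67 : Qt rels S := P sp67
abbrev sp69 : Pt := (Pt.mk D1.c0 D2.c1 D3.c18)
abbrev sq69 : Qt rels S := P sp69
abbrev sp71 : Pt := (Pt.mk D1.c0 D2.c1 D3.c20)
abbrev sq71 : Qt rels S := P sp71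
abbrev sp74 : Pt := (Pt.mk D1.c0 D2.c1 D3.c23)
abbrev sq74 : Qt rels S := P sp74
abbrev sp75 : Pt := (Pt.mk D1.c0 D2.c1 D3.c24)
abbrev sq75 : Qt rels S := P sp75
abbrev sp78 : Pt := (Pt.mk D1.c0 D2.c1 D3.c27)
abbrev sq78 : Qt rels S := P sp78
abbrev sp80 : Pt := (Pt.mk D1.c0 D2.c1 D3.c29)
abbrev sq80 : Qt rels S := P sp80
abbrev sp81 : Pt := (Pt.mk D1.c0 D2.c1 D3.c30)
abbrev sq81 : Qt rels S := P sp81
abbrev sp82 : Pt := (Pt.mk D1.c0 D2.c1 D3.c31)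
abbrev sq82 : Qt rels S := P sp82
abbrev sp83 : Pt := (Pt.mk D1.c0 D2.c1 D3.c32)
abbrev sq83 : Qt rels S := P sp83
abbrev sp84 : Pt := (Pt.mk D1.c0 D2.c1 D3.c33)
abbrev sq84 : Qt rels S := P sp84
abbrev sp85 : Pt := (Pt.mk D1.c0 D2.c1 D3.c34)
abbrev sq85 : Qt rels S := P sp85
abbrev sp86 : Pt := (Pt.mk D1.c0 D2.c1 D3.c35)
abbrev sq86 : Qt rels S := P sp86
abbrev sp87 : Pt := (Pt.mk D1.c0 D2.c1 D3.c36)
abbrev sq87 : Qt rels S := P sp87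
abbrev sp88 : Pt := (Pt.mk D1.c0 D2.c1 D3.c37)
abbrev sq88 : Qt rels S := P sp88
abbrev sp89 : Pt := (Pt.mk D1.c0 D2.c1 D3.c38)
abbrev sq89 : Qt rels S := P sp89
abbrev sp90 : Pt := (Pt.mk D1.c0 D2.c1 D3.c39)
abbrev sq90 : Qt rels S := P sp90
abbrev sp92 : Pt := (Pt.mk D1.c0 D2.c1 D3.c41)
abbrev sq92 : Qt rels S := P sp92
abbrev sp93 : Pt := (Pt.mk D1.c0 D2.c1 D3.c42)
abbrev sq93 : Qt rels S := P sp93
abbrev sp94 : Pt := (Pt.mk D1.c0 D2.c1 D3.c43)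
abbrev sq94 : Qt rels S := P sp94
abbrev sp95 : Pt := (Pt.mk D1.c0 D2.c1 D3.c44)
abbrev sq95 : Qt rels S := P sp95
abbrev sp97 : Pt := (Pt.mk D1.c0 D2.c1 D3.c46)
abbrev sq97 : Qt rels S := P sp97
abbrev sp98 : Pt := (Pt.mk D1.c0 D2.c1 D3.c47)
abbrev sq98 : Qt rels S := P sp98
abbrev sp99 : Pt := (Pt.mk D1.c0 D2.c1 D3.c48)
abbrev sq99 : Qt rels S := P sp99
abbrev sp100 : Pt := (Pt.mk D1.c0 D2.c1 D3.c49)
abbrev sq100 : Qt rels S := P sp100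
abbrev sp105 : Pt := (Pt.mk D1.c0 D2.c2 D3.c3)
abbrev sq105 : Qt rels S := P sp105
abbrev sp108 : Pt := (Pt.mk D1.c0 D2.c2 D3.c6)
abbrev sq108 : Qt rels S := P sp108
abbrev sp112 : Pt := (Pt.mk D1.c0 D2.c2 D3.c10)
abbrev sq112 : Qt rels S := P sp112
abbrev sp113 : Pt := (Pt.mk D1.c0 D2.c2 D3.c11)
abbrev sq113 : Qt rels S := P sp113
abbrev sp116 : Pt := (Pt.mk D1.c0 D2.c2 D3.c14)
abbrev sq116 : Qt rels S := P sp116
abbrev sp117 : Pt := (Pt.mk D1.c0 D2.c2 D3.c15)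
abbrev sq117 : Qt rels S := P sp117
abbrev sp118 : Pt := (Pt.mk D1.c0 D2.c2 D3.c16)
abbrev sq118 : Qt rels S := P sp118
abbrev sp119 : Pt := (Pt.mk D1.c0 D2.c2 D3.c17)
abbrev sq119 : Qt rels S := P sp119
abbrev sp120 : Pt := (Pt.mk D1.c0 D2.c2 D3.c18)
abbrev sq120 : Qt rels S := P sp120
abbrev sp121 : Pt := (Pt.mk D1.c0 D2.c2 D3.c19)
abbrev sq121 : Qt rels S := P sp121
abbrev sp122 : Pt := (Pt.mk D1.c0 D2.c2 D3.c20)
abbrev sq122 : Qt rels S := P sp122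
abbrev sp123 : Pt := (Pt.mk D1.c0 D2.c2 D3.c21)
abbrev sq123 : Qt rels S := P sp123
abbrev sp125 : Pt := (Pt.mk D1.c0 D2.c2 D3.c23)
abbrev sq125 : Qt rels S := P sp125
abbrev sp126 : Pt := (Pt.mk D1.c0 D2.c2 D3.c24)
abbrev sq126 : Qt rels S := P sp126
abbrev sp127 : Pt := (Pt.mk D1.c0 D2.c2 D3.c25)
abbrev sq127 : Qt rels S := P sp127
abbrev sp128 : Pt := (Pt.mk D1.c0 D2.c2 D3.c26)
abbrev sq128 : Qt rels S := P sp128
abbrev sp131 : Pt := (Pt.mk D1.c0 D2.c2 D3.c29)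
abbrev sq131 : Qt rels S := P sp131
abbrev sp132 : Pt := (Pt.mk D1.c0 D2.c2 D3.c30)
abbrev sq132 : Qt rels S := P sp132
abbrev sp133 : Pt := (Pt.mk D1.c0 D2.c2 D3.c31)
abbrev sq133 : Qt rels S := P sp133
abbrev sp135 : Pt := (Pt.mk D1.c0 D2.c2 D3.c33)
abbrev sq135 : Qt rels S := P sp135
abbrev sp136 : Pt := (Pt.mk D1.c0 D2.c2 D3.c34)
abbrev sq136 : Qt rels S := P sp136
abbrev sp137 : Pt := (Pt.mk D1.c0 D2.c2 D3.c35)
abbrev sq137 : Qt rels S := P sp137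
abbrev sp139 : Pt := (Pt.mk D1.c0 D2.c2 D3.c37)
abbrev sq139 : Qt rels S := P sp139
abbrev sp140 : Pt := (Pt.mk D1.c0 D2.c2 D3.c38)
abbrev sq140 : Qt rels S := P sp140
abbrev sp144 : Pt := (Pt.mk D1.c0 D2.c2 D3.c42)
abbrev sq144 : Qt rels S := P sp144
abbrev sp145 : Pt := (Pt.mk D1.c0 D2.c2 D3.c43)
abbrev sq145 : Qt rels S := P sp145
abbrev sp146 : Pt := (Pt.mk D1.c0 D2.c2 D3.c44)
abbrev sq146 : Qt rels S := P sp146
abbrev sp147 : Pt := (Pt.mk D1.c0 D2.c2 D3.c45)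
abbrev sq147 : Qt rels S := P sp147
abbrev sp152 : Pt := (Pt.mk D1.c0 D2.c2 D3.c50)
abbrev sq152 : Qt rels S := P sp152
abbrev sp156 : Pt := (Pt.mk D1.c0 D2.c3 D3.c3)
abbrev sq156 : Qt rels S := P sp156
abbrev sp157 : Pt := (Pt.mk D1.c0 D2.c3 D3.c4)
abbrev sq157 : Qt rels S := P sp157
abbrev sp162 : Pt := (Pt.mk D1.c0 D2.c3 D3.c9)
abbrev sq162 : Qt rels S := P sp162
abbrev sp163 : Pt := (Pt.mk D1.c0 D2.c3 D3.c10)
abbrev sq163 : Qt rels S := P sp163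
abbrev sp166 : Pt := (Pt.mk D1.c0 D2.c3 D3.c13)
abbrev sq166 : Qt rels S := P sp166
abbrev sp167 : Pt := (Pt.mk D1.c0 D2.c3 D3.c14)
abbrev sq167 : Qt rels S := P sp167
abbrev sp168 : Pt := (Pt.mk D1.c0 D2.c3 D3.c15)
abbrev sq168 : Qt rels S := P sp168
abbrev sp169 : Pt := (Pt.mk D1.c0 D2.c3 D3.c16)
abbrev sq169 : Qt rels S := P sp169
abbrev sp170 : Pt := (Pt.mk D1.c0 D2.c3 D3.c17)
abbrev sq170 : Qt rels S := P sp170
abbrev sp171 : Pt := (Pt.mk D1.c0 D2.c3 D3.c18)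
abbrev sq171 : Qt rels S := P sp171
abbrev sp172 : Pt := (Pt.mk D1.c0 D2.c3 D3.c19)
abbrev sq172 : Qt rels S := P sp172
abbrev sp173 : Pt := (Pt.mk D1.c0 D2.c3 D3.c20)
abbrev sq173 : Qt rels S := P sp173
abbrev sp176 : Pt := (Pt.mk D1.c0 D2.c3 D3.c23)
abbrev sq176 : Qt rels S := P sp176
abbrev sp177 : Pt := (Pt.mk D1.c0 D2.c3 D3.c24)
abbrev sq177 : Qt rels S := P sp177
abbrev sp179 : Pt := (Pt.mk D1.c0 D2.c3 D3.c26)
abbrev sq179 : Qt rels S := P sp179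
abbrev sp181 : Pt := (Pt.mk D1.c0 D2.c3 D3.c28)
abbrev sq181 : Qt rels S := P sp181
abbrev sp182 : Pt := (Pt.mk D1.c0 D2.c3 D3.c29)
abbrev sq182 : Qt rels S := P sp182
abbrev sp186 : Pt := (Pt.mk D1.c0 D2.c3 D3.c33)
abbrev sq186 : Qt rels S := P sp186
abbrev sp187 : Pt := (Pt.mk D1.c0 D2.c3 D3.c34)
abbrev sq187 : Qt rels S := P sp187
abbrev sp188 : Pt := (Pt.mk D1.c0 D2.c3 D3.c35)
abbrev sq188 : Qt rels S := P sp188
abbrev sp189 : Pt := (Pt.mk D1.c0 D2.c3 D3.c36)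
abbrev sq189 : Qt rels S := P sp189
abbrev sp192 : Pt := (Pt.mk D1.c0 D2.c3 D3.c39)
abbrev sq192 : Qt rels S := P sp192
abbrev sp193 : Pt := (Pt.mk D1.c0 D2.c3 D3.c40)
abbrev sq193 : Qt rels S := P sp193
abbrev sp194 : Pt := (Pt.mk D1.c0 D2.c3 D3.c41)
abbrev sq194 : Qt rels S := P sp194
abbrev sp195 : Pt := (Pt.mk D1.c0 D2.c3 D3.c42)
abbrev sq195 : Qt rels S := P sp195
abbrev sp197 : Pt := (Pt.mk D1.c0 D2.c3 D3.c44)
abbrev sq197 : Qt rels S := P sp197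
abbrev sp198 : Pt := (Pt.mk D1.c0 D2.c3 D3.c45)
abbrev sq198 : Qt rels S := P sp198
abbrev sp205 : Pt := (Pt.mk D1.c0 D2.c4 D3.c1)
abbrev sq205 : Qt rels S := P sp205
abbrev sp206 : Pt := (Pt.mk D1.c0 D2.c4 D3.c2)
abbrev sq206 : Qt rels S := P sp206
abbrev sp207 : Pt := (Pt.mk D1.c0 D2.c4 D3.c3)
abbrev sq207 : Qt rels S := P sp207
abbrev sp212 : Pt := (Pt.mk D1.c0 D2.c4 D3.c8)
abbrev sq212 : Qt rels S := P sp212
abbrev sp213 : Pt := (Pt.mk D1.c0 D2.c4 D3.c9)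
abbrev sq213 : Qt rels S := P sp213
abbrev sp214 : Pt := (Pt.mk D1.c0 D2.c4 D3.c10)
abbrev sq214 : Qt rels S := P sp214
abbrev sp215 : Pt := (Pt.mk D1.c0 D2.c4 D3.c11)
abbrev sq215 : Qt rels S := P sp215
abbrev sp216 : Pt := (Pt.mk D1.c0 D2.c4 D3.c12)
abbrev sq216 : Qt rels S := P sp216
abbrev sp219 : Pt := (Pt.mk D1.c0 D2.c4 D3.c15)
abbrev sq219 : Qt rels S := P sp219
abbrev sp222 : Pt := (Pt.mk D1.c0 D2.c4 D3.c18)
abbrev sq222 : Qt rels S := P sp222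
abbrev sp237 : Pt := (Pt.mk D1.c0 D2.c4 D3.c33)
abbrev sq237 : Qt rels S := P sp237
abbrev sp238 : Pt := (Pt.mk D1.c0 D2.c4 D3.c34)
abbrev sq238 : Qt rels S := P sp238
abbrev sp239 : Pt := (Pt.mk D1.c0 D2.c4 D3.c35)
abbrev sq239 : Qt rels S := P sp239
abbrev sp241 : Pt := (Pt.mk D1.c0 D2.c4 D3.c37)
abbrev sq241 : Qt rels S := P sp241
abbrev sp242 : Pt := (Pt.mk D1.c0 D2.c4 D3.c38)
abbrev sq242 : Qt rels S := P sp242
abbrev sp243 : Pt := (Pt.mk D1.c0 D2.c4 D3.c39)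
abbrev sq243 : Qt rels S := P sp243
abbrev sp244 : Pt := (Pt.mk D1.c0 D2.c4 D3.c40)
abbrev sq244 : Qt rels S := P sp244
abbrev sp246 : Pt := (Pt.mk D1.c0 D2.c4 D3.c42)
abbrev sq246 : Qt rels S := P sp246
abbrev sp247 : Pt := (Pt.mk D1.c0 D2.c4 D3.c43)
abbrev sq247 : Qt rels S := P sp247
abbrev sp248 : Pt := (Pt.mk D1.c0 D2.c4 D3.c44)
abbrev sq248 : Qt rels S := P sp248
abbrev sp252 : Pt := (Pt.mk D1.c0 D2.c4 D3.c48)
abbrev sq252 : Qt rels S := P sp252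
abbrev sp253 : Pt := (Pt.mk D1.c0 D2.c4 D3.c49)
abbrev sq253 : Qt rels S := P sp253
abbrev sp254 : Pt := (Pt.mk D1.c0 D2.c4 D3.c50)
abbrev sq254 : Qt rels S := P sp254
abbrev sp255 : Pt := (Pt.mk D1.c0 D2.c5 D3.c0)
abbrev sq255 : Qt rels S := P sp255
abbrev sp258 : Pt := (Pt.mk D1.c0 D2.c5 D3.c3)
abbrev sq258 : Qt rels S := P sp258
abbrev sp260 : Pt := (Pt.mk D1.c0 D2.c5 D3.c5)
abbrev sq260 : Qt rels S := P sp260
abbrev sp261 : Pt := (Pt.mk D1.c0 D2.c5 D3.c6)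
abbrev sq261 : Qt rels S := P sp261
abbrev sp268 : Pt := (Pt.mk D1.c0 D2.c5 D3.c13)
abbrev sq268 : Qt rels S := P sp268
abbrev sp269 : Pt := (Pt.mk D1.c0 D2.c5 D3.c14)
abbrev sq269 : Qt rels S := P sp269
abbrev sp274 : Pt := (Pt.mk D1.c0 D2.c5 D3.c19)
abbrev sq274 : Qt rels S := P sp274
abbrev sp275 : Pt := (Pt.mk D1.c0 D2.c5 D3.c20)
abbrev sq275 : Qt rels S := P sp275
abbrev sp276 : Pt := (Pt.mk D1.c0 D2.c5 D3.c21)
abbrev sq276 : Qt rels S := P sp276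
abbrev sp277 : Pt := (Pt.mk D1.c0 D2.c5 D3.c22)
abbrev sq277 : Qt rels S := P sp277
abbrev sp278 : Pt := (Pt.mk D1.c0 D2.c5 D3.c23)
abbrev sq278 : Qt rels S := P sp278
abbrev sp281 : Pt := (Pt.mk D1.c0 D2.c5 D3.c26)
abbrev sq281 : Qt rels S := P sp281
abbrev sp282 : Pt := (Pt.mk D1.c0 D2.c5 D3.c27)
abbrev sq282 : Qt rels S := P sp282
abbrev sp284 : Pt := (Pt.mk D1.c0 D2.c5 D3.c29)
abbrev sq284 : Qt rels S := P sp284
abbrev sp285 : Pt := (Pt.mk D1.c0 D2.c5 D3.c30)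
abbrev sq285 : Qt rels S := P sp285
abbrev sp289 : Pt := (Pt.mk D1.c0 D2.c5 D3.c34)
abbrev sq289 : Qt rels S := P sp289
abbrev sp290 : Pt := (Pt.mk D1.c0 D2.c5 D3.c35)
abbrev sq290 : Qt rels S := P sp290
abbrev sp301 : Pt := (Pt.mk D1.c0 D2.c5 D3.c46)
abbrev sq301 : Qt rels S := P sp301
abbrev sp302 : Pt := (Pt.mk D1.c0 D2.c5 D3.c47)
abbrev sq302 : Qt rels S := P sp302
abbrev sp303 : Pt := (Pt.mk D1.c0 D2.c5 D3.c48)
abbrev sq303 : Qt rels S := P sp303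
abbrev sp310 : Pt := (Pt.mk D1.c0 D2.c6 D3.c4)
abbrev sq310 : Qt rels S := P sp310
abbrev sp312 : Pt := (Pt.mk D1.c0 D2.c6 D3.c6)
abbrev sq312 : Qt rels S := P sp312
abbrev sp313 : Pt := (Pt.mk D1.c0 D2.c6 D3.c7)
abbrev sq313 : Qt rels S := P sp313
abbrev sp315 : Pt := (Pt.mk D1.c0 D2.c6 D3.c9)
abbrev sq315 : Qt rels S := P sp315
abbrev sp344 : Pt := (Pt.mk D1.c0 D2.c6 D3.c38)
abbrev sq344 : Qt rels S := P sp344
abbrev sp345 : Pt := (Pt.mk D1.c0 D2.c6 D3.c39)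
abbrev sq345 : Qt rels S := P sp345
abbrev sp346 : Pt := (Pt.mk D1.c0 D2.c6 D3.c40)
abbrev sq346 : Qt rels S := P sp346
abbrev sp348 : Pt := (Pt.mk D1.c0 D2.c6 D3.c42)
abbrev sq348 : Qt rels S := P sp348
abbrev sp353 : Pt := (Pt.mk D1.c0 D2.c6 D3.c47)
abbrev sq353 : Qt rels S := P sp353
abbrev sp354 : Pt := (Pt.mk D1.c0 D2.c6 D3.c48)
abbrev sq354 : Qt rels S := P sp354
abbrev sp355 : Pt := (Pt.mk D1.c0 D2.c6 D3.c49)
abbrev sq355 : Qt rels S := P sp355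
abbrev sp357 : Pt := (Pt.mk D1.c0 D2.c7 D3.c0)
abbrev sq357 : Qt rels S := P sp357
abbrev sp358 : Pt := (Pt.mk D1.c0 D2.c7 D3.c1)
abbrev sq358 : Qt rels S := P sp358
abbrev sp360 : Pt := (Pt.mk D1.c0 D2.c7 D3.c3)
abbrev sq360 : Qt rels S := P sp360
abbrev sp365 : Pt := (Pt.mk D1.c0 D2.c7 D3.c8)
abbrev sq365 : Qt rels S := P sp365
abbrev sp366 : Pt := (Pt.mk D1.c0 D2.c7 D3.c9)
abbrev sq366 : Qt rels S := P sp366
abbrev sp371 : Pt := (Pt.mk D1.c0 D2.c7 D3.c14)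
abbrev sq371 : Qt rels S := P sp371
abbrev sp372 : Pt := (Pt.mk D1.c0 D2.c7 D3.c15)
abbrev sq372 : Qt rels S := P sp372
abbrev sp373 : Pt := (Pt.mk D1.c0 D2.c7 D3.c16)
abbrev sq373 : Qt rels S := P sp373
abbrev sp375 : Pt := (Pt.mk D1.c0 D2.c7 D3.c18)
abbrev sq375 : Qt rels S := P sp375
abbrev sp378 : Pt := (Pt.mk D1.c0 D2.c7 D3.c21)
abbrev sq378 : Qt rels S := P sp378
abbrev sp379 : Pt := (Pt.mk D1.c0 D2.c7 D3.c22)
abbrev sq379 : Qt rels S := P sp379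
abbrev sp381 : Pt := (Pt.mk D1.c0 D2.c7 D3.c24)
abbrev sq381 : Qt rels S := P sp381
abbrev sp383 : Pt := (Pt.mk D1.c0 D2.c7 D3.c26)
abbrev sq383 : Qt rels S := P sp383
abbrev sp392 : Pt := (Pt.mk D1.c0 D2.c7 D3.c35)
abbrev sq392 : Qt rels S := P sp392
abbrev sp394 : Pt := (Pt.mk D1.c0 D2.c7 D3.c37)
abbrev sq394 : Qt rels S := P sp394
abbrev sp395 : Pt := (Pt.mk D1.c0 D2.c7 D3.c38)
abbrev sq395 : Qt rels S := P sp395
abbrev sp396 : Pt := (Pt.mk D1.c0 D2.c7 D3.c39)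
abbrev sq396 : Qt rels S := P sp396
abbrev sp397 : Pt := (Pt.mk D1.c0 D2.c7 D3.c40)
abbrev sq397 : Qt rels S := P sp397
abbrev sp402 : Pt := (Pt.mk D1.c0 D2.c7 D3.c45)
abbrev sq402 : Qt rels S := P sp402
abbrev sp404 : Pt := (Pt.mk D1.c0 D2.c7 D3.c47)
abbrev sq404 : Qt rels S := P sp404
abbrev sp407 : Pt := (Pt.mk D1.c0 D2.c7 D3.c50)
abbrev sq407 : Qt rels S := P sp407
abbrev sp408 : Pt := (Pt.mk D1.c0 D2.c8 D3.c0)
abbrev sq408 : Qt rels S := P sp408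
abbrev sp409 : Pt := (Pt.mk D1.c0 D2.c8 D3.c1)
abbrev sq409 : Qt rels S := P sp409
abbrev sp413 : Pt := (Pt.mk D1.c0 D2.c8 D3.c5)
abbrev sq413 : Qt rels S := P sp413
abbrev sp414 : Pt := (Pt.mk D1.c0 D2.c8 D3.c6)
abbrev sq414 : Qt rels S := P sp414
abbrev sp417 : Pt := (Pt.mk D1.c0 D2.c8 D3.c9)
abbrev sq417 : Qt rels S := P sp417
abbrev sp418 : Pt := (Pt.mk D1.c0 D2.c8 D3.c10)
abbrev sq418 : Qt rels S := P sp418
abbrev sp424 : Pt := (Pt.mk D1.c0 D2.c8 D3.c16)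
abbrev sq424 : Qt rels S := P sp424
abbrev sp442 : Pt := (Pt.mk D1.c0 D2.c8 D3.c34)
abbrev sq442 : Qt rels S := P sp442
abbrev sp443 : Pt := (Pt.mk D1.c0 D2.c8 D3.c35)
abbrev sq443 : Qt rels S := P sp443
abbrev sp444 : Pt := (Pt.mk D1.c0 D2.c8 D3.c36)
abbrev sq444 : Qt rels S := P sp444
abbrev sp445 : Pt := (Pt.mk D1.c0 D2.c8 D3.c37)
abbrev sq445 : Qt rels S := P sp445
abbrev sp446 : Pt := (Pt.mk D1.c0 D2.c8 D3.c38)
abbrev sq446 : Qt rels S := P sp446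
abbrev sp458 : Pt := (Pt.mk D1.c0 D2.c8 D3.c50)
abbrev sq458 : Qt rels S := P sp458
abbrev sp460 : Pt := (Pt.mk D1.c0 D2.c9 D3.c1)
abbrev sq460 : Qt rels S := P sp460
abbrev sp463 : Pt := (Pt.mk D1.c0 D2.c9 D3.c4)
abbrev sq463 : Qt rels S := P sp463
abbrev sp507 : Pt := (Pt.mk D1.c0 D2.c9 D3.c48)
abbrev sq507 : Qt rels S := P sp507
abbrev sp514 : Pt := (Pt.mk D1.c0 D2.c10 D3.c4)
abbrev sq514 : Qt rels S := P sp514
abbrev sp515 : Pt := (Pt.mk D1.c0 D2.c10 D3.c5)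
abbrev sq515 : Qt rels S := P sp515
abbrev sp517 : Pt := (Pt.mk D1.c0 D2.c10 D3.c7)
abbrev sq517 : Qt rels S := P sp517
abbrev sp518 : Pt := (Pt.mk D1.c0 D2.c10 D3.c8)
abbrev sq518 : Qt rels S := P sp518
abbrev sp519 : Pt := (Pt.mk D1.c0 D2.c10 D3.c9)
abbrev sq519 : Qt rels S := P sp519
abbrev sp523 : Pt := (Pt.mk D1.c0 D2.c10 D3.c13)
abbrev sq523 : Qt rels S := P sp523
abbrev sp530 : Pt := (Pt.mk D1.c0 D2.c10 D3.c20)
abbrev sq530 : Qt rels S := P sp530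
abbrev sp532 : Pt := (Pt.mk D1.c0 D2.c10 D3.c22)
abbrev sq532 : Qt rels S := P sp532
abbrev sp537 : Pt := (Pt.mk D1.c0 D2.c10 D3.c27)
abbrev sq537 : Qt rels S := P sp537
abbrev sp539 : Pt := (Pt.mk D1.c0 D2.c10 D3.c29)
abbrev sq539 : Qt rels S := P sp539
abbrev sp543 : Pt := (Pt.mk D1.c0 D2.c10 D3.c33)
abbrev sq543 : Qt rels S := P sp543
abbrev sp548 : Pt := (Pt.mk D1.c0 D2.c10 D3.c38)
abbrev sq548 : Qt rels S := P sp548
abbrev sp549 : Pt := (Pt.mk D1.c0 D2.c10 D3.c39)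
abbrev sq549 : Qt rels S := P sp549
abbrev sp552 : Pt := (Pt.mk D1.c0 D2.c10 D3.c42)
abbrev sq552 : Qt rels S := P sp552
abbrev sp553 : Pt := (Pt.mk D1.c0 D2.c10 D3.c43)
abbrev sq553 : Qt rels S := P sp553
abbrev sp557 : Pt := (Pt.mk D1.c0 D2.c10 D3.c47)
abbrev sq557 : Qt rels S := P sp557
abbrev sp564 : Pt := (Pt.mk D1.c0 D2.c11 D3.c3)
abbrev sq564 : Qt rels S := P sp564
abbrev sp570 : Pt := (Pt.mk D1.c0 D2.c11 D3.c9)
abbrev sq570 : Qt rels S := P sp570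
abbrev sp573 : Pt := (Pt.mk D1.c0 D2.c11 D3.c12)
abbrev sq573 : Qt rels S := P sp573
abbrev sp574 : Pt := (Pt.mk D1.c0 D2.c11 D3.c13)
abbrev sq574 : Qt rels S := P sp574
abbrev sp575 : Pt := (Pt.mk D1.c0 D2.c11 D3.c14)
abbrev sq575 : Qt rels S := P sp575
abbrev sp576 : Pt := (Pt.mk D1.c0 D2.c11 D3.c15)
abbrev sq576 : Qt rels S := P sp576
abbrev sp577 : Pt := (Pt.mk D1.c0 D2.c11 D3.c16)
abbrev sq577 : Qt rels S := P sp577
abbrev sp583 : Pt := (Pt.mk D1.c0 D2.c11 D3.c22)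
abbrev sq583 : Qt rels S := P sp583
abbrev sp584 : Pt := (Pt.mk D1.c0 D2.c11 D3.c23)
abbrev sq584 : Qt rels S := P sp584
abbrev sp586 : Pt := (Pt.mk D1.c0 D2.c11 D3.c25)
abbrev sq586 : Qt rels S := P sp586
abbrev sp590 : Pt := (Pt.mk D1.c0 D2.c11 D3.c29)
abbrev sq590 : Qt rels S := P sp590
abbrev sp592 : Pt := (Pt.mk D1.c0 D2.c11 D3.c31)
abbrev sq592 : Qt rels S := P sp592
abbrev sp593 : Pt := (Pt.mk D1.c0 D2.c11 D3.c32)
abbrev sq593 : Qt rels S := P sp593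
abbrev sp602 : Pt := (Pt.mk D1.c0 D2.c11 D3.c41)
abbrev sq602 : Qt rels S := P sp602
abbrev sp603 : Pt := (Pt.mk D1.c0 D2.c11 D3.c42)
abbrev sq603 : Qt rels S := P sp603
abbrev sp607 : Pt := (Pt.mk D1.c0 D2.c11 D3.c46)
abbrev sq607 : Qt rels S := P sp607
abbrev sp615 : Pt := (Pt.mk D1.c0 D2.c12 D3.c3)
abbrev sq615 : Qt rels S := P sp615
abbrev sp640 : Pt := (Pt.mk D1.c0 D2.c12 D3.c28)
abbrev sq640 : Qt rels S := P sp640
abbrev sp641 : Pt := (Pt.mk D1.c0 D2.c12 D3.c29)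
abbrev sq641 : Qt rels S := P sp641
abbrev sp643 : Pt := (Pt.mk D1.c0 D2.c12 D3.c31)
abbrev sq643 : Qt rels S := P sp643
abbrev sp662 : Pt := (Pt.mk D1.c0 D2.c12 D3.c50)
abbrev sq662 : Qt rels S := P sp662
abbrev sp663 : Pt := (Pt.mk D1.c0 D2.c13 D3.c0)
abbrev sq663 : Qt rels S := P sp663
abbrev sp664 : Pt := (Pt.mk D1.c0 D2.c13 D3.c1)
abbrev sq664 : Qt rels S := P sp664
abbrev sp668 : Pt := (Pt.mk D1.c0 D2.c13 D3.c5)
abbrev sq668 : Qt rels S := P sp668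
abbrev sp670 : Pt := (Pt.mk D1.c0 D2.c13 D3.c7)
abbrev sq670 : Qt rels S := P sp670
abbrev sp733 : Pt := (Pt.mk D1.c0 D2.c14 D3.c19)
abbrev sq733 : Qt rels S := P sp733
abbrev sp736 : Pt := (Pt.mk D1.c0 D2.c14 D3.c22)
abbrev sq736 : Qt rels S := P sp736
abbrev sp737 : Pt := (Pt.mk D1.c0 D2.c14 D3.c23)
abbrev sq737 : Qt rels S := P sp737
abbrev sp739 : Pt := (Pt.mk D1.c0 D2.c14 D3.c25)
abbrev sq739 : Qt rels S := P sp739
abbrev sp747 : Pt := (Pt.mk D1.c0 D2.c14 D3.c33)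
abbrev sq747 : Qt rels S := P sp747
abbrev sp755 : Pt := (Pt.mk D1.c0 D2.c14 D3.c41)
abbrev sq755 : Qt rels S := P sp755
abbrev sp757 : Pt := (Pt.mk D1.c0 D2.c14 D3.c43)
abbrev sq757 : Qt rels S := P sp757
abbrev sp758 : Pt := (Pt.mk D1.c0 D2.c14 D3.c44)
abbrev sq758 : Qt rels S := P sp758
abbrev sp764 : Pt := (Pt.mk D1.c0 D2.c14 D3.c50)
abbrev sq764 : Qt rels S := P sp764
abbrev sp767 : Pt := (Pt.mk D1.c0 D2.c15 D3.c2)
abbrev sq767 : Qt rels S := P sp767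
abbrev sp771 : Pt := (Pt.mk D1.c0 D2.c15 D3.c6)
abbrev sq771 : Qt rels S := P sp771
abbrev sp774 : Pt := (Pt.mk D1.c0 D2.c15 D3.c9)
abbrev sq774 : Qt rels S := P sp774
abbrev sp783 : Pt := (Pt.mk D1.c0 D2.c15 D3.c18)
abbrev sq783 : Qt rels S := P sp783
abbrev sp784 : Pt := (Pt.mk D1.c0 D2.c15 D3.c19)
abbrev sq784 : Qt rels S := P sp784
abbrev sp788 : Pt := (Pt.mk D1.c0 D2.c15 D3.c23)
abbrev sq788 : Qt rels S := P sp788
abbrev sp791 : Pt := (Pt.mk D1.c0 D2.c15 D3.c26)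
abbrev sq791 : Qt rels S := P sp791
abbrev sp796 : Pt := (Pt.mk D1.c0 D2.c15 D3.c31)
abbrev sq796 : Qt rels S := P sp796
abbrev sp806 : Pt := (Pt.mk D1.c0 D2.c15 D3.c41)
abbrev sq806 : Qt rels S := P sp806
abbrev sp814 : Pt := (Pt.mk D1.c0 D2.c15 D3.c49)
abbrev sq814 : Qt rels S := P sp814
abbrev sp815 : Pt := (Pt.mk D1.c0 D2.c15 D3.c50)
abbrev sq815 : Qt rels S := P sp815
abbrev sp816 : Pt := (Pt.mk D1.c0 D2.c16 D3.c0)
abbrev sq816 : Qt rels S := P sp816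
abbrev sp818 : Pt := (Pt.mk D1.c0 D2.c16 D3.c2)
abbrev sq818 : Qt rels S := P sp818
abbrev sp819 : Pt := (Pt.mk D1.c0 D2.c16 D3.c3)
abbrev sq819 : Qt rels S := P sp819
abbrev sp820 : Pt := (Pt.mk D1.c0 D2.c16 D3.c4)
abbrev sq820 : Qt rels S := P sp820
abbrev sp821 : Pt := (Pt.mk D1.c0 D2.c16 D3.c5)
abbrev sq821 : Qt rels S := P sp821
abbrev sp832 : Pt := (Pt.mk D1.c0 D2.c16 D3.c16)
abbrev sq832 : Qt rels S := P sp832
abbrev sp837 : Pt := (Pt.mk D1.c0 D2.c16 D3.c21)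
abbrev sq837 : Qt rels S := P sp837
abbrev sp842 : Pt := (Pt.mk D1.c0 D2.c16 D3.c26)
abbrev sq842 : Qt rels S := P sp842
abbrev sp843 : Pt := (Pt.mk D1.c0 D2.c16 D3.c27)
abbrev sq843 : Qt rels S := P sp843
abbrev sp847 : Pt := (Pt.mk D1.c0 D2.c16 D3.c31)
abbrev sq847 : Qt rels S := P sp847
abbrev sp848 : Pt := (Pt.mk D1.c0 D2.c16 D3.c32)
abbrev sq848 : Qt rels S := P sp848
abbrev sp860 : Pt := (Pt.mk D1.c0 D2.c16 D3.c44)
abbrev sq860 : Qt rels S := P sp860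
abbrev sp861 : Pt := (Pt.mk D1.c0 D2.c16 D3.c45)
abbrev sq861 : Qt rels S := P sp861
abbrev sp878 : Pt := (Pt.mk D1.c0 D2.c17 D3.c11)
abbrev sq878 : Qt rels S := P sp878
abbrev sp931 : Pt := (Pt.mk D1.c0 D2.c18 D3.c13)
abbrev sq931 : Qt rels S := P sp931
abbrev sp945 : Pt := (Pt.mk D1.c0 D2.c18 D3.c27)
abbrev sq945 : Qt rels S := P sp945
abbrev sp947 : Pt := (Pt.mk D1.c0 D2.c18 D3.c29)
abbrev sq947 : Qt rels S := P sp947
abbrev sp952 : Pt := (Pt.mk D1.c0 D2.c18 D3.c34)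
abbrev sq952 : Qt rels S := P sp952
abbrev sp955 : Pt := (Pt.mk D1.c0 D2.c18 D3.c37)
abbrev sq955 : Qt rels S := P sp955
abbrev sp1016 : Pt := (Pt.mk D1.c0 D2.c19 D3.c47)
abbrev sq1016 : Qt rels S := P sp1016
abbrev sp1026 : Pt := (Pt.mk D1.c0 D2.c20 D3.c6)
abbrev sq1026 : Qt rels S := P sp1026
abbrev sp1027 : Pt := (Pt.mk D1.c0 D2.c20 D3.c7)
abbrev sq1027 : Qt rels S := P sp1027
abbrev sp1031 : Pt := (Pt.mk D1.c0 D2.c20 D3.c11)
abbrev sq1031 : Qt rels S := P sp1031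
abbrev sp1033 : Pt := (Pt.mk D1.c0 D2.c20 D3.c13)
abbrev sq1033 : Qt rels S := P sp1033
abbrev sp1036 : Pt := (Pt.mk D1.c0 D2.c20 D3.c16)
abbrev sq1036 : Qt rels S := P sp1036
abbrev sp1048 : Pt := (Pt.mk D1.c0 D2.c20 D3.c28)
abbrev sq1048 : Qt rels S := P sp1048
abbrev sp1058 : Pt := (Pt.mk D1.c0 D2.c20 D3.c38)
abbrev sq1058 : Qt rels S := P sp1058
abbrev sp1059 : Pt := (Pt.mk D1.c0 D2.c20 D3.c39)
abbrev sq1059 : Qt rels S := P sp1059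
abbrev sp1060 : Pt := (Pt.mk D1.c0 D2.c20 D3.c40)
abbrev sq1060 : Qt rels S := P sp1060
abbrev sp1061 : Pt := (Pt.mk D1.c0 D2.c20 D3.c41)
abbrev sq1061 : Qt rels S := P sp1061
abbrev sp1062 : Pt := (Pt.mk D1.c0 D2.c20 D3.c42)
abbrev sq1062 : Qt rels S := P sp1062
abbrev sp1072 : Pt := (Pt.mk D1.c0 D2.c21 D3.c1)
abbrev sq1072 : Qt rels S := P sp1072
abbrev sp1077 : Pt := (Pt.mk D1.c0 D2.c21 D3.c6)
abbrev sq1077 : Qt rels S := P sp1077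
abbrev sp1082 : Pt := (Pt.mk D1.c0 D2.c21 D3.c11)
abbrev sq1082 : Qt rels S := P sp1082
abbrev sp1083 : Pt := (Pt.mk D1.c0 D2.c21 D3.c12)
abbrev sq1083 : Qt rels S := P sp1083
abbrev sp1089 : Pt := (Pt.mk D1.c0 D2.c21 D3.c18)
abbrev sq1089 : Qt rels S := P sp1089
abbrev sp1102 : Pt := (Pt.mk D1.c0 D2.c21 D3.c31)
abbrev sq1102 : Qt rels S := P sp1102
abbrev sp1104 : Pt := (Pt.mk D1.c0 D2.c21 D3.c33)
abbrev sq1104 : Qt rels S := P sp1104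
abbrev sp1110 : Pt := (Pt.mk D1.c0 D2.c21 D3.c39)
abbrev sq1110 : Qt rels S := P sp1110
abbrev sp1118 : Pt := (Pt.mk D1.c0 D2.c21 D3.c47)
abbrev sq1118 : Qt rels S := P sp1118
abbrev sp1142 : Pt := (Pt.mk D1.c0 D2.c22 D3.c20)
abbrev sq1142 : Qt rels S := P sp1142
abbrev sp1143 : Pt := (Pt.mk D1.c0 D2.c22 D3.c21)
abbrev sq1143 : Qt rels S := P sp1143
abbrev sp1149 : Pt := (Pt.mk D1.c0 D2.c22 D3.c27)
abbrev sq1149 : Qt rels S := P sp1149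
abbrev sp1152 : Pt := (Pt.mk D1.c0 D2.c22 D3.c30)
abbrev sq1152 : Qt rels S := P sp1152
abbrev sp1153 : Pt := (Pt.mk D1.c0 D2.c22 D3.c31)
abbrev sq1153 : Qt rels S := P sp1153
abbrev sp1171 : Pt := (Pt.mk D1.c0 D2.c22 D3.c49)
abbrev sq1171 : Qt rels S := P sp1171
abbrev sp1172 : Pt := (Pt.mk D1.c0 D2.c22 D3.c50)
abbrev sq1172 : Qt rels S := P sp1172
abbrev sp1184 : Pt := (Pt.mk D1.c0 D2.c23 D3.c11)
abbrev sq1184 : Qt rels S := P sp1184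
abbrev sp1186 : Pt := (Pt.mk D1.c0 D2.c23 D3.c13)
abbrev sq1186 : Qt rels S := P sp1186
abbrev sp1192 : Pt := (Pt.mk D1.c0 D2.c23 D3.c19)
abbrev sq1192 : Qt rels S := P sp1192
abbrev sp1194 : Pt := (Pt.mk D1.c0 D2.c23 D3.c21)
abbrev sq1194 : Qt rels S := P sp1194
abbrev sp1211 : Pt := (Pt.mk D1.c0 D2.c23 D3.c38)
abbrev sq1211 : Qt rels S := P sp1211
abbrev sp1212 : Pt := (Pt.mk D1.c0 D2.c23 D3.c39)
abbrev sq1212 : Qt rels S := P sp1212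
abbrev sp1213 : Pt := (Pt.mk D1.c0 D2.c23 D3.c40)
abbrev sq1213 : Qt rels S := P sp1213
abbrev sp1233 : Pt := (Pt.mk D1.c0 D2.c24 D3.c9)
abbrev sq1233 : Qt rels S := P sp1233
abbrev sp1303 : Pt := (Pt.mk D1.c0 D2.c25 D3.c28)
abbrev sq1303 : Qt rels S := P sp1303
abbrev sp1314 : Pt := (Pt.mk D1.c0 D2.c25 D3.c39)
abbrev sq1314 : Qt rels S := P sp1314
abbrev sp1320 : Pt := (Pt.mk D1.c0 D2.c25 D3.c45)
abbrev sq1320 : Qt rels S := P sp1320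
abbrev sp1321 : Pt := (Pt.mk D1.c0 D2.c25 D3.c46)
abbrev sq1321 : Qt rels S := P sp1321
abbrev sp1326 : Pt := (Pt.mk D1.c0 D2.c26 D3.c0)
abbrev sq1326 : Qt rels S := P sp1326
abbrev sp1332 : Pt := (Pt.mk D1.c0 D2.c26 D3.c6)
abbrev sq1332 : Qt rels S := P sp1332
abbrev sp1398 : Pt := (Pt.mk D1.c1 D2.c0 D3.c21)
abbrev sq1398 : Qt rels S := P sp1398
abbrev sp1399 : Pt := (Pt.mk D1.c1 D2.c0 D3.c22)
abbrev sq1399 : Qt rels S := P sp1399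
abbrev sp1415 : Pt := (Pt.mk D1.c1 D2.c0 D3.c38)
abbrev sq1415 : Qt rels S := P sp1415
abbrev sp1417 : Pt := (Pt.mk D1.c1 D2.c0 D3.c40)
abbrev sq1417 : Qt rels S := P sp1417
abbrev sp1423 : Pt := (Pt.mk D1.c1 D2.c0 D3.c46)
abbrev sq1423 : Qt rels S := P sp1423
abbrev sp1424 : Pt := (Pt.mk D1.c1 D2.c0 D3.c47)
abbrev sq1424 : Qt rels S := P sp1424
abbrev sp1427 : Pt := (Pt.mk D1.c1 D2.c0 D3.c50)
abbrev sq1427 : Qt rels S := P sp1427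
abbrev sp1431 : Pt := (Pt.mk D1.c1 D2.c1 D3.c3)
abbrev sq1431 : Qt rels S := P sp1431
abbrev sp1462 : Pt := (Pt.mk D1.c1 D2.c1 D3.c34)
abbrev sq1462 : Qt rels S := P sp1462
abbrev sp1464 : Pt := (Pt.mk D1.c1 D2.c1 D3.c36)
abbrev sq1464 : Qt rels S := P sp1464
abbrev sp1465 : Pt := (Pt.mk D1.c1 D2.c1 D3.c37)
abbrev sq1465 : Qt rels S := P sp1465
abbrev sp1468 : Pt := (Pt.mk D1.c1 D2.c1 D3.c40)
abbrev sq1468 : Qt rels S := P sp1468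
abbrev sp1469 : Pt := (Pt.mk D1.c1 D2.c1 D3.c41)
abbrev sq1469 : Qt rels S := P sp1469
abbrev sp1486 : Pt := (Pt.mk D1.c1 D2.c2 D3.c7)
abbrev sq1486 : Qt rels S := P sp1486
abbrev sp1487 : Pt := (Pt.mk D1.c1 D2.c2 D3.c8)
abbrev sq1487 : Qt rels S := P sp1487
abbrev sp1494 : Pt := (Pt.mk D1.c1 D2.c2 D3.c15)
abbrev sq1494 : Qt rels S := P sp1494
abbrev sp1499 : Pt := (Pt.mk D1.c1 D2.c2 D3.c20)
abbrev sq1499 : Qt rels S := P sp1499
abbrev sp1500 : Pt := (Pt.mk D1.c1 D2.c2 D3.c21)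
abbrev sq1500 : Qt rels S := P sp1500
abbrev sp1501 : Pt := (Pt.mk D1.c1 D2.c2 D3.c22)
abbrev sq1501 : Qt rels S := P sp1501
abbrev sp1504 : Pt := (Pt.mk D1.c1 D2.c2 D3.c25)
abbrev sq1504 : Qt rels S := P sp1504
abbrev sp1508 : Pt := (Pt.mk D1.c1 D2.c2 D3.c29)
abbrev sq1508 : Qt rels S := P sp1508
abbrev sp1512 : Pt := (Pt.mk D1.c1 D2.c2 D3.c33)
abbrev sq1512 : Qt rels S := P sp1512
abbrev sp1529 : Pt := (Pt.mk D1.c1 D2.c2 D3.c50)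
abbrev sq1529 : Qt rels S := P sp1529
abbrev sp1530 : Pt := (Pt.mk D1.c1 D2.c3 D3.c0)
abbrev sq1530 : Qt rels S := P sp1530
abbrev sp1554 : Pt := (Pt.mk D1.c1 D2.c3 D3.c24)
abbrev sq1554 : Qt rels S := P sp1554
abbrev sp1586 : Pt := (Pt.mk D1.c1 D2.c4 D3.c5)
abbrev sq1586 : Qt rels S := P sp1586
abbrev sp1595 : Pt := (Pt.mk D1.c1 D2.c4 D3.c14)
abbrev sq1595 : Qt rels S := P sp1595
abbrev sp1596 : Pt := (Pt.mk D1.c1 D2.c4 D3.c15)
abbrev sq1596 : Qt rels S := P sp1596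
abbrev sp1600 : Pt := (Pt.mk D1.c1 D2.c4 D3.c19)
abbrev sq1600 : Qt rels S := P sp1600
abbrev sp1601 : Pt := (Pt.mk D1.c1 D2.c4 D3.c20)
abbrev sq1601 : Qt rels S := P sp1601
abbrev sp1628 : Pt := (Pt.mk D1.c1 D2.c4 D3.c47)
abbrev sq1628 : Qt rels S := P sp1628
abbrev sp1630 : Pt := (Pt.mk D1.c1 D2.c4 D3.c49)
abbrev sq1630 : Qt rels S := P sp1630
abbrev sp1636 : Pt := (Pt.mk D1.c1 D2.c5 D3.c4)
abbrev sq1636 : Qt rels S := P sp1636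
abbrev sp1639 : Pt := (Pt.mk D1.c1 D2.c5 D3.c7)
abbrev sq1639 : Qt rels S := P sp1639
abbrev sp1647 : Pt := (Pt.mk D1.c1 D2.c5 D3.c15)
abbrev sq1647 : Qt rels S := P sp1647
abbrev sp1652 : Pt := (Pt.mk D1.c1 D2.c5 D3.c20)
abbrev sq1652 : Qt rels S := P sp1652
abbrev sp1687 : Pt := (Pt.mk D1.c1 D2.c6 D3.c4)
abbrev sq1687 : Qt rels S := P sp1687
abbrev sp1709 : Pt := (Pt.mk D1.c1 D2.c6 D3.c26)
abbrev sq1709 : Qt rels S := P sp1709
abbrev sp1798 : Pt := (Pt.mk D1.c1 D2.c8 D3.c13)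
abbrev sq1798 : Qt rels S := P sp1798
abbrev sp1808 : Pt := (Pt.mk D1.c1 D2.c8 D3.c23)
abbrev sq1808 : Qt rels S := P sp1808
abbrev sp1820 : Pt := (Pt.mk D1.c1 D2.c8 D3.c35)
abbrev sq1820 : Qt rels S := P sp1820
abbrev sp1823 : Pt := (Pt.mk D1.c1 D2.c8 D3.c38)
abbrev sq1823 : Qt rels S := P sp1823
abbrev sp1826 : Pt := (Pt.mk D1.c1 D2.c8 D3.c41)
abbrev sq1826 : Qt rels S := P sp1826
abbrev sp1834 : Pt := (Pt.mk D1.c1 D2.c8 D3.c49)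
abbrev sq1834 : Qt rels S := P sp1834
abbrev sp1905 : Pt := (Pt.mk D1.c1 D2.c10 D3.c18)
abbrev sq1905 : Qt rels S := P sp1905
abbrev sp1909 : Pt := (Pt.mk D1.c1 D2.c10 D3.c22)
abbrev sq1909 : Qt rels S := P sp1909
abbrev sp1910 : Pt := (Pt.mk D1.c1 D2.c10 D3.c23)
abbrev sq1910 : Qt rels S := P sp1910
abbrev sp1930 : Pt := (Pt.mk D1.c1 D2.c10 D3.c43)
abbrev sq1930 : Qt rels S := P sp1930
abbrev sp1932 : Pt := (Pt.mk D1.c1 D2.c10 D3.c45)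
abbrev sq1932 : Qt rels S := P sp1932
abbrev sp1943 : Pt := (Pt.mk D1.c1 D2.c11 D3.c5)
abbrev sq1943 : Qt rels S := P sp1943
abbrev sp1945 : Pt := (Pt.mk D1.c1 D2.c11 D3.c7)
abbrev sq1945 : Qt rels S := P sp1945
abbrev sp1949 : Pt := (Pt.mk D1.c1 D2.c11 D3.c11)
abbrev sq1949 : Qt rels S := P sp1949
abbrev sp1954 : Pt := (Pt.mk D1.c1 D2.c11 D3.c16)
abbrev sq1954 : Qt rels S := P sp1954
abbrev sp2004 : Pt := (Pt.mk D1.c1 D2.c12 D3.c15)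
abbrev sq2004 : Qt rels S := P sp2004
abbrev sp2011 : Pt := (Pt.mk D1.c1 D2.c12 D3.c22)
abbrev sq2011 : Qt rels S := P sp2011
abbrev sp2036 : Pt := (Pt.mk D1.c1 D2.c12 D3.c47)
abbrev sq2036 : Qt rels S := P sp2036
abbrev sp2038 : Pt := (Pt.mk D1.c1 D2.c12 D3.c49)
abbrev sq2038 : Qt rels S := P sp2038
abbrev sp2049 : Pt := (Pt.mk D1.c1 D2.c13 D3.c9)
abbrev sq2049 : Qt rels S := P sp2049
abbrev sp2058 : Pt := (Pt.mk D1.c1 D2.c13 D3.c18)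
abbrev sq2058 : Qt rels S := P sp2058
abbrev sp2060 : Pt := (Pt.mk D1.c1 D2.c13 D3.c20)
abbrev sq2060 : Qt rels S := P sp2060
abbrev sp2063 : Pt := (Pt.mk D1.c1 D2.c13 D3.c23)
abbrev sq2063 : Qt rels S := P sp2063
abbrev sp2065 : Pt := (Pt.mk D1.c1 D2.c13 D3.c25)
abbrev sq2065 : Qt rels S := P sp2065
abbrev sp2071 : Pt := (Pt.mk D1.c1 D2.c13 D3.c31)
abbrev sq2071 : Qt rels S := P sp2071
abbrev sp2075 : Pt := (Pt.mk D1.c1 D2.c13 D3.c35)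
abbrev sq2075 : Qt rels S := P sp2075
abbrev sp2102 : Pt := (Pt.mk D1.c1 D2.c14 D3.c11)
abbrev sq2102 : Qt rels S := P sp2102
abbrev sp2105 : Pt := (Pt.mk D1.c1 D2.c14 D3.c14)
abbrev sq2105 : Qt rels S := P sp2105
abbrev sp2135 : Pt := (Pt.mk D1.c1 D2.c14 D3.c44)
abbrev sq2135 : Qt rels S := P sp2135
abbrev sp2189 : Pt := (Pt.mk D1.c1 D2.c15 D3.c47)
abbrev sq2189 : Qt rels S := P sp2189
abbrev sp2190 : Pt := (Pt.mk D1.c1 D2.c15 D3.c48)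
abbrev sq2190 : Qt rels S := P sp2190
abbrev sp2191 : Pt := (Pt.mk D1.c1 D2.c15 D3.c49)
abbrev sq2191 : Qt rels S := P sp2191
abbrev sp2196 : Pt := (Pt.mk D1.c1 D2.c16 D3.c3)
abbrev sq2196 : Qt rels S := P sp2196
abbrev sp2197 : Pt := (Pt.mk D1.c1 D2.c16 D3.c4)
abbrev sq2197 : Qt rels S := P sp2197
abbrev sp2200 : Pt := (Pt.mk D1.c1 D2.c16 D3.c7)
abbrev sq2200 : Qt rels S := P sp2200
abbrev sp2238 : Pt := (Pt.mk D1.c1 D2.c16 D3.c45)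
abbrev sq2238 : Qt rels S := P sp2238
abbrev sp2243 : Pt := (Pt.mk D1.c1 D2.c16 D3.c50)
abbrev sq2243 : Qt rels S := P sp2243
abbrev sp2250 : Pt := (Pt.mk D1.c1 D2.c17 D3.c6)
abbrev sq2250 : Qt rels S := P sp2250
abbrev sp2251 : Pt := (Pt.mk D1.c1 D2.c17 D3.c7)
abbrev sq2251 : Qt rels S := P sp2251
abbrev sp2253 : Pt := (Pt.mk D1.c1 D2.c17 D3.c9)
abbrev sq2253 : Qt rels S := P sp2253
abbrev sp2266 : Pt := (Pt.mk D1.c1 D2.c17 D3.c22)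
abbrev sq2266 : Qt rels S := P sp2266
abbrev sp2271 : Pt := (Pt.mk D1.c1 D2.c17 D3.c27)
abbrev sq2271 : Qt rels S := P sp2271
abbrev sp2338 : Pt := (Pt.mk D1.c1 D2.c18 D3.c43)
abbrev sq2338 : Qt rels S := P sp2338
abbrev sp2471 : Pt := (Pt.mk D1.c1 D2.c21 D3.c23)
abbrev sq2471 : Qt rels S := P sp2471
abbrev sp2472 : Pt := (Pt.mk D1.c1 D2.c21 D3.c24)
abbrev sq2472 : Qt rels S := P sp2472
abbrev sp2480 : Pt := (Pt.mk D1.c1 D2.c21 D3.c32)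
abbrev sq2480 : Qt rels S := P sp2480
abbrev sp2487 : Pt := (Pt.mk D1.c1 D2.c21 D3.c39)
abbrev sq2487 : Qt rels S := P sp2487
abbrev sp2538 : Pt := (Pt.mk D1.c1 D2.c22 D3.c39)
abbrev sq2538 : Qt rels S := P sp2538
abbrev sp2540 : Pt := (Pt.mk D1.c1 D2.c22 D3.c41)
abbrev sq2540 : Qt rels S := P sp2540
abbrev sp2566 : Pt := (Pt.mk D1.c1 D2.c23 D3.c16)
abbrev sq2566 : Qt rels S := P sp2566
abbrev sp2572 : Pt := (Pt.mk D1.c1 D2.c23 D3.c22)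
abbrev sq2572 : Qt rels S := P sp2572
abbrev sp2573 : Pt := (Pt.mk D1.c1 D2.c23 D3.c23)
abbrev sq2573 : Qt rels S := P sp2573
abbrev sp2604 : Pt := (Pt.mk D1.c1 D2.c24 D3.c3)
abbrev sq2604 : Qt rels S := P sp2604
abbrev sp2608 : Pt := (Pt.mk D1.c1 D2.c24 D3.c7)
abbrev sq2608 : Qt rels S := P sp2608
abbrev sp2625 : Pt := (Pt.mk D1.c1 D2.c24 D3.c24)
abbrev sq2625 : Qt rels S := P sp2625
abbrev sp2627 : Pt := (Pt.mk D1.c1 D2.c24 D3.c26)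
abbrev sq2627 : Qt rels S := P sp2627
abbrev sp2632 : Pt := (Pt.mk D1.c1 D2.c24 D3.c31)
abbrev sq2632 : Qt rels S := P sp2632
abbrev sp2642 : Pt := (Pt.mk D1.c1 D2.c24 D3.c41)
abbrev sq2642 : Qt rels S := P sp2642
abbrev sp2713 : Pt := (Pt.mk D1.c1 D2.c26 D3.c10)
abbrev sq2713 : Qt rels S := P sp2713
abbrev sp2716 : Pt := (Pt.mk D1.c1 D2.c26 D3.c13)
abbrev sq2716 : Qt rels S := P sp2716
abbrev sp2721 : Pt := (Pt.mk D1.c1 D2.c26 D3.c18)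
abbrev sq2721 : Qt rels S := P sp2721
abbrev sp2727 : Pt := (Pt.mk D1.c1 D2.c26 D3.c24)
abbrev sq2727 : Qt rels S := P sp2727
abbrev sp2763 : Pt := (Pt.mk D1.c2 D2.c0 D3.c9)
abbrev sq2763 : Qt rels S := P sp2763
abbrev sp2768 : Pt := (Pt.mk D1.c2 D2.c0 D3.c14)
abbrev sq2768 : Qt rels S := P sp2768
abbrev sp2783 : Pt := (Pt.mk D1.c2 D2.c0 D3.c29)
abbrev sq2783 : Qt rels S := P sp2783
abbrev sp2790 : Pt := (Pt.mk D1.c2 D2.c0 D3.c36)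
abbrev sq2790 : Qt rels S := P sp2790
abbrev sp2795 : Pt := (Pt.mk D1.c2 D2.c0 D3.c41)
abbrev sq2795 : Qt rels S := P sp2795
abbrev sp2802 : Pt := (Pt.mk D1.c2 D2.c0 D3.c48)
abbrev sq2802 : Qt rels S := P sp2802
abbrev sp2804 : Pt := (Pt.mk D1.c2 D2.c0 D3.c50)
abbrev sq2804 : Qt rels S := P sp2804
abbrev sp2808 : Pt := (Pt.mk D1.c2 D2.c1 D3.c3)
abbrev sq2808 : Qt rels S := P sp2808
abbrev sp2815 : Pt := (Pt.mk D1.c2 D2.c1 D3.c10)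
abbrev sq2815 : Qt rels S := P sp2815
abbrev sp2856 : Pt := (Pt.mk D1.c2 D2.c2 D3.c0)
abbrev sq2856 : Qt rels S := P sp2856
abbrev sp2862 : Pt := (Pt.mk D1.c2 D2.c2 D3.c6)
abbrev sq2862 : Qt rels S := P sp2862
abbrev sp2887 : Pt := (Pt.mk D1.c2 D2.c2 D3.c31)
abbrev sq2887 : Qt rels S := P sp2887
abbrev sp2963 : Pt := (Pt.mk D1.c2 D2.c4 D3.c5)
abbrev sq2963 : Qt rels S := P sp2963
abbrev sp2964 : Pt := (Pt.mk D1.c2 D2.c4 D3.c6)
abbrev sq2964 : Qt rels S := P sp2964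
abbrev sp2966 : Pt := (Pt.mk D1.c2 D2.c4 D3.c8)
abbrev sq2966 : Qt rels S := P sp2966
abbrev sp2974 : Pt := (Pt.mk D1.c2 D2.c4 D3.c16)
abbrev sq2974 : Qt rels S := P sp2974
abbrev sp2977 : Pt := (Pt.mk D1.c2 D2.c4 D3.c19)
abbrev sq2977 : Qt rels S := P sp2977
abbrev sp2981 : Pt := (Pt.mk D1.c2 D2.c4 D3.c23)
abbrev sq2981 : Qt rels S := P sp2981
abbrev sp2984 : Pt := (Pt.mk D1.c2 D2.c4 D3.c26)
abbrev sq2984 : Qt rels S := P sp2984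
abbrev sp3033 : Pt := (Pt.mk D1.c2 D2.c5 D3.c24)
abbrev sq3033 : Qt rels S := P sp3033
abbrev sp3035 : Pt := (Pt.mk D1.c2 D2.c5 D3.c26)
abbrev sq3035 : Qt rels S := P sp3035
abbrev sp3038 : Pt := (Pt.mk D1.c2 D2.c5 D3.c29)
abbrev sq3038 : Qt rels S := P sp3038
abbrev sp3046 : Pt := (Pt.mk D1.c2 D2.c5 D3.c37)
abbrev sq3046 : Qt rels S := P sp3046
abbrev sp3048 : Pt := (Pt.mk D1.c2 D2.c5 D3.c39)
abbrev sq3048 : Qt rels S := P sp3048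
abbrev sp3049 : Pt := (Pt.mk D1.c2 D2.c5 D3.c40)
abbrev sq3049 : Qt rels S := P sp3049
abbrev sp3075 : Pt := (Pt.mk D1.c2 D2.c6 D3.c15)
abbrev sq3075 : Qt rels S := P sp3075
abbrev sp3148 : Pt := (Pt.mk D1.c2 D2.c7 D3.c37)
abbrev sq3148 : Qt rels S := P sp3148
abbrev sp3286 : Pt := (Pt.mk D1.c2 D2.c10 D3.c22)
abbrev sq3286 : Qt rels S := P sp3286
abbrev sp3290 : Pt := (Pt.mk D1.c2 D2.c10 D3.c26)
abbrev sq3290 : Qt rels S := P sp3290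
abbrev sp3341 : Pt := (Pt.mk D1.c2 D2.c11 D3.c26)
abbrev sq3341 : Qt rels S := P sp3341
abbrev sp3342 : Pt := (Pt.mk D1.c2 D2.c11 D3.c27)
abbrev sq3342 : Qt rels S := P sp3342
abbrev sp3343 : Pt := (Pt.mk D1.c2 D2.c11 D3.c28)
abbrev sq3343 : Qt rels S := P sp3343
abbrev sp3344 : Pt := (Pt.mk D1.c2 D2.c11 D3.c29)
abbrev sq3344 : Qt rels S := P sp3344
abbrev sp3440 : Pt := (Pt.mk D1.c2 D2.c13 D3.c23)
abbrev sq3440 : Qt rels S := P sp3440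
abbrev sp3447 : Pt := (Pt.mk D1.c2 D2.c13 D3.c30)
abbrev sq3447 : Qt rels S := P sp3447
abbrev sp3450 : Pt := (Pt.mk D1.c2 D2.c13 D3.c33)
abbrev sq3450 : Qt rels S := P sp3450
abbrev sp3471 : Pt := (Pt.mk D1.c2 D2.c14 D3.c3)
abbrev sq3471 : Qt rels S := P sp3471
abbrev sp3472 : Pt := (Pt.mk D1.c2 D2.c14 D3.c4)
abbrev sq3472 : Qt rels S := P sp3472
abbrev sp3478 : Pt := (Pt.mk D1.c2 D2.c14 D3.c10)
abbrev sq3478 : Qt rels S := P sp3478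
abbrev sp3490 : Pt := (Pt.mk D1.c2 D2.c14 D3.c22)
abbrev sq3490 : Qt rels S := P sp3490
abbrev sp3582 : Pt := (Pt.mk D1.c2 D2.c16 D3.c12)
abbrev sq3582 : Qt rels S := P sp3582
abbrev sp3585 : Pt := (Pt.mk D1.c2 D2.c16 D3.c15)
abbrev sq3585 : Qt rels S := P sp3585
abbrev sp3598 : Pt := (Pt.mk D1.c2 D2.c16 D3.c28)
abbrev sq3598 : Qt rels S := P sp3598
abbrev sp3606 : Pt := (Pt.mk D1.c2 D2.c16 D3.c36)
abbrev sq3606 : Qt rels S := P sp3606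
abbrev sp3660 : Pt := (Pt.mk D1.c2 D2.c17 D3.c39)
abbrev sq3660 : Qt rels S := P sp3660
abbrev sp3663 : Pt := (Pt.mk D1.c2 D2.c17 D3.c42)
abbrev sq3663 : Qt rels S := P sp3663
abbrev sp3667 : Pt := (Pt.mk D1.c2 D2.c17 D3.c46)
abbrev sq3667 : Qt rels S := P sp3667
abbrev sp3688 : Pt := (Pt.mk D1.c2 D2.c18 D3.c16)
abbrev sq3688 : Qt rels S := P sp3688
abbrev sp3692 : Pt := (Pt.mk D1.c2 D2.c18 D3.c20)
abbrev sq3692 : Qt rels S := P sp3692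
abbrev sp3699 : Pt := (Pt.mk D1.c2 D2.c18 D3.c27)
abbrev sq3699 : Qt rels S := P sp3699
abbrev sp3702 : Pt := (Pt.mk D1.c2 D2.c18 D3.c30)
abbrev sq3702 : Qt rels S := P sp3702
abbrev sp3708 : Pt := (Pt.mk D1.c2 D2.c18 D3.c36)
abbrev sq3708 : Qt rels S := P sp3708
abbrev sp3715 : Pt := (Pt.mk D1.c2 D2.c18 D3.c43)
abbrev sq3715 : Qt rels S := P sp3715
abbrev sp3718 : Pt := (Pt.mk D1.c2 D2.c18 D3.c46)
abbrev sq3718 : Qt rels S := P sp3718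
abbrev sp3726 : Pt := (Pt.mk D1.c2 D2.c19 D3.c3)
abbrev sq3726 : Qt rels S := P sp3726
abbrev sp3735 : Pt := (Pt.mk D1.c2 D2.c19 D3.c12)
abbrev sq3735 : Qt rels S := P sp3735
abbrev sp3791 : Pt := (Pt.mk D1.c2 D2.c20 D3.c17)
abbrev sq3791 : Qt rels S := P sp3791
abbrev sp3834 : Pt := (Pt.mk D1.c2 D2.c21 D3.c9)
abbrev sq3834 : Qt rels S := P sp3834
abbrev sp3939 : Pt := (Pt.mk D1.c2 D2.c23 D3.c12)
abbrev sq3939 : Qt rels S := P sp3939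
abbrev sp3940 : Pt := (Pt.mk D1.c2 D2.c23 D3.c13)
abbrev sq3940 : Qt rels S := P sp3940
abbrev sp3945 : Pt := (Pt.mk D1.c2 D2.c23 D3.c18)
abbrev sq3945 : Qt rels S := P sp3945
abbrev sp3950 : Pt := (Pt.mk D1.c2 D2.c23 D3.c23)
abbrev sq3950 : Qt rels S := P sp3950
abbrev sp4010 : Pt := (Pt.mk D1.c2 D2.c24 D3.c32)
abbrev sq4010 : Qt rels S := P sp4010
abbrev sp4016 : Pt := (Pt.mk D1.c2 D2.c24 D3.c38)
abbrev sq4016 : Qt rels S := P sp4016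
abbrev sp4024 : Pt := (Pt.mk D1.c2 D2.c24 D3.c46)
abbrev sq4024 : Qt rels S := P sp4024
abbrev sp4029 : Pt := (Pt.mk D1.c2 D2.c25 D3.c0)
abbrev sq4029 : Qt rels S := P sp4029
abbrev sp4051 : Pt := (Pt.mk D1.c2 D2.c25 D3.c22)
abbrev sq4051 : Qt rels S := P sp4051
abbrev sp4126 : Pt := (Pt.mk D1.c2 D2.c26 D3.c46)
abbrev sq4126 : Qt rels S := P sp4126
abbrev sp4267 : Pt := (Pt.mk D1.c3 D2.c2 D3.c34)
abbrev sq4267 : Qt rels S := P sp4267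
abbrev sp4268 : Pt := (Pt.mk D1.c3 D2.c2 D3.c35)
abbrev sq4268 : Qt rels S := P sp4268
abbrev sp4272 : Pt := (Pt.mk D1.c3 D2.c2 D3.c39)
abbrev sq4272 : Qt rels S := P sp4272
abbrev sp4345 : Pt := (Pt.mk D1.c3 D2.c4 D3.c10)
abbrev sq4345 : Qt rels S := P sp4345
abbrev sp4415 : Pt := (Pt.mk D1.c3 D2.c5 D3.c29)
abbrev sq4415 : Qt rels S := P sp4415
abbrev sp4428 : Pt := (Pt.mk D1.c3 D2.c5 D3.c42)
abbrev sq4428 : Qt rels S := P sp4428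
abbrev sp4432 : Pt := (Pt.mk D1.c3 D2.c5 D3.c46)
abbrev sq4432 : Qt rels S := P sp4432
abbrev sp4448 : Pt := (Pt.mk D1.c3 D2.c6 D3.c11)
abbrev sq4448 : Qt rels S := P sp4448
abbrev sp4462 : Pt := (Pt.mk D1.c3 D2.c6 D3.c25)
abbrev sq4462 : Qt rels S := P sp4462
abbrev sp4470 : Pt := (Pt.mk D1.c3 D2.c6 D3.c33)
abbrev sq4470 : Qt rels S := P sp4470
abbrev sp4479 : Pt := (Pt.mk D1.c3 D2.c6 D3.c42)
abbrev sq4479 : Qt rels S := P sp4479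
abbrev sp4485 : Pt := (Pt.mk D1.c3 D2.c6 D3.c48)
abbrev sq4485 : Qt rels S := P sp4485
abbrev sp4615 : Pt := (Pt.mk D1.c3 D2.c9 D3.c25)
abbrev sq4615 : Qt rels S := P sp4615
abbrev sp4619 : Pt := (Pt.mk D1.c3 D2.c9 D3.c29)
abbrev sq4619 : Qt rels S := P sp4619
abbrev sp4638 : Pt := (Pt.mk D1.c3 D2.c9 D3.c48)
abbrev sq4638 : Qt rels S := P sp4638
abbrev sp4642 : Pt := (Pt.mk D1.c3 D2.c10 D3.c1)
abbrev sq4642 : Qt rels S := P sp4642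
abbrev sp4651 : Pt := (Pt.mk D1.c3 D2.c10 D3.c10)
abbrev sq4651 : Qt rels S := P sp4651
abbrev sp4734 : Pt := (Pt.mk D1.c3 D2.c11 D3.c42)
abbrev sq4734 : Qt rels S := P sp4734
abbrev sp4740 : Pt := (Pt.mk D1.c3 D2.c11 D3.c48)
abbrev sq4740 : Qt rels S := P sp4740
abbrev sp4744 : Pt := (Pt.mk D1.c3 D2.c12 D3.c1)
abbrev sq4744 : Qt rels S := P sp4744
abbrev sp4758 : Pt := (Pt.mk D1.c3 D2.c12 D3.c15)
abbrev sq4758 : Qt rels S := P sp4758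
abbrev sp4763 : Pt := (Pt.mk D1.c3 D2.c12 D3.c20)
abbrev sq4763 : Qt rels S := P sp4763
abbrev sp4764 : Pt := (Pt.mk D1.c3 D2.c12 D3.c21)
abbrev sq4764 : Qt rels S := P sp4764
abbrev sp4770 : Pt := (Pt.mk D1.c3 D2.c12 D3.c27)
abbrev sq4770 : Qt rels S := P sp4770
abbrev sp4790 : Pt := (Pt.mk D1.c3 D2.c12 D3.c47)
abbrev sq4790 : Qt rels S := P sp4790
abbrev sp4806 : Pt := (Pt.mk D1.c3 D2.c13 D3.c12)
abbrev sq4806 : Qt rels S := P sp4806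
abbrev sp4820 : Pt := (Pt.mk D1.c3 D2.c13 D3.c26)
abbrev sq4820 : Qt rels S := P sp4820
abbrev sp4832 : Pt := (Pt.mk D1.c3 D2.c13 D3.c38)
abbrev sq4832 : Qt rels S := P sp4832
abbrev sp4911 : Pt := (Pt.mk D1.c3 D2.c15 D3.c15)
abbrev sq4911 : Qt rels S := P sp4911
abbrev sp4961 : Pt := (Pt.mk D1.c3 D2.c16 D3.c14)
abbrev sq4961 : Qt rels S := P sp4961
abbrev sp5070 : Pt := (Pt.mk D1.c3 D2.c18 D3.c21)
abbrev sq5070 : Qt rels S := P sp5070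
abbrev sp5133 : Pt := (Pt.mk D1.c3 D2.c19 D3.c33)
abbrev sq5133 : Qt rels S := P sp5133
abbrev sp5141 : Pt := (Pt.mk D1.c3 D2.c19 D3.c41)
abbrev sq5141 : Qt rels S := P sp5141
abbrev sp5162 : Pt := (Pt.mk D1.c3 D2.c20 D3.c11)
abbrev sq5162 : Qt rels S := P sp5162
abbrev sp5183 : Pt := (Pt.mk D1.c3 D2.c20 D3.c32)
abbrev sq5183 : Qt rels S := P sp5183
abbrev sp5248 : Pt := (Pt.mk D1.c3 D2.c21 D3.c46)
abbrev sq5248 : Qt rels S := P sp5248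
abbrev sp5340 : Pt := (Pt.mk D1.c3 D2.c23 D3.c36)
abbrev sq5340 : Qt rels S := P sp5340
abbrev sp5343 : Pt := (Pt.mk D1.c3 D2.c23 D3.c39)
abbrev sq5343 : Qt rels S := P sp5343
abbrev sp5449 : Pt := (Pt.mk D1.c3 D2.c25 D3.c43)
abbrev sq5449 : Qt rels S := P sp5449
abbrev sp5560 : Pt := (Pt.mk D1.c4 D2.c1 D3.c1)
abbrev sq5560 : Qt rels S := P sp5560
abbrev sp5581 : Pt := (Pt.mk D1.c4 D2.c1 D3.c22)
abbrev sq5581 : Qt rels S := P sp5581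
abbrev sp5586 : Pt := (Pt.mk D1.c4 D2.c1 D3.c27)
abbrev sq5586 : Qt rels S := P sp5586
abbrev sp5609 : Pt := (Pt.mk D1.c4 D2.c1 D3.c50)
abbrev sq5609 : Qt rels S := P sp5609
abbrev sp5634 : Pt := (Pt.mk D1.c4 D2.c2 D3.c24)
abbrev sq5634 : Qt rels S := P sp5634
abbrev sp5644 : Pt := (Pt.mk D1.c4 D2.c2 D3.c34)
abbrev sq5644 : Qt rels S := P sp5644
abbrev sp5826 : Pt := (Pt.mk D1.c4 D2.c6 D3.c12)
abbrev sq5826 : Qt rels S := P sp5826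
abbrev sp5833 : Pt := (Pt.mk D1.c4 D2.c6 D3.c19)
abbrev sq5833 : Qt rels S := P sp5833
abbrev sp5858 : Pt := (Pt.mk D1.c4 D2.c6 D3.c44)
abbrev sq5858 : Qt rels S := P sp5858
abbrev sp5864 : Pt := (Pt.mk D1.c4 D2.c6 D3.c50)
abbrev sq5864 : Qt rels S := P sp5864
abbrev sp5866 : Pt := (Pt.mk D1.c4 D2.c7 D3.c1)
abbrev sq5866 : Qt rels S := P sp5866
abbrev sp5870 : Pt := (Pt.mk D1.c4 D2.c7 D3.c5)
abbrev sq5870 : Qt rels S := P sp5870
abbrev sp5998 : Pt := (Pt.mk D1.c4 D2.c9 D3.c31)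
abbrev sq5998 : Qt rels S := P sp5998
abbrev sp5999 : Pt := (Pt.mk D1.c4 D2.c9 D3.c32)
abbrev sq5999 : Qt rels S := P sp5999
abbrev sp6003 : Pt := (Pt.mk D1.c4 D2.c9 D3.c36)
abbrev sq6003 : Qt rels S := P sp6003
abbrev sp6041 : Pt := (Pt.mk D1.c4 D2.c10 D3.c23)
abbrev sq6041 : Qt rels S := P sp6041
abbrev sp6049 : Pt := (Pt.mk D1.c4 D2.c10 D3.c31)
abbrev sq6049 : Qt rels S := P sp6049
abbrev sp6073 : Pt := (Pt.mk D1.c4 D2.c11 D3.c4)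
abbrev sq6073 : Qt rels S := P sp6073
abbrev sp6093 : Pt := (Pt.mk D1.c4 D2.c11 D3.c24)
abbrev sq6093 : Qt rels S := P sp6093
abbrev sp6103 : Pt := (Pt.mk D1.c4 D2.c11 D3.c34)
abbrev sq6103 : Qt rels S := P sp6103
abbrev sp6128 : Pt := (Pt.mk D1.c4 D2.c12 D3.c8)
abbrev sq6128 : Qt rels S := P sp6128
abbrev sp6229 : Pt := (Pt.mk D1.c4 D2.c14 D3.c7)
abbrev sq6229 : Qt rels S := P sp6229
abbrev sp6372 : Pt := (Pt.mk D1.c4 D2.c16 D3.c48)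
abbrev sq6372 : Qt rels S := P sp6372
abbrev sp6414 : Pt := (Pt.mk D1.c4 D2.c17 D3.c39)
abbrev sq6414 : Qt rels S := P sp6414
abbrev sp6421 : Pt := (Pt.mk D1.c4 D2.c17 D3.c46)
abbrev sq6421 : Qt rels S := P sp6421
abbrev sp6432 : Pt := (Pt.mk D1.c4 D2.c18 D3.c6)
abbrev sq6432 : Qt rels S := P sp6432
abbrev sp6435 : Pt := (Pt.mk D1.c4 D2.c18 D3.c9)
abbrev sq6435 : Qt rels S := P sp6435
abbrev sp6454 : Pt := (Pt.mk D1.c4 D2.c18 D3.c28)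
abbrev sq6454 : Qt rels S := P sp6454
abbrev sp6619 : Pt := (Pt.mk D1.c4 D2.c21 D3.c40)
abbrev sq6619 : Qt rels S := P sp6619
abbrev sp6929 : Pt := (Pt.mk D1.c5 D2.c0 D3.c44)
abbrev sq6929 : Qt rels S := P sp6929
abbrev sp6932 : Pt := (Pt.mk D1.c5 D2.c0 D3.c47)
abbrev sq6932 : Qt rels S := P sp6932
abbrev sp6974 : Pt := (Pt.mk D1.c5 D2.c1 D3.c38)
abbrev sq6974 : Qt rels S := P sp6974
abbrev sp7008 : Pt := (Pt.mk D1.c5 D2.c2 D3.c21)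
abbrev sq7008 : Qt rels S := P sp7008
abbrev sp7048 : Pt := (Pt.mk D1.c5 D2.c3 D3.c10)
abbrev sq7048 : Qt rels S := P sp7048
abbrev sp7253 : Pt := (Pt.mk D1.c5 D2.c7 D3.c11)
abbrev sq7253 : Qt rels S := P sp7253
abbrev sp7262 : Pt := (Pt.mk D1.c5 D2.c7 D3.c20)
abbrev sq7262 : Qt rels S := P sp7262
abbrev sp7308 : Pt := (Pt.mk D1.c5 D2.c8 D3.c15)
abbrev sq7308 : Qt rels S := P sp7308
abbrev sp7316 : Pt := (Pt.mk D1.c5 D2.c8 D3.c23)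
abbrev sq7316 : Qt rels S := P sp7316
abbrev sp7484 : Pt := (Pt.mk D1.c5 D2.c11 D3.c38)
abbrev sq7484 : Qt rels S := P sp7484
abbrev sp7494 : Pt := (Pt.mk D1.c5 D2.c11 D3.c48)
abbrev sq7494 : Qt rels S := P sp7494
abbrev sp7500 : Pt := (Pt.mk D1.c5 D2.c12 D3.c3)
abbrev sq7500 : Qt rels S := P sp7500
abbrev sp7544 : Pt := (Pt.mk D1.c5 D2.c12 D3.c47)
abbrev sq7544 : Qt rels S := P sp7544
abbrev sp7551 : Pt := (Pt.mk D1.c5 D2.c13 D3.c3)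
abbrev sq7551 : Qt rels S := P sp7551
abbrev sp7554 : Pt := (Pt.mk D1.c5 D2.c13 D3.c6)
abbrev sq7554 : Qt rels S := P sp7554
abbrev sp7616 : Pt := (Pt.mk D1.c5 D2.c14 D3.c17)
abbrev sq7616 : Qt rels S := P sp7616
abbrev sp7659 : Pt := (Pt.mk D1.c5 D2.c15 D3.c9)
abbrev sq7659 : Qt rels S := P sp7659
abbrev sp7774 : Pt := (Pt.mk D1.c5 D2.c17 D3.c22)
abbrev sq7774 : Qt rels S := P sp7774
abbrev sp7876 : Pt := (Pt.mk D1.c5 D2.c19 D3.c22)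
abbrev sq7876 : Qt rels S := P sp7876
abbrev sp7911 : Pt := (Pt.mk D1.c5 D2.c20 D3.c6)
abbrev sq7911 : Qt rels S := P sp7911
abbrev sp7914 : Pt := (Pt.mk D1.c5 D2.c20 D3.c9)
abbrev sq7914 : Qt rels S := P sp7914
abbrev sp7944 : Pt := (Pt.mk D1.c5 D2.c20 D3.c39)
abbrev sq7944 : Qt rels S := P sp7944
abbrev sp8043 : Pt := (Pt.mk D1.c5 D2.c22 D3.c36)
abbrev sq8043 : Qt rels S := P sp8043
abbrev sp8256 : Pt := (Pt.mk D1.c5 D2.c26 D3.c45)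
abbrev sq8256 : Qt rels S := P sp8256
abbrev sp8471 : Pt := (Pt.mk D1.c6 D2.c4 D3.c5)
abbrev sq8471 : Qt rels S := P sp8471
abbrev sp8475 : Pt := (Pt.mk D1.c6 D2.c4 D3.c9)
abbrev sq8475 : Qt rels S := P sp8475
abbrev sp8541 : Pt := (Pt.mk D1.c6 D2.c5 D3.c24)
abbrev sq8541 : Qt rels S := P sp8541
abbrev sp8591 : Pt := (Pt.mk D1.c6 D2.c6 D3.c23)
abbrev sq8591 : Qt rels S := P sp8591
abbrev sp8705 : Pt := (Pt.mk D1.c6 D2.c8 D3.c35)
abbrev sq8705 : Qt rels S := P sp8705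
abbrev sp8934 : Pt := (Pt.mk D1.c6 D2.c13 D3.c9)
abbrev sq8934 : Qt rels S := P sp8934
abbrev sp8942 : Pt := (Pt.mk D1.c6 D2.c13 D3.c17)
abbrev sq8942 : Qt rels S := P sp8942
abbrev sp9173 : Pt := (Pt.mk D1.c6 D2.c17 D3.c44)
abbrev sq9173 : Qt rels S := P sp9173
abbrev sp9180 : Pt := (Pt.mk D1.c6 D2.c18 D3.c0)
abbrev sq9180 : Qt rels S := P sp9180
abbrev sp9210 : Pt := (Pt.mk D1.c6 D2.c18 D3.c30)
abbrev sq9210 : Qt rels S := P sp9210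
abbrev sp9258 : Pt := (Pt.mk D1.c6 D2.c19 D3.c27)
abbrev sq9258 : Qt rels S := P sp9258
abbrev sp9259 : Pt := (Pt.mk D1.c6 D2.c19 D3.c28)
abbrev sq9259 : Qt rels S := P sp9259
abbrev sp9268 : Pt := (Pt.mk D1.c6 D2.c19 D3.c37)
abbrev sq9268 : Qt rels S := P sp9268
abbrev sp9335 : Pt := (Pt.mk D1.c6 D2.c21 D3.c2)
abbrev sq9335 : Qt rels S := P sp9335
abbrev sp9336 : Pt := (Pt.mk D1.c6 D2.c21 D3.c3)
abbrev sq9336 : Qt rels S := P sp9336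
abbrev sp9349 : Pt := (Pt.mk D1.c6 D2.c21 D3.c16)
abbrev sq9349 : Qt rels S := P sp9349
abbrev sp9394 : Pt := (Pt.mk D1.c6 D2.c22 D3.c10)
abbrev sq9394 : Qt rels S := P sp9394
abbrev sp9395 : Pt := (Pt.mk D1.c6 D2.c22 D3.c11)
abbrev sq9395 : Qt rels S := P sp9395
abbrev sp9650 : Pt := (Pt.mk D1.c7 D2.c0 D3.c11)
abbrev sq9650 : Qt rels S := P sp9650
abbrev sp9756 : Pt := (Pt.mk D1.c7 D2.c2 D3.c15)
abbrev sq9756 : Qt rels S := P sp9756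
abbrev sp9998 : Pt := (Pt.mk D1.c7 D2.c7 D3.c2)
abbrev sq9998 : Qt rels S := P sp9998
abbrev sp10309 : Pt := (Pt.mk D1.c7 D2.c13 D3.c7)
abbrev sq10309 : Qt rels S := P sp10309
abbrev sp10314 : Pt := (Pt.mk D1.c7 D2.c13 D3.c12)
abbrev sq10314 : Qt rels S := P sp10314
abbrev sp10315 : Pt := (Pt.mk D1.c7 D2.c13 D3.c13)
abbrev sq10315 : Qt rels S := P sp10315
abbrev sp10398 : Pt := (Pt.mk D1.c7 D2.c14 D3.c45)
abbrev sq10398 : Qt rels S := P sp10398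
abbrev sp10602 : Pt := (Pt.mk D1.c7 D2.c18 D3.c45)
abbrev sq10602 : Qt rels S := P sp10602
abbrev sp10791 : Pt := (Pt.mk D1.c7 D2.c22 D3.c30)
abbrev sq10791 : Qt rels S := P sp10791
abbrev sp10851 : Pt := (Pt.mk D1.c7 D2.c23 D3.c39)
abbrev sq10851 : Qt rels S := P sp10851
abbrev sp10860 : Pt := (Pt.mk D1.c7 D2.c23 D3.c48)
abbrev sq10860 : Qt rels S := P sp10860
abbrev sp11139 : Pt := (Pt.mk D1.c8 D2.c2 D3.c21)
abbrev sq11139 : Qt rels S := P sp11139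
abbrev sp11152 : Pt := (Pt.mk D1.c8 D2.c2 D3.c34)
abbrev sq11152 : Qt rels S := P sp11152
abbrev sp11188 : Pt := (Pt.mk D1.c8 D2.c3 D3.c19)
abbrev sq11188 : Qt rels S := P sp11188
abbrev sp11223 : Pt := (Pt.mk D1.c8 D2.c4 D3.c3)
abbrev sq11223 : Qt rels S := P sp11223
abbrev sp11261 : Pt := (Pt.mk D1.c8 D2.c4 D3.c41)
abbrev sq11261 : Qt rels S := P sp11261
abbrev sp11262 : Pt := (Pt.mk D1.c8 D2.c4 D3.c42)
abbrev sq11262 : Qt rels S := P sp11262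
abbrev sp11338 : Pt := (Pt.mk D1.c8 D2.c6 D3.c16)
abbrev sq11338 : Qt rels S := P sp11338
abbrev sp11922 : Pt := (Pt.mk D1.c8 D2.c17 D3.c39)
abbrev sq11922 : Qt rels S := P sp11922
abbrev sp11989 : Pt := (Pt.mk D1.c8 D2.c19 D3.c4)
abbrev sq11989 : Qt rels S := P sp11989
abbrev sp12393 : Pt := (Pt.mk D1.c9 D2.c0 D3.c0)
abbrev sq12393 : Qt rels S := P sp12393
abbrev sp12394 : Pt := (Pt.mk D1.c9 D2.c0 D3.c1)
abbrev sq12394 : Qt rels S := P sp12394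
abbrev sp12399 : Pt := (Pt.mk D1.c9 D2.c0 D3.c6)
abbrev sq12399 : Qt rels S := P sp12399
abbrev sp12400 : Pt := (Pt.mk D1.c9 D2.c0 D3.c7)
abbrev sq12400 : Qt rels S := P sp12400
abbrev sp12403 : Pt := (Pt.mk D1.c9 D2.c0 D3.c10)
abbrev sq12403 : Qt rels S := P sp12403
abbrev sp12993 : Pt := (Pt.mk D1.c9 D2.c11 D3.c39)
abbrev sq12993 : Qt rels S := P sp12993
abbrev sp12995 : Pt := (Pt.mk D1.c9 D2.c11 D3.c41)
abbrev sq12995 : Qt rels S := P sp12995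
abbrev sp12997 : Pt := (Pt.mk D1.c9 D2.c11 D3.c43)
abbrev sq12997 : Qt rels S := P sp12997
abbrev sp13335 : Pt := (Pt.mk D1.c9 D2.c18 D3.c24)
abbrev sq13335 : Qt rels S := P sp13335
abbrev sp13398 : Pt := (Pt.mk D1.c9 D2.c19 D3.c36)
abbrev sq13398 : Qt rels S := P sp13398
abbrev sp13476 : Pt := (Pt.mk D1.c9 D2.c21 D3.c12)
abbrev sq13476 : Qt rels S := P sp13476
abbrev sp13477 : Pt := (Pt.mk D1.c9 D2.c21 D3.c13)
abbrev sq13477 : Qt rels S := P sp13477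
abbrev sp14149 : Pt := (Pt.mk D1.c10 D2.c7 D3.c22)
abbrev sq14149 : Qt rels S := P sp14149
abbrev sp14629 : Pt := (Pt.mk D1.c10 D2.c16 D3.c43)
abbrev sq14629 : Qt rels S := P sp14629
abbrev sp14635 : Pt := (Pt.mk D1.c10 D2.c16 D3.c49)
abbrev sq14635 : Qt rels S := P sp14635
abbrev sp14696 : Pt := (Pt.mk D1.c10 D2.c18 D3.c8)
abbrev sq14696 : Qt rels S := P sp14696
abbrev sp14856 : Pt := (Pt.mk D1.c10 D2.c21 D3.c15)
abbrev sq14856 : Qt rels S := P sp14856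
abbrev sp15259 : Pt := (Pt.mk D1.c11 D2.c2 D3.c10)
abbrev sq15259 : Qt rels S := P sp15259
abbrev sp15262 : Pt := (Pt.mk D1.c11 D2.c2 D3.c13)
abbrev sq15262 : Qt rels S := P sp15262
abbrev sp15752 : Pt := (Pt.mk D1.c11 D2.c11 D3.c44)
abbrev sq15752 : Qt rels S := P sp15752
abbrev sp15753 : Pt := (Pt.mk D1.c11 D2.c11 D3.c45)
abbrev sq15753 : Qt rels S := P sp15753
abbrev sp16342 : Pt := (Pt.mk D1.c11 D2.c23 D3.c22)
abbrev sq16342 : Qt rels S := P sp16342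
abbrev sp17101 : Pt := (Pt.mk D1.c12 D2.c11 D3.c16)
abbrev sq17101 : Qt rels S := P sp17101
abbrev sp17103 : Pt := (Pt.mk D1.c12 D2.c11 D3.c18)
abbrev sq17103 : Qt rels S := P sp17103
abbrev sp17429 : Pt := (Pt.mk D1.c12 D2.c17 D3.c38)
abbrev sq17429 : Qt rels S := P sp17429
abbrev sp17477 : Pt := (Pt.mk D1.c12 D2.c18 D3.c35)
abbrev sq17477 : Qt rels S := P sp17477
abbrev sp17935 : Pt := (Pt.mk D1.c13 D2.c0 D3.c34)
abbrev sq17935 : Qt rels S := P sp17935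
abbrev sp18443 : Pt := (Pt.mk D1.c13 D2.c10 D3.c32)
abbrev sq18443 : Qt rels S := P sp18443
abbrev sp19192 : Pt := (Pt.mk D1.c13 D2.c25 D3.c16)
abbrev sq19192 : Qt rels S := P sp19192
abbrev sp19194 : Pt := (Pt.mk D1.c13 D2.c25 D3.c18)
abbrev sq19194 : Qt rels S := P sp19194
abbrev sp19525 : Pt := (Pt.mk D1.c14 D2.c4 D3.c43)
abbrev sq19525 : Qt rels S := P sp19525
abbrev sp20335 : Pt := (Pt.mk D1.c14 D2.c20 D3.c37)
abbrev sq20335 : Qt rels S := P sp20335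
abbrev sp21057 : Pt := (Pt.mk D1.c15 D2.c7 D3.c45)
abbrev sq21057 : Qt rels S := P sp21057
def s0_v56 : Qt rels S := ed sl_ct sq1808
def s0_v57 : Qt rels S := ed sl_dt s0_v56
def s0_v58 : Qt rels S := ed sl_it s0_v57
def s0_v59 : Qt rels S := ed sl_ht s0_v58
def s0_v60 : Qt rels S := ed sl_dt s0_v59
def s0_v61 : Qt rels S := ed sl_et s0_v60
def s0_v62 : Qt rels S := ed sl_bt s0_v61
def s0_v63 : Qt rels S := ed sl_ct s0_v62
def s0_v64 : Qt rels S := ed sl_dt s0_v63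
def s0_v65 : Qt rels S := ed sl_it s0_v64
def s0_v66 : Qt rels S := ed sl_ht s0_v65
def s0_v67 : Qt rels S := ed sl_dt s0_v66
def s0_v68 : Qt rels S := ed sl_ft s0_v67
def s0_v69 : Qt rels S := ed sl_et s0_v68
def s0_v70 : Qt rels S := ed sl_dt s0_v69
def s0_v71 : Qt rels S := ed sl_bt s0_v70
def s0_v72 : Qt rels S := ed sl_ct s0_v71
def s0_v73 : Qt rels S := ed sl_dt s0_v72
def s0_v74 : Qt rels S := ed sl_it s0_v73
def s0_v75 : Qt rels S := ed sl_ht s0_v74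
def s0_v76 : Qt rels S := ed sl_dt s0_v75
def s0_v77 : Qt rels S := ed sl_ft s0_v76
def s0_v78 : Qt rels S := ed sl_et s0_v77
def s0_v79 : Qt rels S := ed sl_dt s0_v78
def s0_v80 : Qt rels S := ed sl_bt s0_v79
def s0_v81 : Qt rels S := ed sl_ct s0_v80
def s0_v82 : Qt rels S := ed sl_dt s0_v81
def s0_v83 : Qt rels S := ed sl_it s0_v82
def s0_v84 : Qt rels S := ed sl_ht s0_v83
def s0_v85 : Qt rels S := ed sl_dt s0_v84
def s0_v86 : Qt rels S := ed sl_ft s0_v85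
def s0_v87 : Qt rels S := ed sl_et s0_v86
def s0_v88 : Qt rels S := ed sl_dt s0_v87
def s0_v119 : Qt rels S := ed sl_ht sq443
def s0_v120 : Qt rels S := ed sl_dt s0_v119
def s0_v121 : Qt rels S := ed sl_et s0_v120
def s0_v122 : Qt rels S := ed sl_bt s0_v121
def s0_v123 : Qt rels S := ed sl_ct s0_v122
def s0_v124 : Qt rels S := ed sl_dt s0_v123
def s0_v125 : Qt rels S := ed sl_ht s0_v124
def s0_v126 : Qt rels S := ed sl_ft s0_v125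
def s0_v127 : Qt rels S := ed sl_et s0_v126
def s0_v128 : Qt rels S := ed sl_dt s0_v127
def s0_v129 : Qt rels S := ed sl_bt s0_v128
def s0_v130 : Qt rels S := ed sl_ct s0_v129
def s0_v131 : Qt rels S := ed sl_dt s0_v130
def s0_v132 : Qt rels S := ed sl_it s0_v131
def s0_v133 : Qt rels S := ed sl_ht s0_v132
def s0_v134 : Qt rels S := ed sl_dt s0_v133
def s0_v135 : Qt rels S := ed sl_ft s0_v134
def s0_v136 : Qt rels S := ed sl_et s0_v135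
def s0_v137 : Qt rels S := ed sl_dt s0_v136
def s0_v138 : Qt rels S := ed sl_bt s0_v137
def s0_v139 : Qt rels S := ed sl_ct s0_v138
def s0_v140 : Qt rels S := ed sl_dt s0_v139
def s0_v141 : Qt rels S := ed sl_it s0_v140
def s0_v142 : Qt rels S := ed sl_ht s0_v141
def s0_v143 : Qt rels S := ed sl_dt s0_v142
def s0_v144 : Qt rels S := ed sl_ft s0_v143
def s0_v145 : Qt rels S := ed sl_et s0_v144
def s0_v146 : Qt rels S := ed sl_dt s0_v145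
def s0_v147 : Qt rels S := ed sl_bt s0_v146
def s0_v148 : Qt rels S := ed sl_ct s0_v147
def s0_v149 : Qt rels S := ed sl_dt s0_v148
def s0_v150 : Qt rels S := ed sl_it s0_v149
def s0_v151 : Qt rels S := ed sl_ht s0_v150
def s0_v152 : Qt rels S := ed sl_dt s0_v151
def s0_v153 : Qt rels S := ed sl_ft s0_v152
def s0_v154 : Qt rels S := ed sl_et s0_v153
def s0_v155 : Qt rels S := ed sl_dt s0_v154
def s0_v156 : Qt rels S := ed sl_bt s0_v155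
def s0_v157 : Qt rels S := ed sl_ct s0_v156
def s0_v158 : Qt rels S := ed sl_dt s0_v157
def s0_v159 : Qt rels S := ed sl_it s0_v158
def s0_v162 : Qt rels S := ed sl_bt sq7253
def s0_v163 : Qt rels S := ed sl_ct s0_v162
def s0_v164 : Qt rels S := ed sl_dt s0_v163
def s0_v165 : Qt rels S := ed sl_it s0_v164
def s0_v166 : Qt rels S := ed sl_ht s0_v165
def s0_v167 : Qt rels S := ed sl_dt s0_v166
def s0_v168 : Qt rels S := ed sl_et s0_v167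
def s0_v169 : Qt rels S := ed sl_dt s0_v168
def s0_v170 : Qt rels S := ed sl_bt s0_v169
def s0_v171 : Qt rels S := ed sl_ct s0_v170
def s0_v172 : Qt rels S := ed sl_dt s0_v171
def s0_v173 : Qt rels S := ed sl_it s0_v172
def s0_v174 : Qt rels S := ed sl_ht s0_v173
def s0_v175 : Qt rels S := ed sl_dt s0_v174
def s0_v176 : Qt rels S := ed sl_ft s0_v175
def s0_v177 : Qt rels S := ed sl_et s0_v176
def s0_v178 : Qt rels S := ed sl_dt s0_v177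
def s0_v179 : Qt rels S := ed sl_bt s0_v178
def s0_v180 : Qt rels S := ed sl_ct s0_v179
def s0_v181 : Qt rels S := ed sl_dt s0_v180
def s0_v182 : Qt rels S := ed sl_it s0_v181
def s0_v183 : Qt rels S := ed sl_ht s0_v182
def s0_v184 : Qt rels S := ed sl_dt s0_v183
def s0_v185 : Qt rels S := ed sl_ft s0_v184
def s0_v186 : Qt rels S := ed sl_et s0_v185
def s0_v187 : Qt rels S := ed sl_dt s0_v186
def s0_v188 : Qt rels S := ed sl_bt s0_v187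
def s0_v189 : Qt rels S := ed sl_ct s0_v188
def s0_v190 : Qt rels S := ed sl_dt s0_v189
def s0_v191 : Qt rels S := ed sl_it s0_v190
def s0_v192 : Qt rels S := ed sl_ht s0_v191
def s0_v193 : Qt rels S := ed sl_ct sq3290
def s0_v194 : Qt rels S := ed sl_dt s0_v193
def s0_v195 : Qt rels S := ed sl_ht s0_v194
def s0_v196 : Qt rels S := ed sl_dt s0_v195
def s0_v197 : Qt rels S := ed sl_et s0_v196
def s0_v198 : Qt rels S := ed sl_dt s0_v197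
def s0_v199 : Qt rels S := ed sl_bt s0_v198
def s0_v200 : Qt rels S := ed sl_ct s0_v199
def s0_v201 : Qt rels S := ed sl_dt s0_v200
def s0_v202 : Qt rels S := ed sl_it s0_v201
def s0_v203 : Qt rels S := ed sl_ht s0_v202
def s0_v204 : Qt rels S := ed sl_dt s0_v203
def s0_v205 : Qt rels S := ed sl_ft s0_v204
def s0_v206 : Qt rels S := ed sl_et s0_v205
def s0_v207 : Qt rels S := ed sl_dt s0_v206
def s0_v208 : Qt rels S := ed sl_bt s0_v207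
def s0_v209 : Qt rels S := ed sl_ct s0_v208
def s0_v210 : Qt rels S := ed sl_dt s0_v209
def s0_v211 : Qt rels S := ed sl_it s0_v210
def s0_v212 : Qt rels S := ed sl_ht s0_v211
def s0_v213 : Qt rels S := ed sl_dt s0_v212
def s0_v214 : Qt rels S := ed sl_ft s0_v213
def s0_v215 : Qt rels S := ed sl_et s0_v214
def s0_v216 : Qt rels S := ed sl_dt s0_v215
def s0_v217 : Qt rels S := ed sl_bt s0_v216
def s0_v218 : Qt rels S := ed sl_ct s0_v217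
def s0_v219 : Qt rels S := ed sl_dt s0_v218
def s0_v220 : Qt rels S := ed sl_it s0_v219
def s0_v221 : Qt rels S := ed sl_ht s0_v220
def s0_v222 : Qt rels S := ed sl_dt s0_v221
def s0_v223 : Qt rels S := ed sl_ft s0_v222
def s0_v224 : Qt rels S := ed sl_et s0_v223
def s0_v225 : Qt rels S := ed sl_dt s0_v224
def s0_v226 : Qt rels S := ed sl_bt s0_v225
def s0_v240 : Qt rels S := ed sl_it sq4029
def s0_v241 : Qt rels S := ed sl_ht s0_v240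
def s0_v254 : Qt rels S := ed sl_ct sq344
def s0_v358 : Qt rels S := ed sl_ct s0_v159
def s0_v359 : Qt rels S := ed sl_dt s0_v358
def s0_v360 : Qt rels S := ed sl_ht s0_v154
def s0_v361 : Qt rels S := ed sl_et s0_v360
def s0_v362 : Qt rels S := ed sl_dt s0_v361
def s0_v363 : Qt rels S := ed sl_ct s0_v362
def s0_v364 : Qt rels S := ed sl_it s0_v363
def s0_v365 : Qt rels S := ed sl_ht s0_v364
def s0_v366 : Qt rels S := ed sl_dt s0_v365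
def s0_v367 : Qt rels S := ed sl_ft s0_v366
def s0_v368 : Qt rels S := ed sl_et s0_v367
def s0_v369 : Qt rels S := ed sl_dt s0_v368
def s0_v370 : Qt rels S := ed sl_bt s0_v369
def s0_v371 : Qt rels S := ed sl_ct s0_v370
def s0_v372 : Qt rels S := ed sl_dt s0_v371
def s0_v373 : Qt rels S := ed sl_ht s0_v372
def s0_v374 : Qt rels S := ed sl_dt s0_v373
def s0_v375 : Qt rels S := ed sl_ft s0_v374
def s0_v376 : Qt rels S := ed sl_et s0_v375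
def s0_v377 : Qt rels S := ed sl_dt s0_v376
def s0_v378 : Qt rels S := ed sl_bt s0_v377
def s0_v379 : Qt rels S := ed sl_ct s0_v378
def s0_v380 : Qt rels S := ed sl_dt s0_v379
def s0_v381 : Qt rels S := ed sl_it s0_v380
def s0_v382 : Qt rels S := ed sl_ht s0_v381
def s0_v383 : Qt rels S := ed sl_dt s0_v382
def s0_v384 : Qt rels S := ed sl_ft s0_v383
def s0_v385 : Qt rels S := ed sl_et s0_v384
def s0_v386 : Qt rels S := ed sl_dt s0_v385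
def s0_v387 : Qt rels S := ed sl_bt s0_v386
def s0_v388 : Qt rels S := ed sl_ct s0_v387
def s0_v389 : Qt rels S := ed sl_dt s0_v388
def s0_v390 : Qt rels S := ed sl_it s0_v389
def s0_v391 : Qt rels S := ed sl_ht s0_v390
def s0_v392 : Qt rels S := ed sl_dt s0_v391
def s0_v393 : Qt rels S := ed sl_ft s0_v392
def s0_v419 : Qt rels S := ed sl_dt s0_v226
def s0_v420 : Qt rels S := ed sl_et s0_v419
def s0_v421 : Qt rels S := ed sl_dt s0_v420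
def s0_v502 : Qt rels S := ed sl_it sq6103
def s0_v503 : Qt rels S := ed sl_ht s0_v502
def s0_v504 : Qt rels S := ed sl_dt s0_v503
def s0_v505 : Qt rels S := ed sl_ft s0_v504
def s0_v506 : Qt rels S := ed sl_et s0_v505
def s0_v507 : Qt rels S := ed sl_dt s0_v506
def s0_v508 : Qt rels S := ed sl_bt s0_v507
def s0_v509 : Qt rels S := ed sl_ct s0_v508
def s0_v510 : Qt rels S := ed sl_dt s0_v509
def s0_v511 : Qt rels S := ed sl_it s0_v510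
def s0_v512 : Qt rels S := ed sl_ht s0_v511
def s0_v513 : Qt rels S := ed sl_dt s0_v512
def s0_v514 : Qt rels S := ed sl_ft s0_v513
def s0_v515 : Qt rels S := ed sl_et s0_v514
def s0_v516 : Qt rels S := ed sl_dt s0_v515
def s0_v517 : Qt rels S := ed sl_bt s0_v516
def s0_v518 : Qt rels S := ed sl_ct s0_v517
def s0_v519 : Qt rels S := ed sl_dt s0_v518
def s0_v520 : Qt rels S := ed sl_it s0_v519
def s0_v521 : Qt rels S := ed sl_ht s0_v520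
def s0_v522 : Qt rels S := ed sl_dt s0_v521
def s0_v523 : Qt rels S := ed sl_ft s0_v522
def s0_v524 : Qt rels S := ed sl_et s0_v523
def s0_v525 : Qt rels S := ed sl_dt s0_v524
def s0_v526 : Qt rels S := ed sl_bt s0_v525
def s0_v527 : Qt rels S := ed sl_ct s0_v526
def s0_v528 : Qt rels S := ed sl_dt s0_v527
def s0_v529 : Qt rels S := ed sl_it s0_v528
def s0_v530 : Qt rels S := ed sl_ht s0_v529
def s0_v531 : Qt rels S := ed sl_dt s0_v530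
def s0_v532 : Qt rels S := ed sl_ft s0_v531
def s0_v533 : Qt rels S := ed sl_et s0_v532
def s0_v534 : Qt rels S := ed sl_dt s0_v533
def s0_v535 : Qt rels S := ed sl_bt s0_v534
def s0_v536 : Qt rels S := ed sl_ct s0_v535
def s0_v537 : Qt rels S := ed sl_dt s0_v536
def s0_v538 : Qt rels S := ed sl_it s0_v537
def s0_v539 : Qt rels S := ed sl_ht s0_v538
def s0_v540 : Qt rels S := ed sl_dt s0_v539
def s0_v541 : Qt rels S := ed sl_ft s0_v540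
def s0_v542 : Qt rels S := ed sl_et s0_v541
def s0_v543 : Qt rels S := ed sl_dt s0_v542
def s0_v544 : Qt rels S := ed sl_bt s0_v543
def s0_v545 : Qt rels S := ed sl_ct s0_v544
def s0_v546 : Qt rels S := ed sl_dt s0_v545
def s0_v547 : Qt rels S := ed sl_it sq3049
def s0_v602 : Qt rels S := ed sl_dt s0_v393
def s0_v603 : Qt rels S := ed sl_ct s0_v602
def s0_v604 : Qt rels S := ed sl_ht s0_v603
def s0_v605 : Qt rels S := ed sl_dt s0_v604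
def s0_v606 : Qt rels S := ed sl_ft s0_v605
def s0_v607 : Qt rels S := ed sl_et s0_v606
def s0_v608 : Qt rels S := ed sl_dt s0_v607
def s0_v609 : Qt rels S := ed sl_bt s0_v608
def s0_v610 : Qt rels S := ed sl_ct s0_v609
def s0_v611 : Qt rels S := ed sl_dt s0_v610
def s0_v612 : Qt rels S := ed sl_it s0_v611
def s0_v613 : Qt rels S := ed sl_ht s0_v612
def s0_v614 : Qt rels S := ed sl_dt s0_v613
def s0_v615 : Qt rels S := ed sl_ft s0_v614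
def s0_v616 : Qt rels S := ed sl_et s0_v615
def s0_v617 : Qt rels S := ed sl_dt s0_v616
def s0_v618 : Qt rels S := ed sl_bt s0_v617
def s0_v619 : Qt rels S := ed sl_ct s0_v618
def s0_v620 : Qt rels S := ed sl_dt s0_v619
def s0_v621 : Qt rels S := ed sl_it s0_v620
def s0_v622 : Qt rels S := ed sl_ht s0_v621
def s0_v623 : Qt rels S := ed sl_dt s0_v622
def s0_v624 : Qt rels S := ed sl_ft s0_v623
def s0_v625 : Qt rels S := ed sl_et s0_v624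
def s0_v626 : Qt rels S := ed sl_dt s0_v625
def s0_v627 : Qt rels S := ed sl_bt s0_v626
def s0_v628 : Qt rels S := ed sl_ct s0_v627
def s0_v629 : Qt rels S := ed sl_dt s0_v628
def s0_v630 : Qt rels S := ed sl_it s0_v629
def s0_v631 : Qt rels S := ed sl_ht s0_v630
def s0_v632 : Qt rels S := ed sl_dt s0_v631
def s0_v633 : Qt rels S := ed sl_ft s0_v632
def s0_v634 : Qt rels S := ed sl_et s0_v633
def s0_v635 : Qt rels S := ed sl_dt s0_v634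
def s0_v636 : Qt rels S := ed sl_bt s0_v635
def s0_v637 : Qt rels S := ed sl_ct s0_v636
def s0_v638 : Qt rels S := ed sl_dt s0_v637
def s0_v639 : Qt rels S := ed sl_it s0_v638
def s0_v640 : Qt rels S := ed sl_ht s0_v639
def s0_v641 : Qt rels S := ed sl_dt s0_v640
def s0_v642 : Qt rels S := ed sl_ft s0_v641
def s0_v643 : Qt rels S := ed sl_et s0_v642
def s0_v644 : Qt rels S := ed sl_dt s0_v643
def s0_v767 : Qt rels S := ed sl_et sq7911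
def s0_v768 : Qt rels S := ed sl_bt sq11139
def s0_v769 : Qt rels S := ed sl_ct s0_v768
def s0_v770 : Qt rels S := ed sl_dt s0_v769
def s0_v771 : Qt rels S := ed sl_it s0_v770
def s0_v772 : Qt rels S := ed sl_ht s0_v771
def s0_v773 : Qt rels S := ed sl_dt s0_v772
def s0_v774 : Qt rels S := ed sl_ft s0_v773
def s0_v775 : Qt rels S := ed sl_et s0_v774
def s0_v776 : Qt rels S := ed sl_dt s0_v775
def s0_v777 : Qt rels S := ed sl_bt s0_v776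
def s0_v778 : Qt rels S := ed sl_ct s0_v777
def s0_v779 : Qt rels S := ed sl_dt s0_v778
def s0_v780 : Qt rels S := ed sl_it s0_v779
def s0_v781 : Qt rels S := ed sl_ht s0_v780
def s0_v782 : Qt rels S := ed sl_dt s0_v781
def s0_v783 : Qt rels S := ed sl_ft s0_v782
def s0_v784 : Qt rels S := ed sl_et s0_v783
def s0_v785 : Qt rels S := ed sl_dt s0_v784
def s0_v786 : Qt rels S := ed sl_bt s0_v785
def s0_v787 : Qt rels S := ed sl_ct s0_v786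
def s0_v788 : Qt rels S := ed sl_dt s0_v787
def s0_v789 : Qt rels S := ed sl_it s0_v788
def s0_v790 : Qt rels S := ed sl_ht s0_v789
def s0_v791 : Qt rels S := ed sl_dt s0_v790
def s0_v792 : Qt rels S := ed sl_ft s0_v791
def s0_v793 : Qt rels S := ed sl_et s0_v792
def s0_v794 : Qt rels S := ed sl_dt s0_v793
def s0_v795 : Qt rels S := ed sl_bt s0_v794
def s0_v796 : Qt rels S := ed sl_ct s0_v795
def s0_v797 : Qt rels S := ed sl_dt s0_v796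
def s0_v798 : Qt rels S := ed sl_it s0_v797
def s0_v799 : Qt rels S := ed sl_ht s0_v798
def s0_v800 : Qt rels S := ed sl_dt s0_v799
def s0_v801 : Qt rels S := ed sl_ft s0_v800
def s0_v802 : Qt rels S := ed sl_et s0_v801
def s0_v803 : Qt rels S := ed sl_dt s0_v802
def s0_v804 : Qt rels S := ed sl_bt s0_v803
def s0_v805 : Qt rels S := ed sl_ct s0_v804
def s0_v806 : Qt rels S := ed sl_dt s0_v805
def s0_v807 : Qt rels S := ed sl_it s0_v806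
def s0_v808 : Qt rels S := ed sl_ht s0_v807
def s0_v809 : Qt rels S := ed sl_dt s0_v808
def s0_v810 : Qt rels S := ed sl_ft s0_v809
def s0_v811 : Qt rels S := ed sl_et s0_v810
def s0_v812 : Qt rels S := ed sl_dt s0_v811
def s0_v813 : Qt rels S := ed sl_bt sq19194
def s0_v814 : Qt rels S := ed sl_ct s0_v813
def s0_v815 : Qt rels S := ed sl_dt s0_v814
def s0_v816 : Qt rels S := ed sl_it s0_v815
def s0_v817 : Qt rels S := ed sl_ht s0_v816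
def s0_v818 : Qt rels S := ed sl_dt s0_v817
def s0_v819 : Qt rels S := ed sl_ft s0_v818
def s0_v820 : Qt rels S := ed sl_et s0_v819
def s0_v821 : Qt rels S := ed sl_dt s0_v820
def s0_v822 : Qt rels S := ed sl_bt s0_v821
def s0_v823 : Qt rels S := ed sl_ct s0_v822
def s0_v824 : Qt rels S := ed sl_dt s0_v823
def s0_v825 : Qt rels S := ed sl_it s0_v824
def s0_v826 : Qt rels S := ed sl_ht s0_v825
def s0_v827 : Qt rels S := ed sl_dt s0_v826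
def s0_v828 : Qt rels S := ed sl_ft s0_v827
def s0_v829 : Qt rels S := ed sl_et s0_v828
def s0_v830 : Qt rels S := ed sl_dt s0_v829
def s0_v831 : Qt rels S := ed sl_bt s0_v830
def s0_v832 : Qt rels S := ed sl_ct s0_v831
def s0_v833 : Qt rels S := ed sl_dt s0_v832
def s0_v834 : Qt rels S := ed sl_it s0_v833
def s0_v835 : Qt rels S := ed sl_ht s0_v834
def s0_v836 : Qt rels S := ed sl_dt s0_v835
def s0_v837 : Qt rels S := ed sl_ft s0_v836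
def s0_v838 : Qt rels S := ed sl_et s0_v837
def s0_v839 : Qt rels S := ed sl_dt s0_v838
def s0_v840 : Qt rels S := ed sl_bt s0_v839
def s0_v841 : Qt rels S := ed sl_ct s0_v840
def s0_v842 : Qt rels S := ed sl_dt s0_v841
def s0_v843 : Qt rels S := ed sl_it s0_v842
def s0_v844 : Qt rels S := ed sl_ht s0_v843
def s0_v845 : Qt rels S := ed sl_dt s0_v844
def s0_v846 : Qt rels S := ed sl_ft s0_v845
def s0_v847 : Qt rels S := ed sl_et s0_v846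
def s0_v848 : Qt rels S := ed sl_dt s0_v847
def s0_v849 : Qt rels S := ed sl_bt s0_v848
def s0_v850 : Qt rels S := ed sl_ct s0_v849
def s0_v851 : Qt rels S := ed sl_dt s0_v850
def s0_v879 : Qt rels S := ed sl_it sq5162
def s0_v880 : Qt rels S := ed sl_ht s0_v879
def s0_v881 : Qt rels S := ed sl_dt s0_v880
def s0_v882 : Qt rels S := ed sl_ft s0_v881
def s0_v883 : Qt rels S := ed sl_et s0_v882
def s0_v884 : Qt rels S := ed sl_dt s0_v883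
def s0_v885 : Qt rels S := ed sl_bt s0_v884
def s0_v886 : Qt rels S := ed sl_dt sq6073
def s0_v887 : Qt rels S := ed sl_it s0_v886
def s0_v888 : Qt rels S := ed sl_ht s0_v887
def s0_v889 : Qt rels S := ed sl_dt s0_v888
def s0_v890 : Qt rels S := ed sl_ft s0_v889
def s0_v891 : Qt rels S := ed sl_et s0_v890
def s0_v892 : Qt rels S := ed sl_dt s0_v891
def s0_v893 : Qt rels S := ed sl_bt s0_v892
def s0_v894 : Qt rels S := ed sl_ct s0_v893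
def s0_v895 : Qt rels S := ed sl_dt s0_v894
def s0_v896 : Qt rels S := ed sl_it s0_v895
def s0_v897 : Qt rels S := ed sl_ht s0_v896
def s0_v898 : Qt rels S := ed sl_dt s0_v897
def s0_v899 : Qt rels S := ed sl_ft s0_v898
def s0_v900 : Qt rels S := ed sl_et s0_v899
def s0_v901 : Qt rels S := ed sl_dt s0_v900
def s0_v902 : Qt rels S := ed sl_bt s0_v901
def s0_v903 : Qt rels S := ed sl_ct s0_v902
def s0_v904 : Qt rels S := ed sl_dt s0_v903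
def s0_v905 : Qt rels S := ed sl_it s0_v904
def s0_v906 : Qt rels S := ed sl_ht s0_v905
def s0_v907 : Qt rels S := ed sl_dt s0_v906
def s0_v908 : Qt rels S := ed sl_ft s0_v907
def s0_v909 : Qt rels S := ed sl_et s0_v908
def s0_v910 : Qt rels S := ed sl_dt s0_v909
def s0_v911 : Qt rels S := ed sl_bt s0_v910
def s0_v912 : Qt rels S := ed sl_ct s0_v911
def s0_v913 : Qt rels S := ed sl_dt s0_v912
def s0_v914 : Qt rels S := ed sl_it s0_v913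
def s0_v915 : Qt rels S := ed sl_ht s0_v914
def s0_v916 : Qt rels S := ed sl_dt s0_v915
def s0_v917 : Qt rels S := ed sl_ft s0_v916
def s0_v918 : Qt rels S := ed sl_et s0_v917
def s0_v919 : Qt rels S := ed sl_dt s0_v918
def s0_v920 : Qt rels S := ed sl_bt s0_v919
def s0_v921 : Qt rels S := ed sl_ct s0_v920
def s0_v1268 : Qt rels S := ed sl_dt sq4961
def s0_v1269 : Qt rels S := ed sl_et s0_v1268
def s0_v1270 : Qt rels S := ed sl_bt sq9395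
def s0_v1271 : Qt rels S := ed sl_ct s0_v1270
def s0_v1272 : Qt rels S := ed sl_dt s0_v1271
def s0_v1273 : Qt rels S := ed sl_it s0_v1272
def s0_v1274 : Qt rels S := ed sl_ht s0_v1273
def s0_v1275 : Qt rels S := ed sl_dt s0_v1274
def s0_v1276 : Qt rels S := ed sl_ft s0_v1275
def s0_v1277 : Qt rels S := ed sl_et s0_v1276
def s0_v1278 : Qt rels S := ed sl_dt s0_v1277
def s0_v1279 : Qt rels S := ed sl_bt s0_v1278
def s0_v1280 : Qt rels S := ed sl_ct s0_v1279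
def s0_v1281 : Qt rels S := ed sl_dt s0_v1280
def s0_v1282 : Qt rels S := ed sl_it s0_v1281
def s0_v1283 : Qt rels S := ed sl_ht s0_v1282
def s0_v1284 : Qt rels S := ed sl_dt s0_v1283
def s0_v1285 : Qt rels S := ed sl_ft s0_v1284
def s0_v1286 : Qt rels S := ed sl_et s0_v1285
def s0_v1287 : Qt rels S := ed sl_dt s0_v1286
def s0_v1288 : Qt rels S := ed sl_bt s0_v1287
def s0_v1289 : Qt rels S := ed sl_ct s0_v1288
def s0_v1290 : Qt rels S := ed sl_dt s0_v1289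
def s0_v1291 : Qt rels S := ed sl_it s0_v1290
def s0_v1292 : Qt rels S := ed sl_ht s0_v1291
def s0_v1293 : Qt rels S := ed sl_dt s0_v1292
def s0_v1294 : Qt rels S := ed sl_ft s0_v1293
def s0_v1295 : Qt rels S := ed sl_et s0_v1294
def s0_v1296 : Qt rels S := ed sl_dt s0_v1295
def s0_v1297 : Qt rels S := ed sl_bt s0_v1296
def s0_v1298 : Qt rels S := ed sl_ct s0_v1297
def s0_v1299 : Qt rels S := ed sl_dt s0_v1298
def s0_v1300 : Qt rels S := ed sl_it s0_v1299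
def s0_v1301 : Qt rels S := ed sl_ht s0_v1300
def s0_v1302 : Qt rels S := ed sl_dt s0_v1301
def s0_v1303 : Qt rels S := ed sl_ft s0_v1302
def s0_v1304 : Qt rels S := ed sl_et s0_v1303
def s0_v1305 : Qt rels S := ed sl_dt s0_v1304
def s0_v1306 : Qt rels S := ed sl_bt s0_v1305
def s0_v1307 : Qt rels S := ed sl_ct s0_v1306
def s0_v1308 : Qt rels S := ed sl_dt s0_v1307
def s0_v1309 : Qt rels S := ed sl_it s0_v1308
def s0_v1310 : Qt rels S := ed sl_ht s0_v1309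
def s0_v1358 : Qt rels S := ed sl_it sq5248
def s0_v1359 : Qt rels S := ed sl_ht s0_v1358
def s0_v1360 : Qt rels S := ed sl_dt s0_v1359
def s0_v1361 : Qt rels S := ed sl_ft s0_v1360
def s0_v1362 : Qt rels S := ed sl_et s0_v1361
def s0_v1363 : Qt rels S := ed sl_dt s0_v1362
def s0_v1364 : Qt rels S := ed sl_bt s0_v1363
def s0_v1365 : Qt rels S := ed sl_ct s0_v1364
def s0_v1366 : Qt rels S := ed sl_dt s0_v1365
def s0_v1367 : Qt rels S := ed sl_it s0_v1366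
def s0_v1368 : Qt rels S := ed sl_ht s0_v1367
def s0_v1369 : Qt rels S := ed sl_dt s0_v1368
def s0_v1370 : Qt rels S := ed sl_ft s0_v1369
def s0_v1371 : Qt rels S := ed sl_et s0_v1370
def s0_v1372 : Qt rels S := ed sl_dt s0_v1371
def s0_v1373 : Qt rels S := ed sl_bt s0_v1372
def s0_v1374 : Qt rels S := ed sl_ct s0_v1373
def s0_v1375 : Qt rels S := ed sl_dt s0_v1374
def s0_v1376 : Qt rels S := ed sl_it s0_v1375
def s0_v1377 : Qt rels S := ed sl_ht s0_v1376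
def s0_v1378 : Qt rels S := ed sl_dt s0_v1377
def s0_v1379 : Qt rels S := ed sl_ft s0_v1378
def s0_v1380 : Qt rels S := ed sl_et s0_v1379
def s0_v1381 : Qt rels S := ed sl_dt s0_v1380
def s0_v1382 : Qt rels S := ed sl_bt s0_v1381
def s0_v1383 : Qt rels S := ed sl_ct s0_v1382
def s0_v1384 : Qt rels S := ed sl_dt s0_v1383
def s0_v1385 : Qt rels S := ed sl_it s0_v1384
def s0_v1386 : Qt rels S := ed sl_ht s0_v1385
def s0_v1387 : Qt rels S := ed sl_dt s0_v1386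
def s0_v1388 : Qt rels S := ed sl_ft s0_v1387
def s0_v1389 : Qt rels S := ed sl_et s0_v1388
def s0_v1390 : Qt rels S := ed sl_dt s0_v1389
def s0_v1391 : Qt rels S := ed sl_bt s0_v1390
def s0_v1392 : Qt rels S := ed sl_ct s0_v1391
def s0_v1393 : Qt rels S := ed sl_dt s0_v1392
def s0_v1394 : Qt rels S := ed sl_it s0_v1393
def s0_v1395 : Qt rels S := ed sl_ht s0_v1394
def s0_v1396 : Qt rels S := ed sl_dt s0_v1395
def s0_v1397 : Qt rels S := ed sl_ft s0_v1396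
def s0_v1398 : Qt rels S := ed sl_et s0_v1397
def s0_v1399 : Qt rels S := ed sl_dt s0_v1398
def s0_v1400 : Qt rels S := ed sl_bt s0_v1399
def s0_v1401 : Qt rels S := ed sl_ct s0_v1400
def s0_v1402 : Qt rels S := ed sl_dt s0_v1401
def s0_v1403 : Qt rels S := ed sl_it s0_v1402
def s0_v1404 : Qt rels S := ed sl_ht s0_v1403
def s0_v1405 : Qt rels S := ed sl_dt s0_v1404
def s0_v1406 : Qt rels S := ed sl_ft s0_v1405
def s0_v1407 : Qt rels S := ed sl_et s0_v1406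
def s0_v1408 : Qt rels S := ed sl_dt s0_v1407
def s0_v1409 : Qt rels S := ed sl_bt s0_v1408
def s0_v1410 : Qt rels S := ed sl_dt sq14696
def s0_v1411 : Qt rels S := ed sl_ft s0_v1410
def s0_v1444 : Qt rels S := ed sl_at sq643
def s0_v1942 : Qt rels S := ed sl_ht sq1596
def s0_v1943 : Qt rels S := ed sl_dt s0_v1942
def s0_v1944 : Qt rels S := ed sl_ft s0_v1943
def s0_v1945 : Qt rels S := ed sl_et s0_v1944
def s0_v1946 : Qt rels S := ed sl_dt s0_v1945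
def s0_v1995 : Qt rels S := ed sl_dt sq4619
def s0_v1996 : Qt rels S := ed sl_it s0_v1995
def s0_v1997 : Qt rels S := ed sl_ht s0_v1996
def s0_v1998 : Qt rels S := ed sl_dt s0_v1997
def s0_v1999 : Qt rels S := ed sl_ft s0_v1998
def s0_v2000 : Qt rels S := ed sl_et s0_v1999
def s0_v2015 : Qt rels S := ed sl_et s0_v1410
def s0_v2016 : Qt rels S := ed sl_dt s0_v2015
def s0_v2017 : Qt rels S := ed sl_bt s0_v2016
def s0_v2018 : Qt rels S := ed sl_ct s0_v2017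
def s0_v2019 : Qt rels S := ed sl_dt s0_v2018
def s0_v2020 : Qt rels S := ed sl_it s0_v2019
def s0_v2021 : Qt rels S := ed sl_ht s0_v2020
def s0_v2022 : Qt rels S := ed sl_dt s0_v2021
def s0_v2023 : Qt rels S := ed sl_ft s0_v2022
def s0_v2024 : Qt rels S := ed sl_et s0_v2023
def s0_v2025 : Qt rels S := ed sl_dt s0_v2024
def s0_v2026 : Qt rels S := ed sl_bt s0_v2025
def s0_v2027 : Qt rels S := ed sl_ct s0_v2026
def s0_v2028 : Qt rels S := ed sl_dt s0_v2027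
def s0_v2029 : Qt rels S := ed sl_it s0_v2028
def s0_v2030 : Qt rels S := ed sl_ht s0_v2029
def s0_v2031 : Qt rels S := ed sl_dt s0_v2030
def s0_v2032 : Qt rels S := ed sl_ft s0_v2031
def s0_v2033 : Qt rels S := ed sl_et s0_v2032
def s0_v2034 : Qt rels S := ed sl_dt s0_v2033
def s0_v2035 : Qt rels S := ed sl_bt s0_v2034
def s0_v2036 : Qt rels S := ed sl_ct s0_v2035
def s0_v2037 : Qt rels S := ed sl_dt s0_v2036
def s0_v2038 : Qt rels S := ed sl_it s0_v2037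
def s0_v2039 : Qt rels S := ed sl_ht s0_v2038
def s0_v2040 : Qt rels S := ed sl_dt s0_v2039
def s0_v2041 : Qt rels S := ed sl_ft s0_v2040
def s0_v2042 : Qt rels S := ed sl_et s0_v2041
def s0_v2043 : Qt rels S := ed sl_dt s0_v2042
def s0_v2044 : Qt rels S := ed sl_bt s0_v2043
def s0_v2045 : Qt rels S := ed sl_ct s0_v2044
def s0_v2046 : Qt rels S := ed sl_dt s0_v2045
def s0_v2047 : Qt rels S := ed sl_it s0_v2046
def s0_v2048 : Qt rels S := ed sl_ht s0_v2047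
def s0_v2049 : Qt rels S := ed sl_dt s0_v2048
def s0_v2050 : Qt rels S := ed sl_ft s0_v2049
def s0_v2051 : Qt rels S := ed sl_et s0_v2050
def s0_v2052 : Qt rels S := ed sl_dt sq18443
def s0_v2053 : Qt rels S := ed sl_bt s0_v2052
def s0_v2054 : Qt rels S := ed sl_ct s0_v2053
def s0_v2055 : Qt rels S := ed sl_dt s0_v2054
def s0_v2056 : Qt rels S := ed sl_it s0_v2055
def s0_v2057 : Qt rels S := ed sl_ht s0_v2056
def s0_v2058 : Qt rels S := ed sl_dt s0_v2057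
def s0_v2059 : Qt rels S := ed sl_ft s0_v2058
def s0_v2060 : Qt rels S := ed sl_et s0_v2059
def s0_v2061 : Qt rels S := ed sl_dt s0_v2060
def s0_v2062 : Qt rels S := ed sl_bt s0_v2061
def s0_v2063 : Qt rels S := ed sl_ct s0_v2062
def s0_v2064 : Qt rels S := ed sl_dt s0_v2063
def s0_v2065 : Qt rels S := ed sl_it s0_v2064
def s0_v2066 : Qt rels S := ed sl_ht s0_v2065
def s0_v2067 : Qt rels S := ed sl_dt s0_v2066
def s0_v2068 : Qt rels S := ed sl_ft s0_v2067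
def s0_v2069 : Qt rels S := ed sl_et s0_v2068
def s0_v2070 : Qt rels S := ed sl_dt s0_v2069
def s0_v2071 : Qt rels S := ed sl_bt s0_v2070
def s0_v2072 : Qt rels S := ed sl_ct s0_v2071
def s0_v2073 : Qt rels S := ed sl_dt s0_v2072
def s0_v2074 : Qt rels S := ed sl_it s0_v2073
def s0_v2075 : Qt rels S := ed sl_ht s0_v2074
def s0_v2076 : Qt rels S := ed sl_dt s0_v2075
def s0_v2077 : Qt rels S := ed sl_ft s0_v2076
def s0_v2078 : Qt rels S := ed sl_et s0_v2077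
def s0_v2079 : Qt rels S := ed sl_dt s0_v2078
def s0_v2080 : Qt rels S := ed sl_bt s0_v2079
def s0_v2081 : Qt rels S := ed sl_ct s0_v2080
def s0_v2082 : Qt rels S := ed sl_dt s0_v2081
def s0_v2083 : Qt rels S := ed sl_it s0_v2082
def s0_v2084 : Qt rels S := ed sl_ht s0_v2083
def s0_v2085 : Qt rels S := ed sl_dt s0_v2084
def s0_v2086 : Qt rels S := ed sl_ft s0_v2085
def s0_v2087 : Qt rels S := ed sl_et s0_v2086
def s0_v2088 : Qt rels S := ed sl_dt s0_v2087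
def s0_v2089 : Qt rels S := ed sl_bt s0_v2088
def s0_v2090 : Qt rels S := ed sl_ct s0_v2089
def s0_v2091 : Qt rels S := ed sl_dt s0_v2090
def s0_v2092 : Qt rels S := ed sl_it s0_v2091
def s0_v2308 : Qt rels S := ed sl_ht sq2063
def s0_v2309 : Qt rels S := ed sl_ft s0_v2308
def s0_v2310 : Qt rels S := ed sl_et s0_v2309
def s0_v2311 : Qt rels S := ed sl_dt s0_v2310
def s0_v2312 : Qt rels S := ed sl_ct s0_v2311
def s0_v2313 : Qt rels S := ed sl_bt s0_v2312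
def s0_v2314 : Qt rels S := ed sl_at s0_v2313
def s0_v2315 : Qt rels S := ed sl_ht s0_v2314
def s0_v2316 : Qt rels S := ed sl_ft s0_v2315
def s0_v2317 : Qt rels S := ed sl_et s0_v2316
def s0_v2376 : Qt rels S := ed sl_at s0_v87
def s0_v2377 : Qt rels S := ed sl_ht s0_v2376
def s0_v2378 : Qt rels S := ed sl_et s0_v2377
def s0_v2379 : Qt rels S := ed sl_dt s0_v2378
def s0_v2380 : Qt rels S := ed sl_ct s0_v2379
def s0_v2381 : Qt rels S := ed sl_bt s0_v2380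
def s0_v2382 : Qt rels S := ed sl_at s0_v2381
def s0_v2383 : Qt rels S := ed sl_ht s0_v2382
def s0_v2384 : Qt rels S := ed sl_ft s0_v2383
def s0_v2385 : Qt rels S := ed sl_et s0_v2384
def s0_v2386 : Qt rels S := ed sl_dt s0_v2385
def s0_v2387 : Qt rels S := ed sl_ct s0_v2386
def s0_v2388 : Qt rels S := ed sl_bt s0_v2387
def s0_v2389 : Qt rels S := ed sl_at s0_v2388
def s0_v2390 : Qt rels S := ed sl_ht s0_v2389
def s0_v2391 : Qt rels S := ed sl_ft s0_v2390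
def s0_v2392 : Qt rels S := ed sl_et s0_v2391
def s0_v2393 : Qt rels S := ed sl_dt s0_v2392
def s0_v2394 : Qt rels S := ed sl_ct s0_v2393
def s0_v2395 : Qt rels S := ed sl_bt s0_v2394
def s0_v2396 : Qt rels S := ed sl_at s0_v2395
def s0_v2397 : Qt rels S := ed sl_ht s0_v2396
def s0_v2398 : Qt rels S := ed sl_ft s0_v2397
def s0_v2399 : Qt rels S := ed sl_et s0_v2398
def s0_v2400 : Qt rels S := ed sl_dt s0_v2399
def s0_v2401 : Qt rels S := ed sl_ct s0_v2400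
def s0_v2402 : Qt rels S := ed sl_bt s0_v2401
def s0_v2403 : Qt rels S := ed sl_at s0_v2402
def s0_v2404 : Qt rels S := ed sl_ht s0_v2403
def s0_v2405 : Qt rels S := ed sl_ft s0_v2404
def s0_v2406 : Qt rels S := ed sl_et s0_v2405
def s0_v2407 : Qt rels S := ed sl_dt s0_v2406
def s0_v2408 : Qt rels S := ed sl_ct s0_v2407
def s0_v2409 : Qt rels S := ed sl_bt s0_v2408
def s0_v2410 : Qt rels S := ed sl_at s0_v2409
def s0_v2996 : Qt rels S := ed sl_et sq9650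
def s0_v2997 : Qt rels S := ed sl_dt s0_v2996
def s0_v2998 : Qt rels S := ed sl_bt s0_v2997
def s0_v2999 : Qt rels S := ed sl_ct s0_v2998
def s0_v3000 : Qt rels S := ed sl_dt s0_v2999
def s0_v3001 : Qt rels S := ed sl_it s0_v3000
def s0_v3002 : Qt rels S := ed sl_ht s0_v3001
def s0_v3003 : Qt rels S := ed sl_dt s0_v3002
def s0_v3004 : Qt rels S := ed sl_ft s0_v3003
def s0_v3005 : Qt rels S := ed sl_et s0_v3004
def s0_v3006 : Qt rels S := ed sl_dt s0_v3005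
def s0_v3007 : Qt rels S := ed sl_bt s0_v3006
def s0_v3008 : Qt rels S := ed sl_ct s0_v3007
def s0_v3009 : Qt rels S := ed sl_dt s0_v3008
def s0_v3010 : Qt rels S := ed sl_it s0_v3009
def s0_v3011 : Qt rels S := ed sl_ht s0_v3010
def s0_v3012 : Qt rels S := ed sl_dt s0_v3011
def s0_v3013 : Qt rels S := ed sl_ft s0_v3012
def s0_v3014 : Qt rels S := ed sl_et s0_v3013
def s0_v3015 : Qt rels S := ed sl_dt s0_v3014
def s0_v3016 : Qt rels S := ed sl_bt s0_v3015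
def s0_v3017 : Qt rels S := ed sl_ct s0_v3016
def s0_v3018 : Qt rels S := ed sl_dt s0_v3017
def s0_v3019 : Qt rels S := ed sl_it s0_v3018
def s0_v3020 : Qt rels S := ed sl_ht s0_v3019
def s0_v3021 : Qt rels S := ed sl_dt s0_v3020
def s0_v3022 : Qt rels S := ed sl_ft s0_v3021
def s0_v3023 : Qt rels S := ed sl_et s0_v3022
def s0_v3024 : Qt rels S := ed sl_dt s0_v3023
def s0_v3025 : Qt rels S := ed sl_bt s0_v3024
def s0_v3026 : Qt rels S := ed sl_ct s0_v3025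
def s0_v3027 : Qt rels S := ed sl_dt s0_v3026
def s0_v3028 : Qt rels S := ed sl_it s0_v3027
def s0_v3029 : Qt rels S := ed sl_ht s0_v3028
def s0_v3030 : Qt rels S := ed sl_dt s0_v3029
def s0_v3031 : Qt rels S := ed sl_ft s0_v3030
def s0_v3032 : Qt rels S := ed sl_et s0_v3031
def s0_v3033 : Qt rels S := ed sl_dt s0_v3032
def s0_v3034 : Qt rels S := ed sl_bt s0_v3033
def s0_v3035 : Qt rels S := ed sl_ct s0_v3034
def s0_v3036 : Qt rels S := ed sl_dt s0_v3035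
def s0_v3037 : Qt rels S := ed sl_it s0_v3036
def s0_v3038 : Qt rels S := ed sl_ht s0_v3037
def s0_v3039 : Qt rels S := ed sl_dt s0_v3038
def s0_v3040 : Qt rels S := ed sl_ft s0_v3039
def s0_v3041 : Qt rels S := ed sl_et s0_v3040
def s0_v3042 : Qt rels S := ed sl_dt s0_v3041
def s0_v3043 : Qt rels S := ed sl_bt s0_v3042
def s0_v3044 : Qt rels S := ed sl_ct s0_v3043
def s0_v3045 : Qt rels S := ed sl_dt s0_v3044
def s0_v3046 : Qt rels S := ed sl_it s0_v3045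
def s0_v3080 : Qt rels S := ed sl_et s0_v3044
def s0_v3081 : Qt rels S := ed sl_ct s0_v3080
def s0_v3082 : Qt rels S := ed sl_dt s0_v3081
def s0_v3222 : Qt rels S := ed sl_et sq17935
def s0_v3223 : Qt rels S := ed sl_bt sq21057
def s0_v3224 : Qt rels S := ed sl_ct s0_v3223
def s0_v3225 : Qt rels S := ed sl_dt s0_v3224
def s0_v3226 : Qt rels S := ed sl_it s0_v3225
def s0_v3227 : Qt rels S := ed sl_ht s0_v3226
def s0_v3228 : Qt rels S := ed sl_dt s0_v3227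
def s0_v3229 : Qt rels S := ed sl_ft s0_v3228
def s0_v3230 : Qt rels S := ed sl_et s0_v3229
def s0_v3231 : Qt rels S := ed sl_dt s0_v3230
def s0_v3232 : Qt rels S := ed sl_bt s0_v3231
def s0_v3233 : Qt rels S := ed sl_ct s0_v3232
def s0_v3234 : Qt rels S := ed sl_dt s0_v3233
def s0_v3235 : Qt rels S := ed sl_it s0_v3234
def s0_v3236 : Qt rels S := ed sl_ht s0_v3235
def s0_v3237 : Qt rels S := ed sl_dt s0_v3236
def s0_v3238 : Qt rels S := ed sl_ft s0_v3237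
def s0_v3239 : Qt rels S := ed sl_et s0_v3238
def s0_v3240 : Qt rels S := ed sl_dt s0_v3239
def s0_v3241 : Qt rels S := ed sl_bt s0_v3240
def s0_v3242 : Qt rels S := ed sl_ct s0_v3241
def s0_v3243 : Qt rels S := ed sl_dt s0_v3242
def s0_v3244 : Qt rels S := ed sl_it s0_v3243
def s0_v3245 : Qt rels S := ed sl_ht s0_v3244
def s0_v3246 : Qt rels S := ed sl_dt s0_v3245
def s0_v3247 : Qt rels S := ed sl_ft s0_v3246
def s0_v3248 : Qt rels S := ed sl_et s0_v3247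
def s0_v3249 : Qt rels S := ed sl_dt s0_v3248
def s0_v3250 : Qt rels S := ed sl_bt s0_v3249
def s0_v3251 : Qt rels S := ed sl_ct s0_v3250
def s0_v3252 : Qt rels S := ed sl_dt s0_v3251
def s0_v3253 : Qt rels S := ed sl_it s0_v3252
def s0_v3254 : Qt rels S := ed sl_ht s0_v3253
def s0_v3255 : Qt rels S := ed sl_dt s0_v3254
def s0_v3256 : Qt rels S := ed sl_ft s0_v3255
def s0_v3257 : Qt rels S := ed sl_et s0_v3256
def s0_v3258 : Qt rels S := ed sl_dt s0_v3257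
def s0_v3259 : Qt rels S := ed sl_bt s0_v3258
def s0_v3260 : Qt rels S := ed sl_ct s0_v3259
def s0_v3261 : Qt rels S := ed sl_dt s0_v3260
def s0_v3262 : Qt rels S := ed sl_dt s0_v882
def s0_v3263 : Qt rels S := ed sl_it s0_v3262
def s0_v3264 : Qt rels S := ed sl_ht s0_v3263
def s0_v3300 : Qt rels S := ed sl_bt sq5634
def s0_v3301 : Qt rels S := ed sl_ct s0_v3300
def s0_v3302 : Qt rels S := ed sl_dt s0_v3301
def s0_v3336 : Qt rels S := ed sl_at sq1149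
def s0_v3337 : Qt rels S := ed sl_ht s0_v3336
def s0_v3338 : Qt rels S := ed sl_et s0_v3337
def s0_v3339 : Qt rels S := ed sl_dt s0_v3338
def s0_v3340 : Qt rels S := ed sl_ct s0_v3339
def s0_v3341 : Qt rels S := ed sl_bt s0_v3340
def s0_v3342 : Qt rels S := ed sl_at s0_v3341
def s0_v3343 : Qt rels S := ed sl_ht s0_v3342
def s0_v3344 : Qt rels S := ed sl_ft s0_v3343
def s0_v3345 : Qt rels S := ed sl_et s0_v3344
def s0_v3346 : Qt rels S := ed sl_dt s0_v3345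
def s0_v3347 : Qt rels S := ed sl_ct s0_v3346
def s0_v3348 : Qt rels S := ed sl_bt s0_v3347
def s0_v3349 : Qt rels S := ed sl_at s0_v3348
def s0_v3350 : Qt rels S := ed sl_ht s0_v3349
def s0_v3351 : Qt rels S := ed sl_ft s0_v3350
def s0_v3352 : Qt rels S := ed sl_et s0_v3351
def s0_v3353 : Qt rels S := ed sl_dt s0_v3352
def s0_v3354 : Qt rels S := ed sl_ct s0_v3353
def s0_v3355 : Qt rels S := ed sl_bt s0_v3354
def s0_v3356 : Qt rels S := ed sl_at s0_v3355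
def s0_v3357 : Qt rels S := ed sl_ht s0_v3356
def s0_v3358 : Qt rels S := ed sl_ft s0_v3357
def s0_v3359 : Qt rels S := ed sl_et s0_v3358
def s0_v3360 : Qt rels S := ed sl_dt s0_v3359
def s0_v3361 : Qt rels S := ed sl_ct s0_v3360
def s0_v3362 : Qt rels S := ed sl_bt s0_v3361
def s0_v3363 : Qt rels S := ed sl_at s0_v3362
def s0_v3364 : Qt rels S := ed sl_ht s0_v3363
def s0_v3735 : Qt rels S := ed sl_ct sq1798
def s0_v3736 : Qt rels S := ed sl_bt s0_v3735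
def s0_v3737 : Qt rels S := ed sl_at s0_v3736
def s0_v3738 : Qt rels S := ed sl_ht s0_v3737
def s0_v3739 : Qt rels S := ed sl_ft s0_v3738
def s0_v3740 : Qt rels S := ed sl_et s0_v3739
def s0_v3741 : Qt rels S := ed sl_dt s0_v3740
def s0_v3742 : Qt rels S := ed sl_ct s0_v3741
def s0_v3743 : Qt rels S := ed sl_bt s0_v3742
def s0_v3744 : Qt rels S := ed sl_at s0_v3743
def s0_v3745 : Qt rels S := ed sl_ht s0_v3744
def s0_v3746 : Qt rels S := ed sl_et s0_v3745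
def s0_v3747 : Qt rels S := ed sl_dt s0_v3746
def s0_v3748 : Qt rels S := ed sl_ct s0_v3747
def s0_v3749 : Qt rels S := ed sl_bt s0_v3748
def s0_v3750 : Qt rels S := ed sl_at s0_v3749
def s0_v3751 : Qt rels S := ed sl_ht s0_v3750
def s0_v3752 : Qt rels S := ed sl_ft s0_v3751
def s0_v3753 : Qt rels S := ed sl_et s0_v3752
def s0_v3754 : Qt rels S := ed sl_dt s0_v3753
def s0_v3755 : Qt rels S := ed sl_ct s0_v3754
def s0_v3756 : Qt rels S := ed sl_bt s0_v3755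
def s0_v3757 : Qt rels S := ed sl_at s0_v3756
def s0_v3758 : Qt rels S := ed sl_ht s0_v3757
def s0_v3759 : Qt rels S := ed sl_ft s0_v3758
def s0_v3760 : Qt rels S := ed sl_et s0_v3759
def s0_v3761 : Qt rels S := ed sl_dt s0_v3760
def s0_v3762 : Qt rels S := ed sl_at s0_v634
def s0_v3763 : Qt rels S := ed sl_et s0_v3762
def s0_v3764 : Qt rels S := ed sl_dt s0_v3763
def s0_v3765 : Qt rels S := ed sl_ct s0_v3764
def s0_v3766 : Qt rels S := ed sl_bt s0_v3765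
def s0_v3767 : Qt rels S := ed sl_at s0_v3766
def s0_v3768 : Qt rels S := ed sl_ht s0_v3767
def s0_v3769 : Qt rels S := ed sl_ft s0_v3768
def s0_v3770 : Qt rels S := ed sl_et s0_v3769
def s0_v3771 : Qt rels S := ed sl_dt s0_v3770
def s0_v3772 : Qt rels S := ed sl_ct s0_v3771
def s0_v3773 : Qt rels S := ed sl_bt s0_v3772
def s0_v3774 : Qt rels S := ed sl_at s0_v3773
def s0_v3775 : Qt rels S := ed sl_ht s0_v3774
def s0_v3776 : Qt rels S := ed sl_et s0_v3775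
def s0_v3777 : Qt rels S := ed sl_dt s0_v3776
def s0_v3778 : Qt rels S := ed sl_ct s0_v3777
def s0_v3779 : Qt rels S := ed sl_bt s0_v3778
def s0_v3780 : Qt rels S := ed sl_at s0_v3779
def s0_v3781 : Qt rels S := ed sl_ht s0_v3780
def s0_v3782 : Qt rels S := ed sl_ft s0_v3781
def s0_v3783 : Qt rels S := ed sl_et s0_v3782
def s0_v3784 : Qt rels S := ed sl_dt s0_v3783
def s0_v3785 : Qt rels S := ed sl_ct s0_v3784
def s0_v3786 : Qt rels S := ed sl_bt s0_v3785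
def s0_v3787 : Qt rels S := ed sl_at s0_v3786
def s0_v3788 : Qt rels S := ed sl_ht s0_v3787
def s0_v3789 : Qt rels S := ed sl_ft s0_v3788
def s0_v3790 : Qt rels S := ed sl_et s0_v3789
def s0_v3791 : Qt rels S := ed sl_dt s0_v3790
def s0_v3792 : Qt rels S := ed sl_ct s0_v3791
def s0_v4540 : Qt rels S := ed sl_it s0_v2317
def s0_v4541 : Qt rels S := ed sl_ht s0_v4540
def s0_v4542 : Qt rels S := ed sl_dt s0_v4541
def s0_v4543 : Qt rels S := ed sl_et s0_v4542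
def s0_v4544 : Qt rels S := ed sl_dt s0_v4543
def s0_v4545 : Qt rels S := ed sl_bt s0_v4544
def s0_v4546 : Qt rels S := ed sl_ct s0_v4545
def s0_v4547 : Qt rels S := ed sl_dt s0_v4546
def s0_v4548 : Qt rels S := ed sl_it s0_v4547
def s0_v4549 : Qt rels S := ed sl_ht s0_v4548
def s0_v4550 : Qt rels S := ed sl_dt s0_v4549
def s0_v4551 : Qt rels S := ed sl_ft s0_v4550
def s0_v4552 : Qt rels S := ed sl_et s0_v4551
def s0_v4553 : Qt rels S := ed sl_dt s0_v4552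
def s0_v4554 : Qt rels S := ed sl_bt s0_v4553
def s0_v4555 : Qt rels S := ed sl_ct s0_v4554
def s0_v4556 : Qt rels S := ed sl_dt s0_v4555
def s0_v4557 : Qt rels S := ed sl_it s0_v4556
def s0_v4558 : Qt rels S := ed sl_ht s0_v4557
def s0_v4559 : Qt rels S := ed sl_dt s0_v4558
def s0_v4560 : Qt rels S := ed sl_ft s0_v4559
def s0_v4561 : Qt rels S := ed sl_et s0_v4560
def s0_v4562 : Qt rels S := ed sl_dt s0_v4561
def s0_v4563 : Qt rels S := ed sl_bt s0_v4562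
def s0_v4564 : Qt rels S := ed sl_ct s0_v4563
def s0_v4565 : Qt rels S := ed sl_dt s0_v4564
def s0_v4566 : Qt rels S := ed sl_it s0_v4565
def s0_v4567 : Qt rels S := ed sl_ht s0_v4566
def s0_v4568 : Qt rels S := ed sl_dt s0_v4567
def s0_v4569 : Qt rels S := ed sl_ft s0_v4568
def s0_v4570 : Qt rels S := ed sl_et s0_v4569
def s0_v4571 : Qt rels S := ed sl_dt s0_v4570
def s0_v4572 : Qt rels S := ed sl_bt s0_v4571
def s0_v4573 : Qt rels S := ed sl_ct s0_v4572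
def s0_v4574 : Qt rels S := ed sl_dt s0_v4573
def s0_v4575 : Qt rels S := ed sl_it s0_v4574
def s0_v4576 : Qt rels S := ed sl_ht s0_v4575
def s0_v4577 : Qt rels S := ed sl_dt s0_v4576
def s0_v4578 : Qt rels S := ed sl_ft s0_v4577
def s0_v4579 : Qt rels S := ed sl_et s0_v4578
def s0_v4580 : Qt rels S := ed sl_dt s0_v4579
def s0_v4581 : Qt rels S := ed sl_bt s0_v4580
def s0_v4582 : Qt rels S := ed sl_ct s0_v4581
def s0_v4583 : Qt rels S := ed sl_dt s0_v4582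
def s0_v4584 : Qt rels S := ed sl_it s0_v4583
def s0_v4585 : Qt rels S := ed sl_ht s0_v4584
def s0_v4586 : Qt rels S := ed sl_dt s0_v4585
def s0_v4587 : Qt rels S := ed sl_ft s0_v4586
def s0_v4588 : Qt rels S := ed sl_et s0_v4587
def s0_v4589 : Qt rels S := ed sl_dt s0_v4588
def s0_v4590 : Qt rels S := ed sl_bt s0_v4589
def s0_v4591 : Qt rels S := ed sl_it sq7914
def s0_v4592 : Qt rels S := ed sl_ht s0_v4591
def s0_v4593 : Qt rels S := ed sl_et s0_v4592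
def s0_v4594 : Qt rels S := ed sl_dt s0_v4593
def s0_v4595 : Qt rels S := ed sl_bt s0_v4594
def s0_v4596 : Qt rels S := ed sl_ct s0_v4595
def s0_v4597 : Qt rels S := ed sl_dt s0_v4596
def s0_v4598 : Qt rels S := ed sl_it s0_v4597
def s0_v4599 : Qt rels S := ed sl_ht s0_v4598
def s0_v4600 : Qt rels S := ed sl_dt s0_v4599
def s0_v4601 : Qt rels S := ed sl_ft s0_v4600
def s0_v4602 : Qt rels S := ed sl_et s0_v4601
def s0_v4603 : Qt rels S := ed sl_dt s0_v4602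
def s0_v4604 : Qt rels S := ed sl_bt s0_v4603
def s0_v4605 : Qt rels S := ed sl_ct s0_v4604
def s0_v4606 : Qt rels S := ed sl_dt s0_v4605
def s0_v4607 : Qt rels S := ed sl_it s0_v4606
def s0_v4608 : Qt rels S := ed sl_ht s0_v4607
def s0_v4609 : Qt rels S := ed sl_dt s0_v4608
def s0_v4610 : Qt rels S := ed sl_ft s0_v4609
def s0_v4611 : Qt rels S := ed sl_et s0_v4610
def s0_v4612 : Qt rels S := ed sl_dt s0_v4611
def s0_v4613 : Qt rels S := ed sl_bt s0_v4612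
def s0_v4614 : Qt rels S := ed sl_ct s0_v4613
def s0_v4615 : Qt rels S := ed sl_dt s0_v4614
def s0_v4616 : Qt rels S := ed sl_it s0_v4615
def s0_v4617 : Qt rels S := ed sl_ht s0_v4616
def s0_v4618 : Qt rels S := ed sl_dt s0_v4617
def s0_v4619 : Qt rels S := ed sl_ft s0_v4618
def s0_v4620 : Qt rels S := ed sl_et s0_v4619
def s0_v4621 : Qt rels S := ed sl_dt s0_v4620
def s0_v4622 : Qt rels S := ed sl_bt s0_v4621
def s0_v4623 : Qt rels S := ed sl_ct s0_v4622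
def s0_v4624 : Qt rels S := ed sl_dt s0_v4623
def s0_v4625 : Qt rels S := ed sl_it s0_v4624
def s0_v4626 : Qt rels S := ed sl_ht s0_v4625
def s0_v4627 : Qt rels S := ed sl_dt s0_v4626
def s0_v4861 : Qt rels S := ed sl_bt s0_v3082
def s0_v4862 : Qt rels S := ed sl_ct s0_v4861
def s0_v4863 : Qt rels S := ed sl_ht s0_v4862
def s0_v4864 : Qt rels S := ed sl_dt s0_v4863
def s0_v4865 : Qt rels S := ed sl_ft s0_v4864
def s0_v4866 : Qt rels S := ed sl_et s0_v4865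
def s0_v4867 : Qt rels S := ed sl_dt s0_v4866
def s0_v4868 : Qt rels S := ed sl_ct s0_v4867
def s0_v4869 : Qt rels S := ed sl_dt s0_v4868
def s0_v4870 : Qt rels S := ed sl_it s0_v4869
def s0_v4871 : Qt rels S := ed sl_ht s0_v4870
def s0_v4872 : Qt rels S := ed sl_dt s0_v4871
def s0_v4873 : Qt rels S := ed sl_ft s0_v4872
def s0_v4874 : Qt rels S := ed sl_et s0_v4873
def s0_v4875 : Qt rels S := ed sl_dt s0_v4874
def s0_v4876 : Qt rels S := ed sl_bt s0_v4875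
def s0_v4877 : Qt rels S := ed sl_ct s0_v4876
def s0_v4878 : Qt rels S := ed sl_dt s0_v4877
def s0_v4879 : Qt rels S := ed sl_it s0_v4878
def s0_v4880 : Qt rels S := ed sl_ht s0_v4879
def s0_v4881 : Qt rels S := ed sl_dt s0_v4880
def s0_v4882 : Qt rels S := ed sl_ft s0_v4881
def s0_v4883 : Qt rels S := ed sl_et s0_v4882
def s0_v4884 : Qt rels S := ed sl_dt s0_v4883
def s0_v4885 : Qt rels S := ed sl_bt s0_v4884
def s0_v4886 : Qt rels S := ed sl_ct s0_v4885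
def s0_v4887 : Qt rels S := ed sl_dt s0_v4886
def s0_v4888 : Qt rels S := ed sl_it s0_v4887
def s0_v4889 : Qt rels S := ed sl_ht s0_v4888
def s0_v4890 : Qt rels S := ed sl_dt s0_v4889
def s0_v4891 : Qt rels S := ed sl_ft s0_v4890
def s0_v4892 : Qt rels S := ed sl_et s0_v4891
def s0_v4893 : Qt rels S := ed sl_dt s0_v4892
def s0_v4894 : Qt rels S := ed sl_bt s0_v4893
def s0_v4895 : Qt rels S := ed sl_ct s0_v4894
def s0_v4896 : Qt rels S := ed sl_dt s0_v4895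
def s0_v4897 : Qt rels S := ed sl_it s0_v4896
def s0_v4898 : Qt rels S := ed sl_ht s0_v4897
def s0_v4899 : Qt rels S := ed sl_dt s0_v4898
def s0_v4900 : Qt rels S := ed sl_ft s0_v4899
def s0_v4901 : Qt rels S := ed sl_et s0_v4900
def s0_v4902 : Qt rels S := ed sl_dt s0_v4901
def s0_v4903 : Qt rels S := ed sl_bt s0_v4902
def s0_v4904 : Qt rels S := ed sl_ct s0_v4903
def s0_v4905 : Qt rels S := ed sl_dt s0_v4904
def s0_v4906 : Qt rels S := ed sl_it s0_v4905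
def s0_v4907 : Qt rels S := ed sl_ht s0_v4906
def s0_v4908 : Qt rels S := ed sl_dt s0_v4907
def s0_v4909 : Qt rels S := ed sl_ft s0_v4908
def s0_v4910 : Qt rels S := ed sl_et s0_v4909
def s0_v4911 : Qt rels S := ed sl_dt s0_v4910
def s0_v4912 : Qt rels S := ed sl_bt s0_v4911
def s0_v4913 : Qt rels S := ed sl_ct s0_v4912
def s0_v4914 : Qt rels S := ed sl_dt s0_v4913
def s0_v5066 : Qt rels S := ed sl_ft s0_v1942
def s0_v5067 : Qt rels S := ed sl_et s0_v5066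
def s0_v5068 : Qt rels S := ed sl_dt s0_v5067
def s0_v5114 : Qt rels S := ed sl_dt sq7048
def s0_v5154 : Qt rels S := ed sl_at s0_v224
def s0_v5155 : Qt rels S := ed sl_et s0_v5154
def s0_v5156 : Qt rels S := ed sl_dt s0_v5155
def s0_v5157 : Qt rels S := ed sl_ct s0_v5156
def s0_v5158 : Qt rels S := ed sl_bt s0_v5157
def s0_v5159 : Qt rels S := ed sl_ht s0_v5158
def s0_v5160 : Qt rels S := ed sl_ft s0_v5159
def s0_v5161 : Qt rels S := ed sl_et s0_v5160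
def s0_v5162 : Qt rels S := ed sl_dt s0_v5161
def s0_v5163 : Qt rels S := ed sl_ct s0_v5162
def s0_v5164 : Qt rels S := ed sl_bt s0_v5163
def s0_v5165 : Qt rels S := ed sl_at s0_v5164
def s0_v5166 : Qt rels S := ed sl_et s0_v2390
def s0_v5167 : Qt rels S := ed sl_dt s0_v5166
def s0_v5168 : Qt rels S := ed sl_ct s0_v5167
def s0_v5169 : Qt rels S := ed sl_bt s0_v5168
def s0_v5170 : Qt rels S := ed sl_at s0_v5169
def s0_v5171 : Qt rels S := ed sl_ht s0_v5170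
def s0_v5172 : Qt rels S := ed sl_ft s0_v5171
def s0_v5173 : Qt rels S := ed sl_et s0_v5172
def s0_v5174 : Qt rels S := ed sl_dt s0_v5173
def s0_v5175 : Qt rels S := ed sl_ct s0_v5174
def s0_v5176 : Qt rels S := ed sl_bt s0_v5175
def s0_v5177 : Qt rels S := ed sl_at s0_v5176
def s0_v5178 : Qt rels S := ed sl_ht s0_v5177
def s0_v5179 : Qt rels S := ed sl_ft s0_v5178
def s0_v5180 : Qt rels S := ed sl_et s0_v5179
def s0_v5181 : Qt rels S := ed sl_dt s0_v5180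
def s0_v5529 : Qt rels S := ed sl_bt sq10602
def s0_v5530 : Qt rels S := ed sl_ct s0_v5529
def s0_v5531 : Qt rels S := ed sl_dt s0_v5530
def s0_v5532 : Qt rels S := ed sl_it s0_v5531
def s0_v5533 : Qt rels S := ed sl_ht s0_v5532
def s0_v5534 : Qt rels S := ed sl_dt s0_v5533
def s0_v5535 : Qt rels S := ed sl_ft s0_v5534
def s0_v5536 : Qt rels S := ed sl_et s0_v5535
def s0_v5537 : Qt rels S := ed sl_dt s0_v5536
def s0_v5538 : Qt rels S := ed sl_bt s0_v5537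
def s0_v5539 : Qt rels S := ed sl_ct s0_v5538
def s0_v5540 : Qt rels S := ed sl_dt s0_v5539
def s0_v5541 : Qt rels S := ed sl_it s0_v5540
def s0_v5542 : Qt rels S := ed sl_ht s0_v5541
def s0_v5543 : Qt rels S := ed sl_dt s0_v5542
def s0_v5544 : Qt rels S := ed sl_ft s0_v5543
def s0_v5545 : Qt rels S := ed sl_et s0_v5544
def s0_v5546 : Qt rels S := ed sl_dt s0_v5545
def s0_v5547 : Qt rels S := ed sl_bt s0_v5546
def s0_v5548 : Qt rels S := ed sl_ct s0_v5547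
def s0_v5549 : Qt rels S := ed sl_dt s0_v5548
def s0_v5550 : Qt rels S := ed sl_it s0_v5549
def s0_v5551 : Qt rels S := ed sl_ht s0_v5550
def s0_v5552 : Qt rels S := ed sl_dt s0_v5551
def s0_v5553 : Qt rels S := ed sl_ft s0_v5552
def s0_v5554 : Qt rels S := ed sl_et s0_v5553
def s0_v5555 : Qt rels S := ed sl_dt s0_v5554
def s0_v5556 : Qt rels S := ed sl_bt s0_v5555
def s0_v5557 : Qt rels S := ed sl_ct s0_v5556
def s0_v5558 : Qt rels S := ed sl_dt s0_v5557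
def s0_v5559 : Qt rels S := ed sl_it s0_v5558
def s0_v5560 : Qt rels S := ed sl_ht s0_v5559
def s0_v5561 : Qt rels S := ed sl_dt s0_v5560
def s0_v5562 : Qt rels S := ed sl_ft s0_v5561
def s0_v5563 : Qt rels S := ed sl_et s0_v5562
def s0_v5564 : Qt rels S := ed sl_dt s0_v5563
def s0_v5565 : Qt rels S := ed sl_bt s0_v5564
def s0_v5566 : Qt rels S := ed sl_ct s0_v5565
def s0_v5567 : Qt rels S := ed sl_dt s0_v5566
def s0_v5568 : Qt rels S := ed sl_it s0_v5567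
def s0_v5569 : Qt rels S := ed sl_ht s0_v5568
def s0_v5570 : Qt rels S := ed sl_dt s0_v5569
def s0_v5571 : Qt rels S := ed sl_ft s0_v5570
def relWi_0_s0 : Word Gen := [sl_af, sl_af]
theorem relone_inv_0_s0 : wG rels relWi_0_s0 = 1 :=
  relone_inv rels relW_0 relone_0
def relWi_1_s0 : Word Gen := [sl_bf, sl_af, sl_bf, sl_af, sl_bf, sl_af]
theorem relone_inv_1_s0 : wG rels relWi_1_s0 = 1 :=
  relone_inv rels relW_1 relone_1
def relWi_2_s0 : Word Gen := [sl_cf, sl_af, sl_cf, sl_af]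
theorem relone_inv_2_s0 : wG rels relWi_2_s0 = 1 :=
  relone_inv rels relW_2 relone_2
def relWi_3_s0 : Word Gen := [sl_df, sl_af, sl_df, sl_af]
theorem relone_inv_3_s0 : wG rels relWi_3_s0 = 1 :=
  relone_inv rels relW_3 relone_3
def relWi_4_s0 : Word Gen := [sl_ef, sl_af, sl_ef, sl_af]
theorem relone_inv_4_s0 : wG rels relWi_4_s0 = 1 :=
  relone_inv rels relW_4 relone_4
def relWi_5_s0 : Word Gen := [sl_hf, sl_af, sl_hf, sl_af]
theorem relone_inv_5_s0 : wG rels relWi_5_s0 = 1 :=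
  relone_inv rels relW_5 relone_5
def relWi_6_s0 : Word Gen := [sl_ff, sl_af, sl_ff, sl_af]
theorem relone_inv_6_s0 : wG rels relWi_6_s0 = 1 :=
  relone_inv rels relW_6 relone_6
def relWi_8_s0 : Word Gen := [sl_jf, sl_af, sl_jf, sl_af]
theorem relone_inv_8_s0 : wG rels relWi_8_s0 = 1 :=
  relone_inv rels relW_8 relone_8
def relWi_9_s0 : Word Gen := [sl_if, sl_af, sl_if, sl_af]
theorem relone_inv_9_s0 : wG rels relWi_9_s0 = 1 :=
  relone_inv rels relW_9 relone_9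
def relWi_10_s0 : Word Gen := [sl_bf, sl_bf]
theorem relone_inv_10_s0 : wG rels relWi_10_s0 = 1 :=
  relone_inv rels relW_10 relone_10
def relWi_11_s0 : Word Gen := [sl_cf, sl_bf, sl_cf, sl_bf, sl_cf, sl_bf]
theorem relone_inv_11_s0 : wG rels relWi_11_s0 = 1 :=
  relone_inv rels relW_11 relone_11
def relWi_12_s0 : Word Gen := [sl_df, sl_bf, sl_df, sl_bf]
theorem relone_inv_12_s0 : wG rels relWi_12_s0 = 1 :=
  relone_inv rels relW_12 relone_12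
def relWi_13_s0 : Word Gen := [sl_ef, sl_bf, sl_ef, sl_bf]
theorem relone_inv_13_s0 : wG rels relWi_13_s0 = 1 :=
  relone_inv rels relW_13 relone_13
def relWi_14_s0 : Word Gen := [sl_hf, sl_bf, sl_hf, sl_bf]
theorem relone_inv_14_s0 : wG rels relWi_14_s0 = 1 :=
  relone_inv rels relW_14 relone_14
def relWi_15_s0 : Word Gen := [sl_ff, sl_bf, sl_ff, sl_bf]
theorem relone_inv_15_s0 : wG rels relWi_15_s0 = 1 :=
  relone_inv rels relW_15 relone_15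
def relWi_17_s0 : Word Gen := [sl_jf, sl_bf, sl_jf, sl_bf]
theorem relone_inv_17_s0 : wG rels relWi_17_s0 = 1 :=
  relone_inv rels relW_17 relone_17
def relWi_18_s0 : Word Gen := [sl_if, sl_bf, sl_if, sl_bf]
theorem relone_inv_18_s0 : wG rels relWi_18_s0 = 1 :=
  relone_inv rels relW_18 relone_18
def relWi_19_s0 : Word Gen := [sl_cf, sl_cf]
theorem relone_inv_19_s0 : wG rels relWi_19_s0 = 1 :=
  relone_inv rels relW_19 relone_19
def relWi_20_s0 : Word Gen := [sl_df, sl_cf, sl_df, sl_cf, sl_df, sl_cf]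
theorem relone_inv_20_s0 : wG rels relWi_20_s0 = 1 :=
  relone_inv rels relW_20 relone_20
def relWi_21_s0 : Word Gen := [sl_ef, sl_cf, sl_ef, sl_cf]
theorem relone_inv_21_s0 : wG rels relWi_21_s0 = 1 :=
  relone_inv rels relW_21 relone_21
def relWi_22_s0 : Word Gen := [sl_hf, sl_cf, sl_hf, sl_cf]
theorem relone_inv_22_s0 : wG rels relWi_22_s0 = 1 :=
  relone_inv rels relW_22 relone_22
def relWi_23_s0 : Word Gen := [sl_ff, sl_cf, sl_ff, sl_cf]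
theorem relone_inv_23_s0 : wG rels relWi_23_s0 = 1 :=
  relone_inv rels relW_23 relone_23
def relWi_25_s0 : Word Gen := [sl_jf, sl_cf, sl_jf, sl_cf]
theorem relone_inv_25_s0 : wG rels relWi_25_s0 = 1 :=
  relone_inv rels relW_25 relone_25
def relWi_26_s0 : Word Gen := [sl_if, sl_cf, sl_if, sl_cf]
theorem relone_inv_26_s0 : wG rels relWi_26_s0 = 1 :=
  relone_inv rels relW_26 relone_26
def relWi_27_s0 : Word Gen := [sl_df, sl_df]
theorem relone_inv_27_s0 : wG rels relWi_27_s0 = 1 :=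
  relone_inv rels relW_27 relone_27
def relWi_28_s0 : Word Gen := [sl_ef, sl_df, sl_ef, sl_df, sl_ef, sl_df]
theorem relone_inv_28_s0 : wG rels relWi_28_s0 = 1 :=
  relone_inv rels relW_28 relone_28
def relWi_29_s0 : Word Gen := [sl_hf, sl_df, sl_hf, sl_df, sl_hf, sl_df]
theorem relone_inv_29_s0 : wG rels relWi_29_s0 = 1 :=
  relone_inv rels relW_29 relone_29
def relWi_30_s0 : Word Gen := [sl_ff, sl_df, sl_ff, sl_df]
theorem relone_inv_30_s0 : wG rels relWi_30_s0 = 1 :=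
  relone_inv rels relW_30 relone_30
def relWi_31_s0 : Word Gen := [sl_gf, sl_df, sl_gf, sl_df]
theorem relone_inv_31_s0 : wG rels relWi_31_s0 = 1 :=
  relone_inv rels relW_31 relone_31
def relWi_32_s0 : Word Gen := [sl_jf, sl_df, sl_jf, sl_df]
theorem relone_inv_32_s0 : wG rels relWi_32_s0 = 1 :=
  relone_inv rels relW_32 relone_32
def relWi_33_s0 : Word Gen := [sl_if, sl_df, sl_if, sl_df]
theorem relone_inv_33_s0 : wG rels relWi_33_s0 = 1 :=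
  relone_inv rels relW_33 relone_33
def relWi_34_s0 : Word Gen := [sl_ef, sl_ef]
theorem relone_inv_34_s0 : wG rels relWi_34_s0 = 1 :=
  relone_inv rels relW_34 relone_34
def relWi_35_s0 : Word Gen := [sl_hf, sl_ef, sl_hf, sl_ef]
theorem relone_inv_35_s0 : wG rels relWi_35_s0 = 1 :=
  relone_inv rels relW_35 relone_35
def relWi_36_s0 : Word Gen := [sl_ff, sl_ef, sl_ff, sl_ef, sl_ff, sl_ef]
theorem relone_inv_36_s0 : wG rels relWi_36_s0 = 1 :=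
  relone_inv rels relW_36 relone_36
def relWi_38_s0 : Word Gen := [sl_jf, sl_ef, sl_jf, sl_ef]
theorem relone_inv_38_s0 : wG rels relWi_38_s0 = 1 :=
  relone_inv rels relW_38 relone_38
def relWi_39_s0 : Word Gen := [sl_if, sl_ef, sl_if, sl_ef]
theorem relone_inv_39_s0 : wG rels relWi_39_s0 = 1 :=
  relone_inv rels relW_39 relone_39
def relWi_40_s0 : Word Gen := [sl_hf, sl_hf]
theorem relone_inv_40_s0 : wG rels relWi_40_s0 = 1 :=
  relone_inv rels relW_40 relone_40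
def relWi_41_s0 : Word Gen := [sl_if, sl_hf, sl_if, sl_hf, sl_if, sl_hf]
theorem relone_inv_41_s0 : wG rels relWi_41_s0 = 1 :=
  relone_inv rels relW_41 relone_41
def relWi_42_s0 : Word Gen := [sl_hf, sl_ff, sl_hf, sl_ff]
theorem relone_inv_42_s0 : wG rels relWi_42_s0 = 1 :=
  relone_inv rels relW_42 relone_42
def relWi_43_s0 : Word Gen := [sl_ff, sl_ff]
theorem relone_inv_43_s0 : wG rels relWi_43_s0 = 1 :=
  relone_inv rels relW_43 relone_43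
def relWi_45_s0 : Word Gen := [sl_jf, sl_ff, sl_jf, sl_ff]
theorem relone_inv_45_s0 : wG rels relWi_45_s0 = 1 :=
  relone_inv rels relW_45 relone_45
def relWi_46_s0 : Word Gen := [sl_if, sl_ff, sl_if, sl_ff]
theorem relone_inv_46_s0 : wG rels relWi_46_s0 = 1 :=
  relone_inv rels relW_46 relone_46
def relWi_48_s0 : Word Gen := [sl_gf, sl_gf]
theorem relone_inv_48_s0 : wG rels relWi_48_s0 = 1 :=
  relone_inv rels relW_48 relone_48
def relWi_50_s0 : Word Gen := [sl_if, sl_gf, sl_if, sl_gf]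
theorem relone_inv_50_s0 : wG rels relWi_50_s0 = 1 :=
  relone_inv rels relW_50 relone_50
def relWi_51_s0 : Word Gen := [sl_hf, sl_jf, sl_hf, sl_jf]
theorem relone_inv_51_s0 : wG rels relWi_51_s0 = 1 :=
  relone_inv rels relW_51 relone_51
def relWi_53_s0 : Word Gen := [sl_if, sl_jf, sl_if, sl_jf]
theorem relone_inv_53_s0 : wG rels relWi_53_s0 = 1 :=
  relone_inv rels relW_53 relone_53
def relWi_54_s0 : Word Gen := [sl_if, sl_if]
theorem relone_inv_54_s0 : wG rels relWi_54_s0 = 1 :=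
  relone_inv rels relW_54 relone_54
def relWi_55_s0 : Word Gen := [sl_if, sl_hf, sl_df, sl_ff, sl_ef, sl_df, sl_bf, sl_cf, sl_df, sl_if, sl_hf, sl_df, sl_ff, sl_ef, sl_df, sl_bf, sl_cf, sl_df, sl_if, sl_hf, sl_df, sl_ff, sl_ef, sl_df, sl_bf, sl_cf, sl_df, sl_if, sl_hf, sl_df, sl_ff, sl_ef, sl_df, sl_bf, sl_cf, sl_df, sl_if, sl_hf, sl_df, sl_ff, sl_ef, sl_df, sl_bf, sl_cf, sl_df, sl_if, sl_hf, sl_df, sl_ff, sl_ef, sl_df, sl_bf, sl_cf, sl_df, sl_if, sl_hf, sl_df, sl_ff, sl_ef, sl_df, sl_bf, sl_cf, sl_df, sl_if, sl_hf, sl_df, sl_ff, sl_ef, sl_df, sl_bf, sl_cf, sl_df, sl_if, sl_hf, sl_df, sl_ff, sl_ef, sl_df, sl_bf, sl_cf, sl_df, sl_if, sl_hf, sl_df, sl_ff, sl_ef, sl_df, sl_bf, sl_cf, sl_df]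
theorem relone_inv_55_s0 : wG rels relWi_55_s0 = 1 :=
  relone_inv rels relW_55 relone_55
def relWi_56_s0 : Word Gen := [sl_hf, sl_ff, sl_ef, sl_df, sl_cf, sl_bf, sl_af, sl_hf, sl_ff, sl_ef, sl_df, sl_cf, sl_bf, sl_af, sl_hf, sl_ff, sl_ef, sl_df, sl_cf, sl_bf, sl_af, sl_hf, sl_ff, sl_ef, sl_df, sl_cf, sl_bf, sl_af, sl_hf, sl_ff, sl_ef, sl_df, sl_cf, sl_bf, sl_af, sl_hf, sl_ff, sl_ef, sl_df, sl_cf, sl_bf, sl_af, sl_hf, sl_ff, sl_ef, sl_df, sl_cf, sl_bf, sl_af, sl_hf, sl_ff, sl_ef, sl_df, sl_cf, sl_bf, sl_af, sl_hf, sl_ff, sl_ef, sl_df, sl_cf, sl_bf, sl_af]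
theorem relone_inv_56_s0 : wG rels relWi_56_s0 = 1 :=
  relone_inv rels relW_56 relone_56
theorem s0_rot0 : wG rels [sl_cf, sl_cf] = 1 :=
  wG_of_rotate rels relWi_19_s0 [sl_cf, sl_cf] 0 (by decide +kernel) relone_inv_19_s0
theorem s0_rot1 : wG rels [sl_ff, sl_cf, sl_ff, sl_cf] = 1 :=
  wG_of_rotate rels relWi_23_s0 [sl_ff, sl_cf, sl_ff, sl_cf] 0 (by decide +kernel) relone_inv_23_s0
theorem s0_rot2 : wG rels [sl_jf, sl_cf, sl_jf, sl_cf] = 1 :=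
  wG_of_rotate rels relWi_25_s0 [sl_jf, sl_cf, sl_jf, sl_cf] 0 (by decide +kernel) relone_inv_25_s0
theorem s0_rot3 : wG rels [sl_cf, sl_df, sl_cf, sl_df, sl_cf, sl_df] = 1 :=
  wG_of_rotate rels relWi_20_s0 [sl_cf, sl_df, sl_cf, sl_df, sl_cf, sl_df] 1 (by decide +kernel) relone_inv_20_s0
theorem s0_rot4 : wG rels [sl_df, sl_df] = 1 :=
  wG_of_rotate rels relWi_27_s0 [sl_df, sl_df] 0 (by decide +kernel) relone_inv_27_s0
theorem s0_rot5 : wG rels [sl_ff, sl_df, sl_ff, sl_df] = 1 :=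
  wG_of_rotate rels relWi_30_s0 [sl_ff, sl_df, sl_ff, sl_df] 0 (by decide +kernel) relone_inv_30_s0
theorem s0_rot6 : wG rels [sl_jf, sl_df, sl_jf, sl_df] = 1 :=
  wG_of_rotate rels relWi_32_s0 [sl_jf, sl_df, sl_jf, sl_df] 0 (by decide +kernel) relone_inv_32_s0
theorem s0_rot7 : wG rels [sl_ct, sl_jt, sl_ct, sl_jt] = 1 :=
  wG_of_rotate rels relW_25 [sl_ct, sl_jt, sl_ct, sl_jt] 0 (by decide +kernel) relone_25
theorem s0_rot8 : wG rels [sl_ef, sl_cf, sl_ef, sl_cf] = 1 :=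
  wG_of_rotate rels relWi_21_s0 [sl_ef, sl_cf, sl_ef, sl_cf] 0 (by decide +kernel) relone_inv_21_s0
theorem s0_rot9 : wG rels [sl_if, sl_if] = 1 :=
  wG_of_rotate rels relWi_54_s0 [sl_if, sl_if] 0 (by decide +kernel) relone_inv_54_s0
theorem s0_rot10 : wG rels [sl_et, sl_it, sl_et, sl_it] = 1 :=
  wG_of_rotate rels relW_39 [sl_et, sl_it, sl_et, sl_it] 0 (by decide +kernel) relone_39
theorem s0_rot11 : wG rels [sl_ft, sl_it, sl_ft, sl_it] = 1 :=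
  wG_of_rotate rels relW_46 [sl_ft, sl_it, sl_ft, sl_it] 0 (by decide +kernel) relone_46
theorem s0_rot12 : wG rels [sl_jt, sl_it, sl_jt, sl_it] = 1 :=
  wG_of_rotate rels relW_53 [sl_jt, sl_it, sl_jt, sl_it] 0 (by decide +kernel) relone_53
theorem s0_rot13 : wG rels [sl_hf, sl_hf] = 1 :=
  wG_of_rotate rels relWi_40_s0 [sl_hf, sl_hf] 0 (by decide +kernel) relone_inv_40_s0
theorem s0_rot14 : wG rels [sl_ff, sl_hf, sl_ff, sl_hf] = 1 :=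
  wG_of_rotate rels relWi_42_s0 [sl_ff, sl_hf, sl_ff, sl_hf] 1 (by decide +kernel) relone_inv_42_s0
theorem s0_rot15 : wG rels [sl_jf, sl_hf, sl_jf, sl_hf] = 1 :=
  wG_of_rotate rels relWi_51_s0 [sl_jf, sl_hf, sl_jf, sl_hf] 1 (by decide +kernel) relone_inv_51_s0
theorem s0_rot16 : wG rels [sl_et, sl_ht, sl_et, sl_ht] = 1 :=
  wG_of_rotate rels relW_35 [sl_et, sl_ht, sl_et, sl_ht] 0 (by decide +kernel) relone_35
theorem s0_rot17 : wG rels [sl_ef, sl_ef] = 1 :=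
  wG_of_rotate rels relWi_34_s0 [sl_ef, sl_ef] 0 (by decide +kernel) relone_inv_34_s0
theorem s0_rot18 : wG rels [sl_jf, sl_ef, sl_jf, sl_ef] = 1 :=
  wG_of_rotate rels relWi_38_s0 [sl_jf, sl_ef, sl_jf, sl_ef] 0 (by decide +kernel) relone_inv_38_s0
theorem s0_rot19 : wG rels [sl_dt, sl_et, sl_dt, sl_et, sl_dt, sl_et] = 1 :=
  wG_of_rotate rels relW_28 [sl_dt, sl_et, sl_dt, sl_et, sl_dt, sl_et] 0 (by decide +kernel) relone_28
theorem s0_rot20 : wG rels [sl_bf, sl_bf] = 1 :=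
  wG_of_rotate rels relWi_10_s0 [sl_bf, sl_bf] 0 (by decide +kernel) relone_inv_10_s0
theorem s0_rot21 : wG rels [sl_jf, sl_bf, sl_jf, sl_bf] = 1 :=
  wG_of_rotate rels relWi_17_s0 [sl_jf, sl_bf, sl_jf, sl_bf] 0 (by decide +kernel) relone_inv_17_s0
theorem s0_rot22 : wG rels [sl_ff, sl_ff] = 1 :=
  wG_of_rotate rels relWi_43_s0 [sl_ff, sl_ff] 0 (by decide +kernel) relone_inv_43_s0
theorem s0_rot23 : wG rels [sl_jf, sl_ff, sl_jf, sl_ff] = 1 :=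
  wG_of_rotate rels relWi_45_s0 [sl_jf, sl_ff, sl_jf, sl_ff] 0 (by decide +kernel) relone_inv_45_s0
theorem s0_rot24 : wG rels [sl_bf, sl_cf, sl_df, sl_if, sl_hf, sl_df, sl_ff, sl_ef, sl_df, sl_bf, sl_cf, sl_df, sl_if, sl_hf, sl_df, sl_ff, sl_ef, sl_df, sl_bf, sl_cf, sl_df, sl_if, sl_hf, sl_df, sl_ff, sl_ef, sl_df, sl_bf, sl_cf, sl_df, sl_if, sl_hf, sl_df, sl_ff, sl_ef, sl_df, sl_bf, sl_cf, sl_df, sl_if, sl_hf, sl_df, sl_ff, sl_ef, sl_df, sl_bf, sl_cf, sl_df, sl_if, sl_hf, sl_df, sl_ff, sl_ef, sl_df, sl_bf, sl_cf, sl_df, sl_if, sl_hf, sl_df, sl_ff, sl_ef, sl_df, sl_bf, sl_cf, sl_df, sl_if, sl_hf, sl_df, sl_ff, sl_ef, sl_df, sl_bf, sl_cf, sl_df, sl_if, sl_hf, sl_df, sl_ff, sl_ef, sl_df, sl_bf, sl_cf, sl_df, sl_if, sl_hf, sl_df, sl_ff, sl_ef, sl_df] = 1 :=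
  wG_of_rotate rels relWi_55_s0 [sl_bf, sl_cf, sl_df, sl_if, sl_hf, sl_df, sl_ff, sl_ef, sl_df, sl_bf, sl_cf, sl_df, sl_if, sl_hf, sl_df, sl_ff, sl_ef, sl_df, sl_bf, sl_cf, sl_df, sl_if, sl_hf, sl_df, sl_ff, sl_ef, sl_df, sl_bf, sl_cf, sl_df, sl_if, sl_hf, sl_df, sl_ff, sl_ef, sl_df, sl_bf, sl_cf, sl_df, sl_if, sl_hf, sl_df, sl_ff, sl_ef, sl_df, sl_bf, sl_cf, sl_df, sl_if, sl_hf, sl_df, sl_ff, sl_ef, sl_df, sl_bf, sl_cf, sl_df, sl_if, sl_hf, sl_df, sl_ff, sl_ef, sl_df, sl_bf, sl_cf, sl_df, sl_if, sl_hf, sl_df, sl_ff, sl_ef, sl_df, sl_bf, sl_cf, sl_df, sl_if, sl_hf, sl_df, sl_ff, sl_ef, sl_df, sl_bf, sl_cf, sl_df, sl_if, sl_hf, sl_df, sl_ff, sl_ef, sl_df] 6 (by decide +kernel) relone_inv_55_s0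
theorem s0_rot25 : wG rels [sl_bt, sl_bt] = 1 :=
  wG_of_rotate rels relW_10 [sl_bt, sl_bt] 0 (by decide +kernel) relone_10
theorem s0_rot26 : wG rels [sl_ct, sl_bt, sl_ct, sl_bt, sl_ct, sl_bt] = 1 :=
  wG_of_rotate rels relW_11 [sl_ct, sl_bt, sl_ct, sl_bt, sl_ct, sl_bt] 1 (by decide +kernel) relone_11
theorem s0_rot27 : wG rels [sl_ft, sl_bt, sl_ft, sl_bt] = 1 :=
  wG_of_rotate rels relW_15 [sl_ft, sl_bt, sl_ft, sl_bt] 1 (by decide +kernel) relone_15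
theorem s0_rot28 : wG rels [sl_it, sl_bt, sl_it, sl_bt] = 1 :=
  wG_of_rotate rels relW_18 [sl_it, sl_bt, sl_it, sl_bt] 1 (by decide +kernel) relone_18
theorem s0_rot29 : wG rels [sl_dt, sl_bt, sl_dt, sl_bt] = 1 :=
  wG_of_rotate rels relW_12 [sl_dt, sl_bt, sl_dt, sl_bt] 1 (by decide +kernel) relone_12
theorem s0_rot30 : wG rels [sl_cf, sl_hf, sl_cf, sl_hf] = 1 :=
  wG_of_rotate rels relWi_22_s0 [sl_cf, sl_hf, sl_cf, sl_hf] 1 (by decide +kernel) relone_inv_22_s0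
theorem s0_rot31 : wG rels [sl_if, sl_hf, sl_if, sl_hf, sl_if, sl_hf] = 1 :=
  wG_of_rotate rels relWi_41_s0 [sl_if, sl_hf, sl_if, sl_hf, sl_if, sl_hf] 0 (by decide +kernel) relone_inv_41_s0
theorem s0_rot32 : wG rels [sl_hf, sl_df, sl_hf, sl_df, sl_hf, sl_df] = 1 :=
  wG_of_rotate rels relWi_29_s0 [sl_hf, sl_df, sl_hf, sl_df, sl_hf, sl_df] 0 (by decide +kernel) relone_inv_29_s0
theorem s0_rot33 : wG rels [sl_if, sl_df, sl_if, sl_df] = 1 :=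
  wG_of_rotate rels relWi_33_s0 [sl_if, sl_df, sl_if, sl_df] 0 (by decide +kernel) relone_inv_33_s0
theorem s0_rot34 : wG rels [sl_hf, sl_ef, sl_hf, sl_ef] = 1 :=
  wG_of_rotate rels relWi_35_s0 [sl_hf, sl_ef, sl_hf, sl_ef] 0 (by decide +kernel) relone_inv_35_s0
theorem s0_rot35 : wG rels [sl_if, sl_ef, sl_if, sl_ef] = 1 :=
  wG_of_rotate rels relWi_39_s0 [sl_if, sl_ef, sl_if, sl_ef] 0 (by decide +kernel) relone_inv_39_s0
theorem s0_rot36 : wG rels [sl_df, sl_bf, sl_df, sl_bf] = 1 :=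
  wG_of_rotate rels relWi_12_s0 [sl_df, sl_bf, sl_df, sl_bf] 0 (by decide +kernel) relone_inv_12_s0
theorem s0_rot37 : wG rels [sl_hf, sl_bf, sl_hf, sl_bf] = 1 :=
  wG_of_rotate rels relWi_14_s0 [sl_hf, sl_bf, sl_hf, sl_bf] 0 (by decide +kernel) relone_inv_14_s0
theorem s0_rot38 : wG rels [sl_if, sl_bf, sl_if, sl_bf] = 1 :=
  wG_of_rotate rels relWi_18_s0 [sl_if, sl_bf, sl_if, sl_bf] 0 (by decide +kernel) relone_inv_18_s0
theorem s0_rot39 : wG rels [sl_hf, sl_cf, sl_hf, sl_cf] = 1 :=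
  wG_of_rotate rels relWi_22_s0 [sl_hf, sl_cf, sl_hf, sl_cf] 0 (by decide +kernel) relone_inv_22_s0
theorem s0_rot40 : wG rels [sl_if, sl_cf, sl_if, sl_cf] = 1 :=
  wG_of_rotate rels relWi_26_s0 [sl_if, sl_cf, sl_if, sl_cf] 0 (by decide +kernel) relone_inv_26_s0
theorem s0_rot41 : wG rels [sl_dt, sl_ht, sl_dt, sl_ht, sl_dt, sl_ht] = 1 :=
  wG_of_rotate rels relW_29 [sl_dt, sl_ht, sl_dt, sl_ht, sl_dt, sl_ht] 0 (by decide +kernel) relone_29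
theorem s0_rot42 : wG rels [sl_hf, sl_df, sl_ff, sl_ef, sl_df, sl_bf, sl_cf, sl_df, sl_if, sl_hf, sl_df, sl_ff, sl_ef, sl_df, sl_bf, sl_cf, sl_df, sl_if, sl_hf, sl_df, sl_ff, sl_ef, sl_df, sl_bf, sl_cf, sl_df, sl_if, sl_hf, sl_df, sl_ff, sl_ef, sl_df, sl_bf, sl_cf, sl_df, sl_if, sl_hf, sl_df, sl_ff, sl_ef, sl_df, sl_bf, sl_cf, sl_df, sl_if, sl_hf, sl_df, sl_ff, sl_ef, sl_df, sl_bf, sl_cf, sl_df, sl_if, sl_hf, sl_df, sl_ff, sl_ef, sl_df, sl_bf, sl_cf, sl_df, sl_if, sl_hf, sl_df, sl_ff, sl_ef, sl_df, sl_bf, sl_cf, sl_df, sl_if, sl_hf, sl_df, sl_ff, sl_ef, sl_df, sl_bf, sl_cf, sl_df, sl_if, sl_hf, sl_df, sl_ff, sl_ef, sl_df, sl_bf, sl_cf, sl_df, sl_if] = 1 :=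
  wG_of_rotate rels relWi_55_s0 [sl_hf, sl_df, sl_ff, sl_ef, sl_df, sl_bf, sl_cf, sl_df, sl_if, sl_hf, sl_df, sl_ff, sl_ef, sl_df, sl_bf, sl_cf, sl_df, sl_if, sl_hf, sl_df, sl_ff, sl_ef, sl_df, sl_bf, sl_cf, sl_df, sl_if, sl_hf, sl_df, sl_ff, sl_ef, sl_df, sl_bf, sl_cf, sl_df, sl_if, sl_hf, sl_df, sl_ff, sl_ef, sl_df, sl_bf, sl_cf, sl_df, sl_if, sl_hf, sl_df, sl_ff, sl_ef, sl_df, sl_bf, sl_cf, sl_df, sl_if, sl_hf, sl_df, sl_ff, sl_ef, sl_df, sl_bf, sl_cf, sl_df, sl_if, sl_hf, sl_df, sl_ff, sl_ef, sl_df, sl_bf, sl_cf, sl_df, sl_if, sl_hf, sl_df, sl_ff, sl_ef, sl_df, sl_bf, sl_cf, sl_df, sl_if, sl_hf, sl_df, sl_ff, sl_ef, sl_df, sl_bf, sl_cf, sl_df, sl_if] 1 (by decide +kernel) relone_inv_55_s0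
theorem s0_rot43 : wG rels [sl_bt, sl_ht, sl_bt, sl_ht] = 1 :=
  wG_of_rotate rels relW_14 [sl_bt, sl_ht, sl_bt, sl_ht] 0 (by decide +kernel) relone_14
theorem s0_rot44 : wG rels [sl_ht, sl_ht] = 1 :=
  wG_of_rotate rels relW_40 [sl_ht, sl_ht] 0 (by decide +kernel) relone_40
theorem s0_rot45 : wG rels [sl_ht, sl_it, sl_ht, sl_it, sl_ht, sl_it] = 1 :=
  wG_of_rotate rels relW_41 [sl_ht, sl_it, sl_ht, sl_it, sl_ht, sl_it] 0 (by decide +kernel) relone_41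
theorem s0_rot46 : wG rels [sl_ft, sl_ht, sl_ft, sl_ht] = 1 :=
  wG_of_rotate rels relW_42 [sl_ft, sl_ht, sl_ft, sl_ht] 0 (by decide +kernel) relone_42
theorem s0_rot47 : wG rels [sl_jt, sl_ht, sl_jt, sl_ht] = 1 :=
  wG_of_rotate rels relW_51 [sl_jt, sl_ht, sl_jt, sl_ht] 0 (by decide +kernel) relone_51
theorem s0_rot48 : wG rels [sl_bf, sl_jf, sl_bf, sl_jf] = 1 :=
  wG_of_rotate rels relWi_17_s0 [sl_bf, sl_jf, sl_bf, sl_jf] 1 (by decide +kernel) relone_inv_17_s0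
theorem s0_rot49 : wG rels [sl_et, sl_bt, sl_et, sl_bt] = 1 :=
  wG_of_rotate rels relW_13 [sl_et, sl_bt, sl_et, sl_bt] 1 (by decide +kernel) relone_13
theorem s0_rot50 : wG rels [sl_ef, sl_if, sl_ef, sl_if] = 1 :=
  wG_of_rotate rels relWi_39_s0 [sl_ef, sl_if, sl_ef, sl_if] 1 (by decide +kernel) relone_inv_39_s0
theorem s0_rot51 : wG rels [sl_df, sl_if, sl_df, sl_if] = 1 :=
  wG_of_rotate rels relWi_33_s0 [sl_df, sl_if, sl_df, sl_if] 1 (by decide +kernel) relone_inv_33_s0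
theorem s0_rot52 : wG rels [sl_ff, sl_if, sl_ff, sl_if] = 1 :=
  wG_of_rotate rels relWi_46_s0 [sl_ff, sl_if, sl_ff, sl_if] 1 (by decide +kernel) relone_inv_46_s0
theorem s0_rot53 : wG rels [sl_ft, sl_ct, sl_ft, sl_ct] = 1 :=
  wG_of_rotate rels relW_23 [sl_ft, sl_ct, sl_ft, sl_ct] 1 (by decide +kernel) relone_23
theorem s0_rot54 : wG rels [sl_ff, sl_bf, sl_ff, sl_bf] = 1 :=
  wG_of_rotate rels relWi_15_s0 [sl_ff, sl_bf, sl_ff, sl_bf] 0 (by decide +kernel) relone_inv_15_s0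
theorem s0_rot55 : wG rels [sl_ft, sl_dt, sl_ft, sl_dt] = 1 :=
  wG_of_rotate rels relW_30 [sl_ft, sl_dt, sl_ft, sl_dt] 1 (by decide +kernel) relone_30
theorem s0_rot56 : wG rels [sl_ht, sl_bt, sl_ht, sl_bt] = 1 :=
  wG_of_rotate rels relW_14 [sl_ht, sl_bt, sl_ht, sl_bt] 1 (by decide +kernel) relone_14
theorem s0_rot57 : wG rels [sl_df, sl_ef, sl_df, sl_ef, sl_df, sl_ef] = 1 :=
  wG_of_rotate rels relWi_28_s0 [sl_df, sl_ef, sl_df, sl_ef, sl_df, sl_ef] 1 (by decide +kernel) relone_inv_28_s0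
theorem s0_rot58 : wG rels [sl_df, sl_ff, sl_ef, sl_df, sl_bf, sl_cf, sl_df, sl_if, sl_hf, sl_df, sl_ff, sl_ef, sl_df, sl_bf, sl_cf, sl_df, sl_if, sl_hf, sl_df, sl_ff, sl_ef, sl_df, sl_bf, sl_cf, sl_df, sl_if, sl_hf, sl_df, sl_ff, sl_ef, sl_df, sl_bf, sl_cf, sl_df, sl_if, sl_hf, sl_df, sl_ff, sl_ef, sl_df, sl_bf, sl_cf, sl_df, sl_if, sl_hf, sl_df, sl_ff, sl_ef, sl_df, sl_bf, sl_cf, sl_df, sl_if, sl_hf, sl_df, sl_ff, sl_ef, sl_df, sl_bf, sl_cf, sl_df, sl_if, sl_hf, sl_df, sl_ff, sl_ef, sl_df, sl_bf, sl_cf, sl_df, sl_if, sl_hf, sl_df, sl_ff, sl_ef, sl_df, sl_bf, sl_cf, sl_df, sl_if, sl_hf, sl_df, sl_ff, sl_ef, sl_df, sl_bf, sl_cf, sl_df, sl_if, sl_hf] = 1 :=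
  wG_of_rotate rels relWi_55_s0 [sl_df, sl_ff, sl_ef, sl_df, sl_bf, sl_cf, sl_df, sl_if, sl_hf, sl_df, sl_ff, sl_ef, sl_df, sl_bf, sl_cf, sl_df, sl_if, sl_hf, sl_df, sl_ff, sl_ef, sl_df, sl_bf, sl_cf, sl_df, sl_if, sl_hf, sl_df, sl_ff, sl_ef, sl_df, sl_bf, sl_cf, sl_df, sl_if, sl_hf, sl_df, sl_ff, sl_ef, sl_df, sl_bf, sl_cf, sl_df, sl_if, sl_hf, sl_df, sl_ff, sl_ef, sl_df, sl_bf, sl_cf, sl_df, sl_if, sl_hf, sl_df, sl_ff, sl_ef, sl_df, sl_bf, sl_cf, sl_df, sl_if, sl_hf, sl_df, sl_ff, sl_ef, sl_df, sl_bf, sl_cf, sl_df, sl_if, sl_hf, sl_df, sl_ff, sl_ef, sl_df, sl_bf, sl_cf, sl_df, sl_if, sl_hf, sl_df, sl_ff, sl_ef, sl_df, sl_bf, sl_cf, sl_df, sl_if, sl_hf] 2 (by decide +kernel) relone_inv_55_s0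
theorem s0_rot59 : wG rels [sl_dt, sl_dt] = 1 :=
  wG_of_rotate rels relW_27 [sl_dt, sl_dt] 0 (by decide +kernel) relone_27
theorem s0_rot60 : wG rels [sl_et, sl_dt, sl_et, sl_dt, sl_et, sl_dt] = 1 :=
  wG_of_rotate rels relW_28 [sl_et, sl_dt, sl_et, sl_dt, sl_et, sl_dt] 1 (by decide +kernel) relone_28
theorem s0_rot61 : wG rels [sl_ff, sl_ef, sl_ff, sl_ef, sl_ff, sl_ef] = 1 :=
  wG_of_rotate rels relWi_36_s0 [sl_ff, sl_ef, sl_ff, sl_ef, sl_ff, sl_ef] 0 (by decide +kernel) relone_inv_36_s0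
theorem s0_rot62 : wG rels [sl_bt, sl_ft, sl_bt, sl_ft] = 1 :=
  wG_of_rotate rels relW_15 [sl_bt, sl_ft, sl_bt, sl_ft] 0 (by decide +kernel) relone_15
theorem s0_rot63 : wG rels [sl_cf, sl_df, sl_if, sl_hf, sl_df, sl_ff, sl_ef, sl_df, sl_bf, sl_cf, sl_df, sl_if, sl_hf, sl_df, sl_ff, sl_ef, sl_df, sl_bf, sl_cf, sl_df, sl_if, sl_hf, sl_df, sl_ff, sl_ef, sl_df, sl_bf, sl_cf, sl_df, sl_if, sl_hf, sl_df, sl_ff, sl_ef, sl_df, sl_bf, sl_cf, sl_df, sl_if, sl_hf, sl_df, sl_ff, sl_ef, sl_df, sl_bf, sl_cf, sl_df, sl_if, sl_hf, sl_df, sl_ff, sl_ef, sl_df, sl_bf, sl_cf, sl_df, sl_if, sl_hf, sl_df, sl_ff, sl_ef, sl_df, sl_bf, sl_cf, sl_df, sl_if, sl_hf, sl_df, sl_ff, sl_ef, sl_df, sl_bf, sl_cf, sl_df, sl_if, sl_hf, sl_df, sl_ff, sl_ef, sl_df, sl_bf, sl_cf, sl_df, sl_if, sl_hf, sl_df, sl_ff, sl_ef, sl_df, sl_bf] = 1 :=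
  wG_of_rotate rels relWi_55_s0 [sl_cf, sl_df, sl_if, sl_hf, sl_df, sl_ff, sl_ef, sl_df, sl_bf, sl_cf, sl_df, sl_if, sl_hf, sl_df, sl_ff, sl_ef, sl_df, sl_bf, sl_cf, sl_df, sl_if, sl_hf, sl_df, sl_ff, sl_ef, sl_df, sl_bf, sl_cf, sl_df, sl_if, sl_hf, sl_df, sl_ff, sl_ef, sl_df, sl_bf, sl_cf, sl_df, sl_if, sl_hf, sl_df, sl_ff, sl_ef, sl_df, sl_bf, sl_cf, sl_df, sl_if, sl_hf, sl_df, sl_ff, sl_ef, sl_df, sl_bf, sl_cf, sl_df, sl_if, sl_hf, sl_df, sl_ff, sl_ef, sl_df, sl_bf, sl_cf, sl_df, sl_if, sl_hf, sl_df, sl_ff, sl_ef, sl_df, sl_bf, sl_cf, sl_df, sl_if, sl_hf, sl_df, sl_ff, sl_ef, sl_df, sl_bf, sl_cf, sl_df, sl_if, sl_hf, sl_df, sl_ff, sl_ef, sl_df, sl_bf] 7 (by decide +kernel) relone_inv_55_s0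
theorem s0_rot64 : wG rels [sl_ct, sl_ct] = 1 :=
  wG_of_rotate rels relW_19 [sl_ct, sl_ct] 0 (by decide +kernel) relone_19
theorem s0_rot65 : wG rels [sl_ht, sl_ct, sl_ht, sl_ct] = 1 :=
  wG_of_rotate rels relW_22 [sl_ht, sl_ct, sl_ht, sl_ct] 1 (by decide +kernel) relone_22
theorem s0_rot66 : wG rels [sl_it, sl_ct, sl_it, sl_ct] = 1 :=
  wG_of_rotate rels relW_26 [sl_it, sl_ct, sl_it, sl_ct] 1 (by decide +kernel) relone_26
theorem s0_rot67 : wG rels [sl_hf, sl_if, sl_hf, sl_if, sl_hf, sl_if] = 1 :=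
  wG_of_rotate rels relWi_41_s0 [sl_hf, sl_if, sl_hf, sl_if, sl_hf, sl_if] 1 (by decide +kernel) relone_inv_41_s0
theorem s0_rot68 : wG rels [sl_ct, sl_ht, sl_ct, sl_ht] = 1 :=
  wG_of_rotate rels relW_22 [sl_ct, sl_ht, sl_ct, sl_ht] 0 (by decide +kernel) relone_22
theorem s0_rot69 : wG rels [sl_ht, sl_dt, sl_ht, sl_dt, sl_ht, sl_dt] = 1 :=
  wG_of_rotate rels relW_29 [sl_ht, sl_dt, sl_ht, sl_dt, sl_ht, sl_dt] 1 (by decide +kernel) relone_29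
theorem s0_rot70 : wG rels [sl_it, sl_dt, sl_it, sl_dt] = 1 :=
  wG_of_rotate rels relW_33 [sl_it, sl_dt, sl_it, sl_dt] 1 (by decide +kernel) relone_33
theorem s0_rot71 : wG rels [sl_bt, sl_ct, sl_bt, sl_ct, sl_bt, sl_ct] = 1 :=
  wG_of_rotate rels relW_11 [sl_bt, sl_ct, sl_bt, sl_ct, sl_bt, sl_ct] 0 (by decide +kernel) relone_11
theorem s0_rot72 : wG rels [sl_it, sl_et, sl_it, sl_et] = 1 :=
  wG_of_rotate rels relW_39 [sl_it, sl_et, sl_it, sl_et] 1 (by decide +kernel) relone_39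
theorem s0_rot73 : wG rels [sl_bf, sl_hf, sl_bf, sl_hf] = 1 :=
  wG_of_rotate rels relWi_14_s0 [sl_bf, sl_hf, sl_bf, sl_hf] 1 (by decide +kernel) relone_inv_14_s0
theorem s0_rot74 : wG rels [sl_bt, sl_it, sl_bt, sl_it] = 1 :=
  wG_of_rotate rels relW_18 [sl_bt, sl_it, sl_bt, sl_it] 0 (by decide +kernel) relone_18
theorem s0_rot75 : wG rels [sl_bf, sl_df, sl_bf, sl_df] = 1 :=
  wG_of_rotate rels relWi_12_s0 [sl_bf, sl_df, sl_bf, sl_df] 1 (by decide +kernel) relone_inv_12_s0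
theorem s0_rot76 : wG rels [sl_ct, sl_et, sl_ct, sl_et] = 1 :=
  wG_of_rotate rels relW_21 [sl_ct, sl_et, sl_ct, sl_et] 0 (by decide +kernel) relone_21
theorem s0_rot77 : wG rels [sl_bt, sl_et, sl_bt, sl_et] = 1 :=
  wG_of_rotate rels relW_13 [sl_bt, sl_et, sl_bt, sl_et] 0 (by decide +kernel) relone_13
theorem s0_rot78 : wG rels [sl_ht, sl_jt, sl_ht, sl_jt] = 1 :=
  wG_of_rotate rels relW_51 [sl_ht, sl_jt, sl_ht, sl_jt] 1 (by decide +kernel) relone_51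
theorem s0_rot79 : wG rels [sl_bt, sl_dt, sl_bt, sl_dt] = 1 :=
  wG_of_rotate rels relW_12 [sl_bt, sl_dt, sl_bt, sl_dt] 0 (by decide +kernel) relone_12
theorem s0_rot80 : wG rels [sl_df, sl_cf, sl_df, sl_cf, sl_df, sl_cf] = 1 :=
  wG_of_rotate rels relWi_20_s0 [sl_df, sl_cf, sl_df, sl_cf, sl_df, sl_cf] 0 (by decide +kernel) relone_inv_20_s0
theorem s0_rot81 : wG rels [sl_if, sl_ff, sl_if, sl_ff] = 1 :=
  wG_of_rotate rels relWi_46_s0 [sl_if, sl_ff, sl_if, sl_ff] 0 (by decide +kernel) relone_inv_46_s0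
theorem s0_rot82 : wG rels [sl_ef, sl_df, sl_bf, sl_cf, sl_df, sl_if, sl_hf, sl_df, sl_ff, sl_ef, sl_df, sl_bf, sl_cf, sl_df, sl_if, sl_hf, sl_df, sl_ff, sl_ef, sl_df, sl_bf, sl_cf, sl_df, sl_if, sl_hf, sl_df, sl_ff, sl_ef, sl_df, sl_bf, sl_cf, sl_df, sl_if, sl_hf, sl_df, sl_ff, sl_ef, sl_df, sl_bf, sl_cf, sl_df, sl_if, sl_hf, sl_df, sl_ff, sl_ef, sl_df, sl_bf, sl_cf, sl_df, sl_if, sl_hf, sl_df, sl_ff, sl_ef, sl_df, sl_bf, sl_cf, sl_df, sl_if, sl_hf, sl_df, sl_ff, sl_ef, sl_df, sl_bf, sl_cf, sl_df, sl_if, sl_hf, sl_df, sl_ff, sl_ef, sl_df, sl_bf, sl_cf, sl_df, sl_if, sl_hf, sl_df, sl_ff, sl_ef, sl_df, sl_bf, sl_cf, sl_df, sl_if, sl_hf, sl_df, sl_ff] = 1 :=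
  wG_of_rotate rels relWi_55_s0 [sl_ef, sl_df, sl_bf, sl_cf, sl_df, sl_if, sl_hf, sl_df, sl_ff, sl_ef, sl_df, sl_bf, sl_cf, sl_df, sl_if, sl_hf, sl_df, sl_ff, sl_ef, sl_df, sl_bf, sl_cf, sl_df, sl_if, sl_hf, sl_df, sl_ff, sl_ef, sl_df, sl_bf, sl_cf, sl_df, sl_if, sl_hf, sl_df, sl_ff, sl_ef, sl_df, sl_bf, sl_cf, sl_df, sl_if, sl_hf, sl_df, sl_ff, sl_ef, sl_df, sl_bf, sl_cf, sl_df, sl_if, sl_hf, sl_df, sl_ff, sl_ef, sl_df, sl_bf, sl_cf, sl_df, sl_if, sl_hf, sl_df, sl_ff, sl_ef, sl_df, sl_bf, sl_cf, sl_df, sl_if, sl_hf, sl_df, sl_ff, sl_ef, sl_df, sl_bf, sl_cf, sl_df, sl_if, sl_hf, sl_df, sl_ff, sl_ef, sl_df, sl_bf, sl_cf, sl_df, sl_if, sl_hf, sl_df, sl_ff] 4 (by decide +kernel) relone_inv_55_s0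
theorem s0_rot83 : wG rels [sl_et, sl_et] = 1 :=
  wG_of_rotate rels relW_34 [sl_et, sl_et] 0 (by decide +kernel) relone_34
theorem s0_rot84 : wG rels [sl_bf, sl_ef, sl_bf, sl_ef] = 1 :=
  wG_of_rotate rels relWi_13_s0 [sl_bf, sl_ef, sl_bf, sl_ef] 1 (by decide +kernel) relone_inv_13_s0
theorem s0_rot85 : wG rels [sl_cf, sl_ef, sl_cf, sl_ef] = 1 :=
  wG_of_rotate rels relWi_21_s0 [sl_cf, sl_ef, sl_cf, sl_ef] 1 (by decide +kernel) relone_inv_21_s0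
theorem s0_rot86 : wG rels [sl_ct, sl_it, sl_ct, sl_it] = 1 :=
  wG_of_rotate rels relW_26 [sl_ct, sl_it, sl_ct, sl_it] 0 (by decide +kernel) relone_26
theorem s0_rot87 : wG rels [sl_ct, sl_dt, sl_ct, sl_dt, sl_ct, sl_dt] = 1 :=
  wG_of_rotate rels relW_20 [sl_ct, sl_dt, sl_ct, sl_dt, sl_ct, sl_dt] 0 (by decide +kernel) relone_20
theorem s0_rot88 : wG rels [sl_if, sl_hf, sl_df, sl_ff, sl_ef, sl_df, sl_bf, sl_cf, sl_df, sl_if, sl_hf, sl_df, sl_ff, sl_ef, sl_df, sl_bf, sl_cf, sl_df, sl_if, sl_hf, sl_df, sl_ff, sl_ef, sl_df, sl_bf, sl_cf, sl_df, sl_if, sl_hf, sl_df, sl_ff, sl_ef, sl_df, sl_bf, sl_cf, sl_df, sl_if, sl_hf, sl_df, sl_ff, sl_ef, sl_df, sl_bf, sl_cf, sl_df, sl_if, sl_hf, sl_df, sl_ff, sl_ef, sl_df, sl_bf, sl_cf, sl_df, sl_if, sl_hf, sl_df, sl_ff, sl_ef, sl_df, sl_bf, sl_cf, sl_df, sl_if, sl_hf, sl_df, sl_ff, sl_ef, sl_df, sl_bf, sl_cf, sl_df, sl_if,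 sl_hf, sl_df, sl_ff, sl_ef, sl_df, sl_bf, sl_cf, sl_df, sl_if, sl_hf, sl_df, sl_ff, sl_ef, sl_df, sl_bf, sl_cf, sl_df] = 1 :=
  wG_of_rotate rels relWi_55_s0 [sl_if, sl_hf, sl_df, sl_ff, sl_ef, sl_df, sl_bf, sl_cf, sl_df, sl_if, sl_hf, sl_df, sl_ff, sl_ef, sl_df, sl_bf, sl_cf, sl_df, sl_if, sl_hf, sl_df, sl_ff, sl_ef, sl_df, sl_bf, sl_cf, sl_df, sl_if, sl_hf, sl_df, sl_ff, sl_ef, sl_df, sl_bf, sl_cf, sl_df, sl_if, sl_hf, sl_df, sl_ff, sl_ef, sl_df, sl_bf, sl_cf, sl_df, sl_if, sl_hf, sl_df, sl_ff, sl_ef, sl_df, sl_bf, sl_cf, sl_df, sl_if, sl_hf, sl_df, sl_ff, sl_ef, sl_df, sl_bf, sl_cf, sl_df, sl_if, sl_hf, sl_df, sl_ff, sl_ef, sl_df, sl_bf, sl_cf, sl_df, sl_if, sl_hf, sl_df, sl_ff, sl_ef, sl_df, sl_bf, sl_cf, sl_df, sl_if, sl_hf, sl_df, sl_ff, sl_ef, sl_df, sl_bf, sl_cf, sl_df] 0 (by decide +kernel) relone_inv_55_s0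
theorem s0_rot89 : wG rels [sl_it, sl_jt, sl_it, sl_jt] = 1 :=
  wG_of_rotate rels relW_53 [sl_it, sl_jt, sl_it, sl_jt] 1 (by decide +kernel) relone_53
theorem s0_rot90 : wG rels [sl_if, sl_jf, sl_if, sl_jf] = 1 :=
  wG_of_rotate rels relWi_53_s0 [sl_if, sl_jf, sl_if, sl_jf] 0 (by decide +kernel) relone_inv_53_s0
theorem s0_rot91 : wG rels [sl_dt, sl_it, sl_dt, sl_it] = 1 :=
  wG_of_rotate rels relW_33 [sl_dt, sl_it, sl_dt, sl_it] 0 (by decide +kernel) relone_33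
theorem s0_rot92 : wG rels [sl_cf, sl_if, sl_cf, sl_if] = 1 :=
  wG_of_rotate rels relWi_26_s0 [sl_cf, sl_if, sl_cf, sl_if] 1 (by decide +kernel) relone_inv_26_s0
theorem s0_rot93 : wG rels [sl_bf, sl_ff, sl_bf, sl_ff] = 1 :=
  wG_of_rotate rels relWi_15_s0 [sl_bf, sl_ff, sl_bf, sl_ff] 1 (by decide +kernel) relone_inv_15_s0
theorem s0_rot94 : wG rels [sl_ef, sl_hf, sl_ef, sl_hf] = 1 :=
  wG_of_rotate rels relWi_35_s0 [sl_ef, sl_hf, sl_ef, sl_hf] 1 (by decide +kernel) relone_inv_35_s0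
theorem s0_rot95 : wG rels [sl_ef, sl_df, sl_ef, sl_df, sl_ef, sl_df] = 1 :=
  wG_of_rotate rels relWi_28_s0 [sl_ef, sl_df, sl_ef, sl_df, sl_ef, sl_df] 0 (by decide +kernel) relone_inv_28_s0
theorem s0_rot96 : wG rels [sl_et, sl_ct, sl_et, sl_ct] = 1 :=
  wG_of_rotate rels relW_21 [sl_et, sl_ct, sl_et, sl_ct] 1 (by decide +kernel) relone_21
theorem s0_rot97 : wG rels [sl_dt, sl_ct, sl_dt, sl_ct, sl_dt, sl_ct] = 1 :=
  wG_of_rotate rels relW_20 [sl_dt, sl_ct, sl_dt, sl_ct, sl_dt, sl_ct] 1 (by decide +kernel) relone_20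
theorem s0_rot98 : wG rels [sl_at, sl_it, sl_at, sl_it] = 1 :=
  wG_of_rotate rels relW_9 [sl_at, sl_it, sl_at, sl_it] 0 (by decide +kernel) relone_9
theorem s0_rot99 : wG rels [sl_df, sl_if, sl_hf, sl_df, sl_ff, sl_ef, sl_df, sl_bf, sl_cf, sl_df, sl_if, sl_hf, sl_df, sl_ff, sl_ef, sl_df, sl_bf, sl_cf, sl_df, sl_if, sl_hf, sl_df, sl_ff, sl_ef, sl_df, sl_bf, sl_cf, sl_df, sl_if, sl_hf, sl_df, sl_ff, sl_ef, sl_df, sl_bf, sl_cf, sl_df, sl_if, sl_hf, sl_df, sl_ff, sl_ef, sl_df, sl_bf, sl_cf, sl_df, sl_if, sl_hf, sl_df, sl_ff, sl_ef, sl_df, sl_bf, sl_cf, sl_df, sl_if, sl_hf, sl_df, sl_ff, sl_ef, sl_df, sl_bf, sl_cf, sl_df, sl_if, sl_hf, sl_df, sl_ff, sl_ef, sl_df, sl_bf, sl_cf, sl_df, sl_if, sl_hf, sl_df, sl_ff, sl_ef, sl_df, sl_bf, sl_cf, sl_df, sl_if, sl_hf, sl_df, sl_ff, sl_ef, sl_df, sl_bf, sl_cf] = 1 :=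
  wG_of_rotate rels relWi_55_s0 [sl_df, sl_if, sl_hf, sl_df, sl_ff, sl_ef, sl_df, sl_bf, sl_cf, sl_df, sl_if, sl_hf, sl_df, sl_ff, sl_ef, sl_df, sl_bf, sl_cf, sl_df, sl_if, sl_hf, sl_df, sl_ff, sl_ef, sl_df, sl_bf, sl_cf, sl_df, sl_if, sl_hf, sl_df, sl_ff, sl_ef, sl_df, sl_bf, sl_cf, sl_df, sl_if, sl_hf, sl_df, sl_ff, sl_ef, sl_df, sl_bf, sl_cf, sl_df, sl_if, sl_hf, sl_df, sl_ff, sl_ef, sl_df, sl_bf, sl_cf, sl_df, sl_if, sl_hf, sl_df, sl_ff, sl_ef, sl_df, sl_bf, sl_cf, sl_df, sl_if, sl_hf, sl_df, sl_ff, sl_ef, sl_df, sl_bf, sl_cf, sl_df, sl_if, sl_hf, sl_df, sl_ff, sl_ef, sl_df, sl_bf, sl_cf, sl_df, sl_if, sl_hf, sl_df, sl_ff, sl_ef, sl_df, sl_bf, sl_cf] 8 (by decide +kernel) relone_inv_55_s0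
theorem s0_rot100 : wG rels [sl_ef, sl_bf, sl_ef, sl_bf] = 1 :=
  wG_of_rotate rels relWi_13_s0 [sl_ef, sl_bf, sl_ef, sl_bf] 0 (by decide +kernel) relone_inv_13_s0
theorem s0_rot101 : wG rels [sl_et, sl_jt, sl_et, sl_jt] = 1 :=
  wG_of_rotate rels relW_38 [sl_et, sl_jt, sl_et, sl_jt] 0 (by decide +kernel) relone_38
theorem s0_rot102 : wG rels [sl_bf, sl_if, sl_bf, sl_if] = 1 :=
  wG_of_rotate rels relWi_18_s0 [sl_bf, sl_if, sl_bf, sl_if] 1 (by decide +kernel) relone_inv_18_s0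
theorem s0_rot103 : wG rels [sl_df, sl_ff, sl_df, sl_ff] = 1 :=
  wG_of_rotate rels relWi_30_s0 [sl_df, sl_ff, sl_df, sl_ff] 1 (by decide +kernel) relone_inv_30_s0
theorem s0_rot104 : wG rels [sl_dt, sl_jt, sl_dt, sl_jt] = 1 :=
  wG_of_rotate rels relW_32 [sl_dt, sl_jt, sl_dt, sl_jt] 0 (by decide +kernel) relone_32
theorem s0_rot105 : wG rels [sl_af, sl_af] = 1 :=
  wG_of_rotate rels relWi_0_s0 [sl_af, sl_af] 0 (by decide +kernel) relone_inv_0_s0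
theorem s0_rot106 : wG rels [sl_bf, sl_af, sl_bf, sl_af, sl_bf, sl_af] = 1 :=
  wG_of_rotate rels relWi_1_s0 [sl_bf, sl_af, sl_bf, sl_af, sl_bf, sl_af] 0 (by decide +kernel) relone_inv_1_s0
theorem s0_rot107 : wG rels [sl_cf, sl_af, sl_cf, sl_af] = 1 :=
  wG_of_rotate rels relWi_2_s0 [sl_cf, sl_af, sl_cf, sl_af] 0 (by decide +kernel) relone_inv_2_s0
theorem s0_rot108 : wG rels [sl_hf, sl_af, sl_hf, sl_af] = 1 :=
  wG_of_rotate rels relWi_5_s0 [sl_hf, sl_af, sl_hf, sl_af] 0 (by decide +kernel) relone_inv_5_s0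
theorem s0_rot109 : wG rels [sl_jf, sl_af, sl_jf, sl_af] = 1 :=
  wG_of_rotate rels relWi_8_s0 [sl_jf, sl_af, sl_jf, sl_af] 0 (by decide +kernel) relone_inv_8_s0
theorem s0_rot110 : wG rels [sl_bt, sl_jt, sl_bt, sl_jt] = 1 :=
  wG_of_rotate rels relW_17 [sl_bt, sl_jt, sl_bt, sl_jt] 0 (by decide +kernel) relone_17
theorem s0_rot111 : wG rels [sl_hf, sl_ff, sl_hf, sl_ff] = 1 :=
  wG_of_rotate rels relWi_42_s0 [sl_hf, sl_ff, sl_hf, sl_ff] 0 (by decide +kernel) relone_inv_42_s0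
theorem s0_rot112 : wG rels [sl_df, sl_bf, sl_cf, sl_df, sl_if, sl_hf, sl_df, sl_ff, sl_ef, sl_df, sl_bf, sl_cf, sl_df, sl_if, sl_hf, sl_df, sl_ff, sl_ef, sl_df, sl_bf, sl_cf, sl_df, sl_if, sl_hf, sl_df, sl_ff, sl_ef, sl_df, sl_bf, sl_cf, sl_df, sl_if, sl_hf, sl_df, sl_ff, sl_ef, sl_df, sl_bf, sl_cf, sl_df, sl_if, sl_hf, sl_df, sl_ff, sl_ef, sl_df, sl_bf, sl_cf, sl_df, sl_if, sl_hf, sl_df, sl_ff, sl_ef, sl_df, sl_bf, sl_cf, sl_df, sl_if, sl_hf, sl_df, sl_ff, sl_ef, sl_df, sl_bf, sl_cf, sl_df, sl_if, sl_hf, sl_df, sl_ff, sl_ef, sl_df, sl_bf, sl_cf, sl_df, sl_if, sl_hf, sl_df, sl_ff, sl_ef, sl_df, sl_bf, sl_cf, sl_df, sl_if, sl_hf, sl_df, sl_ff, sl_ef] = 1 :=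
  wG_of_rotate rels relWi_55_s0 [sl_df, sl_bf, sl_cf, sl_df, sl_if, sl_hf, sl_df, sl_ff, sl_ef, sl_df, sl_bf, sl_cf, sl_df, sl_if, sl_hf, sl_df, sl_ff, sl_ef, sl_df, sl_bf, sl_cf, sl_df, sl_if, sl_hf, sl_df, sl_ff, sl_ef, sl_df, sl_bf, sl_cf, sl_df, sl_if, sl_hf, sl_df, sl_ff, sl_ef, sl_df, sl_bf, sl_cf, sl_df, sl_if, sl_hf, sl_df, sl_ff, sl_ef, sl_df, sl_bf, sl_cf, sl_df, sl_if, sl_hf, sl_df, sl_ff, sl_ef, sl_df, sl_bf, sl_cf, sl_df, sl_if, sl_hf, sl_df, sl_ff, sl_ef, sl_df, sl_bf, sl_cf, sl_df, sl_if, sl_hf, sl_df, sl_ff, sl_ef, sl_df, sl_bf, sl_cf, sl_df, sl_if, sl_hf, sl_df, sl_ff, sl_ef, sl_df, sl_bf, sl_cf, sl_df, sl_if, sl_hf, sl_df, sl_ff, sl_ef] 5 (by decide +kernel) relone_inv_55_s0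
theorem s0_rot113 : wG rels [sl_cf, sl_ff, sl_cf, sl_ff] = 1 :=
  wG_of_rotate rels relWi_23_s0 [sl_cf, sl_ff, sl_cf, sl_ff] 1 (by decide +kernel) relone_inv_23_s0
theorem s0_rot114 : wG rels [sl_df, sl_af, sl_df, sl_af] = 1 :=
  wG_of_rotate rels relWi_3_s0 [sl_df, sl_af, sl_df, sl_af] 0 (by decide +kernel) relone_inv_3_s0
theorem s0_rot115 : wG rels [sl_df, sl_hf, sl_df, sl_hf, sl_df, sl_hf] = 1 :=
  wG_of_rotate rels relWi_29_s0 [sl_df, sl_hf, sl_df, sl_hf, sl_df, sl_hf] 1 (by decide +kernel) relone_inv_29_s0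
theorem s0_rot116 : wG rels [sl_ff, sl_af, sl_ff, sl_af] = 1 :=
  wG_of_rotate rels relWi_6_s0 [sl_ff, sl_af, sl_ff, sl_af] 0 (by decide +kernel) relone_inv_6_s0
theorem s0_rot117 : wG rels [sl_if, sl_af, sl_if, sl_af] = 1 :=
  wG_of_rotate rels relWi_9_s0 [sl_if, sl_af, sl_if, sl_af] 0 (by decide +kernel) relone_inv_9_s0
theorem s0_rot118 : wG rels [sl_af, sl_hf, sl_af, sl_hf] = 1 :=
  wG_of_rotate rels relWi_5_s0 [sl_af, sl_hf, sl_af, sl_hf] 1 (by decide +kernel) relone_inv_5_s0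
theorem s0_rot119 : wG rels [sl_hf, sl_ff, sl_ef, sl_df, sl_cf, sl_bf, sl_af, sl_hf, sl_ff, sl_ef, sl_df, sl_cf, sl_bf, sl_af, sl_hf, sl_ff, sl_ef, sl_df, sl_cf, sl_bf, sl_af, sl_hf, sl_ff, sl_ef, sl_df, sl_cf, sl_bf, sl_af, sl_hf, sl_ff, sl_ef, sl_df, sl_cf, sl_bf, sl_af, sl_hf, sl_ff, sl_ef, sl_df, sl_cf, sl_bf, sl_af, sl_hf, sl_ff, sl_ef, sl_df, sl_cf, sl_bf, sl_af, sl_hf, sl_ff, sl_ef, sl_df, sl_cf, sl_bf, sl_af, sl_hf, sl_ff, sl_ef, sl_df, sl_cf, sl_bf, sl_af] = 1 :=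
  wG_of_rotate rels relWi_56_s0 [sl_hf, sl_ff, sl_ef, sl_df, sl_cf, sl_bf, sl_af, sl_hf, sl_ff, sl_ef, sl_df, sl_cf, sl_bf, sl_af, sl_hf, sl_ff, sl_ef, sl_df, sl_cf, sl_bf, sl_af, sl_hf, sl_ff, sl_ef, sl_df, sl_cf, sl_bf, sl_af, sl_hf, sl_ff, sl_ef, sl_df, sl_cf, sl_bf, sl_af, sl_hf, sl_ff, sl_ef, sl_df, sl_cf, sl_bf, sl_af, sl_hf, sl_ff, sl_ef, sl_df, sl_cf, sl_bf, sl_af, sl_hf, sl_ff, sl_ef, sl_df, sl_cf, sl_bf, sl_af, sl_hf, sl_ff, sl_ef, sl_df, sl_cf, sl_bf, sl_af] 0 (by decide +kernel) relone_inv_56_s0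
theorem s0_rot120 : wG rels [sl_ht, sl_at, sl_ht, sl_at] = 1 :=
  wG_of_rotate rels relW_5 [sl_ht, sl_at, sl_ht, sl_at] 1 (by decide +kernel) relone_5
theorem s0_rot121 : wG rels [sl_at, sl_ht, sl_at, sl_ht] = 1 :=
  wG_of_rotate rels relW_5 [sl_at, sl_ht, sl_at, sl_ht] 0 (by decide +kernel) relone_5
theorem s0_rot122 : wG rels [sl_it, sl_ht, sl_it, sl_ht, sl_it, sl_ht] = 1 :=
  wG_of_rotate rels relW_41 [sl_it, sl_ht, sl_it, sl_ht, sl_it, sl_ht] 1 (by decide +kernel) relone_41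
theorem s0_rot123 : wG rels [sl_af, sl_if, sl_af, sl_if] = 1 :=
  wG_of_rotate rels relWi_9_s0 [sl_af, sl_if, sl_af, sl_if] 1 (by decide +kernel) relone_inv_9_s0
theorem s0_rot124 : wG rels [sl_at, sl_dt, sl_at, sl_dt] = 1 :=
  wG_of_rotate rels relW_3 [sl_at, sl_dt, sl_at, sl_dt] 0 (by decide +kernel) relone_3
theorem s0_rot125 : wG rels [sl_af, sl_ef, sl_af, sl_ef] = 1 :=
  wG_of_rotate rels relWi_4_s0 [sl_af, sl_ef, sl_af, sl_ef] 1 (by decide +kernel) relone_inv_4_s0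
theorem s0_rot126 : wG rels [sl_af, sl_cf, sl_af, sl_cf] = 1 :=
  wG_of_rotate rels relWi_2_s0 [sl_af, sl_cf, sl_af, sl_cf] 1 (by decide +kernel) relone_inv_2_s0
theorem s0_rot127 : wG rels [sl_af, sl_df, sl_af, sl_df] = 1 :=
  wG_of_rotate rels relWi_3_s0 [sl_af, sl_df, sl_af, sl_df] 1 (by decide +kernel) relone_inv_3_s0
theorem s0_rot128 : wG rels [sl_ft, sl_jt, sl_ft, sl_jt] = 1 :=
  wG_of_rotate rels relW_45 [sl_ft, sl_jt, sl_ft, sl_jt] 0 (by decide +kernel) relone_45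
theorem s0_rot129 : wG rels [sl_cf, sl_bf, sl_cf, sl_bf, sl_cf, sl_bf] = 1 :=
  wG_of_rotate rels relWi_11_s0 [sl_cf, sl_bf, sl_cf, sl_bf, sl_cf, sl_bf] 0 (by decide +kernel) relone_inv_11_s0
theorem s0_rot130 : wG rels [sl_ff, sl_ef, sl_df, sl_cf, sl_bf, sl_af, sl_hf, sl_ff, sl_ef, sl_df, sl_cf, sl_bf, sl_af, sl_hf, sl_ff, sl_ef, sl_df, sl_cf, sl_bf, sl_af, sl_hf, sl_ff, sl_ef, sl_df, sl_cf, sl_bf, sl_af, sl_hf, sl_ff, sl_ef, sl_df, sl_cf, sl_bf, sl_af, sl_hf, sl_ff, sl_ef, sl_df, sl_cf, sl_bf, sl_af, sl_hf, sl_ff, sl_ef, sl_df, sl_cf, sl_bf, sl_af, sl_hf, sl_ff, sl_ef, sl_df, sl_cf, sl_bf, sl_af, sl_hf, sl_ff, sl_ef, sl_df, sl_cf, sl_bf, sl_af, sl_hf] = 1 :=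
  wG_of_rotate rels relWi_56_s0 [sl_ff, sl_ef, sl_df, sl_cf, sl_bf, sl_af, sl_hf, sl_ff, sl_ef, sl_df, sl_cf, sl_bf, sl_af, sl_hf, sl_ff, sl_ef, sl_df, sl_cf, sl_bf, sl_af, sl_hf, sl_ff, sl_ef, sl_df, sl_cf, sl_bf, sl_af, sl_hf, sl_ff, sl_ef, sl_df, sl_cf, sl_bf, sl_af, sl_hf, sl_ff, sl_ef, sl_df, sl_cf, sl_bf, sl_af, sl_hf, sl_ff, sl_ef, sl_df, sl_cf, sl_bf, sl_af, sl_hf, sl_ff, sl_ef, sl_df, sl_cf, sl_bf, sl_af, sl_hf, sl_ff, sl_ef, sl_df, sl_cf, sl_bf, sl_af, sl_hf] 1 (by decide +kernel) relone_inv_56_s0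
theorem s0_rot131 : wG rels [sl_dt, sl_ft, sl_dt, sl_ft] = 1 :=
  wG_of_rotate rels relW_30 [sl_dt, sl_ft, sl_dt, sl_ft] 0 (by decide +kernel) relone_30
theorem s0_rot132 : wG rels [sl_it, sl_ft, sl_it, sl_ft] = 1 :=
  wG_of_rotate rels relW_46 [sl_it, sl_ft, sl_it, sl_ft] 1 (by decide +kernel) relone_46
theorem s0_rot133 : wG rels [sl_at, sl_bt, sl_at, sl_bt, sl_at, sl_bt] = 1 :=
  wG_of_rotate rels relW_1 [sl_at, sl_bt, sl_at, sl_bt, sl_at, sl_bt] 0 (by decide +kernel) relone_1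
theorem s0_rot134 : wG rels [sl_at, sl_ft, sl_at, sl_ft] = 1 :=
  wG_of_rotate rels relW_6 [sl_at, sl_ft, sl_at, sl_ft] 0 (by decide +kernel) relone_6
theorem s0_rot135 : wG rels [sl_bf, sl_cf, sl_bf, sl_cf, sl_bf, sl_cf] = 1 :=
  wG_of_rotate rels relWi_11_s0 [sl_bf, sl_cf, sl_bf, sl_cf, sl_bf, sl_cf] 1 (by decide +kernel) relone_inv_11_s0
theorem s0_rot136 : wG rels [sl_af, sl_bf, sl_af, sl_bf, sl_af, sl_bf] = 1 :=
  wG_of_rotate rels relWi_1_s0 [sl_af, sl_bf, sl_af, sl_bf, sl_af, sl_bf] 1 (by decide +kernel) relone_inv_1_s0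
theorem s0_rot137 : wG rels [sl_at, sl_ct, sl_at, sl_ct] = 1 :=
  wG_of_rotate rels relW_2 [sl_at, sl_ct, sl_at, sl_ct] 0 (by decide +kernel) relone_2
theorem s0_rot138 : wG rels [sl_at, sl_et, sl_at, sl_et] = 1 :=
  wG_of_rotate rels relW_4 [sl_at, sl_et, sl_at, sl_et] 0 (by decide +kernel) relone_4
theorem s0_rot139 : wG rels [sl_af, sl_ff, sl_af, sl_ff] = 1 :=
  wG_of_rotate rels relWi_6_s0 [sl_af, sl_ff, sl_af, sl_ff] 1 (by decide +kernel) relone_inv_6_s0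
theorem s0_rot140 : wG rels [sl_ef, sl_af, sl_ef, sl_af] = 1 :=
  wG_of_rotate rels relWi_4_s0 [sl_ef, sl_af, sl_ef, sl_af] 0 (by decide +kernel) relone_inv_4_s0
theorem s0_rot141 : wG rels [sl_cf, sl_bf, sl_af, sl_hf, sl_ff, sl_ef, sl_df, sl_cf, sl_bf, sl_af, sl_hf, sl_ff, sl_ef, sl_df, sl_cf, sl_bf, sl_af, sl_hf, sl_ff, sl_ef, sl_df, sl_cf, sl_bf, sl_af, sl_hf, sl_ff, sl_ef, sl_df, sl_cf, sl_bf, sl_af, sl_hf, sl_ff, sl_ef, sl_df, sl_cf, sl_bf, sl_af, sl_hf, sl_ff, sl_ef, sl_df, sl_cf, sl_bf, sl_af, sl_hf, sl_ff, sl_ef, sl_df, sl_cf, sl_bf, sl_af, sl_hf, sl_ff, sl_ef, sl_df, sl_cf, sl_bf, sl_af, sl_hf, sl_ff, sl_ef, sl_df] = 1 :=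
  wG_of_rotate rels relWi_56_s0 [sl_cf, sl_bf, sl_af, sl_hf, sl_ff, sl_ef, sl_df, sl_cf, sl_bf, sl_af, sl_hf, sl_ff, sl_ef, sl_df, sl_cf, sl_bf, sl_af, sl_hf, sl_ff, sl_ef, sl_df, sl_cf, sl_bf, sl_af, sl_hf, sl_ff, sl_ef, sl_df, sl_cf, sl_bf, sl_af, sl_hf, sl_ff, sl_ef, sl_df, sl_cf, sl_bf, sl_af, sl_hf, sl_ff, sl_ef, sl_df, sl_cf, sl_bf, sl_af, sl_hf, sl_ff, sl_ef, sl_df, sl_cf, sl_bf, sl_af, sl_hf, sl_ff, sl_ef, sl_df, sl_cf, sl_bf, sl_af, sl_hf, sl_ff, sl_ef, sl_df] 4 (by decide +kernel) relone_inv_56_s0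
theorem s0_rot142 : wG rels [sl_bf, sl_af, sl_hf, sl_ff, sl_ef, sl_df, sl_cf, sl_bf, sl_af, sl_hf, sl_ff, sl_ef, sl_df, sl_cf, sl_bf, sl_af, sl_hf, sl_ff, sl_ef, sl_df, sl_cf, sl_bf, sl_af, sl_hf, sl_ff, sl_ef, sl_df, sl_cf, sl_bf, sl_af, sl_hf, sl_ff, sl_ef, sl_df, sl_cf, sl_bf, sl_af, sl_hf, sl_ff, sl_ef, sl_df, sl_cf, sl_bf, sl_af, sl_hf, sl_ff, sl_ef, sl_df, sl_cf, sl_bf, sl_af, sl_hf, sl_ff, sl_ef, sl_df, sl_cf, sl_bf, sl_af, sl_hf, sl_ff, sl_ef, sl_df, sl_cf] = 1 :=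
  wG_of_rotate rels relWi_56_s0 [sl_bf, sl_af, sl_hf, sl_ff, sl_ef, sl_df, sl_cf, sl_bf, sl_af, sl_hf, sl_ff, sl_ef, sl_df, sl_cf, sl_bf, sl_af, sl_hf, sl_ff, sl_ef, sl_df, sl_cf, sl_bf, sl_af, sl_hf, sl_ff, sl_ef, sl_df, sl_cf, sl_bf, sl_af, sl_hf, sl_ff, sl_ef, sl_df, sl_cf, sl_bf, sl_af, sl_hf, sl_ff, sl_ef, sl_df, sl_cf, sl_bf, sl_af, sl_hf, sl_ff, sl_ef, sl_df, sl_cf, sl_bf, sl_af, sl_hf, sl_ff, sl_ef, sl_df, sl_cf, sl_bf, sl_af, sl_hf, sl_ff, sl_ef, sl_df, sl_cf] 5 (by decide +kernel) relone_inv_56_s0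
theorem s0_rot143 : wG rels [sl_gt, sl_ct, sl_gt, sl_ct] = 1 :=
  wG_of_rotate rels relW_24 [sl_gt, sl_ct, sl_gt, sl_ct] 1 (by decide +kernel) relone_24
theorem s0_rot144 : wG rels [sl_gf, sl_if, sl_gf, sl_if] = 1 :=
  wG_of_rotate rels relWi_50_s0 [sl_gf, sl_if, sl_gf, sl_if] 1 (by decide +kernel) relone_inv_50_s0
theorem s0_rot145 : wG rels [sl_gt, sl_bt, sl_gt, sl_bt] = 1 :=
  wG_of_rotate rels relW_16 [sl_gt, sl_bt, sl_gt, sl_bt] 1 (by decide +kernel) relone_16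
theorem s0_rot146 : wG rels [sl_gf, sl_df, sl_gf, sl_df] = 1 :=
  wG_of_rotate rels relWi_31_s0 [sl_gf, sl_df, sl_gf, sl_df] 0 (by decide +kernel) relone_inv_31_s0
theorem s0_rot147 : wG rels [sl_gf, sl_gf] = 1 :=
  wG_of_rotate rels relWi_48_s0 [sl_gf, sl_gf] 0 (by decide +kernel) relone_inv_48_s0
theorem s0_rot148 : wG rels [sl_gt, sl_dt, sl_gt, sl_dt] = 1 :=
  wG_of_rotate rels relW_31 [sl_gt, sl_dt, sl_gt, sl_dt] 1 (by decide +kernel) relone_31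
theorem s0_rot149 : wG rels [sl_ht, sl_gt, sl_ht, sl_gt] = 1 :=
  wG_of_rotate rels relW_47 [sl_ht, sl_gt, sl_ht, sl_gt] 1 (by decide +kernel) relone_47
theorem s0_rot150 : wG rels [sl_if, sl_gf, sl_if, sl_gf] = 1 :=
  wG_of_rotate rels relWi_50_s0 [sl_if, sl_gf, sl_if, sl_gf] 0 (by decide +kernel) relone_inv_50_s0
theorem s0_rot151 : wG rels [sl_ff, sl_ef, sl_df, sl_bf, sl_cf, sl_df, sl_if, sl_hf, sl_df, sl_ff, sl_ef, sl_df, sl_bf, sl_cf, sl_df, sl_if, sl_hf, sl_df, sl_ff, sl_ef, sl_df, sl_bf, sl_cf, sl_df, sl_if, sl_hf, sl_df, sl_ff, sl_ef, sl_df, sl_bf, sl_cf, sl_df, sl_if, sl_hf, sl_df, sl_ff, sl_ef, sl_df, sl_bf, sl_cf, sl_df, sl_if, sl_hf, sl_df, sl_ff, sl_ef, sl_df, sl_bf, sl_cf, sl_df, sl_if, sl_hf, sl_df, sl_ff, sl_ef, sl_df, sl_bf, sl_cf, sl_df, sl_if, sl_hf, sl_df, sl_ff, sl_ef, sl_df, sl_bf, sl_cf, sl_df, sl_if, sl_hf, sl_df, sl_ff, sl_ef, sl_df,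 sl_bf, sl_cf, sl_df, sl_if, sl_hf, sl_df, sl_ff, sl_ef, sl_df, sl_bf, sl_cf, sl_df, sl_if, sl_hf, sl_df] = 1 :=
  wG_of_rotate rels relWi_55_s0 [sl_ff, sl_ef, sl_df, sl_bf, sl_cf, sl_df, sl_if, sl_hf, sl_df, sl_ff, sl_ef, sl_df, sl_bf, sl_cf, sl_df, sl_if, sl_hf, sl_df, sl_ff, sl_ef, sl_df, sl_bf, sl_cf, sl_df, sl_if, sl_hf, sl_df, sl_ff, sl_ef, sl_df, sl_bf, sl_cf, sl_df, sl_if, sl_hf, sl_df, sl_ff, sl_ef, sl_df, sl_bf, sl_cf, sl_df, sl_if, sl_hf, sl_df, sl_ff, sl_ef, sl_df, sl_bf, sl_cf, sl_df, sl_if, sl_hf, sl_df, sl_ff, sl_ef, sl_df, sl_bf, sl_cf, sl_df, sl_if, sl_hf, sl_df, sl_ff, sl_ef, sl_df, sl_bf, sl_cf, sl_df, sl_if, sl_hf, sl_df, sl_ff, sl_ef, sl_df, sl_bf, sl_cf, sl_df, sl_if, sl_hf, sl_df, sl_ff, sl_ef, sl_df, sl_bf, sl_cf, sl_df, sl_if, sl_hf, sl_df] 3 (by decide +kernel) relone_inv_55_s0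
theorem s0_rot152 : wG rels [sl_ht, sl_ft, sl_ht, sl_ft] = 1 :=
  wG_of_rotate rels relW_42 [sl_ht, sl_ft, sl_ht, sl_ft] 1 (by decide +kernel) relone_42
theorem s0_rot153 : wG rels [sl_ft, sl_ft] = 1 :=
  wG_of_rotate rels relW_43 [sl_ft, sl_ft] 0 (by decide +kernel) relone_43
theorem s0_rot154 : wG rels [sl_ef, sl_ff, sl_ef, sl_ff, sl_ef, sl_ff] = 1 :=
  wG_of_rotate rels relWi_36_s0 [sl_ef, sl_ff, sl_ef, sl_ff, sl_ef, sl_ff] 1 (by decide +kernel) relone_inv_36_s0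
theorem s0_rot155 : wG rels [sl_ht, sl_et, sl_ht, sl_et] = 1 :=
  wG_of_rotate rels relW_35 [sl_ht, sl_et, sl_ht, sl_et] 1 (by decide +kernel) relone_35

end

end Cfsg.Agent.Helper28.S1689
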